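import Groth.Agent.FunFld.Approx
import Mathlib.FieldTheory.Galois.Basic
import Mathlib.RingTheory.Norm.Basic

/-!
# The Galois group acts transitively on the places above a given place
-/

set_option autoImplicit false

open FunFld IntermediateField Polynomial WithZero

namespace Groth.Agent.FF

universe u v w
variable {k : Type u} {K : Type v} {K' : Type w} [Field k] [Field K] [Field K'] [Algebra k K]
  [Algebra K K'] [Algebra k K'] [IsScalarTower k K K']

/-- transport of a place along a `K`-automorphism of `K'` -/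
def Place.comapEquiv (Q : Place k K') (σ : K' ≃ₐ[K] K') : Place k K' :=
  ⟨Q.1.comap (σ : K' →+* K'), by
    constructor
    · intro c
      have : (σ : K' →+* K') (algebraMap k K' c) = algebraMap k K' c := by
        rw [IsScalarTower.algebraMap_apply k K K']
        exact σ.commutes _
      rw [Valuation.comap_apply, this]
      exact Q.2.1 c
    · intro γ
      obtain ⟨x, hx⟩ := Q.2.2 γ
      refine ⟨σ.symm x, ?_⟩
      rw [Valuation.comap_apply]
      show Q.1 (σ (σ.symm x)) = γ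
      rw [σ.apply_symm_apply, hx]⟩

lemma Place.comapEquiv_apply (Q : Place k K') (σ : K' ≃ₐ[K] K') (x : K') :
    (Place.comapEquiv Q σ).1 x = Q.1 (σ x) := rfl

theorem exists_algEquiv_comap_place [FiniteDimensional K K'] [IsGalois K K']
    (Q₁ Q₂ : Place k K')
    (h : (Q₁.1.comap (algebraMap K K')).IsEquiv (Q₂.1.comap (algebraMap K K'))) :
    ∃ σ : K' ≃ₐ[K] K', Q₁.1.comap (σ : K' →+* K') = Q₂.1 := by
  classical
  by_contra hno
  push Not at hno
  let S₁ : Set (Place k K') := Set.range (fun σ : K' ≃ₐ[K] K' => Place.comapEquiv Q₁ σ)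
  let S₂ : Set (Place k K') := Set.range (fun σ : K' ≃ₐ[K] K' => Place.comapEquiv Q₂ σ)
  have hfin : (S₁ ∪ S₂).Finite := (Set.finite_range _).union (Set.finite_range _)
  have hdisj : ∀ P, P ∈ S₁ → P ∉ S₂ := by
    rintro P ⟨σ, rfl⟩ ⟨τ, hτ⟩
    apply hno (σ * τ⁻¹)
    ext x
    rw [Valuation.comap_apply]
    have h1 : (Place.comapEquiv Q₂ τ).1 (τ⁻¹ x) = (Place.comapEquiv Q₁ σ).1 (τ⁻¹ x) := by
      have : Place.comapEquiv Q₂ τ = Place.comapEquiv Q₁ σ := hτ
      rw [this]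
    rw [Place.comapEquiv_apply, Place.comapEquiv_apply] at h1
    have h2 : τ (τ⁻¹ x) = x := τ.apply_symm_apply x
    rw [h2] at h1
    rw [h1]
    rfl
  have := hfin.to_subtype
  let z : ↥(S₁ ∪ S₂) → K' := fun P => if P.1 ∈ S₁ then 1 else 0
  obtain ⟨y, hy⟩ := weak_approx (fun P : ↥(S₁ ∪ S₂) => P.1) Subtype.val_injective z 0
  have hy1 : ∀ σ : K' ≃ₐ[K] K', Q₁.1 (σ y) = 1 := by
    intro σ
    have hmem : Place.comapEquiv Q₁ σ ∈ S₁ := ⟨σ, rfl⟩
    have := hy ⟨Place.comapEquiv Q₁ σ, Or.inl hmem⟩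
    simp only [z, if_pos hmem, exp_zero] at this
    have e : y = 1 + (y - 1) := by ring
    have h1 : (Place.comapEquiv Q₁ σ).1 y = 1 := by
      rw [e, (Place.comapEquiv Q₁ σ).1.map_add_eq_of_lt_left (by rw [map_one]; exact this), map_one]
    exact h1
  have hy2 : ∀ σ : K' ≃ₐ[K] K', Q₂.1 (σ y) < 1 := by
    intro σ
    have hmem : Place.comapEquiv Q₂ σ ∈ S₂ := ⟨σ, rfl⟩
    have hnot : Place.comapEquiv Q₂ σ ∉ S₁ := fun h1 => hdisj _ h1 hmem
    have := hy ⟨Place.comapEquiv Q₂ σ, Or.inr hmem⟩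
    simp only [z, if_neg hnot, exp_zero, sub_zero] at this
    exact this
  have hnorm := Algebra.norm_eq_prod_automorphisms K y
  have hN1 : Q₁.1 (algebraMap K K' (Algebra.norm K y)) = 1 := by
    rw [hnorm, map_prod]
    exact Finset.prod_eq_one fun σ _ => hy1 σ
  have hN2 : Q₂.1 (algebraMap K K' (Algebra.norm K y)) < 1 := by
    rw [hnorm, map_prod, ← Finset.mul_prod_erase Finset.univ _ (Finset.mem_univ (1 : K' ≃ₐ[K] K'))]
    have h1 : Q₂.1 ((1 : K' ≃ₐ[K] K') y) < 1 := hy2 1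
    have h2 : ∏ σ ∈ Finset.univ.erase (1 : K' ≃ₐ[K] K'), Q₂.1 (σ y) ≤ 1 :=
      Finset.prod_le_one' fun σ _ => (hy2 σ).le
    calc Q₂.1 ((1 : K' ≃ₐ[K] K') y) * ∏ σ ∈ Finset.univ.erase (1 : K' ≃ₐ[K] K'), Q₂.1 (σ y)
        ≤ Q₂.1 ((1 : K' ≃ₐ[K] K') y) * 1 := mul_le_mul' le_rfl h2
      _ = Q₂.1 ((1 : K' ≃ₐ[K] K') y) := mul_one _
      _ < 1 := h1
  have hequiv := h 1 (Algebra.norm K y)
  rw [Valuation.comap_apply, Valuation.comap_apply, Valuation.comap_apply, Valuation.comap_apply,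
    map_one, map_one, map_one, hN1] at hequiv
  have := hequiv.mp le_rfl
  exact absurd hN2 (not_lt.mpr this)

end Groth.Agent.FF
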