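import Groth.Agent.FunFld.DegLower

/-!
# `deg (x)₀ = deg (x)_∞ = [K : k(x)]`, `deg (x) = 0`, `L(D) = 0` for `deg D < 0`
-/

set_option autoImplicit false

open FunFld IntermediateField Polynomial WithZero

namespace Groth.Agent.FF

universe u v
variable {k : Type u} {K : Type v} [Field k] [Field K] [Algebra k K]

lemma adjoin_inv_eq (x : K) : adjoin k ({x⁻¹} : Set K) = adjoin k ({x} : Set K) := by
  apply le_antisymm
  · rw [adjoin_le_iff, Set.singleton_subset_iff]
    exact inv_mem (mem_adjoin_simple_self k x)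
  · rw [adjoin_le_iff, Set.singleton_subset_iff]
    have h1 : (x⁻¹)⁻¹ ∈ adjoin k ({x⁻¹} : Set K) := inv_mem (mem_adjoin_simple_self k x⁻¹)
    rwa [inv_inv] at h1

theorem deg_poleDiv_eq (hK : IsFunctionField k K) {x : K} (hx : Transcendental k x) :
    (poleDiv k x).deg = Module.finrank (adjoin k ({x} : Set K)) K :=
  le_antisymm (deg_poleDiv_le hK hx) (finrank_le_deg_poleDiv hK hx)

theorem deg_zeroDiv_eq (hK : IsFunctionField k K) {x : K} (hx : Transcendental k x) :
    (zeroDiv k x).deg = Module.finrank (adjoin k ({x} : Set K)) K := by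
  have hx' : Transcendental k x⁻¹ := by
    intro h; exact hx (by simpa using h.inv)
  have h := deg_poleDiv_eq hK hx'
  rw [poleDiv_eq_zeroDiv_inv hK, inv_inv, adjoin_inv_eq] at h
  exact h

lemma div_algebraMap (hK : IsFunctionField k K) (c : k) : FunFld.div k (algebraMap k K c) = 0 := by
  ext P
  rw [div_apply hK, ord_algebraMap]; rfl

/-- Principal divisors have degree zero. -/
theorem deg_div_eq_zero (hK : IsFunctionField k K) (x : K) : (FunFld.div k x).deg = 0 := by
  by_cases hx : x ∈ Set.range (algebraMap k K)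
  · obtain ⟨c, rfl⟩ := hx
    rw [div_algebraMap hK, deg_zero]
  · have htr := transcendental_of_not_mem_range hK hx
    rw [div_eq_zeroDiv_sub_poleDiv, deg_sub, deg_zeroDiv_eq hK htr, deg_poleDiv_eq hK htr]
    ring

lemma deg_nonneg_of_nonneg {D : Divisor k K} (hD : 0 ≤ D) : 0 ≤ D.deg := by
  obtain ⟨E, hE⟩ := exists_toDiv_eq hD
  rw [← hE, deg_toDiv]; positivity

lemma deg_mono {D₁ D₂ : Divisor k K} (h : D₁ ≤ D₂) : D₁.deg ≤ D₂.deg := by
  have h0 : (0 : Divisor k K) ≤ D₂ - D₁ := by
    intro P; simpa using h P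
  have := deg_nonneg_of_nonneg h0
  rw [deg_sub] at this
  linarith

/-- `x ∈ L(D)`, `x ≠ 0` iff `D + (x) ≥ 0`. -/
lemma mem_L_iff_div (hK : IsFunctionField k K) (D : Divisor k K) {x : K} (hx : x ≠ 0) :
    x ∈ L D ↔ 0 ≤ D + FunFld.div k x := by
  constructor
  · intro h P
    rw [Finsupp.add_apply, div_apply hK, Finsupp.zero_apply]
    have := h P
    rw [val_le_exp_iff P hx] at this
    linarith
  · intro h P
    have := h P
    rw [Finsupp.add_apply, div_apply hK, Finsupp.zero_apply] at this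
    rw [val_le_exp_iff P hx]
    linarith

/-- `L(D) = 0` for `deg D < 0`. -/
theorem L_eq_bot_of_deg_neg (hK : IsFunctionField k K) (D : Divisor k K) (h : D.deg < 0) :
    L D = ⊥ := by
  rw [eq_bot_iff]
  intro x hx
  rw [Submodule.mem_bot]
  by_contra hx0
  have h1 := (mem_L_iff_div hK D hx0).mp hx
  have h2 := deg_nonneg_of_nonneg h1
  rw [deg_add, deg_div_eq_zero hK] at h2
  linarith

lemma ell_eq_zero_of_deg_neg (hK : IsFunctionField k K) (D : Divisor k K) (h : D.deg < 0) :
    ell D = 0 := by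
  unfold ell
  rw [L_eq_bot_of_deg_neg hK D h]
  simp

end Groth.Agent.FF
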