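import Groth.Agent.FunFld.RatFuncFF
import Groth.Agent.FunFld.DegDiv

/-!
# Places of the rational function field
-/

set_option autoImplicit false
set_option linter.unusedSectionVars false

open FunFld IntermediateField Polynomial WithZero

namespace Groth.Agent.FF

universe u
variable {k : Type u} [Field k]

local notation "ι" => algebraMap (Polynomial k) (RatFunc k)

lemma ratFunc_algebraMap_ne_zero {q : k[X]} (hq : q ≠ 0) : ι q ≠ 0 :=
  (map_ne_zero_iff _ (RatFunc.algebraMap_injective k)).mpr hq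

/-- at a finite place polynomials are integral -/
lemma ratFunc_val_poly_le_one (P : Place k (RatFunc k)) (hX : P.1 RatFunc.X ≤ 1) (q : k[X]) :
    P.1 (ι q) ≤ 1 := by
  rw [← RatFunc.aeval_X_left_eq_algebraMap]
  exact gval_aeval_le_one P.1 P.2.1 hX q

/-- at the place of an irreducible polynomial `p`, polynomials prime to `p` are units -/
lemma ratFunc_val_eq_one_of_not_dvd (P : Place k (RatFunc k)) {p q : k[X]} (hp : Irreducible p)
    (hX : P.1 RatFunc.X ≤ 1) (hpP : P.1 (ι p) < 1) (hq : ¬ p ∣ q) : P.1 (ι q) = 1 := by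
  have hcop : IsCoprime p q := (hp.coprime_iff_not_dvd).mpr hq
  obtain ⟨a, b, hab⟩ := hcop
  apply le_antisymm (ratFunc_val_poly_le_one P hX q)
  by_contra hlt
  push Not at hlt
  have h1 : P.1 (ι (a * p + b * q)) < 1 := by
    rw [map_add, map_mul, map_mul]
    apply lt_of_le_of_lt (P.1.map_add _ _)
    apply max_lt
    · rw [map_mul]
      calc P.1 (ι a) * P.1 (ι p) ≤ 1 * P.1 (ι p) :=
            mul_le_mul' (ratFunc_val_poly_le_one P hX a) le_rfl
        _ < 1 := by rwa [one_mul]
    · rw [map_mul]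
      calc P.1 (ι b) * P.1 (ι q) ≤ 1 * P.1 (ι q) :=
            mul_le_mul' (ratFunc_val_poly_le_one P hX b) le_rfl
        _ < 1 := by rwa [one_mul]
  rw [hab, map_one, map_one] at h1
  exact lt_irrefl _ h1

/-- at the infinite place the valuation of a polynomial is given by its degree -/
lemma ratFunc_val_poly_of_one_lt (P : Place k (RatFunc k)) (hX : 1 < P.1 RatFunc.X) {q : k[X]}
    (hq : q ≠ 0) : P.1 (ι q) = P.1 RatFunc.X ^ q.natDegree := by
  have hX0 : (RatFunc.X : RatFunc k) ≠ 0 := RatFunc.X_ne_zero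
  let _ : Invertible (RatFunc.X : RatFunc k) := invertibleOfNonzero hX0
  have h := Polynomial.eval₂_reverse_mul_pow (algebraMap k (RatFunc k)) (RatFunc.X) q
  have hinv : P.1 (⅟(RatFunc.X : RatFunc k)) < 1 := by
    rw [invOf_eq_inv, map_inv₀]
    exact inv_lt_one_of_one_lt₀ hX
  have hrev : q.reverse.coeff 0 ≠ 0 := by
    rw [coeff_zero_reverse]
    exact leadingCoeff_ne_zero.mpr hq
  have h1 : P.1 (aeval (⅟(RatFunc.X : RatFunc k)) q.reverse) = 1 :=
    gval_aeval_eq_one P.1 P.2.1 hinv hrev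
  have h2 : eval₂ (algebraMap k (RatFunc k)) (RatFunc.X) q = ι q := by
    rw [← RatFunc.aeval_X_left_eq_algebraMap]
    rfl
  rw [h2] at h
  rw [← h, map_mul, map_pow]
  have h3 : eval₂ (algebraMap k (RatFunc k)) (⅟(RatFunc.X : RatFunc k)) q.reverse =
      aeval (⅟(RatFunc.X : RatFunc k)) q.reverse := rfl
  rw [h3, h1, one_mul]

/-- a place at which an irreducible polynomial has a zero is finite -/
lemma ratFunc_val_X_le_one (P : Place k (RatFunc k)) {p : k[X]} (hp0 : p ≠ 0)
    (hpP : P.1 (ι p) < 1) : P.1 RatFunc.X ≤ 1 := by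
  by_contra hX
  push Not at hX
  rw [ratFunc_val_poly_of_one_lt P hX hp0] at hpP
  exact absurd hpP (not_lt.mpr (one_le_pow₀ hX.le))

/-- the order of a polynomial at the place of `p` is a multiple of the order of `p` -/
lemma ratFunc_ord_poly (P : Place k (RatFunc k)) {p : k[X]} (hp : Irreducible p)
    (hpP : P.1 (ι p) < 1) {q : k[X]} (hq : q ≠ 0) :
    ∃ m : ℕ, P.ord (ι q) = m * P.ord (ι p) := by
  have hX := ratFunc_val_X_le_one P hp.ne_zero hpP
  obtain ⟨m, q', hq', rfl⟩ := WfDvdMonoid.max_power_factor hq hp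
  have hq'0 : q' ≠ 0 := by
    rintro rfl
    exact hq' (dvd_zero _)
  refine ⟨m, ?_⟩
  rw [map_mul, map_pow, ord_mul P (pow_ne_zero _ (ratFunc_algebraMap_ne_zero hp.ne_zero))
    (ratFunc_algebraMap_ne_zero hq'0), ord_pow,
    (val_eq_one_iff P (ratFunc_algebraMap_ne_zero hq'0)).mp
      (ratFunc_val_eq_one_of_not_dvd P hp hX hpP hq')]
  ring

/-- an irreducible polynomial is a local parameter at its place -/
theorem ratFunc_ord_irreducible (P : Place k (RatFunc k)) {p : k[X]} (hp : Irreducible p)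
    (hpP : P.1 (ι p) < 1) : P.ord (ι p) = 1 := by
  obtain ⟨t, ht0, ht⟩ := exists_ord_eq P 1
  have hnd := RatFunc.num_div_denom t
  have hnum : t.num ≠ 0 := RatFunc.num_ne_zero ht0
  have hden : t.denom ≠ 0 := RatFunc.denom_ne_zero t
  obtain ⟨ma, hma⟩ := ratFunc_ord_poly P hp hpP hnum
  obtain ⟨mb, hmb⟩ := ratFunc_ord_poly P hp hpP hden
  rw [← hnd, ord_div P (ratFunc_algebraMap_ne_zero hnum) (ratFunc_algebraMap_ne_zero hden),
    hma, hmb] at ht
  have hpos : 0 < P.ord (ι p) := (val_lt_one_iff P (ratFunc_algebraMap_ne_zero hp.ne_zero)).mp hpP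
  exact Int.eq_one_of_dvd_one hpos.le ⟨(ma : ℤ) - mb, by linarith⟩

/-- a squarefree polynomial has order at most one at a finite place -/
theorem ratFunc_ord_squarefree (P : Place k (RatFunc k)) {p f : k[X]} (hp : Irreducible p)
    (hpP : P.1 (ι p) < 1) (hf : Squarefree f) (hpf : p ∣ f) : P.ord (ι f) = 1 := by
  have hX := ratFunc_val_X_le_one P hp.ne_zero hpP
  obtain ⟨g, rfl⟩ := hpf
  have hg : ¬ p ∣ g := by
    intro hpg
    have : p * p ∣ p * g := mul_dvd_mul_left p hpg
    exact hp.not_isUnit (hf p this)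
  have hg0 : g ≠ 0 := by
    rintro rfl
    exact hg (dvd_zero _)
  rw [map_mul, ord_mul P (ratFunc_algebraMap_ne_zero hp.ne_zero) (ratFunc_algebraMap_ne_zero hg0),
    ratFunc_ord_irreducible P hp hpP,
    (val_eq_one_iff P (ratFunc_algebraMap_ne_zero hg0)).mp
      (ratFunc_val_eq_one_of_not_dvd P hp hX hpP hg)]
  ring

/-- the order of a polynomial at the infinite place -/
lemma ratFunc_ord_poly_of_one_lt (P : Place k (RatFunc k)) (hX : 1 < P.1 RatFunc.X) {q : k[X]}
    (hq : q ≠ 0) : P.ord (ι q) = q.natDegree * P.ord RatFunc.X := by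
  unfold Place.ord
  rw [ratFunc_val_poly_of_one_lt P hX hq, log_pow]
  simp only [nsmul_eq_mul]
  ring

/-- `X` has a simple pole at the infinite place -/
theorem ratFunc_ord_X_of_one_lt (P : Place k (RatFunc k)) (hX : 1 < P.1 RatFunc.X) :
    P.ord (RatFunc.X : RatFunc k) = -1 := by
  obtain ⟨t, ht0, ht⟩ := exists_ord_eq P 1
  have hnd := RatFunc.num_div_denom t
  have hnum : t.num ≠ 0 := RatFunc.num_ne_zero ht0
  have hden : t.denom ≠ 0 := RatFunc.denom_ne_zero t
  rw [← hnd, ord_div P (ratFunc_algebraMap_ne_zero hnum) (ratFunc_algebraMap_ne_zero hden),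
    ratFunc_ord_poly_of_one_lt P hX hnum, ratFunc_ord_poly_of_one_lt P hX hden] at ht
  have hX0 : (RatFunc.X : RatFunc k) ≠ 0 := RatFunc.X_ne_zero
  have hneg : P.ord (RatFunc.X : RatFunc k) < 0 := by
    have h1 : ¬ P.1 (RatFunc.X : RatFunc k) ≤ 1 := not_le.mpr hX
    rw [val_le_one_iff P hX0] at h1
    omega
  have hdvd : -P.ord (RatFunc.X : RatFunc k) ∣ 1 :=
    ⟨(t.denom.natDegree : ℤ) - t.num.natDegree, by linarith⟩
  have := Int.eq_one_of_dvd_one (by omega) hdvd
  omega

/-- the infinite place has degree one -/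
theorem ratFunc_deg_of_one_lt (P : Place k (RatFunc k)) (hX : 1 < P.1 RatFunc.X) : P.deg = 1 := by
  classical
  have hK := isFunctionField_ratFunc k
  have htr : Transcendental k (RatFunc.X : RatFunc k) := RatFunc.transcendental_X
  have h1 := deg_poleDiv_eq hK htr
  rw [RatFunc.adjoin_X, IntermediateField.finrank_top] at h1
  have hle : (Finsupp.single P 1 : Divisor k (RatFunc k)) ≤ poleDiv k (RatFunc.X : RatFunc k) := by
    intro Q
    rw [Finsupp.single_apply, poleDiv_apply hK]
    split_ifs with h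
    · subst h
      rw [ratFunc_ord_X_of_one_lt P hX]
      simp
    · exact le_max_right _ _
  have h2 := deg_mono hle
  rw [deg_single, h1] at h2
  have h3 := deg_pos hK P
  have h4 : (P.deg : ℤ) ≤ 1 := by simpa using h2
  omega

/-- a polynomial vanishing at a finite place has an irreducible factor vanishing there -/
lemma ratFunc_exists_irreducible_factor (P : Place k (RatFunc k)) (hX : P.1 RatFunc.X ≤ 1)
    {q : k[X]} (hq : q ≠ 0) (hqP : P.1 (ι q) < 1) :
    ∃ p : k[X], Irreducible p ∧ p ∣ q ∧ P.1 (ι p) < 1 := by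
  revert hq hqP
  induction q using WfDvdMonoid.induction_on_irreducible with
  | zero => intro h; exact absurd rfl h
  | unit u hu =>
    intro _ huP
    exfalso
    obtain ⟨u', hu'⟩ := hu.exists_right_inv
    have h1 : P.1 (ι u) * P.1 (ι u') = 1 := by
      rw [← map_mul, ← map_mul, hu', map_one, map_one]
    have h2 : P.1 (ι u) * P.1 (ι u') < 1 := by
      calc P.1 (ι u) * P.1 (ι u') ≤ P.1 (ι u) * 1 :=
            mul_le_mul' le_rfl (ratFunc_val_poly_le_one P hX u')
        _ = P.1 (ι u) := mul_one _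
        _ < 1 := huP
    rw [h1] at h2
    exact lt_irrefl _ h2
  | mul a i ha hi ih =>
    intro _ hiaP
    by_cases hiP : P.1 (ι i) < 1
    · exact ⟨i, hi, dvd_mul_right i a, hiP⟩
    · push Not at hiP
      have hi1 : P.1 (ι i) = 1 := le_antisymm (ratFunc_val_poly_le_one P hX i) hiP
      rw [map_mul, map_mul, hi1, one_mul] at hiaP
      obtain ⟨p, hp, hpa, hpP⟩ := ih ha hiaP
      exact ⟨p, hp, hpa.mul_left i, hpP⟩

/-- a squarefree polynomial vanishing at a place has order one there -/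
theorem ratFunc_ord_squarefree' (P : Place k (RatFunc k)) {f : k[X]} (hf : Squarefree f)
    (hfP : P.1 (ι f) < 1) : P.ord (ι f) = 1 := by
  have hX := ratFunc_val_X_le_one P hf.ne_zero hfP
  obtain ⟨p, hp, hpf, hpP⟩ := ratFunc_exists_irreducible_factor P hX hf.ne_zero hfP
  exact ratFunc_ord_squarefree P hp hpP hf hpf

end Groth.Agent.FF
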