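import Groth.Agent.FunFld.RamGroups2
import Mathlib.RingTheory.IntegralDomain

/-!
# The tame quotient of the inertia group is cyclic
-/

set_option autoImplicit false
set_option linter.unusedSectionVars false

open FunFld WithZero Polynomial

namespace Groth.Agent.FF

variable {k K K' : Type*} [Field k] [Field K] [Field K'] [Algebra k K] [Algebra K K']
  [Algebra k K'] [IsScalarTower k K K'] [FiniteDimensional K K'] (Q : Place k K')

/-- the inertia group of a place -/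
def inertiaSubgroup : Subgroup (K' ≃ₐ[K] K') where
  carrier := {σ | InRam Q σ 1}
  mul_mem' := fun ha hb => InRam.mul ha hb (by norm_num)
  one_mem' := InRam.one
  inv_mem' := fun ha => InRam.inv ha (by norm_num)

lemma mem_inertiaSubgroup {σ : K' ≃ₐ[K] K'} :
    σ ∈ inertiaSubgroup (K := K) Q ↔ InRam Q σ 1 := Iff.rfl

lemma val_map_div_uniformizer {σ : K' ≃ₐ[K] K'} (hσ : InRam Q σ 1) {t : K'}
    (ht : Q.1 t = exp (-1 : ℤ)) : Q.1 (σ t / t) = 1 := by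
  rw [map_div₀, hσ.val_map (by norm_num), div_self]
  rw [ht]
  exact exp_ne_zero

/-- the tame character on the inertia group, `σ ↦ σ t / t mod m` -/
noncomputable def tameChar {t : K'} (ht : Q.1 t = exp (-1 : ℤ)) :
    inertiaSubgroup (K := K) Q →* IsLocalRing.ResidueField Q.O where
  toFun σ := res Q ⟨(σ : K' ≃ₐ[K] K') t / t, (val_map_div_uniformizer Q σ.2 ht).le⟩
  map_one' := by
    have ht0 : t ≠ 0 := by
      intro h0
      rw [h0, map_zero] at ht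
      exact exp_ne_zero ht.symm
    have h1 : (⟨((1 : inertiaSubgroup (K := K) Q) : K' ≃ₐ[K] K') t / t,
        (val_map_div_uniformizer Q (1 : inertiaSubgroup (K := K) Q).2 ht).le⟩ : Q.O) = 1 := by
      apply Subtype.ext
      show (1 : K' ≃ₐ[K] K') t / t = 1
      rw [AlgEquiv.one_apply, div_self ht0]
    rw [h1, map_one]
  map_mul' := by
    intro σ τ
    have ht0 : t ≠ 0 := by
      intro h0
      rw [h0, map_zero] at ht
      exact exp_ne_zero ht.symm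
    have hu : Q.1 ((τ : K' ≃ₐ[K] K') t / t) ≤ 1 := (val_map_div_uniformizer Q τ.2 ht).le
    have hσu : Q.1 ((σ : K' ≃ₐ[K] K') ((τ : K' ≃ₐ[K] K') t / t)) ≤ 1 :=
      InRam.map_le_one σ.2 (by norm_num) hu
    have h1 : (⟨((σ * τ : inertiaSubgroup (K := K) Q) : K' ≃ₐ[K] K') t / t,
        (val_map_div_uniformizer Q (σ * τ).2 ht).le⟩ : Q.O) =
        ⟨(σ : K' ≃ₐ[K] K') ((τ : K' ≃ₐ[K] K') t / t), hσu⟩ *
          ⟨(σ : K' ≃ₐ[K] K') t / t, (val_map_div_uniformizer Q σ.2 ht).le⟩ := by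
      apply Subtype.ext
      show ((σ : K' ≃ₐ[K] K') * (τ : K' ≃ₐ[K] K')) t / t =
        (σ : K' ≃ₐ[K] K') ((τ : K' ≃ₐ[K] K') t / t) * ((σ : K' ≃ₐ[K] K') t / t)
      have hσt0 : (σ : K' ≃ₐ[K] K') t ≠ 0 := by
        rw [Ne, map_eq_zero_iff _ (σ : K' ≃ₐ[K] K').injective]
        exact ht0
      rw [AlgEquiv.mul_apply, map_div₀]
      field_simp
    have h2 : res Q ⟨(σ : K' ≃ₐ[K] K') ((τ : K' ≃ₐ[K] K') t / t), hσu⟩ =
        res Q ⟨(τ : K' ≃ₐ[K] K') t / t, hu⟩ := by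
      rw [← sub_eq_zero, ← map_sub, res_eq_zero_iff]
      show Q.1 ((σ : K' ≃ₐ[K] K') ((τ : K' ≃ₐ[K] K') t / t) - (τ : K' ≃ₐ[K] K') t / t) < 1
      apply lt_of_le_of_lt (σ.2 _ hu)
      rw [← exp_zero, exp_lt_exp]
      norm_num
    rw [h1, map_mul, h2, mul_comm]

lemma tameChar_apply {t : K'} (ht : Q.1 t = exp (-1 : ℤ)) (σ : inertiaSubgroup (K := K) Q) :
    tameChar Q ht σ =
      res Q ⟨(σ : K' ≃ₐ[K] K') t / t, (val_map_div_uniformizer Q σ.2 ht).le⟩ := rfl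

/-- the kernel of the tame character is the wild inertia group -/
lemma inRam_two_of_tameChar_eq_one (hK : IsFunctionField k K)
    [Algebra.IsSeparable k (IsLocalRing.ResidueField Q.O)] {t : K'} (ht : Q.1 t = exp (-1 : ℤ))
    (σ : inertiaSubgroup (K := K) Q) (h : tameChar Q ht σ = 1) :
    InRam Q (σ : K' ≃ₐ[K] K') 2 := by
  have ht0 : t ≠ 0 := by
    intro h0
    rw [h0, map_zero] at ht
    exact exp_ne_zero ht.symm
  rw [tameChar_apply, ← sub_eq_zero, ← map_one (res Q), ← map_sub, res_eq_zero_iff] at h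
  have h1 : Q.1 ((σ : K' ≃ₐ[K] K') t / t - 1) ≤ exp (-(1 : ℤ)) :=
    Ext.le_exp_neg_one_of_lt_one h
  have h2 : (σ : K' ≃ₐ[K] K') t - t = ((σ : K' ≃ₐ[K] K') t / t - 1) * t := by
    field_simp
  have h3 : Q.1 ((σ : K' ≃ₐ[K] K') t - t) ≤ exp (-((2 : ℕ) : ℤ)) := by
    rw [h2, map_mul, ht]
    calc Q.1 ((σ : K' ≃ₐ[K] K') t / t - 1) * exp (-1 : ℤ) ≤ exp (-(1 : ℤ)) * exp (-1 : ℤ) :=
          mul_le_mul' h1 le_rfl
      _ = exp (-((2 : ℕ) : ℤ)) := by rw [← exp_add]; congr 1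
  exact inRam_of_uniformizer Q (σ : K' ≃ₐ[K] K') hK σ.2 ht h3

/-- **The tame quotient of the inertia group is cyclic.** -/
theorem exists_generator_inertia_mod_wild (hK : IsFunctionField k K)
    [Algebra.IsSeparable k (IsLocalRing.ResidueField Q.O)] :
    ∃ σ₀ : K' ≃ₐ[K] K', InRam Q σ₀ 1 ∧
      ∀ σ : K' ≃ₐ[K] K', InRam Q σ 1 → ∃ n : ℕ, InRam Q ((σ₀ ^ n)⁻¹ * σ) 2 := by
  obtain ⟨t, ht⟩ := exists_uniformizer Q
  set θ := (tameChar (K := K) Q ht).toHomUnits with hθ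
  have : Finite θ.range := Finite.of_surjective θ.rangeRestrict θ.rangeRestrict_surjective
  obtain ⟨g, hg⟩ := IsCyclic.exists_monoid_generator (α := θ.range)
  obtain ⟨σ₀, hσ₀⟩ := g.2
  refine ⟨σ₀, σ₀.2, ?_⟩
  intro σ hσ'
  have hσ : σ ∈ inertiaSubgroup (K := K) Q := hσ'
  obtain ⟨n, hn⟩ := hg ⟨θ ⟨σ, hσ⟩, ⟨⟨σ, hσ⟩, rfl⟩⟩
  have hn' : θ σ₀ ^ n = θ ⟨σ, hσ⟩ := by
    have := congrArg Subtype.val hn
    simp only at this
    rw [hσ₀]
    simpa using this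
  refine ⟨n, ?_⟩
  have h1 : θ ((σ₀ ^ n)⁻¹ * ⟨σ, hσ⟩) = 1 := by
    rw [map_mul, map_inv, map_pow, hn', inv_mul_cancel]
  have h2 : tameChar (K := K) Q ht ((σ₀ ^ n)⁻¹ * ⟨σ, hσ⟩) = 1 := by
    have := congrArg Units.val h1
    rwa [hθ, MonoidHom.coe_toHomUnits, Units.val_one] at this
  exact inRam_two_of_tameChar_eq_one Q hK ht _ h2

end Groth.Agent.FF
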