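import Groth.Agent.FunFld.InertiaOrder
import Groth.Agent.FunFld.InertiaCyclic

/-!
# The inertia field
-/

set_option autoImplicit false
set_option linter.unusedSectionVars false

open FunFld WithZero Polynomial
open scoped Pointwise

namespace Groth.Agent.FF.Ext

variable {k K K' : Type*} [Field k] [Field K] [Field K'] [Algebra k K] [Algebra K K']
  [Algebra k K'] [IsScalarTower k K K']

section L1

variable [FiniteDimensional K K']

/-- Mathlib's inertia group, as a subgroup of the Galois group, in elementary terms -/
theorem map_inertia_eq (Q : Place k K') :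
    ((Q.O).inertiaSubgroup K).map ((Q.O).decompositionSubgroup K).subtype =
      Groth.Agent.FF.inertiaSubgroup (K := K) Q := by
  ext σ
  rw [Subgroup.mem_map, Groth.Agent.FF.mem_inertiaSubgroup]
  constructor
  · rintro ⟨τ, hτ, rfl⟩
    rw [mem_inertia_iff] at hτ
    intro x hx
    apply le_exp_neg_one_of_lt_one
    have h1 := hτ (res Q ⟨x, hx⟩)
    rw [smul_res, ← sub_eq_zero, ← map_sub, res_eq_zero_iff] at h1
    exact h1
  · intro hσ
    have hD : σ ∈ (Q.O).decompositionSubgroup K := by
      rw [mem_decomposition_iff]
      apply Subtype.ext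
      ext x
      rw [Place.comapEquiv_apply]
      exact hσ.val_map (by norm_num) x
    refine ⟨⟨σ, hD⟩, ?_, rfl⟩
    rw [mem_inertia_iff]
    intro y
    obtain ⟨a, rfl⟩ := IsLocalRing.residue_surjective y
    show (⟨σ, hD⟩ : (Q.O).decompositionSubgroup K) • res Q a = res Q a
    rw [smul_res, ← sub_eq_zero, ← map_sub, res_eq_zero_iff]
    show Q.1 (σ (a : K') - (a : K')) < 1
    apply lt_of_le_of_lt (hσ a a.2)
    rw [← exp_zero, exp_lt_exp]
    norm_num

lemma card_inertia_eq (Q : Place k K') :
    Nat.card ((Q.O).inertiaSubgroup K) =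
      Nat.card (Groth.Agent.FF.inertiaSubgroup (K := K) Q) := by
  rw [← map_inertia_eq, Subgroup.card_map_of_injective (Subgroup.subtype_injective _)]

end L1

/-- the tower `k ⊆ E ⊆ K'` for an intermediate field `E` of `K'/K` -/
instance isScalarTower_intermediate (E : IntermediateField K K') : IsScalarTower k E K' :=
  IsScalarTower.of_algebraMap_eq (fun _ => rfl)

section L3

variable [FiniteDimensional K K'] (E : IntermediateField K K')

/-- the inertia group over an intermediate field -/
theorem map_restrictScalars_inertia (Q : Place k K') :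
    (Groth.Agent.FF.inertiaSubgroup (K := E) Q).map (AlgEquiv.restrictScalarsHom K) =
      Groth.Agent.FF.inertiaSubgroup (K := K) Q ⊓ E.fixingSubgroup := by
  ext σ
  rw [Subgroup.mem_map, Subgroup.mem_inf, Groth.Agent.FF.mem_inertiaSubgroup]
  constructor
  · rintro ⟨τ, hτ, rfl⟩
    refine ⟨fun x hx => hτ x hx, ?_⟩
    rw [IntermediateField.mem_fixingSubgroup_iff]
    intro x hx
    exact τ.commutes ⟨x, hx⟩
  · rintro ⟨h1, h2⟩
    refine ⟨IntermediateField.fixingSubgroupEquiv E ⟨σ, h2⟩, fun x hx => h1 x hx, ?_⟩
    ext x
    rfl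

lemma card_inertia_intermediate (Q : Place k K') :
    Nat.card (Groth.Agent.FF.inertiaSubgroup (K := E) Q) =
      Nat.card ↥(Groth.Agent.FF.inertiaSubgroup (K := K) Q ⊓ E.fixingSubgroup) := by
  rw [← map_restrictScalars_inertia,
    Subgroup.card_map_of_injective (AlgEquiv.restrictScalarsHom_injective K)]

end L3

section L2

variable [FiniteDimensional K K'] [IsGalois K K'] (E : IntermediateField K K')

/-- the order of the inertia group of `K'/E` for an intermediate field `E` (whose constant field
may be larger than `k`) -/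
theorem card_inertiaSubgroup_intermediate (hK : IsFunctionField k K) (Q : Place k K')
    [Algebra.IsSeparable k (IsLocalRing.ResidueField Q.O)] {QE : Place k E} {eE : ℕ}
    (he : IsOverWith Q QE eE) : Nat.card ((Q.O).inertiaSubgroup E) = eE := by
  have hE : IsFunctionField (algebraicClosure k E) E :=
    isFunctionField_algebraicClosure (K := K) (K' := E) hK
  let Q' : Place (algebraicClosure k E) K' := ⟨Q.1, ⟨fun c => by
    apply val_le_one_of_isAlgebraic Q
    have hc : IsAlgebraic k (c : E) := mem_algebraicClosure_iff.mp c.2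
    exact hc.algHom (IsScalarTower.toAlgHom k E K'), Q.2.2⟩⟩
  have he' : IsOverWith Q' (placeUp QE) eE := fun x => he x
  have htower : @IsScalarTower k (algebraicClosure k E) (IsLocalRing.ResidueField Q.O) _
      (Place.algRes Q').toSMul (Place.algRes Q).toSMul := by
    letI := Place.algRes Q'
    exact IsScalarTower.of_algebraMap_eq (fun _ => rfl)
  haveI hsep : @Algebra.IsSeparable (algebraicClosure k E) (IsLocalRing.ResidueField Q'.O) _ _
      (Place.algRes Q') :=
    @Algebra.isSeparable_tower_top_of_isSeparable k (algebraicClosure k E) _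
      (IsLocalRing.ResidueField Q.O) _ _ _ (Place.algRes Q) (Place.algRes Q') htower _
  have h1 := card_inertiaSubgroup (k := algebraicClosure k E) (K := E) (K' := K') hE he'
  exact h1

end L2

section Final

variable [FiniteDimensional K K'] [IsGalois K K']

/-- the ramification index of `Q` over an intermediate field `E` is the order of the part of the
inertia group fixing `E` -/
theorem ramIdx_intermediate (hK : IsFunctionField k K) (Q : Place k K')
    [Algebra.IsSeparable k (IsLocalRing.ResidueField Q.O)] (E : IntermediateField K K')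
    {QE : Place k E} {eE : ℕ} (he : IsOverWith Q QE eE) :
    eE = Nat.card ↥(Groth.Agent.FF.inertiaSubgroup (K := K) Q ⊓ E.fixingSubgroup) := by
  rw [← card_inertiaSubgroup_intermediate E hK Q he, card_inertia_eq (K := E) Q,
    card_inertia_intermediate E Q]

/-- the ramification index over the base field is the order of the inertia group -/
theorem ramIdx_base (hK : IsFunctionField k K) (Q : Place k K')
    [Algebra.IsSeparable k (IsLocalRing.ResidueField Q.O)]
    {P : Place k K} {e : ℕ} (he : IsOverWith Q P e) :
    e = Nat.card ↥(Groth.Agent.FF.inertiaSubgroup (K := K) Q) := by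
  rw [← card_inertiaSubgroup hK he, card_inertia_eq (K := K) Q]

/-- `K'` is totally ramified at `Q` over the inertia field -/
theorem totally_ramified_inertiaField (hK : IsFunctionField k K) (Q : Place k K')
    [Algebra.IsSeparable k (IsLocalRing.ResidueField Q.O)] :
    ∃ Q₁ : Place k (IntermediateField.fixedField
        (((Q.O).inertiaSubgroup K).map ((Q.O).decompositionSubgroup K).subtype)),
      IsOverWith Q Q₁ (Module.finrank (IntermediateField.fixedField
        (((Q.O).inertiaSubgroup K).map ((Q.O).decompositionSubgroup K).subtype)) K') := by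
  rw [map_inertia_eq]
  obtain ⟨Q₁, e₁, he₁⟩ := exists_isOverWith_below
    (K := IntermediateField.fixedField (Groth.Agent.FF.inertiaSubgroup (K := K) Q)) Q
  refine ⟨Q₁, ?_⟩
  have h1 := ramIdx_intermediate hK Q _ he₁
  rw [IntermediateField.fixingSubgroup_fixedField, inf_idem] at h1
  rw [IntermediateField.finrank_fixedField_eq_card, ← h1]
  exact he₁

/-- an intermediate field is unramified at `Q` over `K` iff it lies in the inertia field -/
theorem valueGroup_eq_iff_le_inertiaField (hK : IsFunctionField k K) (Q : Place k K')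
    [Algebra.IsSeparable k (IsLocalRing.ResidueField Q.O)] (E : IntermediateField K K') :
    Set.range (Q.1.comap (algebraMap E K')) = Set.range (Q.1.comap (algebraMap K K')) ↔
      E ≤ IntermediateField.fixedField
        (((Q.O).inertiaSubgroup K).map ((Q.O).decompositionSubgroup K).subtype) := by
  rw [map_inertia_eq, IntermediateField.le_iff_le]
  obtain ⟨QE, eE, heE⟩ := exists_isOverWith_below (K := E) Q
  obtain ⟨P, e, he⟩ := exists_isOverWith_below (K := K) Q
  have h1 := ramIdx_intermediate hK Q E heE
  have h2 := ramIdx_base hK Q he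
  have hepos := e_pos he
  have hEpos := e_pos heE
  -- the value groups
  have hrangeE : Set.range (Q.1.comap (algebraMap E K')) =
      {y | ∃ z : WithZero (Multiplicative ℤ), y = z ^ eE} := by
    ext y
    constructor
    · rintro ⟨x, rfl⟩
      exact ⟨QE.1 x, heE x⟩
    · rintro ⟨z, rfl⟩
      obtain ⟨x, rfl⟩ := QE.2.2 z
      exact ⟨x, heE x⟩
  have hrangeK : Set.range (Q.1.comap (algebraMap K K')) =
      {y | ∃ z : WithZero (Multiplicative ℤ), y = z ^ e} := by
    ext y
    constructor
    · rintro ⟨x, rfl⟩
      exact ⟨P.1 x, he x⟩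
    · rintro ⟨z, rfl⟩
      obtain ⟨x, rfl⟩ := P.2.2 z
      exact ⟨x, he x⟩
  have hdvd : ∀ {a b : ℕ}, 0 < a →
      (exp (-(a : ℤ)) : WithZero (Multiplicative ℤ)) ∈
        {y | ∃ z : WithZero (Multiplicative ℤ), y = z ^ b} → b ∣ a := by
    intro a b ha hmem
    obtain ⟨z, hz⟩ := hmem
    have hz0 : z ≠ 0 := by
      rintro rfl
      rcases Nat.eq_zero_or_pos b with hb | hb
      · rw [hb, pow_zero, ← exp_zero, exp_inj] at hz
        omega
      · rw [zero_pow hb.ne'] at hz
        exact exp_ne_zero hz
    obtain ⟨n, rfl⟩ : ∃ n : ℤ, z = exp n := ⟨WithZero.log z, (WithZero.exp_log hz0).symm⟩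
    rw [← exp_nsmul, exp_inj] at hz
    have h3 : (a : ℤ) = (b : ℤ) * (-n) := by
      simp only [nsmul_eq_mul] at hz
      linarith
    exact Int.natCast_dvd_natCast.mp ⟨-n, h3⟩
  have heq_iff : Set.range (Q.1.comap (algebraMap E K')) =
      Set.range (Q.1.comap (algebraMap K K')) ↔ eE = e := by
    constructor
    · intro h
      rw [hrangeE, hrangeK] at h
      apply Nat.dvd_antisymm
      · have : (exp (-(e : ℤ)) : WithZero (Multiplicative ℤ)) ∈
            {y | ∃ z : WithZero (Multiplicative ℤ), y = z ^ eE} := by
          rw [h]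
          exact ⟨exp (-1 : ℤ), by rw [← exp_nsmul]; simp⟩
        exact hdvd hepos this
      · have : (exp (-(eE : ℤ)) : WithZero (Multiplicative ℤ)) ∈
            {y | ∃ z : WithZero (Multiplicative ℤ), y = z ^ e} := by
          rw [← h]
          exact ⟨exp (-1 : ℤ), by rw [← exp_nsmul]; simp⟩
        exact hdvd hEpos this
    · intro h
      rw [hrangeE, hrangeK, h]
  rw [heq_iff, h1, h2]
  constructor
  · intro h
    have hle : Groth.Agent.FF.inertiaSubgroup (K := K) Q ⊓ E.fixingSubgroup ≤
        Groth.Agent.FF.inertiaSubgroup (K := K) Q := inf_le_left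
    have := Subgroup.eq_of_le_of_card_ge hle h.symm.le
    rw [← this]
    exact inf_le_right
  · intro h
    rw [inf_eq_left.mpr h]

end Final

end Groth.Agent.FF.Ext
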