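import Groth.Agent.FunFld.SumEF

/-!
# The integral closure of `O_P` in a finite extension

It is the intersection of the valuation rings of the places above `P`, and a free `O_P`-module
of rank `[K' : K]`.
-/

set_option autoImplicit false
set_option linter.unusedSectionVars false

open FunFld WithZero IntermediateField

namespace Groth.Agent.FF.Ext

open Groth.Agent.FF

variable {k K K' : Type*} [Field k] [Field K] [Field K'] [Algebra k K] [Algebra K K']
  [Algebra k K']

/-- the local independence property of a family `y` with respect to places `Qs i` above `P` -/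
def LocIndep {ι : Type*} (Qs : ι → Place k K') (P : Place k K) (e : ι → ℕ) {J : Type*} [Fintype J]
    (y : J → K') : Prop :=
  ∀ c : J → K, (∀ p, P.1 (c p) ≤ 1) →
    (∀ i, (Qs i).1 (∑ p, algebraMap K K' (c p) * y p) ≤ exp (-(e i : ℤ))) → ∀ p, P.1 (c p) < 1

/-- a locally independent family is linearly independent -/
lemma LocIndep.linearIndependent {ι : Type*} {Qs : ι → Place k K'} {P : Place k K} {e : ι → ℕ}
    {J : Type*} [Fintype J] {y : J → K'} (h : LocIndep Qs P e y) : LinearIndependent K y := by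
  classical
  rw [Fintype.linearIndependent_iff]
  intro g hg
  by_contra hcon
  push Not at hcon
  obtain ⟨p₁, hp₁⟩ := hcon
  obtain ⟨p₀, -, hmax⟩ := Finset.exists_max_image Finset.univ (fun p => P.1 (g p))
    ⟨p₁, Finset.mem_univ _⟩
  have hg0 : g p₀ ≠ 0 := by
    intro h0
    have h1 := hmax p₁ (Finset.mem_univ _)
    rw [h0, map_zero] at h1
    exact hp₁ ((Valuation.zero_iff P.1).mp (le_antisymm h1 zero_le))
  have hv0 : P.1 (g p₀) ≠ 0 := (Valuation.ne_zero_iff P.1).mpr hg0
  let c : J → K := fun p => g p / g p₀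
  have hc1 : ∀ p, P.1 (c p) ≤ 1 := by
    intro p
    simp only [c]
    rw [map_div₀, div_le_one₀ (zero_lt_iff.mpr hv0)]
    exact hmax p (Finset.mem_univ _)
  have hsum : ∑ p, algebraMap K K' (c p) * y p = 0 := by
    have h1 : ∑ p, algebraMap K K' (c p) * y p =
        (algebraMap K K' (g p₀))⁻¹ * ∑ p, g p • y p := by
      rw [Finset.mul_sum]
      apply Finset.sum_congr rfl
      intro p _
      simp only [c]
      rw [map_div₀, Algebra.smul_def]
      ring
    rw [h1, hg, mul_zero]
  have h2 := h c hc1 (fun i => by rw [hsum, map_zero]; exact zero_le) p₀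
  simp only [c] at h2
  rw [div_self hg0, map_one] at h2
  exact lt_irrefl _ h2

/-- elements integral at all `Qs i` have `O_P`-integral coordinates with respect to a locally
independent family -/
lemma LocIndep.coord_le_one {ι : Type*} {Qs : ι → Place k K'} {P : Place k K} {e : ι → ℕ}
    (he : ∀ i, IsOverWith (Qs i) P (e i))
    {J : Type*} [Fintype J] {y : J → K'} (h : LocIndep Qs P e y) (g : J → K)
    (hw : ∀ i, (Qs i).1 (∑ p, algebraMap K K' (g p) * y p) ≤ 1) : ∀ p, P.1 (g p) ≤ 1 := by
  classical
  by_contra hcon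
  push Not at hcon
  obtain ⟨p₁, hp₁⟩ := hcon
  obtain ⟨p₀, -, hmax⟩ := Finset.exists_max_image Finset.univ (fun p => P.1 (g p))
    ⟨p₁, Finset.mem_univ _⟩
  have hgt : 1 < P.1 (g p₀) := lt_of_lt_of_le hp₁ (hmax p₁ (Finset.mem_univ _))
  have hv0 : P.1 (g p₀) ≠ 0 := (lt_trans zero_lt_one hgt).ne'
  have hg0 : g p₀ ≠ 0 := (Valuation.ne_zero_iff P.1).mp hv0
  let c : J → K := fun p => g p / g p₀
  have hc1 : ∀ p, P.1 (c p) ≤ 1 := by
    intro p
    simp only [c]
    rw [map_div₀, div_le_one₀ (zero_lt_iff.mpr hv0)]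
    exact hmax p (Finset.mem_univ _)
  have hsum : ∑ p, algebraMap K K' (c p) * y p =
      algebraMap K K' (g p₀)⁻¹ * ∑ p, algebraMap K K' (g p) * y p := by
    rw [Finset.mul_sum]
    apply Finset.sum_congr rfl
    intro p _
    simp only [c]
    rw [map_div₀, map_inv₀]
    ring
  have hinv : P.1 (g p₀)⁻¹ < 1 := by
    rw [map_inv₀]
    exact inv_lt_one_of_one_lt₀ hgt
  have h2 := h c hc1 (fun i => by
    rw [hsum, map_mul]
    calc (Qs i).1 (algebraMap K K' (g p₀)⁻¹) * (Qs i).1 (∑ p, algebraMap K K' (g p) * y p)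
        ≤ exp (-(e i : ℤ)) * 1 := mul_le_mul' (val_le_exp_neg_e (he i) hinv) (hw i)
      _ = exp (-(e i : ℤ)) := mul_one _) p₀
  simp only [c] at h2
  rw [div_self hg0, map_one] at h2
  exact lt_irrefl _ h2

/-- existence of an integral, locally independent family of size `∑ e i * m i` -/
theorem exists_locIndep {ι : Type*} [Fintype ι]
    (Qs : ι → Place k K') (hQ : Function.Injective Qs) (P : Place k K) (e : ι → ℕ)
    (he : ∀ i, IsOverWith (Qs i) P (e i)) (m : ι → ℕ) (s : (i : ι) → Fin (m i) → K')
    (hs : ∀ i, ResIndepOver P (Qs i) (s i)) :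
    ∃ y : (Σ i : ι, Fin (e i) × Fin (m i)) → K',
      (∀ l p, (Qs l).1 (y p) ≤ 1) ∧ LocIndep Qs P e y := by
  classical
  obtain ⟨t, ht⟩ := exists_local_uniformizers Qs hQ
  set E : ℕ := ∑ l, e l with hE
  have heE : ∀ l, e l ≤ E := fun l =>
    Finset.single_le_sum (f := e) (fun _ _ => Nat.zero_le _) (Finset.mem_univ l)
  have hex : ∀ i (j : Fin (m i)), ∃ z : K',
      ∀ l, (Qs l).1 (z - if l = i then s i j else 0) < exp (-(E : ℤ)) :=
    fun i j => weak_approx Qs hQ (fun l => if l = i then s i j else 0) (-(E : ℤ))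
  choose z hz using hex
  have hzi : ∀ i j, (Qs i).1 (z i j - s i j) < 1 := by
    intro i j
    have h := hz i j i
    rw [if_pos rfl] at h
    refine lt_of_lt_of_le h ?_
    rw [← exp_zero, exp_le_exp]; omega
  have hzl : ∀ i j l, l ≠ i → (Qs l).1 (z i j) ≤ exp (-(e l : ℤ)) := by
    intro i j l hl
    have h := hz i j l
    rw [if_neg hl, sub_zero] at h
    refine h.le.trans ?_
    rw [exp_le_exp]
    have := heE l
    omega
  have hzR : ∀ i, ResIndepOver P (Qs i) (z i) := fun i => (hs i).perturb (he i) (hzi i)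
  have ht1 : ∀ i l, (Qs l).1 (t i) ≤ 1 := by
    intro i l
    by_cases hl : l = i
    · subst hl; rw [(ht l).1, ← exp_zero, exp_le_exp]; norm_num
    · rw [(ht i).2 l hl]
  have hz1 : ∀ i j l, (Qs l).1 (z i j) ≤ 1 := by
    intro i j l
    by_cases hl : l = i
    · subst hl
      exact (hzR l).1 j
    · refine (hzl i j l hl).trans ?_
      rw [← exp_zero, exp_le_exp]; omega
  -- the family
  let J := Σ i : ι, Fin (e i) × Fin (m i)
  let y : J → K' := fun p => t p.1 ^ (p.2.1 : ℕ) * z p.1 p.2.2
  refine ⟨y, ?_, ?_⟩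
  · intro l p
    simp only [y, map_mul, map_pow]
    exact mul_le_one' (pow_le_one' (ht1 _ _) _) (hz1 _ _ _)
  · rintro c hc1 hcw ⟨i₀, a₀, j₀⟩
    have hv := hcw i₀
    rw [Fintype.sum_sigma] at hv
    rw [← Finset.add_sum_erase _ _ (Finset.mem_univ i₀)] at hv
    have hother : (Qs i₀).1 (∑ i ∈ Finset.univ.erase i₀,
        ∑ q : Fin (e i) × Fin (m i), algebraMap K K' (c ⟨i, q⟩) * y ⟨i, q⟩) ≤
        exp (-(e i₀ : ℤ)) := by
      apply (Qs i₀).1.map_sum_le
      intro i hi
      have hi' : i₀ ≠ i := (Finset.ne_of_mem_erase hi).symm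
      apply (Qs i₀).1.map_sum_le
      intro q _
      simp only [y, map_mul, map_pow]
      calc (Qs i₀).1 (algebraMap K K' (c ⟨i, q⟩)) *
            ((Qs i₀).1 (t i) ^ (q.1 : ℕ) * (Qs i₀).1 (z i q.2))
          ≤ 1 * (1 * exp (-(e i₀ : ℤ))) := by
            apply mul_le_mul' ((le_one_iff (he i₀) _).mpr (hc1 _))
            exact mul_le_mul' (pow_le_one' (ht1 _ _) _) (hzl i q.2 i₀ hi')
        _ = _ := by rw [one_mul, one_mul]
    have hmain : (Qs i₀).1 (∑ q : Fin (e i₀) × Fin (m i₀),
        algebraMap K K' (c ⟨i₀, q⟩) * y ⟨i₀, q⟩) ≤ exp (-(e i₀ : ℤ)) := by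
      have : ∑ q : Fin (e i₀) × Fin (m i₀), algebraMap K K' (c ⟨i₀, q⟩) * y ⟨i₀, q⟩ =
          (∑ q : Fin (e i₀) × Fin (m i₀), algebraMap K K' (c ⟨i₀, q⟩) * y ⟨i₀, q⟩ +
            ∑ i ∈ Finset.univ.erase i₀, ∑ q : Fin (e i) × Fin (m i),
              algebraMap K K' (c ⟨i, q⟩) * y ⟨i, q⟩) -
          ∑ i ∈ Finset.univ.erase i₀, ∑ q : Fin (e i) × Fin (m i),
            algebraMap K K' (c ⟨i, q⟩) * y ⟨i, q⟩ := by
        ring
      rw [this]
      exact (Qs i₀).1.map_sub_le hv hother
    have hform : ∑ q : Fin (e i₀) × Fin (m i₀), algebraMap K K' (c ⟨i₀, q⟩) * y ⟨i₀, q⟩ =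
        ∑ a : Fin (e i₀), t i₀ ^ (a : ℕ) * ∑ j, algebraMap K K' (c ⟨i₀, (a, j)⟩) * z i₀ j := by
      rw [Fintype.sum_prod_type]
      apply Finset.sum_congr rfl
      intro a _
      rw [Finset.mul_sum]
      apply Finset.sum_congr rfl
      intro j _
      simp only [y]
      ring
    rw [hform] at hmain
    exact local_indep_over (he i₀) (ht i₀).1 (hzR i₀) (e i₀) le_rfl
      (fun a j => c ⟨i₀, (a, j)⟩) (fun a j => hc1 _) hmain a₀ j₀

variable [IsScalarTower k K K']

/-- a `K`-basis of `K'` spanning, over `O_P`, the intersection of the valuation rings of the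
places above `P` -/
theorem exists_integral_basis [FiniteDimensional K K'] (hK : IsFunctionField k K)
    (P : Place k K) :
    ∃ y : Fin (Module.finrank K K') → K',
      (∀ (Q : Place k K'), IsOver Q P → ∀ p, Q.1 (y p) ≤ 1) ∧
      LinearIndependent K y ∧
      ∀ w : K', (∀ Q : Place k K', IsOver Q P → Q.1 w ≤ 1) →
        ∃ g : Fin (Module.finrank K K') → K,
          (∀ p, P.1 (g p) ≤ 1) ∧ w = ∑ p, algebraMap K K' (g p) * y p := by
  classical
  have hfin : {Q : Place k K' | IsOver Q P}.Finite := finite_isOver P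
  have hmem : ∀ Q, Q ∈ hfin.toFinset ↔ IsOver Q P := fun Q => by
    rw [Set.Finite.mem_toFinset]; rfl
  let ι := ↥hfin.toFinset
  let Qs : ι → Place k K' := fun i => (i : Place k K')
  have hQ : Function.Injective Qs := Subtype.val_injective
  have hover : ∀ i : ι, IsOver (Qs i) P := fun i => (hmem _).mp i.2
  let e : ι → ℕ := fun i => ramIdx (Qs i) P
  have he : ∀ i, IsOverWith (Qs i) P (e i) := fun i => isOverWith_ramIdx (hover i)
  let m : ι → ℕ := fun i => resDeg (Qs i) P
  have hex : ∀ i : ι, ∃ s : Fin (m i) → K', ResIndepOver P (Qs i) s :=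
    fun i => exists_resIndepOver_resDeg (hover i)
  choose s hs using hex
  obtain ⟨y, hy1, hy⟩ := exists_locIndep Qs hQ P e he m s hs
  -- the cardinality
  have hsum : ∑ i : ι, e i * m i = Module.finrank K K' := by
    have h1 := sum_ramIdx_mul_deg_eq hK P hfin.toFinset hmem
    have h2 : ∑ Q ∈ hfin.toFinset, ramIdx Q P * Q.deg =
        (∑ Q ∈ hfin.toFinset, ramIdx Q P * resDeg Q P) * P.deg := by
      rw [Finset.sum_mul]
      apply Finset.sum_congr rfl
      intro Q hQ'
      rw [deg_eq_resDeg_mul_deg hK ((hmem Q).mp hQ')]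
      ring
    rw [h2] at h1
    have h3 := Nat.eq_of_mul_eq_mul_right (deg_pos hK P) h1
    rw [← h3]
    exact Finset.sum_coe_sort hfin.toFinset (fun Q => ramIdx Q P * resDeg Q P)
  have hcard : Fintype.card (Σ i : ι, Fin (e i) × Fin (m i)) = Module.finrank K K' := by
    rw [← hsum]
    simp [Fintype.card_sigma]
  have hli := hy.linearIndependent
  have : Nonempty (Σ i : ι, Fin (e i) × Fin (m i)) := by
    rw [← Fintype.card_pos_iff, hcard]
    exact Module.finrank_pos
  let b := basisOfLinearIndependentOfCardEqFinrank hli hcard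
  have hb : ∀ p, b p = y p := fun p => by
    simp [b]
  let eqv := Fintype.equivFinOfCardEq hcard
  refine ⟨y ∘ eqv.symm, ?_, ?_, ?_⟩
  · intro Q hQ' p
    have hQmem : Q ∈ hfin.toFinset := (hmem Q).mpr hQ'
    exact hy1 ⟨Q, hQmem⟩ _
  · exact hli.comp _ eqv.symm.injective
  · intro w hw
    have hrepr : w = ∑ p, algebraMap K K' (b.repr w p) * y p := by
      conv_lhs => rw [← b.sum_repr w]
      apply Finset.sum_congr rfl
      intro p _
      rw [hb, Algebra.smul_def]
    have hcoord := hy.coord_le_one he (fun p => b.repr w p) (fun i => by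
      rw [← hrepr]
      exact hw _ (hover i))
    refine ⟨fun q => b.repr w (eqv.symm q), fun q => hcoord _, hrepr.trans ?_⟩
    exact (Equiv.sum_comp eqv.symm (fun p => algebraMap K K' (b.repr w p) * y p)).symm

/-- elements integral over `O_P` are integral at every place above `P` -/
lemma val_le_one_of_isIntegral {P : Place k K} {Q : Place k K'} {e : ℕ} (he : IsOverWith Q P e)
    [Algebra P.O K'] [IsScalarTower P.O K K'] {w : K'} (hw : IsIntegral P.O w) : Q.1 w ≤ 1 := by
  obtain ⟨p, hmonic, hp⟩ := hw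
  have hQint : Q.1.Integers Q.O := Valuation.valuationSubring.integers Q.1
  have hcomp : (algebraMap Q.O K').comp (OMap he) = algebraMap P.O K' := by
    ext x
    rw [IsScalarTower.algebraMap_apply P.O K K']
    rfl
  have hint : IsIntegral Q.O w := ⟨p.map (OMap he), hmonic.map _, by
    rw [Polynomial.eval₂_map, hcomp]
    exact hp⟩
  exact hQint.mem_of_integral hint

/-- the integral closure of `O_P` in a finite extension is a finite `O_P`-module -/
theorem finite_integralClosure [FiniteDimensional K K'] (hK : IsFunctionField k K)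
    (P : Place k K) [Algebra P.O K'] [IsScalarTower P.O K K'] :
    Module.Finite P.O (integralClosure P.O K') := by
  obtain ⟨y, hy1, hli, hspan⟩ := exists_integral_basis (K' := K') hK P
  have : IsPrincipalIdealRing P.O :=
    isPrincipalIdealRing_valuationSubring P.O (fun c => P.2.1 c) hK
  let M : Submodule P.O K' := Submodule.span P.O (Set.range y)
  have hle : Subalgebra.toSubmodule (integralClosure P.O K') ≤ M := by
    intro w hw
    have hw' : IsIntegral P.O w := hw
    obtain ⟨g, hg, hwg⟩ := hspan w (fun Q hQ => by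
      obtain ⟨e, he⟩ := hQ
      exact val_le_one_of_isIntegral he hw')
    rw [hwg]
    apply Submodule.sum_mem
    intro p _
    have : algebraMap K K' (g p) * y p = (⟨g p, hg p⟩ : P.O) • y p := by
      rw [Algebra.smul_def, IsScalarTower.algebraMap_apply P.O K K']
      rfl
    rw [this]
    exact Submodule.smul_mem _ _ (Submodule.subset_span ⟨p, rfl⟩)
  have : IsNoetherian P.O M := isNoetherian_span_of_finite P.O (Set.finite_range y)
  have := isNoetherian_of_le hle
  exact Module.IsNoetherian.finite P.O (Subalgebra.toSubmodule (integralClosure P.O K'))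

/-- the subalgebra of elements integral at all places above `P` -/
def intersectionSubalgebra (P : Place k K) [Algebra P.O K'] [IsScalarTower P.O K K'] :
    Subalgebra P.O K' where
  carrier := {w | ∀ Q : Place k K', IsOver Q P → Q.1 w ≤ 1}
  mul_mem' {a b} ha hb Q hQ := by
    rw [map_mul]
    exact mul_le_one' (ha Q hQ) (hb Q hQ)
  one_mem' Q _ := by rw [map_one]
  add_mem' {a b} ha hb Q hQ := Q.1.map_add_le (ha Q hQ) (hb Q hQ)
  zero_mem' Q _ := by rw [map_zero]; exact zero_le
  algebraMap_mem' x Q hQ := by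
    obtain ⟨e, he⟩ := hQ
    rw [IsScalarTower.algebraMap_apply P.O K K', le_one_iff he]
    exact x.2

/-- an element of `K'` integral at every place above `P` is integral over `O_P` -/
theorem isIntegral_of_val_le_one [FiniteDimensional K K'] (hK : IsFunctionField k K)
    (P : Place k K) [Algebra P.O K'] [IsScalarTower P.O K K'] {w : K'}
    (hw : ∀ Q : Place k K', IsOver Q P → Q.1 w ≤ 1) : IsIntegral P.O w := by
  obtain ⟨y, hy1, hli, hspan⟩ := exists_integral_basis (K' := K') hK P
  have hfg : (Subalgebra.toSubmodule (intersectionSubalgebra (K' := K') P)).FG := by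
    have heq : Subalgebra.toSubmodule (intersectionSubalgebra (K' := K') P) =
        Submodule.span P.O (Set.range y) := by
      apply le_antisymm
      · intro w hw
        obtain ⟨g, hg, hwg⟩ := hspan w hw
        rw [hwg]
        apply Submodule.sum_mem
        intro p _
        have : algebraMap K K' (g p) * y p = (⟨g p, hg p⟩ : P.O) • y p := by
          rw [Algebra.smul_def, IsScalarTower.algebraMap_apply P.O K K']
          rfl
        rw [this]
        exact Submodule.smul_mem _ _ (Submodule.subset_span ⟨p, rfl⟩)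
      · rw [Submodule.span_le]
        rintro _ ⟨p, rfl⟩
        exact fun Q hQ => hy1 Q hQ p
    rw [heq]
    exact Submodule.fg_span (Set.finite_range y)
  exact IsIntegral.of_mem_of_fg (intersectionSubalgebra (K' := K') P) hfg w hw

/-- the integral closure of `O_P` in `K'` is the intersection of the valuation rings of the
places above `P` -/
theorem mem_integralClosure_iff [FiniteDimensional K K'] (hK : IsFunctionField k K)
    (P : Place k K) [Algebra P.O K'] [IsScalarTower P.O K K'] (w : K') :
    w ∈ integralClosure P.O K' ↔ ∀ Q : Place k K', IsOver Q P → Q.1 w ≤ 1 := by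
  constructor
  · intro hw Q hQ
    obtain ⟨e, he⟩ := hQ
    exact val_le_one_of_isIntegral he hw
  · intro hw
    exact isIntegral_of_val_le_one hK P hw

end Groth.Agent.FF.Ext
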