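import Groth.Agent.FunFld.RR

/-!
# Rational function fields
-/

set_option autoImplicit false

open FunFld IntermediateField Polynomial WithZero

namespace Groth.Agent.FF

universe u v
variable {k : Type u} {K : Type v} [Field k] [Field K] [Algebra k K]

/-- `x` has a simple pole at the degree-one place `P` and no other pole -/
def SimplePoleAt (x : K) (P : Place k K) : Prop :=
  P.deg = 1 ∧ P.ord x = -1 ∧ ∀ Q : Place k K, Q ≠ P → 0 ≤ Q.ord x

lemma poleDiv_of_simplePoleAt (hK : IsFunctionField k K) {x : K} {P : Place k K}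
    (h : SimplePoleAt x P) : poleDiv k x = Finsupp.single P 1 := by
  classical
  ext Q
  rw [poleDiv_apply hK, Finsupp.single_apply]
  split_ifs with hQ
  · subst hQ; rw [h.2.1]; simp
  · have := h.2.2 Q (Ne.symm hQ)
    rw [max_eq_right]; linarith

lemma transcendental_of_ord_neg (hK : IsFunctionField k K) {x : K} {P : Place k K}
    (h : P.ord x < 0) : Transcendental k x := by
  apply transcendental_of_not_mem_range hK
  rintro ⟨c, rfl⟩
  rw [ord_algebraMap] at h
  exact lt_irrefl _ h

theorem adjoin_eq_top_of_simplePoleAt (hK : IsFunctionField k K) {x : K} {P : Place k K}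
    (h : SimplePoleAt x P) : adjoin k ({x} : Set K) = ⊤ := by
  have htr : Transcendental k x := transcendental_of_ord_neg hK (P := P) (by rw [h.2.1]; norm_num)
  have hdeg := deg_poleDiv_eq hK htr
  rw [poleDiv_of_simplePoleAt hK h, deg_single, h.1] at hdeg
  rw [← finrank_eq_one_iff_eq_top]
  have : (1 : ℤ) = Module.finrank (adjoin k ({x} : Set K)) K := by simpa using hdeg
  exact_mod_cast this.symm

lemma transcendental_of_adjoin_eq_top (hK : IsFunctionField k K) {x : K}
    (h : adjoin k ({x} : Set K) = ⊤) : Transcendental k x := by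
  intro halg
  obtain ⟨c, rfl⟩ := hK.2 x halg
  obtain ⟨⟨x₀, hx₀, -⟩, -⟩ := hK
  have hbot : adjoin k ({algebraMap k K c} : Set K) = ⊥ := by
    rw [adjoin_simple_eq_bot_iff]
    exact ⟨c, rfl⟩
  rw [hbot] at h
  have hx₀mem : x₀ ∈ (⊥ : IntermediateField k K) := by rw [h]; trivial
  rw [mem_bot] at hx₀mem
  obtain ⟨d, rfl⟩ := hx₀mem
  exact hx₀ (isAlgebraic_algebraMap d)

theorem exists_simplePoleAt_of_adjoin_eq_top (hK : IsFunctionField k K) {x : K}
    (h : adjoin k ({x} : Set K) = ⊤) : ∃ P : Place k K, SimplePoleAt x P := by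
  have htr := transcendental_of_adjoin_eq_top hK h
  have hdeg := deg_poleDiv_eq hK htr
  rw [finrank_eq_one_iff_eq_top.mpr h] at hdeg
  obtain ⟨P, hP⟩ := exists_pole_of_transcendental hK htr
  have hPpole : 1 ≤ poleDiv k x P := by
    rw [poleDiv_apply hK]
    exact le_max_of_le_left (by omega)
  have hle : Finsupp.single P 1 ≤ poleDiv k x := by
    classical
    intro Q
    rw [Finsupp.single_apply]
    split_ifs with hQ
    · subst hQ; exact hPpole
    · exact poleDiv_nonneg x Q
  have hdegP : (1 : ℤ) ≤ P.deg := by exact_mod_cast deg_pos hK P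
  have hd1 : Divisor.deg (Finsupp.single P 1 : Divisor k K) = P.deg := by rw [deg_single]; ring
  have hmono := deg_mono hle
  rw [hd1, hdeg] at hmono
  have hPdeg : P.deg = 1 := by
    have : (P.deg : ℤ) = 1 := by push_cast at hmono; linarith
    exact_mod_cast this
  have heq : poleDiv k x = Finsupp.single P 1 := by
    by_contra hne
    have hlt : (Finsupp.single P 1 : Divisor k K) < poleDiv k x :=
      lt_of_le_of_ne hle (Ne.symm hne)
    have := deg_lt_of_lt hK hlt
    rw [hd1, hdeg, hPdeg] at this
    exact lt_irrefl (1 : ℤ) (by exact_mod_cast this)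
  refine ⟨P, hPdeg, ?_, ?_⟩
  · have := DFunLike.congr_fun heq P
    rw [Finsupp.single_eq_same, poleDiv_apply hK] at this
    have h2 : -P.ord x = 1 := by
      rcases max_choice (-P.ord x) 0 with h3 | h3
      · rw [h3] at this; exact this
      · rw [h3] at this; exact absurd this (by norm_num)
    linarith
  · intro Q hQ
    classical
    have := DFunLike.congr_fun heq Q
    rw [Finsupp.single_apply, if_neg (Ne.symm hQ), poleDiv_apply hK] at this
    have : -Q.ord x ≤ 0 := by rw [← this]; exact le_max_left _ _
    linarith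

/-- if `x` has a simple pole at a place of degree one then `ℓ(lP) ≥ l + 1` -/
lemma ell_smul_single_ge (hK : IsFunctionField k K) {x : K} {P : Place k K}
    (h : SimplePoleAt x P) (l : ℕ) : l + 1 ≤ ell (l • (Finsupp.single P 1 : Divisor k K)) := by
  have htr : Transcendental k x := transcendental_of_ord_neg hK (P := P) (by rw [h.2.1]; norm_num)
  have hB := poleDiv_of_simplePoleAt hK h
  have hB0 : (0 : Divisor k K) ≤ Finsupp.single P 1 := hB ▸ poleDiv_nonneg x
  have hLI := linearIndependent_pow_of_transcendental htr l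
  have hmem : ∀ j : Fin (l + 1), x ^ (j : ℕ) ∈ L (l • (Finsupp.single P 1 : Divisor k K)) := by
    intro j
    have h2 : x ^ (j : ℕ) ∈ L ((j : ℕ) • poleDiv k x) := pow_mem_L (mem_L_poleDiv hK x) _
    rw [hB] at h2
    refine L_mono ?_ h2
    exact nsmul_le_nsmul_left hB0 (Nat.lt_succ_iff.mp j.2)
  let f : Fin (l + 1) → L (l • (Finsupp.single P 1 : Divisor k K)) := fun j => ⟨_, hmem j⟩
  have hLI' : LinearIndependent k f := by
    apply LinearIndependent.of_comp (L _).subtype
    exact hLI
  have := finite_L hK (l • (Finsupp.single P 1 : Divisor k K))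
  have hcard := hLI'.fintype_card_le_finrank
  rw [Fintype.card_fin] at hcard
  exact hcard

theorem genus_eq_zero_of_simplePoleAt (hK : IsFunctionField k K) {x : K} {P : Place k K}
    (h : SimplePoleAt x P) : genus k K = 0 := by
  obtain ⟨N, hN⟩ := exists_deg_bound_delta_eq_genus hK
  set l : ℕ := N.toNat with hl
  have hdeg : Divisor.deg (l • (Finsupp.single P 1 : Divisor k K)) = l := by
    rw [← degHom_apply, map_nsmul, degHom_apply, deg_single, h.1]; simp
  have hNl : N ≤ Divisor.deg (l • (Finsupp.single P 1 : Divisor k K)) := by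
    rw [hdeg]; exact Int.self_le_toNat N
  have h1 := hN _ hNl
  unfold delta at h1
  rw [hdeg] at h1
  have h2 := ell_smul_single_ge hK h l
  have h3 : ((l : ℤ) + 1) ≤ ell (l • (Finsupp.single P 1 : Divisor k K)) := by exact_mod_cast h2
  have : (genus k K : ℤ) ≤ 0 := by linarith
  have : genus k K ≤ 0 := by exact_mod_cast this
  omega

/-- genus zero with a place of degree one gives an element with a simple pole there -/
theorem exists_simplePoleAt_of_genus_zero (hK : IsFunctionField k K) (hg : genus k K = 0)
    {P : Place k K} (hP : P.deg = 1) : ∃ x : K, SimplePoleAt x P := by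
  have hdeg : Divisor.deg (Finsupp.single P 1 : Divisor k K) = 1 := by rw [deg_single, hP]; simp
  have hell : (ell (Finsupp.single P 1 : Divisor k K) : ℤ) = 2 := by
    rw [ell_eq_of_deg_ge hK _ (by rw [hg, hdeg]; norm_num), hdeg, hg]; norm_num
  have hell' : ell (Finsupp.single P 1 : Divisor k K) = 2 := by exact_mod_cast hell
  -- an element of L(P) outside k
  have hex : ∃ x ∈ L (Finsupp.single P 1 : Divisor k K), x ∉ Set.range (algebraMap k K) := by
    by_contra hn
    push Not at hn
    have hle : L (Finsupp.single P 1 : Divisor k K) ≤ L (0 : Divisor k K) := by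
      intro x hx
      rw [L_zero_eq hK, Submodule.mem_one]
      exact hn x hx
    have := finite_L hK (0 : Divisor k K)
    have h1 := Submodule.finrank_mono hle
    change ell _ ≤ ell _ at h1
    rw [hell', ell_zero hK] at h1
    omega
  obtain ⟨x, hxL, hxk⟩ := hex
  have htr := transcendental_of_not_mem_range hK hxk
  have hx0 : x ≠ 0 := by rintro rfl; exact htr isAlgebraic_zero
  have hord : ∀ Q : Place k K, -(Finsupp.single P (1 : ℤ) Q) ≤ Q.ord x := by
    intro Q
    have := hxL Q
    rwa [val_le_exp_iff Q hx0] at this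
  refine ⟨x, hP, ?_, ?_⟩
  · obtain ⟨Q, hQ⟩ := exists_pole_of_transcendental hK htr
    have hQP : Q = P := by
      classical
      by_contra hne
      have := hord Q
      rw [Finsupp.single_apply, if_neg (Ne.symm hne)] at this
      omega
    subst hQP
    have := hord Q
    rw [Finsupp.single_eq_same] at this
    omega
  · intro Q hQ
    classical
    have := hord Q
    rw [Finsupp.single_apply, if_neg (Ne.symm hQ)] at this
    omega

end Groth.Agent.FF
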