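import Groth.Agent.FunFld.Elliptic
import Groth.Agent.FunFld.Rational

/-!
# Weierstrass form of a genus one function field
-/

set_option autoImplicit false

open FunFld IntermediateField Polynomial WithZero

namespace Groth.Agent.FF

universe u v
variable {k : Type u} {K : Type v} [Field k] [Field K] [Algebra k K]

/-- `x` has a pole of order `n` at `P` and no other poles -/
def OnlyPoleAt (x : K) (P : Place k K) (n : ℕ) : Prop :=
  P.ord x = -(n : ℤ) ∧ ∀ Q : Place k K, Q ≠ P → 0 ≤ Q.ord x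

lemma poleDiv_of_onlyPoleAt (hK : IsFunctionField k K) {x : K} {P : Place k K} {n : ℕ}
    (h : OnlyPoleAt x P n) : poleDiv k x = Finsupp.single P (n : ℤ) := by
  classical
  ext Q
  rw [poleDiv_apply hK, Finsupp.single_apply]
  split_ifs with hQ
  · subst hQ; rw [h.1]; simp
  · have := h.2 Q (Ne.symm hQ)
    rw [max_eq_right]; linarith

lemma finrank_adjoin_of_onlyPoleAt (hK : IsFunctionField k K) {x : K} {P : Place k K} {n : ℕ}
    (hn : 0 < n) (h : OnlyPoleAt x P n) :
    Module.finrank (adjoin k ({x} : Set K)) K = n * P.deg := by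
  have htr : Transcendental k x := transcendental_of_ord_neg hK (P := P) (by rw [h.1]; simpa using hn)
  have hdeg := deg_poleDiv_eq hK htr
  rw [poleDiv_of_onlyPoleAt hK h, deg_single] at hdeg
  exact_mod_cast hdeg.symm

lemma finrank_dvd_of_le {E F : IntermediateField k K} (h : E ≤ F) :
    Module.finrank F K ∣ Module.finrank E K := by
  have := Module.finrank_mul_finrank E (extendScalars h) K
  have h2 : Module.finrank (extendScalars h) K = Module.finrank F K := rfl
  rw [h2] at this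
  exact ⟨_, by rw [← this, mul_comm]⟩

lemma OnlyPoleAt.mem_L {x : K} {P : Place k K} {n : ℕ} (h : OnlyPoleAt x P n) :
    x ∈ L (Finsupp.single P (n : ℤ) : Divisor k K) := by
  classical
  by_cases hx : x = 0
  · subst hx; exact Submodule.zero_mem _
  intro Q
  rw [val_le_exp_iff Q hx, Finsupp.single_apply]
  split_ifs with hQ
  · subst hQ; rw [h.1]
  · have := h.2 Q (Ne.symm hQ); linarith

lemma OnlyPoleAt.not_mem_L {x : K} {P : Place k K} {n : ℕ} (h : OnlyPoleAt x P n) (hn : 0 < n)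
    {m : ℤ} (hm : m < n) : x ∉ L (Finsupp.single P m : Divisor k K) := by
  classical
  have hx : x ≠ 0 := by
    rintro rfl
    have := h.1
    rw [ord_zero] at this
    have : (n : ℤ) = 0 := by linarith
    omega
  intro hmem
  have := hmem P
  rw [val_le_exp_iff P hx, Finsupp.single_apply, if_pos rfl, h.1] at this
  linarith

lemma onlyPoleAt_of_mem_of_not_mem {x : K} {P : Place k K} {n : ℕ}
    (h1 : x ∈ L (Finsupp.single P (n : ℤ) : Divisor k K))
    (h2 : x ∉ L (Finsupp.single P ((n : ℤ) - 1) : Divisor k K)) : OnlyPoleAt x P n := by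
  classical
  have hx : x ≠ 0 := by
    rintro rfl; exact h2 (Submodule.zero_mem _)
  have hQ : ∀ Q : Place k K, Q ≠ P → 0 ≤ Q.ord x := by
    intro Q hQ
    have := h1 Q
    rw [val_le_exp_iff Q hx, Finsupp.single_apply, if_neg (Ne.symm hQ)] at this
    linarith
  refine ⟨?_, hQ⟩
  have hP1 := h1 P
  rw [val_le_exp_iff P hx, Finsupp.single_apply, if_pos rfl] at hP1
  by_contra hne
  apply h2
  intro Q
  rw [val_le_exp_iff Q hx, Finsupp.single_apply]
  split_ifs with hQP
  · subst hQP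
    omega
  · have := hQ Q (Ne.symm hQP); linarith

lemma OnlyPoleAt.ne_zero {x : K} {P : Place k K} {n : ℕ} (h : OnlyPoleAt x P n) (hn : 0 < n) :
    x ≠ 0 := by
  rintro rfl
  have := h.1
  rw [ord_zero] at this
  have : (n : ℤ) = 0 := by linarith
  omega

lemma OnlyPoleAt.mul {x y : K} {P : Place k K} {n m : ℕ} (hx : OnlyPoleAt x P n)
    (hy : OnlyPoleAt y P m) (hx0 : x ≠ 0) (hy0 : y ≠ 0) : OnlyPoleAt (x * y) P (n + m) := by
  refine ⟨?_, fun Q hQ => ?_⟩
  · rw [ord_mul P hx0 hy0, hx.1, hy.1]; push_cast; ring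
  · rw [ord_mul Q hx0 hy0]
    have := hx.2 Q hQ
    have := hy.2 Q hQ
    linarith

/-- if `ℓ(D₂) = ℓ(D₁) + 1` then `L(D₂)` is spanned by `L(D₁)` and any `e ∈ L(D₂) ∖ L(D₁)` -/
lemma exists_sub_smul_mem_L (hK : IsFunctionField k K) {D₁ D₂ : Divisor k K} (hle : D₁ ≤ D₂)
    (hell : ell D₂ = ell D₁ + 1) {e : K} (he : e ∈ L D₂) (he' : e ∉ L D₁) {w : K} (hw : w ∈ L D₂) :
    ∃ c : k, w - c • e ∈ L D₁ := by
  have hfin := finite_L hK D₂
  set V : Submodule k K := L D₁ ⊔ Submodule.span k {e} with hV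
  have hVle : V ≤ L D₂ := by
    rw [hV]
    apply sup_le (L_mono hle)
    rw [Submodule.span_le, Set.singleton_subset_iff]; exact he
  have hfinV : FiniteDimensional k V := Submodule.finiteDimensional_of_le hVle
  have hlt : L D₁ < V := by
    refine lt_of_le_of_ne le_sup_left ?_
    intro h
    apply he'
    rw [h]
    exact (le_sup_right : Submodule.span k {e} ≤ V) (Submodule.mem_span_singleton_self e)
  have h1 : Module.finrank k (L D₁) < Module.finrank k V := Submodule.finrank_lt_finrank_of_lt hlt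
  have h2 : Module.finrank k (L D₂) ≤ Module.finrank k V := by
    have : Module.finrank k (L D₂) = Module.finrank k (L D₁) + 1 := hell
    omega
  have hVeq : V = L D₂ := Submodule.eq_of_le_of_finrank_le hVle h2
  rw [← hVeq, hV, Submodule.mem_sup] at hw
  obtain ⟨a, ha, b, hb, rfl⟩ := hw
  rw [Submodule.mem_span_singleton] at hb
  obtain ⟨c, rfl⟩ := hb
  exact ⟨c, by simpa using ha⟩

lemma ell_single_of_genus_one (hK : IsFunctionField k K) (hg : genus k K = 1)
    {P₀ : Place k K} (hP : P₀.deg = 1) {n : ℕ} (hn : 1 ≤ n) :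
    ell (Finsupp.single P₀ (n : ℤ) : Divisor k K) = n := by
  have hd : Divisor.deg (Finsupp.single P₀ (n : ℤ) : Divisor k K) = n := by
    rw [deg_single, hP]; simp
  have := ell_eq_deg_of_genus_one hK hg (Finsupp.single P₀ (n : ℤ)) (by rw [hd]; exact_mod_cast hn)
  rw [hd] at this
  exact_mod_cast this

lemma single_le_single' {P : Place k K} {a b : ℤ} (h : a ≤ b) :
    (Finsupp.single P a : Divisor k K) ≤ Finsupp.single P b := by
  classical
  intro Q
  rw [Finsupp.single_apply, Finsupp.single_apply]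
  split_ifs
  · exact h
  · exact le_refl _

/-- reduction step in genus one -/
lemma exists_sub_smul_mem_L_genus_one (hK : IsFunctionField k K) (hg : genus k K = 1)
    {P₀ : Place k K} (hP : P₀.deg = 1) {n : ℕ} (hn : 2 ≤ n) {e : K} (he : OnlyPoleAt e P₀ n)
    {w : K} (hw : w ∈ L (Finsupp.single P₀ (n : ℤ) : Divisor k K)) :
    ∃ c : k, w - c • e ∈ L (Finsupp.single P₀ ((n - 1 : ℕ) : ℤ) : Divisor k K) := by
  have hcast : ((n - 1 : ℕ) : ℤ) = (n : ℤ) - 1 := by omega
  have hle : (Finsupp.single P₀ ((n - 1 : ℕ) : ℤ) : Divisor k K) ≤ Finsupp.single P₀ (n : ℤ) :=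
    single_le_single' (by omega)
  refine exists_sub_smul_mem_L hK hle ?_ he.mem_L (he.not_mem_L (by omega) (by omega)) hw
  rw [ell_single_of_genus_one hK hg hP (by omega), ell_single_of_genus_one hK hg hP (by omega)]
  omega

lemma exists_onlyPoleAt_genus_one (hK : IsFunctionField k K) (hg : genus k K = 1)
    {P₀ : Place k K} (hP : P₀.deg = 1) {n : ℕ} (hn : 2 ≤ n) : ∃ x : K, OnlyPoleAt x P₀ n := by
  have hcast : ((n - 1 : ℕ) : ℤ) = (n : ℤ) - 1 := by omega
  have hle : (Finsupp.single P₀ ((n - 1 : ℕ) : ℤ) : Divisor k K) ≤ Finsupp.single P₀ (n : ℤ) :=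
    single_le_single' (by omega)
  have hlt : L (Finsupp.single P₀ ((n - 1 : ℕ) : ℤ) : Divisor k K) < L (Finsupp.single P₀ (n : ℤ)) := by
    refine lt_of_le_of_ne (L_mono hle) ?_
    intro h
    have h1 := ell_single_of_genus_one hK hg hP (n := n - 1) (by omega)
    have h2 := ell_single_of_genus_one hK hg hP (n := n) (by omega)
    unfold ell at h1 h2
    rw [h] at h1
    omega
  obtain ⟨x, hx1, hx2⟩ := SetLike.exists_of_lt hlt
  rw [hcast] at hx2
  exact ⟨x, onlyPoleAt_of_mem_of_not_mem hx1 hx2⟩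

lemma L_single_one_genus_one (hK : IsFunctionField k K) (hg : genus k K = 1)
    {P₀ : Place k K} (hP : P₀.deg = 1) {w : K}
    (hw : w ∈ L (Finsupp.single P₀ ((1 : ℕ) : ℤ) : Divisor k K)) : ∃ c : k, w = algebraMap k K c := by
  have hell := ell_single_of_genus_one hK hg hP (n := 1) le_rfl
  have hone : (1 : K) ∈ L (Finsupp.single P₀ ((1 : ℕ) : ℤ) : Divisor k K) := by
    have : (0 : Divisor k K) ≤ Finsupp.single P₀ ((1 : ℕ) : ℤ) := by
      have := single_le_single' (P := P₀) (a := 0) (b := ((1 : ℕ) : ℤ)) (by simp)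
      simpa using this
    exact L_mono this one_mem_L_zero
  obtain ⟨c, hc⟩ := mem_L_of_ell_eq_one hK hell one_ne_zero hone hw
  exact ⟨c, by rw [hc, Algebra.smul_def, mul_one]⟩

end Groth.Agent.FF

namespace Groth.Agent.FF

universe u v
variable {k : Type u} {K : Type v} [Field k] [Field K] [Algebra k K]

theorem weierstrass (hK : IsFunctionField k K) (hg : genus k K = 1) (P₀ : Place k K)
    (hP : P₀.deg = 1) :
    ∃ x y : K, x ∈ L (Finsupp.single P₀ 2) ∧ y ∈ L (Finsupp.single P₀ 3) ∧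
      P₀.ord x = -2 ∧ P₀.ord y = -3 ∧
      adjoin k ({x, y} : Set K) = ⊤ ∧
      ∃ f g : Polynomial k, f.natDegree ≤ 1 ∧ g.natDegree = 3 ∧
        y ^ 2 + aeval x f * y + aeval x g = 0 := by
  obtain ⟨x, hx⟩ := exists_onlyPoleAt_genus_one hK hg hP (n := 2) le_rfl
  obtain ⟨y, hy⟩ := exists_onlyPoleAt_genus_one hK hg hP (n := 3) (by norm_num)
  have hx0 := hx.ne_zero (by norm_num)
  have hy0 := hy.ne_zero (by norm_num)
  have hxx : OnlyPoleAt (x * x) P₀ 4 := hx.mul hx hx0 hx0
  have hxy : OnlyPoleAt (x * y) P₀ 5 := hx.mul hy hx0 hy0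
  have hxxx : OnlyPoleAt (x * x * x) P₀ 6 := hxx.mul hx (mul_ne_zero hx0 hx0) hx0
  have hyy : OnlyPoleAt (y * y) P₀ 6 := hy.mul hy hy0 hy0
  obtain ⟨c6, h6⟩ := exists_sub_smul_mem_L_genus_one hK hg hP (n := 6) (by norm_num) hxxx hyy.mem_L
  obtain ⟨c5, h5⟩ := exists_sub_smul_mem_L_genus_one hK hg hP (n := 5) (by norm_num) hxy h6
  obtain ⟨c4, h4⟩ := exists_sub_smul_mem_L_genus_one hK hg hP (n := 4) (by norm_num) hxx h5
  obtain ⟨c3, h3⟩ := exists_sub_smul_mem_L_genus_one hK hg hP (n := 3) (by norm_num) hy h4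
  obtain ⟨c2, h2⟩ := exists_sub_smul_mem_L_genus_one hK hg hP (n := 2) (by norm_num) hx h3
  obtain ⟨c1, h1⟩ := L_single_one_genus_one hK hg hP h2
  have hc6 : c6 ≠ 0 := by
    rintro rfl
    rw [zero_smul, sub_zero] at h6
    exact hyy.not_mem_L (by norm_num) (by norm_num) h6
  refine ⟨x, y, ?_, ?_, ?_, ?_, ?_, ?_⟩
  · simpa using hx.mem_L
  · simpa using hy.mem_L
  · simpa using hx.1
  · simpa using hy.1
  · have h2 : Module.finrank (adjoin k ({x} : Set K)) K = 2 := by
      rw [finrank_adjoin_of_onlyPoleAt hK (by norm_num) hx, hP]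
    have h3 : Module.finrank (adjoin k ({y} : Set K)) K = 3 := by
      rw [finrank_adjoin_of_onlyPoleAt hK (by norm_num) hy, hP]
    have hxle : adjoin k ({x} : Set K) ≤ adjoin k ({x, y} : Set K) :=
      adjoin.mono k _ _ (by simp)
    have hyle : adjoin k ({y} : Set K) ≤ adjoin k ({x, y} : Set K) :=
      adjoin.mono k _ _ (by simp)
    have d2 := finrank_dvd_of_le hxle
    have d3 := finrank_dvd_of_le hyle
    rw [h2] at d2
    rw [h3] at d3
    rw [← finrank_eq_one_iff_eq_top]
    have : Module.finrank (adjoin k ({x, y} : Set K)) K ∣ 1 := by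
      have := Nat.dvd_sub d3 d2
      simpa using this
    exact Nat.dvd_one.mp this
  · refine ⟨-(C c5 * X + C c3), -(C c6 * X ^ 3 + C c4 * X ^ 2 + C c2 * X + C c1), ?_, ?_, ?_⟩
    · rw [natDegree_neg]; exact natDegree_linear_le
    · rw [natDegree_neg]; exact natDegree_cubic hc6
    · simp only [map_neg, map_add, map_mul, aeval_C, aeval_X, map_pow]
      simp only [Algebra.smul_def] at h1
      linear_combination h1

end Groth.Agent.FF
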