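import Groth.Agent.FunFld.ConstField2
import Groth.Agent.FunFld.Weierstrass

/-!
# The fundamental equality `∑ e f = n`
-/

set_option autoImplicit false
set_option linter.unusedSectionVars false

open FunFld WithZero IntermediateField

namespace Groth.Agent.FF.Ext

open Groth.Agent.FF

section E
universe u v
variable {k : Type u} {K : Type v} [Field k] [Field K] [Algebra k K]

/-- there is a function with a pole at `P` only -/
theorem exists_onlyPoleAt (hK : IsFunctionField k K) (P : Place k K) :
    ∃ (z : K) (n : ℕ), 0 < n ∧ OnlyPoleAt z P n := by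
  classical
  set g : ℤ := (genus k K : ℤ) with hg
  have hg0 : 0 ≤ g := by positivity
  set D : Divisor k K := Finsupp.single P (g + 1) with hD
  have hdelta := delta_le_genus hK D
  have hdeg : D.deg = (g + 1) * P.deg := deg_single P _
  have hP : (1 : ℤ) ≤ P.deg := by exact_mod_cast deg_pos hK P
  have hell : (2 : ℤ) ≤ ell D := by
    unfold delta at hdelta
    rw [hdeg] at hdelta
    nlinarith
  have hfin := finite_L hK D
  have hex : ∃ z ∈ L D, z ∉ L (0 : Divisor k K) := by
    by_contra hcon
    push Not at hcon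
    have hle : L D ≤ L (0 : Divisor k K) := hcon
    have hfin0 := finite_L hK (0 : Divisor k K)
    have h1 := Submodule.finrank_mono hle
    have h2 : ell (0 : Divisor k K) = 1 := ell_zero hK
    unfold ell at h2 hell
    omega
  obtain ⟨z, hz, hz0⟩ := hex
  have hzne : z ≠ 0 := by
    rintro rfl
    exact hz0 (Submodule.zero_mem _)
  have hQ : ∀ Q : Place k K, Q ≠ P → 0 ≤ Q.ord z := by
    intro Q hQ
    have := hz Q
    rw [val_le_exp_iff Q hzne, hD, Finsupp.single_apply, if_neg (Ne.symm hQ)] at this
    linarith
  have hPneg : P.ord z < 0 := by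
    by_contra hcon
    push Not at hcon
    apply hz0
    intro Q
    rw [val_le_exp_iff Q hzne, Finsupp.zero_apply]
    by_cases hQP : Q = P
    · subst hQP; linarith
    · have := hQ Q hQP; linarith
  refine ⟨z, (-P.ord z).toNat, by omega, ?_, hQ⟩
  rw [Int.toNat_of_nonneg (by omega)]
  ring

end E

section Main

variable {k K K' : Type*} [Field k] [Field K] [Field K'] [Algebra k K] [Algebra K K']
  [Algebra k K'] [IsScalarTower k K K']

/-- degree over `k(z)` in `K'`, computed through `K` -/
lemma finrank_adjoin_map [FiniteDimensional K K'] (z : K) :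
    Module.finrank (adjoin k ({algebraMap K K' z} : Set K')) K' =
      Module.finrank (adjoin k ({z} : Set K)) K * Module.finrank K K' := by
  set F := adjoin k ({z} : Set K) with hF
  set f : K →ₐ[k] K' := IsScalarTower.toAlgHom k K K' with hf
  have hmap : F.map f = adjoin k ({algebraMap K K' z} : Set K') := by
    rw [hF, adjoin_map, Set.image_singleton]
    rfl
  have h1 : Module.finrank F K' = Module.finrank (F.map f) K' := by
    refine Algebra.finrank_eq_of_equiv_equiv (equivMap F f).toRingEquiv (RingEquiv.refl K') ?_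
    ext x
    rfl
  rw [← hmap, ← h1]
  exact (Module.finrank_mul_finrank F K K').symm

theorem finrank_mul_deg_le_sum [FiniteDimensional K K'] (hK : IsFunctionField k K) (P : Place k K)
    (Qs : Finset (Place k K')) (hQs : ∀ Q, Q ∈ Qs ↔ IsOver Q P) :
    Module.finrank K K' * P.deg ≤ ∑ Q ∈ Qs, ramIdx Q P * Q.deg := by
  classical
  obtain ⟨z, n, hn, hz⟩ := exists_onlyPoleAt hK P
  have hzne : z ≠ 0 := hz.ne_zero hn
  have htr : Transcendental k z :=
    transcendental_of_ord_neg hK (P := P) (by rw [hz.1]; simpa using hn)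
  have hK' : IsFunctionField (algebraicClosure k K') K' := isFunctionField_algebraicClosure hK
  have hfinkc : FiniteDimensional k (algebraicClosure k K') := finite_algebraicClosure hK
  set z' : K' := algebraMap K K' z with hz'
  have htr' : Transcendental (algebraicClosure k K') z' := by
    intro halg
    have halgk : Algebra.IsAlgebraic k (algebraicClosure k K') := algebraicClosure.isAlgebraic k K'
    have h1 : IsAlgebraic k z' := halg.restrictScalars_of_isIntegral k
    have h2 : IsAlgebraic k z := by
      rw [hz'] at h1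
      exact (isAlgebraic_algebraMap_iff (algebraMap K K').injective).mp h1
    exact htr h2
  -- the pole divisor of `z'` over the constant field of `K'`
  have hpole : poleDiv (algebraicClosure k K') z' =
      ∑ Q ∈ Qs, Finsupp.single (placeUp Q) (((ramIdx Q P * n : ℕ)) : ℤ) := by
    ext Q'
    rw [poleDiv_apply hK', Finsupp.finsetSum_apply]
    simp only [Finsupp.single_apply]
    obtain ⟨P₁, e₁, he₁⟩ := exists_isOverWith_below (K := K) (placeDown Q')
    have hord : Q'.ord z' = e₁ * P₁.ord z := ord_eq he₁ z
    by_cases hP₁ : P₁ = P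
    · subst hP₁
      have hmem : placeDown Q' ∈ Qs := (hQs _).mpr ⟨e₁, he₁⟩
      rw [Finset.sum_eq_single (placeDown Q')]
      · rw [if_pos (placeUp_placeDown Q'), ramIdx_eq he₁, hord, hz.1]
        push_cast
        rw [max_eq_left]
        · ring
        · have : (0 : ℤ) ≤ (e₁ : ℤ) * n := by positivity
          linarith
      · intro Q _ hne
        rw [if_neg]
        intro h
        apply hne
        rw [← h]
        rfl
      · intro h
        exact absurd hmem h
    · have hne : ∀ Q ∈ Qs, placeUp Q ≠ Q' := by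
        intro Q hQ h
        have hQP := (hQs Q).mp hQ
        have hQeq : Q = placeDown Q' := by rw [← h]; rfl
        subst hQeq
        exact hP₁ (unique_below ⟨e₁, he₁⟩ hQP)
      rw [Finset.sum_eq_zero (fun Q hQ => if_neg (hne Q hQ))]
      have h0 := hz.2 P₁ hP₁
      rw [hord, max_eq_right]
      have : (0 : ℤ) ≤ (e₁ : ℤ) * P₁.ord z := by positivity
      linarith
  have hdeg := deg_poleDiv_eq hK' htr'
  rw [hpole, deg_sum] at hdeg
  simp only [deg_single] at hdeg
  -- compare with the degree over `k(z)`
  have hfinF : FiniteDimensional (adjoin (algebraicClosure k K') ({z'} : Set K')) K' :=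
    finite_adjoin_of_transcendental hK' htr'
  have hle := finrank_adjoin_le (k := k) (algebraicClosure k K') z'
  rw [hz', finrank_adjoin_map z, finrank_adjoin_of_onlyPoleAt hK hn hz] at hle
  -- now combine
  have hsum : (Module.finrank k (algebraicClosure k K') : ℤ) *
      (Module.finrank (adjoin (algebraicClosure k K') ({z'} : Set K')) K' : ℤ) =
      n * ∑ Q ∈ Qs, ((ramIdx Q P * Q.deg : ℕ) : ℤ) := by
    rw [← hdeg, Finset.mul_sum, Finset.mul_sum]
    apply Finset.sum_congr rfl
    intro Q _
    rw [deg_eq_mul_deg_placeUp Q]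
    push_cast
    ring
  have hle' : ((n * P.deg * Module.finrank K K' : ℕ) : ℤ) ≤
      n * ∑ Q ∈ Qs, ((ramIdx Q P * Q.deg : ℕ) : ℤ) := by
    rw [← hsum]
    exact_mod_cast hle
  have hle'' : n * (Module.finrank K K' * P.deg) ≤ n * ∑ Q ∈ Qs, ramIdx Q P * Q.deg := by
    have : ((n * (Module.finrank K K' * P.deg) : ℕ) : ℤ) ≤
        ((n * ∑ Q ∈ Qs, ramIdx Q P * Q.deg : ℕ) : ℤ) := by
      push_cast
      push_cast at hle'
      linarith
    exact_mod_cast this
  exact Nat.le_of_mul_le_mul_left hle'' hn

/-- the fundamental equality `∑ e(Q|P) deg Q = [K' : K] deg P` -/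
theorem sum_ramIdx_mul_deg_eq [FiniteDimensional K K'] (hK : IsFunctionField k K) (P : Place k K)
    (Qs : Finset (Place k K')) (hQs : ∀ Q, Q ∈ Qs ↔ IsOver Q P) :
    ∑ Q ∈ Qs, ramIdx Q P * Q.deg = Module.finrank K K' * P.deg := by
  apply le_antisymm _ (finrank_mul_deg_le_sum hK P Qs hQs)
  have h1 := sum_ramIdx_mul_resDeg_le P Qs (fun Q hQ => (hQs Q).mp hQ)
  calc ∑ Q ∈ Qs, ramIdx Q P * Q.deg
      = ∑ Q ∈ Qs, (ramIdx Q P * resDeg Q P) * P.deg := by
        apply Finset.sum_congr rfl
        intro Q hQ
        rw [deg_eq_resDeg_mul_deg hK ((hQs Q).mp hQ)]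
        ring
    _ = (∑ Q ∈ Qs, ramIdx Q P * resDeg Q P) * P.deg := by rw [Finset.sum_mul]
    _ ≤ Module.finrank K K' * P.deg := Nat.mul_le_mul_right _ h1

end Main

end Groth.Agent.FF.Ext
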