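import Groth.Agent.FunFld.ConstSepExt
import Groth.Agent.FunFld.InertiaField
import Groth.Agent.FunFld.IntClosure
import Groth.Agent.FunFld.SumEF
import Mathlib.FieldTheory.PurelyInseparable.Basic

/-!
# Uniqueness of the place above `P` in purely inseparable situations
-/

set_option autoImplicit false
set_option linter.unusedSectionVars false

open FunFld IntermediateField Polynomial WithZero TensorProduct

namespace Groth.Agent.FF.Ext

open Groth.Agent.FF

universe u v

section pow
variable {k K' : Type*} [Field k] [Field K'] [Algebra k K']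

/-- two places agreeing on a set containing a positive power of every element are equal -/
lemma place_eq_of_pow_mem (S : Set K') (Q₁ Q₂ : Place k K')
    (hS : ∀ z : K', ∃ n : ℕ, 0 < n ∧ z ^ n ∈ S)
    (h : ∀ w ∈ S, Q₁.1 w ≤ 1 ↔ Q₂.1 w ≤ 1) : Q₁ = Q₂ := by
  apply place_ext_of_le_one_iff
  intro z
  obtain ⟨n, hn, hz⟩ := hS z
  have h1 := h _ hz
  rw [map_pow, map_pow, pow_le_one_iff hn.ne', pow_le_one_iff hn.ne'] at h1
  exact h1

end pow

section existence
variable {k K K' : Type*} [Field k] [Field K] [Field K'] [Algebra k K] [Algebra K K']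
  [Algebra k K'] [IsScalarTower k K K']

/-- some place lies over a given place -/
theorem exists_isOver [FiniteDimensional K K'] (hK : IsFunctionField k K) (P : Place k K) :
    ∃ Q : Place k K', IsOver Q P := by
  classical
  have hfin : {Q : Place k K' | IsOver Q P}.Finite := finite_isOver P
  have hmem : ∀ Q, Q ∈ hfin.toFinset ↔ IsOver Q P := fun Q => by
    rw [Set.Finite.mem_toFinset]; rfl
  have h1 := sum_ramIdx_mul_deg_eq hK P hfin.toFinset hmem
  have hpos : 0 < Module.finrank K K' * P.deg := Nat.mul_pos Module.finrank_pos (deg_pos hK P)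
  by_contra hcon
  push Not at hcon
  have hempty : hfin.toFinset = ∅ := by
    rw [Finset.eq_empty_iff_forall_notMem]
    intro Q hQ
    exact hcon Q ((hmem Q).mp hQ)
  rw [hempty, Finset.sum_empty] at h1
  omega

end existence

section insepConst

variable {k k' : Type u} {K K' : Type v} [Field k] [Field k'] [Field K] [Field K']
  [Algebra k k'] [Algebra k K] [Algebra K K'] [Algebra k' K'] [Algebra k K']
  [IsScalarTower k k' K'] [IsScalarTower k K K']

/-- under a purely inseparable constant extension every element has a `q`-power in `K` -/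
lemma exists_pow_mem_range_of_isPurelyInseparable [IsPurelyInseparable k k'] (q : ℕ)
    [ExpChar k q]
    (hsurj : Function.Surjective (Algebra.TensorProduct.productMap
      (IsScalarTower.toAlgHom k k' K') (IsScalarTower.toAlgHom k K K'))) (z : K') :
    ∃ n : ℕ, z ^ q ^ n ∈ Set.range (algebraMap K K') := by
  haveI : ExpChar K' q := expChar_of_injective_algebraMap (algebraMap k K').injective q
  obtain ⟨t, rfl⟩ := hsurj z
  induction t using TensorProduct.induction_on with
  | zero =>
    refine ⟨0, 0, ?_⟩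
    simp
  | tmul a c =>
    obtain ⟨n, b, hb⟩ := IsPurelyInseparable.pow_mem k q a
    refine ⟨n, algebraMap k K b * c ^ q ^ n, ?_⟩
    rw [Algebra.TensorProduct.productMap_apply_tmul, mul_pow, map_mul, map_pow]
    congr 1
    show _ = (algebraMap k' K' a) ^ q ^ n
    rw [← map_pow, ← hb, ← IsScalarTower.algebraMap_apply, ← IsScalarTower.algebraMap_apply]
  | add s t hs ht =>
    obtain ⟨n₁, y₁, h₁⟩ := hs
    obtain ⟨n₂, y₂, h₂⟩ := ht
    refine ⟨n₁ + n₂, y₁ ^ q ^ n₂ + y₂ ^ q ^ n₁, ?_⟩
    show algebraMap K K' (y₁ ^ q ^ n₂ + y₂ ^ q ^ n₁) = _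
    rw [map_add _ s t, add_pow_expChar_pow, map_add, map_pow, map_pow, h₁, h₂, ← pow_mul, ← pow_mul,
      ← pow_add, ← pow_add, add_comm n₂ n₁]

/-- a purely inseparable constant extension has at most one place above each place -/
theorem unique_isOver_of_isPurelyInseparable [IsPurelyInseparable k k']
    (hsurj : Function.Surjective (Algebra.TensorProduct.productMap
      (IsScalarTower.toAlgHom k k' K') (IsScalarTower.toAlgHom k K K')))
    {P : Place k K} {Q₁ Q₂ : Place k K'} (h₁ : IsOver Q₁ P) (h₂ : IsOver Q₂ P) : Q₁ = Q₂ := by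
  obtain ⟨q, hq⟩ := ExpChar.exists k
  apply place_eq_of_pow_mem (Set.range (algebraMap K K'))
  · intro z
    obtain ⟨n, hn⟩ := exists_pow_mem_range_of_isPurelyInseparable q hsurj z
    exact ⟨q ^ n, expChar_pow_pos k q n, hn⟩
  · rintro w ⟨c, rfl⟩
    obtain ⟨e₁, he₁⟩ := h₁
    obtain ⟨e₂, he₂⟩ := h₂
    rw [le_one_iff he₁, le_one_iff he₂]

end insepConst

section insepRes

variable {k k₁ : Type u} {K K' : Type v} [Field k] [Field k₁] [Field K] [Field K']
  [Algebra k k₁] [Algebra k K] [Algebra K K'] [Algebra k₁ K'] [Algebra k K']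
  [IsScalarTower k k₁ K'] [IsScalarTower k K K']

/-- if the residue field of `P` is purely inseparable over `k`, `k₁/k` is finite separable and
every element of `K'` has a `q`-power in the compositum `k₁ K`, then at most one place of `K'`
lies above `P` -/
theorem unique_isOver_of_residue [FiniteDimensional k k₁] [Algebra.IsSeparable k k₁]
    [FiniteDimensional K K'] (hK : IsFunctionField k K) (q : ℕ) [hq : ExpChar k q]
    (hpow : ∀ z : K', ∃ n : ℕ,
      z ^ q ^ n ∈ IntermediateField.adjoin K (Set.range (algebraMap k₁ K')))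
    (P : Place k K) (hpi : IsPurelyInseparable k (IsLocalRing.ResidueField P.O))
    {Q₁ Q₂ : Place k K'} (h₁ : IsOver Q₁ P) (h₂ : IsOver Q₂ P) : Q₁ = Q₂ := by
  classical
  by_contra hne
  set Ks : IntermediateField K K' :=
    IntermediateField.adjoin K (Set.range (algebraMap k₁ K')) with hKs
  letI algKs : Algebra k₁ Ks := (RingHom.codRestrict (algebraMap k₁ K') Ks
    (fun a => IntermediateField.subset_adjoin K _ ⟨a, rfl⟩)).toAlgebra
  haveI t1 : IsScalarTower k k₁ Ks := IsScalarTower.of_algebraMap_eq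
    (fun c => Subtype.ext (IsScalarTower.algebraMap_apply k k₁ K' c))
  letI aO' : Algebra P.O K' := ((algebraMap K K').comp P.O.subtype).toAlgebra
  letI aOs : Algebra P.O Ks := ((algebraMap K Ks).comp P.O.subtype).toAlgebra
  haveI t2 : IsScalarTower P.O K K' := IsScalarTower.of_algebraMap_eq (fun _ => rfl)
  haveI t3 : IsScalarTower P.O K Ks := IsScalarTower.of_algebraMap_eq (fun _ => rfl)
  haveI t4 : IsScalarTower P.O Ks K' := IsScalarTower.of_algebraMap_eq (fun _ => rfl)
  haveI : ExpChar K' q := expChar_of_injective_algebraMap (algebraMap k K').injective q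
  haveI : ExpChar Ks q := expChar_of_injective_algebraMap (algebraMap k Ks).injective q
  haveI : ExpChar K q := expChar_of_injective_algebraMap (algebraMap k K).injective q
  have halgk : Algebra.IsAlgebraic k k₁ := Algebra.IsAlgebraic.of_finite k k₁
  -- surjectivity of the product map onto the compositum
  have halg : ∀ x ∈ Set.range (algebraMap k₁ K'), IsAlgebraic K x :=
    fun x _ => (IsIntegral.of_finite K x).isAlgebraic
  have hKsub : Ks.toSubalgebra = Algebra.adjoin K (Set.range (algebraMap k₁ K')) :=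
    IntermediateField.adjoin_toSubalgebra_of_isAlgebraic halg
  have key : ∀ y ∈ Algebra.adjoin K (Set.range (algebraMap k₁ K')), ∃ t : k₁ ⊗[k] K,
      ((Algebra.TensorProduct.productMap (IsScalarTower.toAlgHom k k₁ Ks)
        (IsScalarTower.toAlgHom k K Ks) t : Ks) : K') = y := by
    intro y hy
    induction hy using Algebra.adjoin_induction with
    | mem x hx =>
      obtain ⟨a, rfl⟩ := hx
      refine ⟨a ⊗ₜ 1, ?_⟩
      rw [Algebra.TensorProduct.productMap_apply_tmul, map_one, mul_one]
      rfl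
    | algebraMap c =>
      refine ⟨1 ⊗ₜ c, ?_⟩
      rw [Algebra.TensorProduct.productMap_apply_tmul, map_one, one_mul]
      rfl
    | add x y _ _ hx hy =>
      obtain ⟨s, hs⟩ := hx
      obtain ⟨t, ht⟩ := hy
      refine ⟨s + t, ?_⟩
      rw [map_add, ← hs, ← ht]
      rfl
    | mul x y _ _ hx hy =>
      obtain ⟨s, hs⟩ := hx
      obtain ⟨t, ht⟩ := hy
      refine ⟨s * t, ?_⟩
      rw [map_mul, ← hs, ← ht]
      rfl
  have hsurj_s : Function.Surjective (Algebra.TensorProduct.productMap
      (IsScalarTower.toAlgHom k k₁ Ks) (IsScalarTower.toAlgHom k K Ks)) := by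
    intro y
    have hy : (y : K') ∈ Ks.toSubalgebra := y.2
    rw [hKsub] at hy
    obtain ⟨t, ht⟩ := key _ hy
    exact ⟨t, Subtype.ext ht⟩
  have hic := constSep_integralClosure hsurj_s hK P
  -- the key property of elements of `O_P[k₁]`
  let Φ : Ks → Prop := fun w => ∃ (N : ℕ) (a : k₁) (u : Ks),
    w ^ q ^ N = algebraMap k₁ Ks a + u ∧ ∀ Q : Place k K', IsOver Q P → Q.1 (u : K') < 1
  have hraise : ∀ (w : Ks) (N : ℕ) (a : k₁) (u : Ks), w ^ q ^ N = algebraMap k₁ Ks a + u →
      (∀ Q : Place k K', IsOver Q P → Q.1 (u : K') < 1) → ∀ j : ℕ,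
      ∃ (a' : k₁) (u' : Ks), w ^ q ^ (N + j) = algebraMap k₁ Ks a' + u' ∧
        ∀ Q : Place k K', IsOver Q P → Q.1 (u' : K') < 1 := by
    intro w N a u hw hu j
    refine ⟨a ^ q ^ j, u ^ q ^ j, ?_, ?_⟩
    · rw [pow_add, pow_mul, hw, add_pow_expChar_pow, map_pow]
    · intro Q hQ
      have h := hu Q hQ
      push_cast
      rw [map_pow]
      exact pow_lt_one₀ zero_le h (expChar_pow_pos k q j).ne'
  have hconst : ∀ (Q : Place k K') (a : k₁), Q.1 (algebraMap k₁ K' a) ≤ 1 := by
    intro Q a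
    by_cases ha : a = 0
    · rw [ha, map_zero, map_zero]; exact zero_le
    · exact (val_algebraMap_const Q ha).le
  have hΦ : ∀ w ∈ Algebra.adjoin P.O (Set.range (algebraMap k₁ Ks)), Φ w := by
    intro w hw
    induction hw using Algebra.adjoin_induction with
    | mem x hx =>
      obtain ⟨a, rfl⟩ := hx
      refine ⟨0, a, 0, by simp, fun Q _ => ?_⟩
      simp
    | algebraMap c =>
      obtain ⟨N, b, hb⟩ := IsPurelyInseparable.pow_mem k q (res P c)
      have h0 : res P (c ^ q ^ N - algebraMap k P.O b) = 0 := by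
        rw [map_sub, map_pow, ← hb, sub_eq_zero]
        rfl
      rw [res_eq_zero_iff] at h0
      refine ⟨N, algebraMap k k₁ b,
        algebraMap K Ks (((c ^ q ^ N - algebraMap k P.O b : P.O) : K)), ?_, ?_⟩
      · apply Subtype.ext
        show (algebraMap K K' (c : K)) ^ q ^ N = algebraMap k₁ K' (algebraMap k k₁ b) +
          algebraMap K K' ((c : K) ^ q ^ N - algebraMap k K b)
        rw [map_sub, map_pow, ← IsScalarTower.algebraMap_apply k k₁ K',
          ← IsScalarTower.algebraMap_apply k K K']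
        ring
      · intro Q hQ
        obtain ⟨e, he⟩ := hQ
        show Q.1 (algebraMap K K' _) < 1
        rw [lt_one_iff he]
        exact h0
    | add x y _ _ hx hy =>
      obtain ⟨N₁, a₁, u₁, hw₁, hu₁⟩ := hx
      obtain ⟨N₂, a₂, u₂, hw₂, hu₂⟩ := hy
      obtain ⟨a₁', u₁', hw₁', hu₁'⟩ := hraise x N₁ a₁ u₁ hw₁ hu₁ N₂
      obtain ⟨a₂', u₂', hw₂', hu₂'⟩ := hraise y N₂ a₂ u₂ hw₂ hu₂ N₁
      refine ⟨N₁ + N₂, a₁' + a₂', u₁' + u₂', ?_, ?_⟩
      · rw [add_pow_expChar_pow, hw₁', add_comm N₁ N₂, hw₂', map_add]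
        ring
      · intro Q hQ
        push_cast
        exact lt_of_le_of_lt (Q.1.map_add _ _) (max_lt (hu₁' Q hQ) (hu₂' Q hQ))
    | mul x y _ _ hx hy =>
      obtain ⟨N₁, a₁, u₁, hw₁, hu₁⟩ := hx
      obtain ⟨N₂, a₂, u₂, hw₂, hu₂⟩ := hy
      obtain ⟨a₁', u₁', hw₁', hu₁'⟩ := hraise x N₁ a₁ u₁ hw₁ hu₁ N₂
      obtain ⟨a₂', u₂', hw₂', hu₂'⟩ := hraise y N₂ a₂ u₂ hw₂ hu₂ N₁
      refine ⟨N₁ + N₂, a₁' * a₂',
        algebraMap k₁ Ks a₁' * u₂' + u₁' * algebraMap k₁ Ks a₂' + u₁' * u₂', ?_, ?_⟩
      · rw [mul_pow, hw₁', add_comm N₁ N₂, hw₂', map_mul]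
        ring
      · intro Q hQ
        have e1 := hu₁' Q hQ
        have e2 := hu₂' Q hQ
        have c1 : Q.1 ((algebraMap k₁ Ks a₁' : Ks) : K') ≤ 1 := hconst Q a₁'
        have c2 : Q.1 ((algebraMap k₁ Ks a₂' : Ks) : K') ≤ 1 := hconst Q a₂'
        push_cast
        refine lt_of_le_of_lt (Q.1.map_add _ _) (max_lt
          (lt_of_le_of_lt (Q.1.map_add _ _) (max_lt ?_ ?_)) ?_)
        · rw [map_mul]
          exact mul_lt_one_of_nonneg_of_lt_one_right c1 zero_le e2
        · rw [map_mul]
          exact mul_lt_one_of_nonneg_of_lt_one_left zero_le e1 c2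
        · rw [map_mul]
          exact mul_lt_one_of_nonneg_of_lt_one_left zero_le e1 e2.le
  -- approximation
  have hfin : {Q : Place k K' | IsOver Q P}.Finite := finite_isOver P
  let ι := ↥hfin.toFinset
  have hmemι : ∀ Q, Q ∈ hfin.toFinset ↔ IsOver Q P := fun Q => by
    rw [Set.Finite.mem_toFinset]; rfl
  obtain ⟨z, hz⟩ := weak_approx (fun i : ι => (i : Place k K')) Subtype.val_injective
    (fun i => if (i : Place k K') = Q₂ then 1 else 0) 0
  have hz1 : Q₁.1 z < 1 := by
    have := hz ⟨Q₁, (hmemι Q₁).mpr h₁⟩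
    simp only [if_neg hne, sub_zero, exp_zero] at this
    exact this
  have hz2 : Q₂.1 (z - 1) < 1 := by
    have := hz ⟨Q₂, (hmemι Q₂).mpr h₂⟩
    simp only [if_true, exp_zero] at this
    exact this
  have hzall : ∀ Q : Place k K', IsOver Q P → Q.1 z ≤ 1 := by
    intro Q hQ
    have := hz ⟨Q, (hmemι Q).mpr hQ⟩
    simp only [exp_zero] at this
    by_cases hQ2 : Q = Q₂
    · rw [if_pos hQ2] at this
      have h3 : z = (z - 1) + 1 := by ring
      rw [h3]
      exact (Q.1.map_add _ _).trans (max_le this.le (by rw [map_one]))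
    · rw [if_neg hQ2, sub_zero] at this
      exact this.le
  have hzint : IsIntegral P.O z := isIntegral_of_val_le_one hK P hzall
  obtain ⟨n, hn⟩ := hpow z
  set w : Ks := ⟨z ^ q ^ n, hn⟩ with hw
  have hwint : IsIntegral P.O w := by
    rw [← isIntegral_algebraMap_iff (algebraMap Ks K').injective]
    exact hzint.pow _
  have hwmem : w ∈ integralClosure P.O Ks := hwint
  rw [hic] at hwmem
  obtain ⟨N, a, u, hwN, hu⟩ := hΦ w hwmem
  have hwN' : z ^ q ^ n ^ 1 = z ^ q ^ n := by rw [pow_one]
  have hK' : (z ^ q ^ n) ^ q ^ N = algebraMap k₁ K' a + (u : K') :=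
    congrArg (fun y : Ks => (y : K')) hwN
  have hpos : 0 < q ^ n * q ^ N := Nat.mul_pos (expChar_pow_pos k q n) (expChar_pow_pos k q N)
  rw [← pow_mul] at hK'
  -- at `Q₁`
  have ha0 : a = 0 := by
    by_contra ha
    have h1 : Q₁.1 (algebraMap k₁ K' a) = 1 := val_algebraMap_const Q₁ ha
    have h2 : algebraMap k₁ K' a = z ^ (q ^ n * q ^ N) - (u : K') := by rw [hK']; ring
    have h3 : Q₁.1 (z ^ (q ^ n * q ^ N) - (u : K')) < 1 := by
      refine lt_of_le_of_lt (Q₁.1.map_sub _ _) (max_lt ?_ (hu Q₁ h₁))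
      rw [map_pow]
      exact pow_lt_one₀ zero_le hz1 hpos.ne'
    rw [← h2, h1] at h3
    exact lt_irrefl _ h3
  -- at `Q₂`
  have hz2' : Q₂.1 z = 1 := by
    have h3 : z = 1 + (z - 1) := by ring
    rw [h3]
    have := Valuation.map_add_eq_of_lt_left Q₂.1 (x := (1 : K')) (y := z - 1)
      (by rw [map_one]; exact hz2)
    rw [this, map_one]
  have h4 : Q₂.1 (z ^ (q ^ n * q ^ N)) = 1 := by rw [map_pow, hz2', one_pow]
  rw [hK', ha0, map_zero, zero_add] at h4
  have := hu Q₂ h₂
  rw [h4] at this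
  exact lt_irrefl _ this

end insepRes

section combine

variable {k k₁ k' : Type u} {K K' : Type v} [Field k] [Field k₁] [Field k'] [Field K] [Field K']
  [Algebra k k₁] [Algebra k₁ k'] [Algebra k k'] [IsScalarTower k k₁ k']
  [Algebra k K] [Algebra K K'] [Algebra k' K'] [Algebra k₁ K'] [Algebra k K']
  [IsScalarTower k k' K'] [IsScalarTower k₁ k' K'] [IsScalarTower k K K']

/-- if `k'/k₁` is purely inseparable, every element of `k' K` has a `q`-power in `k₁ K` -/
lemma exists_pow_mem_adjoin [IsPurelyInseparable k₁ k'] (q : ℕ) [ExpChar k q]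
    (hsurj : Function.Surjective (Algebra.TensorProduct.productMap
      (IsScalarTower.toAlgHom k k' K') (IsScalarTower.toAlgHom k K K'))) (z : K') :
    ∃ n : ℕ, z ^ q ^ n ∈ IntermediateField.adjoin K (Set.range (algebraMap k₁ K')) := by
  haveI : ExpChar K' q := expChar_of_injective_algebraMap (algebraMap k K').injective q
  haveI : ExpChar k₁ q := expChar_of_injective_algebraMap (algebraMap k k₁).injective q
  set Ks := IntermediateField.adjoin K (Set.range (algebraMap k₁ K')) with hKs
  obtain ⟨t, rfl⟩ := hsurj z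
  induction t using TensorProduct.induction_on with
  | zero =>
    refine ⟨0, ?_⟩
    rw [map_zero, pow_zero, pow_one]
    exact zero_mem _
  | tmul a c =>
    obtain ⟨n, b, hb⟩ := IsPurelyInseparable.pow_mem k₁ q a
    refine ⟨n, ?_⟩
    rw [Algebra.TensorProduct.productMap_apply_tmul, mul_pow]
    apply mul_mem
    · show (algebraMap k' K' a) ^ q ^ n ∈ Ks
      rw [← map_pow, ← hb, ← IsScalarTower.algebraMap_apply k₁ k' K']
      exact IntermediateField.subset_adjoin K _ ⟨b, rfl⟩
    · apply pow_mem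
      exact Ks.algebraMap_mem c
  | add s t hs ht =>
    obtain ⟨n₁, h₁⟩ := hs
    obtain ⟨n₂, h₂⟩ := ht
    refine ⟨n₁ + n₂, ?_⟩
    rw [map_add _ s t, add_pow_expChar_pow]
    apply add_mem
    · rw [pow_add, pow_mul]
      exact pow_mem h₁ _
    · rw [add_comm n₁ n₂, pow_add, pow_mul]
      exact pow_mem h₂ _

end combine

end Groth.Agent.FF.Ext
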