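import Groth.Agent.FunFld.Quadratic
import Groth.Agent.FunFld.RatFuncPlaces
import Groth.Agent.FunFld.GaloisTrans
import Groth.Agent.FunFld.UniqueExt

/-!
# Artin–Schreier extensions `y² + y = f(x)` of `k(x)` in characteristic two: valuations
-/

set_option autoImplicit false
set_option linter.unusedSectionVars false

open FunFld IntermediateField WithZero Polynomial

namespace Groth.Agent.FF.AS2

open Groth.Agent.FF.Ext

universe u v

variable {k : Type u} {K : Type v} [Field k] [Field K] [Algebra k K]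
  [Algebra (RatFunc k) K] [IsScalarTower k (RatFunc k) K]

local notation "ι" => algebraMap (Polynomial k) (RatFunc k)
local notation "j" => algebraMap (RatFunc k) K

lemma sub_eq (α : k) : j RatFunc.X - algebraMap k K α = j (RatFunc.X - RatFunc.C α) := by
  rw [map_sub, IsScalarTower.algebraMap_apply k (RatFunc k) K α, RatFunc.algebraMap_eq_C]

lemma iota_X_sub_C (α : k) : ι (X - C α) = RatFunc.X - RatFunc.C α := by
  rw [map_sub, RatFunc.algebraMap_X, RatFunc.algebraMap_C]

lemma X_sub_C_ne_zero (α : k) : (RatFunc.X - RatFunc.C α : RatFunc k) ≠ 0 := by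
  rw [← iota_X_sub_C]
  exact ratFunc_algebraMap_ne_zero (Polynomial.X_sub_C_ne_zero α)

lemma j_ne_zero {z : RatFunc k} (hz : z ≠ 0) : j z ≠ 0 :=
  (map_ne_zero_iff _ (algebraMap (RatFunc k) K).injective).mpr hz

/-- the order of `x - α` at its zero is `1` -/
lemma ord_X_sub_C (p : Place k (RatFunc k)) (α : k) (h : p.1 (RatFunc.X - RatFunc.C α) < 1) :
    p.ord (RatFunc.X - RatFunc.C α) = 1 := by
  rw [← iota_X_sub_C] at h ⊢
  exact ratFunc_ord_irreducible p (irreducible_X_sub_C α) h

/-- the order of `x - α` at infinity is `-1` -/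
lemma ord_X_sub_C_of_one_lt (p : Place k (RatFunc k)) (α : k) (h : 1 < p.1 RatFunc.X) :
    p.ord (RatFunc.X - RatFunc.C α) = -1 := by
  rw [← iota_X_sub_C, ratFunc_ord_poly_of_one_lt p h (Polynomial.X_sub_C_ne_zero α),
    natDegree_X_sub_C, ratFunc_ord_X_of_one_lt p h]
  norm_num

lemma val_X_sub_C_of_one_lt (p : Place k (RatFunc k)) (α : k) (h : 1 < p.1 RatFunc.X) :
    1 < p.1 (RatFunc.X - RatFunc.C α) := by
  have h1 := ord_X_sub_C_of_one_lt p α h
  by_contra hle
  rw [not_lt, val_le_one_iff p (X_sub_C_ne_zero α)] at hle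
  omega

/-- at a finite place, `x - α` is integral -/
lemma val_X_sub_C_le_one (p : Place k (RatFunc k)) (α : k) (h : p.1 RatFunc.X ≤ 1) :
    p.1 (RatFunc.X - RatFunc.C α) ≤ 1 := by
  rw [← iota_X_sub_C]
  exact ratFunc_val_poly_le_one p h _

/-- two different `x - α`, `x - β` cannot both vanish at a place -/
lemma val_X_sub_C_eq_one (p : Place k (RatFunc k)) {α β : k} (hαβ : β ≠ α)
    (h : p.1 (RatFunc.X - RatFunc.C β) < 1) : p.1 (RatFunc.X - RatFunc.C α) = 1 := by
  have h1 : (RatFunc.X - RatFunc.C α : RatFunc k) =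
      (RatFunc.X - RatFunc.C β) + algebraMap k (RatFunc k) (β - α) := by
    rw [RatFunc.algebraMap_eq_C, map_sub]
    ring
  rw [h1]
  have h2 : p.1 (algebraMap k (RatFunc k) (β - α)) = 1 := val_algebraMap p (sub_ne_zero.mpr hαβ)
  rw [Valuation.map_add_eq_of_lt_right p.1 (by rw [h2]; exact h), h2]

section

variable {y : K} {f : RatFunc k}

/-- `y` is integral where `f` is -/
lemma val_y_le_one (heq : y ^ 2 + y = j f) (P : Place k K) (hf : P.1 (j f) ≤ 1) : P.1 y ≤ 1 := by
  by_contra hlt
  rw [not_le] at hlt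
  have hsq : P.1 (y ^ 2 + y) = P.1 (y ^ 2) := by
    apply Valuation.map_add_eq_of_lt_left
    rw [map_pow, sq]
    calc P.1 y = P.1 y * 1 := (mul_one _).symm
      _ < P.1 y * P.1 y := by
        apply mul_lt_mul_of_pos_left hlt
        exact lt_trans zero_lt_one hlt
  rw [heq, map_pow] at hsq
  have : 1 < P.1 y ^ 2 := one_lt_pow₀ hlt (by norm_num)
  rw [← hsq] at this
  exact absurd hf (not_le.mpr this)

/-- at a pole of odd order `d` of `f`, the place above is ramified and `y` has a pole of order `d` -/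
lemma ramified_of_odd_pole (hdeg : Module.finrank (RatFunc k) K = 2) (heq : y ^ 2 + y = j f)
    {p : Place k (RatFunc k)} {P : Place k K} {e : ℕ} (he : IsOverWith P p e)
    {d : ℕ} (hd : Odd d) (hp : p.ord f = -(d : ℤ)) : e = 2 ∧ P.ord y = -(d : ℤ) := by
  have hfd : FiniteDimensional (RatFunc k) K :=
    FiniteDimensional.of_finrank_pos (by rw [hdeg]; norm_num)
  have hepos := e_pos he
  have hele : e ≤ 2 := ramIdx_le_two hdeg he
  have hdpos : 0 < d := hd.pos
  have hf0 : f ≠ 0 := by
    rintro rfl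
    rw [ord_zero] at hp
    omega
  have hordf : P.ord (j f) = -((e : ℤ) * d) := by
    rw [ord_eq he, hp]
    ring
  have hem : 0 < (e : ℤ) * d := by positivity
  have hy1 : 1 < P.1 y := by
    by_contra hle
    rw [not_lt] at hle
    have h1 : P.1 (y ^ 2 + y) ≤ 1 := by
      apply P.1.map_add_le _ hle
      rw [map_pow]
      exact pow_le_one' hle 2
    rw [heq, val_le_one_iff P (j_ne_zero hf0), hordf] at h1
    omega
  have hy0 : y ≠ 0 := by
    rintro rfl
    rw [map_zero] at hy1
    exact absurd hy1 (not_lt.mpr zero_le)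
  have hn : P.ord y < 0 := by
    by_contra h
    rw [not_lt, ← val_le_one_iff P hy0] at h
    exact absurd h (not_le.mpr hy1)
  have hsq : P.1 (y ^ 2 + y) = P.1 (y ^ 2) := by
    apply Valuation.map_add_eq_of_lt_left
    rw [map_pow, sq]
    calc P.1 y = P.1 y * 1 := (mul_one _).symm
      _ < P.1 y * P.1 y := by
        apply mul_lt_mul_of_pos_left hy1
        exact lt_trans zero_lt_one hy1
  have h2n : 2 * P.ord y = -((e : ℤ) * d) := by
    have h1 : P.ord (y ^ 2 + y) = P.ord (y ^ 2) := by
      unfold Place.ord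
      rw [hsq]
    rw [heq, hordf, ord_pow] at h1
    push_cast at h1
    omega
  have hdodd : ¬ (2 : ℤ) ∣ d := by
    rw [← even_iff_two_dvd]
    exact Int.not_even_iff_odd.mpr (by exact_mod_cast hd)
  have he2 : e = 2 := by
    rcases (show e = 1 ∨ e = 2 by omega) with h | h
    · exfalso
      rw [h] at h2n
      apply hdodd
      exact ⟨-P.ord y, by push_cast at h2n; omega⟩
    · exact h
  refine ⟨he2, ?_⟩
  rw [he2] at h2n
  push_cast at h2n
  omega

end

section More

variable {y : K} {f : RatFunc k}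

lemma charP_K [CharP k 2] : CharP K 2 :=
  charP_of_injective_algebraMap (algebraMap k K).injective 2

lemma y_ne_zero (hy : y ∉ Set.range j) : y ≠ 0 := by
  rintro rfl
  exact hy ⟨0, map_zero _⟩

lemma ord_mul_zpow (P : Place k K) {y u : K} (hy : y ≠ 0) (hu : u ≠ 0) (n : ℤ) :
    P.ord (y * u ^ n) = P.ord y + n * P.ord u := by
  rw [ord_mul P hy (zpow_ne_zero n hu), ord_zpow]

/-- the equation in the form used by `Quadratic` -/
lemma heq' [CharP k 2] (heq : y ^ 2 + y = j f) : y ^ 2 + j 1 * y + j f = 0 := by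
  have : CharP K 2 := charP_K (k := k)
  rw [map_one, one_mul, heq]
  exact CharTwo.add_self_eq_zero _

/-- the conjugation `y ↦ y + 1` -/
lemma exists_conj [CharP k 2] (hdeg : Module.finrank (RatFunc k) K = 2) (hy : y ∉ Set.range j)
    (heq : y ^ 2 + y = j f) : ∃ σ : K ≃ₐ[RatFunc k] K, σ y = y + 1 := by
  have : CharP K 2 := charP_K (k := k)
  have hfd : FiniteDimensional (RatFunc k) K :=
    FiniteDimensional.of_finrank_pos (by rw [hdeg]; norm_num)
  obtain ⟨σ, hσ⟩ := exists_conj_quadratic hdeg hy (heq' (k := k) heq)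
  refine ⟨σ, ?_⟩
  rw [hσ, map_one, CharTwo.neg_eq, CharTwo.sub_eq_add, add_comm]

/-- where `f` is integral, the extension is unramified -/
lemma unramified_of_val_le_one [CharP k 2] (hdeg : Module.finrank (RatFunc k) K = 2)
    (hy : y ∉ Set.range j) (heq : y ^ 2 + y = j f)
    {p : Place k (RatFunc k)} {P : Place k K} {e : ℕ} (he : IsOverWith P p e)
    (hf : p.1 f ≤ 1) : e = 1 := by
  have : CharP K 2 := charP_K (k := k)
  have hfd : FiniteDimensional (RatFunc k) K :=
    FiniteDimensional.of_finrank_pos (by rw [hdeg]; norm_num)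
  refine quadratic_unramified hdeg he hy (heq' (k := k) heq)
    (val_y_le_one heq P ((le_one_iff he f).mpr hf)) ?_
  have h2 : (2 : K) = 0 := CharTwo.two_eq_zero
  rw [h2, zero_mul, zero_add, map_one, map_one]

end More

section RatFuncMore

/-- the order of a polynomial at the place of an irreducible `π`, computed from a factorisation -/
lemma ord_poly_of_factor (p : Place k (RatFunc k)) {π : k[X]} (hπ : Irreducible π)
    (h : p.1 (ι π) < 1) {m : ℕ} {q' : k[X]} (hq' : ¬ π ∣ q') :
    p.ord (ι (π ^ m * q')) = m := by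
  have hX := ratFunc_val_X_le_one p hπ.ne_zero h
  have hq'0 : q' ≠ 0 := by
    rintro rfl
    exact hq' (dvd_zero _)
  rw [map_mul, map_pow, ord_mul p (pow_ne_zero _ (ratFunc_algebraMap_ne_zero hπ.ne_zero))
    (ratFunc_algebraMap_ne_zero hq'0), ord_pow, ratFunc_ord_irreducible p hπ h,
    (val_eq_one_iff p (ratFunc_algebraMap_ne_zero hq'0)).mp
      (ratFunc_val_eq_one_of_not_dvd p hπ hX h hq')]
  ring

/-- the place of `k(x)` at an irreducible polynomial is unique -/
theorem place_unique_of_irreducible {p p' : Place k (RatFunc k)} {π : k[X]} (hπ : Irreducible π)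
    (h : p.1 (ι π) < 1) (h' : p'.1 (ι π) < 1) : p = p' := by
  have hpoly : ∀ q : k[X], q ≠ 0 → p.ord (ι q) = p'.ord (ι q) := by
    intro q hq
    obtain ⟨m, q', hq', rfl⟩ := WfDvdMonoid.max_power_factor hq hπ
    rw [ord_poly_of_factor p hπ h hq', ord_poly_of_factor p' hπ h' hq']
  have hord : ∀ z : RatFunc k, z ≠ 0 → p.ord z = p'.ord z := by
    intro z hz
    have hnd := RatFunc.num_div_denom z
    have hnum : z.num ≠ 0 := RatFunc.num_ne_zero hz
    have hden : z.denom ≠ 0 := RatFunc.denom_ne_zero z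
    rw [← hnd, ord_div p (ratFunc_algebraMap_ne_zero hnum) (ratFunc_algebraMap_ne_zero hden),
      ord_div p' (ratFunc_algebraMap_ne_zero hnum) (ratFunc_algebraMap_ne_zero hden),
      hpoly _ hnum, hpoly _ hden]
  apply place_ext_of_le_one_iff
  intro z
  by_cases hz : z = 0
  · subst hz
    simp
  · rw [val_le_one_iff p hz, val_le_one_iff p' hz, hord z hz]

/-- the place of `k(x)` at infinity is unique -/
theorem place_unique_of_one_lt {p p' : Place k (RatFunc k)}
    (h : 1 < p.1 RatFunc.X) (h' : 1 < p'.1 RatFunc.X) : p = p' := by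
  have hpoly : ∀ q : k[X], q ≠ 0 → p.ord (ι q) = p'.ord (ι q) := by
    intro q hq
    rw [ratFunc_ord_poly_of_one_lt p h hq, ratFunc_ord_poly_of_one_lt p' h' hq,
      ratFunc_ord_X_of_one_lt p h, ratFunc_ord_X_of_one_lt p' h']
  have hord : ∀ z : RatFunc k, z ≠ 0 → p.ord z = p'.ord z := by
    intro z hz
    have hnd := RatFunc.num_div_denom z
    have hnum : z.num ≠ 0 := RatFunc.num_ne_zero hz
    have hden : z.denom ≠ 0 := RatFunc.denom_ne_zero z
    rw [← hnd, ord_div p (ratFunc_algebraMap_ne_zero hnum) (ratFunc_algebraMap_ne_zero hden),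
      ord_div p' (ratFunc_algebraMap_ne_zero hnum) (ratFunc_algebraMap_ne_zero hden),
      hpoly _ hnum, hpoly _ hden]
  apply place_ext_of_le_one_iff
  intro z
  by_cases hz : z = 0
  · subst hz
    simp
  · rw [val_le_one_iff p hz, val_le_one_iff p' hz, hord z hz]

/-- the polar part of a rational function at `x = α` -/
theorem exists_polar_part (α : k) (h : RatFunc k) : ∃ g : RatFunc k,
    (∀ p : Place k (RatFunc k), p.1 (RatFunc.X - RatFunc.C α) < 1 → p.1 (h - g) ≤ 1) ∧
    (∀ p : Place k (RatFunc k), 1 ≤ p.1 (RatFunc.X - RatFunc.C α) → p.1 g ≤ 1) := by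
  classical
  set a := h.num with ha
  set b := h.denom with hb
  have hb0 : b ≠ 0 := RatFunc.denom_ne_zero h
  obtain ⟨b₁, hbb, hb₁⟩ := Polynomial.exists_eq_pow_rootMultiplicity_mul_and_not_dvd b hb0 α
  set n := rootMultiplicity α b with hn
  set M : k[X] := (X - C α) ^ n with hM
  have hMmonic : M.Monic := (monic_X_sub_C α).pow n
  have hM0 : M ≠ 0 := hMmonic.ne_zero
  have hb₁0 : b₁ ≠ 0 := by
    rintro rfl
    exact hb₁ (dvd_zero _)
  have hcop : IsCoprime M b₁ :=
    (((irreducible_X_sub_C α).coprime_iff_not_dvd).mpr hb₁).pow_left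
  obtain ⟨u, v, huv⟩ := hcop
  set r := (a * v) %ₘ M with hr
  set q := (a * v) /ₘ M with hq
  have hdiv : r + M * q = a * v := modByMonic_add_div (a * v) M
  have hιM : ι M ≠ 0 := ratFunc_algebraMap_ne_zero hM0
  have hιb₁ : ι b₁ ≠ 0 := ratFunc_algebraMap_ne_zero hb₁0
  have hh : h = ι a / (ι M * ι b₁) := by
    rw [← map_mul, ← hbb, ha, hb]
    exact (RatFunc.num_div_denom h).symm
  have e1 : ι u * ι M + ι v * ι b₁ = 1 := by
    rw [← map_mul, ← map_mul, ← map_add, huv, map_one]
  have e2 : ι r + ι M * ι q = ι a * ι v := by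
    rw [← map_mul, ← map_add, hdiv, map_mul]
  have hdiff : h - ι r / ι M = ι (a * u + q * b₁) / ι b₁ := by
    rw [hh, div_sub_div _ _ (mul_ne_zero hιM hιb₁) hιM, div_eq_div_iff
      (mul_ne_zero (mul_ne_zero hιM hιb₁) hιM) hιb₁, map_add, map_mul, map_mul]
    linear_combination (-(ι M * ι b₁ * ι a)) * e1 + (-(ι M * ι b₁ ^ 2)) * e2
  refine ⟨ι r / ι M, ?_, ?_⟩
  · intro p hp
    rw [← iota_X_sub_C] at hp
    have hX := ratFunc_val_X_le_one p (Polynomial.X_sub_C_ne_zero α) hp
    rw [hdiff, map_div₀, ratFunc_val_eq_one_of_not_dvd p (irreducible_X_sub_C α) hX hp hb₁,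
      _root_.div_one]
    exact ratFunc_val_poly_le_one p hX _
  · intro p hp
    rw [← iota_X_sub_C] at hp
    by_cases hr0 : r = 0
    · rw [hr0, map_zero, zero_div, map_zero]
      exact zero_le_one
    rw [map_div₀]
    by_cases hX : p.1 RatFunc.X ≤ 1
    · have h1 : 1 ≤ p.1 (ι M) := by
        rw [hM, map_pow, map_pow]
        exact one_le_pow₀ hp
      have h2 : p.1 (ι r) ≤ 1 := ratFunc_val_poly_le_one p hX r
      have h0 : p.1 (ι M) ≠ 0 := (Valuation.ne_zero_iff _).mpr hιM
      rw [div_le_one₀ (zero_lt_iff.mpr h0)]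
      exact h2.trans h1
    · rw [not_le] at hX
      rw [ratFunc_val_poly_of_one_lt p hX hr0, ratFunc_val_poly_of_one_lt p hX hM0]
      have hdeg : r.natDegree ≤ M.natDegree :=
        (natDegree_lt_natDegree hr0 (degree_modByMonic_lt _ hMmonic)).le
      have h0 : p.1 (RatFunc.X : RatFunc k) ^ M.natDegree ≠ 0 :=
        pow_ne_zero _ ((Valuation.ne_zero_iff _).mpr RatFunc.X_ne_zero)
      rw [div_le_one₀ (zero_lt_iff.mpr h0)]
      exact pow_le_pow_right₀ hX.le hdeg

end RatFuncMore

section Adele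

variable [DecidableEq (Place k K)]

lemma mem_AD_zero_iff (a : Place k K → K) :
    a ∈ AD (0 : Divisor k K) ↔ ∀ P : Place k K, P.1 (a P) ≤ 1 := by
  constructor
  · intro h P
    have := h P
    rwa [Finsupp.coe_zero, Pi.zero_apply, exp_zero] at this
  · intro h P
    rw [Finsupp.coe_zero, Pi.zero_apply, exp_zero]
    exact h P

/-- a place of `K` where `x - α` vanishes is the unique ramified place above `x = α` -/
lemma eq_of_val_lt_one (hdeg : Module.finrank (RatFunc k) K = 2) {α : k}
    {p₀ : Place k (RatFunc k)} {P₀ : Place k K} (he : IsOverWith P₀ p₀ 2)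
    (hp₀ : p₀.1 (RatFunc.X - RatFunc.C α) < 1) (P : Place k K)
    (hP : P.1 (j RatFunc.X - algebraMap k K α) < 1) : P = P₀ := by
  have hfd : FiniteDimensional (RatFunc k) K :=
    FiniteDimensional.of_finrank_pos (by rw [hdeg]; norm_num)
  have halg : Algebra.IsAlgebraic (RatFunc k) K := Algebra.IsAlgebraic.of_finite _ _
  obtain ⟨p, e, hpe⟩ := exists_isOverWith_below (K := RatFunc k) P
  rw [sub_eq, lt_one_iff hpe] at hP
  have hpp : p = p₀ := by
    rw [← iota_X_sub_C] at hP hp₀
    exact place_unique_of_irreducible (irreducible_X_sub_C α) hP hp₀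
  subst hpp
  exact unique_of_ramIdx_two hdeg he ⟨e, hpe⟩

/-- a repartition supported at the ramified place above `x = α` with value in `k(x)` lies in
`A(0) + K` -/
theorem single_mem (hdeg : Module.finrank (RatFunc k) K = 2) {α : k}
    {p₀ : Place k (RatFunc k)} {P₀ : Place k K} (he : IsOverWith P₀ p₀ 2)
    (hp₀ : p₀.1 (RatFunc.X - RatFunc.C α) < 1) (h : RatFunc k) :
    (Pi.single P₀ (j h) : Place k K → K) ∈
      AD (0 : Divisor k K) ⊔ LinearMap.range (diag k K) := by
  have hfd : FiniteDimensional (RatFunc k) K :=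
    FiniteDimensional.of_finrank_pos (by rw [hdeg]; norm_num)
  have halg : Algebra.IsAlgebraic (RatFunc k) K := Algebra.IsAlgebraic.of_finite _ _
  obtain ⟨g, hg1, hg2⟩ := exists_polar_part α h
  have hsplit : (Pi.single P₀ (j h) : Place k K → K) =
      (Pi.single P₀ (j h) - diag k K (j g)) + diag k K (j g) := by abel
  rw [hsplit]
  apply Submodule.add_mem_sup
  · rw [mem_AD_zero_iff]
    intro P
    by_cases hP : P = P₀
    · subst hP
      have : (Pi.single P (j h) - diag k K (j g) : Place k K → K) P = j (h - g) := by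
        rw [Pi.sub_apply, Pi.single_eq_same, map_sub]
        rfl
      rw [this, le_one_iff he]
      exact hg1 p₀ hp₀
    · have : (Pi.single P₀ (j h) - diag k K (j g) : Place k K → K) P = -j g := by
        rw [Pi.sub_apply, Pi.single_eq_of_ne hP, zero_sub]
        rfl
      rw [this, Valuation.map_neg]
      obtain ⟨p, e, hpe⟩ := exists_isOverWith_below (K := RatFunc k) P
      rw [le_one_iff hpe]
      apply hg2
      by_contra hlt
      rw [not_le] at hlt
      apply hP
      apply eq_of_val_lt_one hdeg he hp₀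
      rw [sub_eq, lt_one_iff hpe]
      exact hlt
  · exact ⟨j g, rfl⟩

end Adele

end Groth.Agent.FF.AS2
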