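import Groth.Agent.FunFld.Perfect
import Mathlib.FieldTheory.RatFunc.IntermediateField

/-!
# The rational function field is a function field of one variable
-/

set_option autoImplicit false

open FunFld IntermediateField

namespace Groth.Agent.FF

universe u
variable (k : Type u) [Field k]

/-- `k` is algebraically closed in `k(X)` -/
lemma mem_range_of_isAlgebraic_ratFunc {y : RatFunc k} (hy : IsAlgebraic k y) :
    y ∈ Set.range (algebraMap k (RatFunc k)) := by
  have hint : IsIntegral k y := isAlgebraic_iff_isIntegral.mp hy
  have hint' : IsIntegral (Polynomial k) y := hint.tower_top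
  obtain ⟨q, hq⟩ := IsIntegrallyClosed.isIntegral_iff.mp hint'
  have hqa : IsAlgebraic k q := by
    have h1 : IsAlgebraic k (algebraMap (Polynomial k) (RatFunc k) q) := by rw [hq]; exact hy
    exact (isAlgebraic_algebraMap_iff (RatFunc.algebraMap_injective k)).mp h1
  have hdeg : q.natDegree = 0 := by
    by_contra hne
    have hlc : q.leadingCoeff ∈ nonZeroDivisors k := by
      apply mem_nonZeroDivisors_of_ne_zero
      intro h0
      rw [Polynomial.leadingCoeff_eq_zero] at h0
      rw [h0] at hne
      simp at hne
    exact Polynomial.transcendental q hne hlc hqa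
  obtain ⟨c, hc⟩ : ∃ c : k, q = Polynomial.C c := ⟨_, Polynomial.eq_C_of_natDegree_eq_zero hdeg⟩
  refine ⟨c, ?_⟩
  rw [← hq, hc, IsScalarTower.algebraMap_apply k (Polynomial k) (RatFunc k)]
  rfl

theorem isFunctionField_ratFunc : IsFunctionField k (RatFunc k) := by
  refine ⟨⟨RatFunc.X, RatFunc.transcendental_X, ?_⟩, fun y hy => mem_range_of_isAlgebraic_ratFunc k hy⟩
  rw [RatFunc.adjoin_X]
  apply FiniteDimensional.of_finrank_pos
  rw [IntermediateField.finrank_top]
  exact one_pos

end Groth.Agent.FF
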