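import Groth.Agent.FunFld.DiffExpU
import Groth.Agent.FunFld.RatFuncFF

/-!
# The different exponent of an Artin–Schreier extension in characteristic two
-/

set_option autoImplicit false

open FunFld IntermediateField WithZero

namespace Groth.Agent.FF

universe u v w

theorem artinSchreier_diffExp {k : Type u} {K : Type v} [Field k] [Field K] [Algebra k K]
    [Algebra (RatFunc k) K] [IsScalarTower k (RatFunc k) K]
    (hdeg : Module.finrank (RatFunc k) K = 2) [PerfectField k] (h2 : ringChar k = 2)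
    (y : K) (f : RatFunc k) (heq : y ^ 2 + y = algebraMap (RatFunc k) K f)
    (p : Place k (RatFunc k)) (hp : 1 < p.1 f) (hodd : Odd (p.ord f))
    (P : Place k K) (e : ℕ) (he : IsOverWith P p e)
    {F F' : Type w} [Field F] [Algebra k F] [Field F'] [Algebra k F']
    (φ : RatFunc k →ₐ[k] LaurentSeries F) (hφ : LocRes.IsExpansionAt p.1 φ)
    (ψ : K →ₐ[k] LaurentSeries F') (hψ : LocRes.IsExpansionAt P.1 ψ)
    (z : RatFunc k) (hz : LocRes.vDiff φ 1 z ≠ 0)
    (hz' : LocRes.vDiff ψ 1 (algebraMap (RatFunc k) K z) ≠ 0) :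
    LocRes.diffExp φ ψ e z = 1 - p.ord f := by
  classical
  have hKr := isFunctionField_ratFunc k
  have hgr : IsGeometric k (RatFunc k) := isGeometric_of_perfectField hKr
  have hfd : FiniteDimensional (RatFunc k) K :=
    FiniteDimensional.of_finrank_pos (by rw [hdeg]; norm_num)
  obtain ⟨t, ht⟩ := hφ.2.2
  obtain ⟨hrank, hDt, hvφ, hψt0, hdiff⟩ := U.diffExp_uniformizer hKr hgr he φ hφ ψ hψ hz hz' ht
  have hepos := U.isOverWith_pos he
  have hele : e ≤ 2 := by rw [← hdeg]; exact U.isOverWith_le_finrank he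
  set m : ℤ := p.ord f with hm
  have hf0 : f ≠ 0 := by
    rintro rfl
    rw [map_zero] at hp
    exact absurd hp (not_lt.mpr zero_le)
  have hpf : p.1 f = exp (-m) := by
    rw [hm]
    unfold Place.ord
    rw [neg_neg, exp_log ((Valuation.ne_zero_iff p.1).mpr hf0)]
  have hmneg : m < 0 := by
    rw [hpf, ← exp_zero, exp_lt_exp] at hp
    omega
  have hPf : P.1 (algebraMap (RatFunc k) K f) = exp (-((e : ℤ) * m)) := by
    rw [he f, hpf, ← exp_nsmul]
    congr 1
    simp only [nsmul_eq_mul]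
    ring
  have hem : 0 < -((e : ℤ) * m) := by
    have : (e : ℤ) * m < 0 := mul_neg_of_pos_of_neg (by exact_mod_cast hepos) hmneg
    omega
  -- the valuation of `y`
  have hy1 : 1 < P.1 y := by
    by_contra hle
    rw [not_lt] at hle
    have h1 : P.1 (y ^ 2 + y) ≤ 1 := by
      apply P.1.map_add_le _ hle
      rw [map_pow]
      exact pow_le_one' hle 2
    rw [heq, hPf, ← exp_zero, exp_le_exp] at h1
    omega
  have hy0 : P.1 y ≠ 0 := fun h => by rw [h] at hy1; exact absurd hy1 (not_lt.mpr zero_le)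
  obtain ⟨n, hn⟩ : ∃ n : ℤ, P.1 y = exp n := ⟨log (P.1 y), (exp_log hy0).symm⟩
  have hnpos : 0 < n := by
    rw [hn, ← exp_zero, exp_lt_exp] at hy1
    exact hy1
  have hsq : P.1 (y ^ 2 + y) = P.1 (y ^ 2) := by
    apply Valuation.map_add_eq_of_lt_left
    rw [map_pow, hn, ← exp_nsmul, exp_lt_exp]
    simp only [nsmul_eq_mul]
    push_cast
    omega
  have h2n : 2 * n = -((e : ℤ) * m) := by
    rw [heq, hPf, map_pow, hn, ← exp_nsmul, exp_inj] at hsq
    simp only [nsmul_eq_mul] at hsq
    push_cast at hsq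
    omega
  have hmodd : ¬ (2 : ℤ) ∣ m := by
    rw [← even_iff_two_dvd]
    exact Int.not_even_iff_odd.mpr hodd
  have he2 : e = 2 := by
    rcases (show e = 1 ∨ e = 2 by omega) with h | h
    · exfalso
      rw [h] at h2n
      apply hmodd
      exact ⟨-n, by push_cast at h2n; omega⟩
    · exact h
  have hnm : n = -m := by
    rw [he2] at h2n
    push_cast at h2n
    omega
  -- characteristic two
  have hchar : CharP k 2 := ringChar.of_eq h2
  have hcharF : CharP F 2 := charP_of_injective_algebraMap (algebraMap k F).injective 2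
  have hcharF' : CharP F' 2 := charP_of_injective_algebraMap (algebraMap k F').injective 2
  have hcharL : CharP (LaurentSeries F') 2 :=
    charP_of_injective_algebraMap (algebraMap F' (LaurentSeries F')).injective 2
  have hmF : ((m : ℤ) : F) ≠ 0 := by
    rw [Ne, CharP.intCast_eq_zero_iff F 2 m]
    exact_mod_cast hmodd
  have hmF' : ((m : ℤ) : F') ≠ 0 := by
    rw [Ne, CharP.intCast_eq_zero_iff F' 2 m]
    exact_mod_cast hmodd
  -- differentiate the equation
  have hD1 : LocRes.D F' (ψ (y ^ 2 + y)) = LocRes.D F' (ψ y) := by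
    rw [map_add, map_pow, map_add, Derivation.leibniz_pow, two_nsmul,
      CharTwo.add_self_eq_zero, zero_add]
  obtain ⟨b, hb⟩ := (finrank_eq_one_iff_of_nonzero' (KaehlerDifferential.D k (RatFunc k) t)
    hDt).mp hrank (KaehlerDifferential.D k (RatFunc k) f)
  let ψ' : RatFunc k →ₐ[k] LaurentSeries F' := ψ.comp (IsScalarTower.toAlgHom k (RatFunc k) K)
  have hD2 : LocRes.D F' (ψ (algebraMap (RatFunc k) K f)) =
      ψ (algebraMap (RatFunc k) K b) * LocRes.D F' (ψ (algebraMap (RatFunc k) K t)) :=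
    D_exp_of_D_eq_smul ψ' hb.symm
  have hD3 : LocRes.D F (φ f) = φ b * LocRes.D F (φ t) := D_exp_of_D_eq_smul φ hb.symm
  -- valuations
  have hvf : Valued.v (LocRes.D F (φ f)) = (exp (-(m - 1)) : WithZero (Multiplicative ℤ)) :=
    val_D_eq_of_cast_ne_zero (by rw [hφ.1, hpf]) hmF
  have hpb : p.1 b = exp (-(m - 1)) := by
    rw [← hφ.1, ← hvf, hD3, map_mul, hvφ, mul_one]
  have hPb : P.1 (algebraMap (RatFunc k) K b) = exp (-(2 * (m - 1))) := by
    rw [he b, hpb, he2, ← exp_nsmul]
    congr 1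
    simp only [nsmul_eq_mul]
    push_cast
    ring
  have hvy : Valued.v (LocRes.D F' (ψ y)) = (exp (-(m - 1)) : WithZero (Multiplicative ℤ)) :=
    val_D_eq_of_cast_ne_zero (by rw [hψ.1, hn, hnm]) hmF'
  have hV0 : Valued.v (LocRes.D F' (ψ (algebraMap (RatFunc k) K t))) ≠
      (0 : WithZero (Multiplicative ℤ)) := (Valuation.ne_zero_iff _).mpr hψt0
  have hmain : (exp (-(m - 1)) : WithZero (Multiplicative ℤ)) =
      exp (-(2 * (m - 1))) * Valued.v (LocRes.D F' (ψ (algebraMap (RatFunc k) K t))) := by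
    rw [← hvy, ← hD1, heq, hD2, map_mul, hψ.1, hPb]
  rw [← exp_log hV0, ← exp_add, exp_inj] at hmain
  rw [hdiff]
  omega

end Groth.Agent.FF
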