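import Groth.Agent.FunFld.LinSeries3

/-!
# Genus zero: functions with divisor `a (P - P')` have no further ramification (char. zero)
-/

set_option autoImplicit false

open FunFld IntermediateField Polynomial WithZero

namespace Groth.Agent.FF

universe u v
variable {k : Type u} {K : Type v} [Field k] [Field K] [Algebra k K]

lemma algebraMap_residue_surjective [IsAlgClosed k] (hK : IsFunctionField k K) (P : Place k K) :
    Function.Surjective (@algebraMap k (IsLocalRing.ResidueField P.O) _ _ (Place.algRes P)) := by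
  have hfin := finite_residueField hK P
  have hint : @Algebra.IsIntegral k (IsLocalRing.ResidueField P.O) _ _ (Place.algRes P) :=
    @Algebra.IsIntegral.of_finite k (IsLocalRing.ResidueField P.O) _ _ (Place.algRes P) hfin
  exact (@IsAlgClosed.algebraMap_bijective_of_isIntegral k (IsLocalRing.ResidueField P.O) _ _ _ _
      (Place.algRes P) hint).2

/-- over an algebraically closed field every integral element is congruent to a constant -/
lemma exists_const_approx [IsAlgClosed k] (hK : IsFunctionField k K) (Q : Place k K) {x : K}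
    (hx : Q.1 x ≤ 1) : ∃ ξ : k, Q.1 (x - algebraMap k K ξ) < 1 := by
  obtain ⟨ξ, hξ⟩ := algebraMap_residue_surjective hK Q (res Q ⟨x, hx⟩)
  refine ⟨ξ, ?_⟩
  rw [algebraMap_res] at hξ
  have h0 : res Q (⟨x, hx⟩ - algebraMap k Q.O ξ) = 0 := by
    rw [map_sub, hξ, sub_self]
  rw [res_eq_zero_iff] at h0
  exact h0

lemma val_pow_sub_pow_lt {Q : Place k K} {x : K} {ξ : k} (hx : Q.1 x ≤ 1)
    (hlt : Q.1 (x - algebraMap k K ξ) < 1) (i : ℕ) :
    Q.1 (x ^ i - algebraMap k K ξ ^ i) < 1 := by
  induction i with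
  | zero => simp
  | succ i ih =>
    have e : x ^ (i + 1) - algebraMap k K ξ ^ (i + 1) =
        x * (x ^ i - algebraMap k K ξ ^ i) + (x - algebraMap k K ξ) * algebraMap k K ξ ^ i := by
      ring
    rw [e]
    apply Q.1.map_add_lt
    · rw [map_mul]
      calc Q.1 x * Q.1 (x ^ i - algebraMap k K ξ ^ i) ≤ 1 * Q.1 (x ^ i - algebraMap k K ξ ^ i) :=
            mul_le_mul' hx le_rfl
        _ = Q.1 (x ^ i - algebraMap k K ξ ^ i) := one_mul _
        _ < 1 := ih
    · rw [map_mul, map_pow]
      calc Q.1 (x - algebraMap k K ξ) * Q.1 (algebraMap k K ξ) ^ i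
          ≤ Q.1 (x - algebraMap k K ξ) * 1 := by
            apply mul_le_mul' le_rfl
            exact pow_le_one' (val_algebraMap_le Q ξ) i
        _ = Q.1 (x - algebraMap k K ξ) := mul_one _
        _ < 1 := hlt

lemma val_geom_sum_eq_one [CharZero k] {Q : Place k K} {x : K} {ξ : k} (hx1 : Q.1 x = 1)
    (hlt : Q.1 (x - algebraMap k K ξ) < 1) {n : ℕ} (hn : 0 < n) :
    Q.1 (∑ i ∈ Finset.range n, x ^ i * algebraMap k K ξ ^ (n - 1 - i)) = 1 := by
  have hξ1 : Q.1 (algebraMap k K ξ) = 1 := by
    have e : algebraMap k K ξ = x - (x - algebraMap k K ξ) := by ring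
    rw [e, Q.1.map_sub_eq_of_lt_left (by rw [hx1]; exact hlt), hx1]
  have hξ0 : ξ ≠ 0 := by
    rintro rfl
    rw [map_zero, map_zero] at hξ1
    exact zero_ne_one hξ1
  have hmain : Q.1 (algebraMap k K ((n : k) * ξ ^ (n - 1))) = 1 :=
    val_algebraMap Q (mul_ne_zero (Nat.cast_ne_zero.mpr hn.ne') (pow_ne_zero _ hξ0))
  have hdiff : Q.1 (∑ i ∈ Finset.range n, x ^ i * algebraMap k K ξ ^ (n - 1 - i) -
      algebraMap k K ((n : k) * ξ ^ (n - 1))) < 1 := by
    have e : ∑ i ∈ Finset.range n, x ^ i * algebraMap k K ξ ^ (n - 1 - i) -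
        algebraMap k K ((n : k) * ξ ^ (n - 1)) =
        ∑ i ∈ Finset.range n, (x ^ i - algebraMap k K ξ ^ i) * algebraMap k K ξ ^ (n - 1 - i) := by
      have e2 : algebraMap k K ((n : k) * ξ ^ (n - 1)) =
          ∑ i ∈ Finset.range n, algebraMap k K ξ ^ i * algebraMap k K ξ ^ (n - 1 - i) := by
        have : ∀ i ∈ Finset.range n, algebraMap k K ξ ^ i * algebraMap k K ξ ^ (n - 1 - i) =
            algebraMap k K ξ ^ (n - 1) := by
          intro i hi
          rw [Finset.mem_range] at hi
          rw [← pow_add]; congr 1; omega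
        rw [Finset.sum_congr rfl this, Finset.sum_const, Finset.card_range, map_mul, map_pow,
          map_natCast, nsmul_eq_mul]
      rw [e2, ← Finset.sum_sub_distrib]
      apply Finset.sum_congr rfl
      intro i _
      ring
    rw [e]
    apply Q.1.map_sum_lt (by norm_num)
    intro i _
    rw [map_mul, map_pow, hξ1, one_pow, mul_one]
    exact val_pow_sub_pow_lt hx1.le hlt i
  have e3 : ∑ i ∈ Finset.range n, x ^ i * algebraMap k K ξ ^ (n - 1 - i) =
      (∑ i ∈ Finset.range n, x ^ i * algebraMap k K ξ ^ (n - 1 - i) -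
        algebraMap k K ((n : k) * ξ ^ (n - 1))) + algebraMap k K ((n : k) * ξ ^ (n - 1)) := by ring
  rw [e3, Q.1.map_add_eq_of_lt_right (by rw [hmain]; exact hdiff), hmain]

lemma val_pow_sub_pow_eq [CharZero k] {Q : Place k K} {x : K} {ξ : k} (hx1 : Q.1 x = 1)
    (hlt : Q.1 (x - algebraMap k K ξ) < 1) {n : ℕ} (hn : 0 < n) :
    Q.1 (x ^ n - algebraMap k K ξ ^ n) = Q.1 (x - algebraMap k K ξ) := by
  rw [← geom_sum₂_mul, map_mul, val_geom_sum_eq_one hx1 hlt hn, one_mul]

end Groth.Agent.FF

namespace Groth.Agent.FF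

universe u v
variable {k : Type u} {K : Type v} [Field k] [Field K] [Algebra k K]

/-- a function with a simple pole at a degree one place and no other poles has only simple zeros -/
lemma ord_le_one_of_onlyPoleAt (hK : IsFunctionField k K) {y : K} {P' : Place k K}
    (hP' : P'.deg = 1) (hy : OnlyPoleAt y P' 1) (Q : Place k K) : Q.ord y ≤ 1 := by
  classical
  have htr : Transcendental k y := transcendental_of_ord_neg hK (P := P') (by rw [hy.1]; norm_num)
  have h1 := deg_poleDiv_eq hK htr
  have h2 := deg_zeroDiv_eq hK htr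
  rw [poleDiv_of_onlyPoleAt hK hy, deg_single, hP'] at h1
  by_contra hlt
  push Not at hlt
  have hle : (Finsupp.single Q (Q.ord y) : Divisor k K) ≤ zeroDiv k y := by
    intro R
    rw [zeroDiv_apply hK, Finsupp.single_apply]
    split_ifs with hR
    · subst hR; exact le_max_left _ _
    · exact le_max_right _ _
  have h3 := deg_mono hle
  rw [deg_single, h2, ← h1] at h3
  have hQ : (1 : ℤ) ≤ Q.deg := by exact_mod_cast deg_pos hK Q
  push_cast at h3
  nlinarith

lemma exists_div_eq_sub_of_genus_zero (hK : IsFunctionField k K) (hg0 : genus k K = 0)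
    {P P' : Place k K} (hP : P.deg = 1) (hP' : P'.deg = 1) :
    ∃ x : K, x ≠ 0 ∧ FunFld.div k x = Finsupp.single P 1 - Finsupp.single P' 1 := by
  have hdeg : (Finsupp.single P' 1 - Finsupp.single P 1 : Divisor k K).deg = 0 := by
    rw [deg_sub, deg_single, deg_single, hP, hP']; simp
  have hell := ell_eq_of_deg_ge hK (Finsupp.single P' 1 - Finsupp.single P 1 : Divisor k K)
    (by rw [hdeg, hg0]; norm_num)
  rw [hdeg, hg0] at hell
  have hpos : 0 < ell (Finsupp.single P' 1 - Finsupp.single P 1 : Divisor k K) := by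
    have : (ell (Finsupp.single P' 1 - Finsupp.single P 1 : Divisor k K) : ℤ) = 1 := by
      simpa using hell
    omega
  obtain ⟨x, hx0, hx⟩ := exists_ne_zero_mem_L hpos
  refine ⟨x, hx0, ?_⟩
  have := eq_neg_div_of_deg_zero hK hdeg hx0 hx
  have e : FunFld.div k x = -(Finsupp.single P' 1 - Finsupp.single P 1) := by
    rw [eq_neg_iff_add_eq_zero, add_comm]; exact this
  rw [e]; abel

lemma exists_const_of_div_eq_zero (hK : IsFunctionField k K) {w : K} (hw0 : w ≠ 0)
    (hw : FunFld.div k w = 0) : ∃ c : k, c ≠ 0 ∧ w = algebraMap k K c := by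
  have hmem : w ∈ L (0 : Divisor k K) := by
    rw [mem_L_iff_div hK _ hw0, hw, add_zero]
  rw [L_zero_eq hK, Submodule.mem_one] at hmem
  obtain ⟨c, hc⟩ := hmem
  refine ⟨c, ?_, hc.symm⟩
  rintro rfl
  rw [map_zero] at hc
  exact hw0 hc.symm

/-- key local computation -/
lemma ord_sub_const_le_one_aux [IsAlgClosed k] [CharZero k] (hK : IsFunctionField k K)
    {P P' Q : Place k K} (hQP : Q ≠ P) (hQP' : Q ≠ P')
    {x : K} (hx0 : x ≠ 0) (hx : FunFld.div k x = Finsupp.single P 1 - Finsupp.single P' 1)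
    (hPP' : P ≠ P')
    {n : ℕ} (hn : 0 < n) {c' : k} (hc' : c' ≠ 0) (c : k)
    (hne : algebraMap k K c' * x ^ n ≠ algebraMap k K c) :
    Q.ord (algebraMap k K c' * x ^ n - algebraMap k K c) ≤ 1 := by
  classical
  have hordx : ∀ R : Place k K, R.ord x = (Finsupp.single P 1 - Finsupp.single P' 1 : Divisor k K) R := by
    intro R; rw [← hx, div_apply hK]
  have hQx : Q.ord x = 0 := by
    rw [hordx, Finsupp.sub_apply, Finsupp.single_apply, Finsupp.single_apply,
      if_neg (Ne.symm hQP), if_neg (Ne.symm hQP')]; simp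
  have hQ1 : Q.1 x = 1 := (val_eq_one_iff Q hx0).mpr hQx
  obtain ⟨ξ, hξ⟩ := exists_const_approx hK Q hQ1.le
  set y := x - algebraMap k K ξ with hy
  -- `y` has a simple pole at `P'` only
  have hP'x : P'.ord x = -1 := by
    rw [hordx, Finsupp.sub_apply, Finsupp.single_apply, Finsupp.single_apply,
      if_neg hPP', if_pos rfl]; simp
  have hy0 : y ≠ 0 := by
    intro h0
    have : x = algebraMap k K ξ := sub_eq_zero.mp h0
    rw [this, ord_algebraMap] at hP'x
    norm_num at hP'x
  have hpole : OnlyPoleAt y P' 1 := by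
    refine ⟨?_, fun R hR => ?_⟩
    · have hv : P'.1 x = exp (1 : ℤ) := by
        rw [val_eq_exp_neg_ord P' hx0, hP'x]; simp
      have hlt : P'.1 (algebraMap k K ξ) < P'.1 x := by
        rw [hv]
        exact lt_of_le_of_lt (val_algebraMap_le P' ξ) (by
          rw [← exp_zero, exp_lt_exp]; norm_num)
      have : P'.1 y = exp (1 : ℤ) := by
        rw [hy, P'.1.map_sub_eq_of_lt_left hlt, hv]
      rw [val_eq_exp_neg_ord P' hy0, exp_inj] at this
      push_cast
      linarith
    · rw [← val_le_one_iff R hy0]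
      have hRx : R.1 x ≤ 1 := by
        rw [val_le_one_iff R hx0, hordx, Finsupp.sub_apply, Finsupp.single_apply,
          Finsupp.single_apply, if_neg (Ne.symm hR)]
        split_ifs <;> simp
      exact (R.1.map_sub _ _).trans (max_le hRx (val_algebraMap_le R ξ))
  have hP'deg := deg_eq_one_of_isAlgClosed hK P'
  have hyle := ord_le_one_of_onlyPoleAt hK hP'deg hpole Q
  -- `x ^ n - ξ ^ n` has the same valuation as `y`
  have hpow := val_pow_sub_pow_eq hQ1 hξ hn
  set e : k := c' * ξ ^ n - c with he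
  have hsplit : algebraMap k K c' * x ^ n - algebraMap k K c =
      algebraMap k K c' * (x ^ n - algebraMap k K ξ ^ n) + algebraMap k K e := by
    rw [he, map_sub, map_mul, map_pow]; ring
  have hz0 : algebraMap k K c' * x ^ n - algebraMap k K c ≠ 0 := sub_ne_zero.mpr hne
  have hv1 : Q.1 (algebraMap k K c' * (x ^ n - algebraMap k K ξ ^ n)) = Q.1 y := by
    rw [map_mul, val_algebraMap Q hc', one_mul, hpow]
  by_cases he0 : e = 0
  · rw [hsplit, he0, map_zero, add_zero] at hz0 ⊢
    have : Q.1 (algebraMap k K c' * (x ^ n - algebraMap k K ξ ^ n)) = exp (-Q.ord y) := by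
      rw [hv1, val_eq_exp_neg_ord Q hy0]
    rw [val_eq_exp_neg_ord Q hz0, exp_inj] at this
    linarith
  · have hve : Q.1 (algebraMap k K e) = 1 := val_algebraMap Q he0
    have hlt : Q.1 (algebraMap k K c' * (x ^ n - algebraMap k K ξ ^ n)) < Q.1 (algebraMap k K e) := by
      rw [hv1, hve]; exact hξ
    have : Q.1 (algebraMap k K c' * x ^ n - algebraMap k K c) = 1 := by
      rw [hsplit, Q.1.map_add_eq_of_lt_right hlt, hve]
    rw [val_eq_one_iff Q hz0] at this
    linarith

end Groth.Agent.FF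

namespace Groth.Agent.FF

universe u v
variable {k : Type u} {K : Type v} [Field k] [Field K] [Algebra k K]

/-- natural number version -/
lemma ord_sub_const_le_one_nat [IsAlgClosed k] [CharZero k] (hK : IsFunctionField k K)
    (hg0 : genus k K = 0) {P P' Q : Place k K} (hPP' : P ≠ P') (hQP : Q ≠ P) (hQP' : Q ≠ P')
    {h : K} (hh0 : h ≠ 0) {n : ℕ} (hn : 0 < n)
    (hdiv : FunFld.div k h = (n : ℤ) • (Finsupp.single P 1 - Finsupp.single P' 1)) (c : k)
    (hne : h ≠ algebraMap k K c) : Q.ord (h - algebraMap k K c) ≤ 1 := by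
  obtain ⟨x, hx0, hx⟩ := exists_div_eq_sub_of_genus_zero hK hg0
    (deg_eq_one_of_isAlgClosed hK P) (deg_eq_one_of_isAlgClosed hK P')
  have hxn : FunFld.div k (x ^ n) = (n : ℤ) • (Finsupp.single P 1 - Finsupp.single P' 1) := by
    ext R
    rw [div_apply hK, ord_pow, ← div_apply hK, hx]
    simp
  have hw : FunFld.div k (h * (x ^ n)⁻¹) = 0 := by
    rw [div_mul hK hh0 (inv_ne_zero (pow_ne_zero n hx0)), div_inv hK, hdiv, hxn, add_neg_cancel]
  obtain ⟨c', hc', hc'eq⟩ := exists_const_of_div_eq_zero hK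
    (mul_ne_zero hh0 (inv_ne_zero (pow_ne_zero n hx0))) hw
  have hh : h = algebraMap k K c' * x ^ n := by
    rw [← hc'eq, mul_assoc, inv_mul_cancel₀ (pow_ne_zero n hx0), mul_one]
  rw [hh] at hne ⊢
  exact ord_sub_const_le_one_aux hK hQP hQP' hx0 hx hPP' hn hc' c hne

/-- In genus zero (char. zero), a function with divisor `a (P - P')`, `a ≠ 0`, takes every
value with multiplicity at most one away from `P`, `P'`. -/
theorem ord_sub_const_le_one [IsAlgClosed k] [CharZero k] (hK : IsFunctionField k K)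
    (hg0 : genus k K = 0) {P P' Q : Place k K} (hPP' : P ≠ P') (hQP : Q ≠ P) (hQP' : Q ≠ P')
    {h : K} (hh0 : h ≠ 0) {a : ℤ} (ha : a ≠ 0)
    (hdiv : FunFld.div k h = a • (Finsupp.single P 1 - Finsupp.single P' 1)) (c : k)
    (hne : h ≠ algebraMap k K c) : Q.ord (h - algebraMap k K c) ≤ 1 := by
  rcases lt_or_gt_of_ne ha with hneg | hpos
  · have hn : 0 < (-a).toNat := by omega
    have hcast : (((-a).toNat : ℕ) : ℤ) = -a := Int.toNat_of_nonneg (by omega)
    refine ord_sub_const_le_one_nat hK hg0 (Ne.symm hPP') hQP' hQP hh0 hn ?_ c hne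
    rw [hdiv, hcast]
    rw [neg_smul, ← smul_neg, neg_sub]
  · have hn : 0 < a.toNat := by omega
    have hcast : ((a.toNat : ℕ) : ℤ) = a := Int.toNat_of_nonneg (by omega)
    refine ord_sub_const_le_one_nat hK hg0 hPP' hQP hQP' hh0 hn ?_ c hne
    rw [hdiv, hcast]

end Groth.Agent.FF
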