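import Groth.Agent.FunFld.CharPFF3

/-!
# The field of constants of `d` is separably closed; separating variables and `dx ≠ 0`
-/

set_option autoImplicit false

open FunFld IntermediateField KaehlerDifferential

namespace Groth.Agent.FF

universe u v
variable {k : Type u} {K : Type v} [Field k] [Field K] [Algebra k K]

/-- the universal derivation, as a derivation over a field of constants -/
noncomputable def Dover (E : IntermediateField k K) (hE : E ≤ kerD k K) :
    Derivation E K Ω[K⁄k] where
  toFun := D k K
  map_add' := map_add _
  map_smul' c z := by
    change D k K ((c : K) * z) = (c : K) • D k K z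
    rw [Derivation.leibniz, show D k K (c : K) = 0 from hE c.2, smul_zero, add_zero]
  map_one_eq_zero' := (D k K).map_one_eq_zero
  leibniz' := (D k K).leibniz

lemma Dover_apply (E : IntermediateField k K) (hE : E ≤ kerD k K) (z : K) :
    Dover E hE z = D k K z := rfl

/-- an element separable over a field of constants is a constant -/
lemma mem_kerD_of_isSeparable (E : IntermediateField k K) (hE : E ≤ kerD k K) {z : K}
    (hz : IsSeparable E z) : z ∈ kerD k K := by
  have h1 : Polynomial.aeval z (minpoly E z) = 0 := minpoly.aeval E z
  have h2 := (Dover E hE).map_aeval (minpoly E z) z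
  rw [h1, map_zero, Dover_apply] at h2
  have h3 := Polynomial.Separable.aeval_derivative_ne_zero hz h1
  exact (smul_eq_zero.mp h2.symm).resolve_left h3

lemma kerD_eq_top_of_isSeparable (E : IntermediateField k K) (hE : E ≤ kerD k K)
    [Algebra.IsSeparable E K] : kerD k K = ⊤ := by
  rw [eq_top_iff]
  intro z _
  exact mem_kerD_of_isSeparable E hE (Algebra.IsSeparable.isSeparable E z)

/-- `dx ≠ 0` for a separating variable, in any characteristic -/
theorem D_ne_zero_of_separating {x : K} (hx : Transcendental k x)
    [Algebra.IsSeparable (adjoin k ({x} : Set K)) K] : D k K x ≠ 0 := by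
  intro hD
  have hle : adjoin k ({x} : Set K) ≤ kerD k K := by
    rw [adjoin_simple_le_iff]; exact hD
  have htop := kerD_eq_top_of_isSeparable _ hle
  have h0 := finrank_kaehler_eq_zero_of_kerD_eq_top htop
  have h1 := finrank_kaehler_eq_one_of_separating hx
  omega

/-- in a geometric function field, `dx ≠ 0` forces `x` to be a separating variable -/
theorem isSeparable_of_D_ne_zero (hK : IsFunctionField k K) (hg : IsGeometric k K) {x : K}
    (hx : D k K x ≠ 0) : Algebra.IsSeparable (adjoin k ({x} : Set K)) K := by
  classical
  rcases CharP.exists' k with h0 | ⟨p, hp, hpk⟩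
  · have hxr : x ∉ Set.range (algebraMap k K) := by
      rintro ⟨c, rfl⟩
      exact hx ((D k K).map_algebraMap c)
    have hxt := transcendental_of_not_mem_range hK hxr
    have hfin := finite_adjoin_of_transcendental hK hxt
    have : CharZero (adjoin k ({x} : Set K)) :=
      charZero_of_injective_algebraMap (algebraMap k (adjoin k ({x} : Set K))).injective
    have : Algebra.IsAlgebraic (adjoin k ({x} : Set K)) K := Algebra.IsAlgebraic.of_finite _ _
    infer_instance
  · have hpf : Fact p.Prime := hp
    have hpK : CharP K p := charP_of_injective_algebraMap (algebraMap k K).injective p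
    apply isSeparable_of_not_mem_kKp p hK hg
    intro hmem
    exact hx (((mem_kKp_iff p hK hg x).1).1 hmem)

end Groth.Agent.FF
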