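import Groth.Agent.FunFld.Geometric
import Mathlib.RingTheory.Polynomial.GaussLemma
import Mathlib.FieldTheory.PrimitiveElement
import Mathlib.FieldTheory.Perfect
import Mathlib.RingTheory.AdjoinRoot

/-!
# Function fields over perfect fields are geometric
-/

set_option autoImplicit false

open FunFld IntermediateField Polynomial TensorProduct

namespace Groth.Agent.FF

universe u v
variable {k : Type u} {K : Type v} [Field k] [Field K] [Algebra k K]

/-- if `k` is algebraically closed in `K`, irreducible polynomials over `k` stay irreducible. -/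
lemma irreducible_map_of_algClosedIn
    (hcl : ∀ y : K, IsAlgebraic k y → y ∈ Set.range (algebraMap k K))
    {m : k[X]} (hm : Irreducible m) (hmonic : m.Monic) :
    Irreducible (m.map (algebraMap k K)) := by
  have hmonic' : (m.map (algebraMap k K)).Monic := hmonic.map _
  rw [hmonic'.irreducible_iff_natDegree]
  refine ⟨?_, ?_⟩
  · intro h1
    have h0 : (m.map (algebraMap k K)).natDegree = 0 := by rw [h1]; simp
    rw [natDegree_map] at h0
    exact (hm.natDegree_pos).ne' h0
  · intro f g hf hg hfg
    have key : ∀ p : K[X], p.Monic → p ∣ m.map (algebraMap k K) →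
        ∃ p₀ : k[X], p₀.map (algebraMap k K) = p := by
      intro p hp hd
      have h1 := integralClosure.mem_lifts_of_monic_of_dvd_map K hmonic hp hd
      rw [lifts_iff_coeff_lifts] at h1
      have h2 : ∀ n, p.coeff n ∈ Set.range (algebraMap k K) := by
        intro n
        obtain ⟨⟨y, hy⟩, hyn⟩ := h1 n
        have hyalg : IsAlgebraic k y := (hy : IsIntegral k y).isAlgebraic
        rw [← hyn]
        exact hcl y hyalg
      exact (mem_lifts _).mp ((lifts_iff_coeff_lifts p).mpr h2)
    obtain ⟨f₀, hf₀⟩ := key f hf ⟨g, hfg.symm⟩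
    obtain ⟨g₀, hg₀⟩ := key g hg ⟨f, by rw [mul_comm]; exact hfg.symm⟩
    have hprod : f₀ * g₀ = m := by
      apply Polynomial.map_injective _ (algebraMap k K).injective
      rw [Polynomial.map_mul, hf₀, hg₀, hfg]
    rcases hm.isUnit_or_isUnit hprod.symm with hu | hu
    · left
      rw [← hf₀, natDegree_map]
      exact natDegree_eq_zero_of_isUnit hu
    · right
      rw [← hg₀, natDegree_map]
      exact natDegree_eq_zero_of_isUnit hu

end Groth.Agent.FF

namespace Groth.Agent.FF

universe u v
variable {k : Type u} {K : Type v} [Field k] [Field K] [Algebra k K]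

/-- if the minimal polynomial of a generator of `k'` stays irreducible over `K`, then `k' ⊗ K`
is a field -/
lemma isField_tensor_of_irreducible (k' : Type u) [Field k'] [Algebra k k']
    (pb : PowerBasis k k')
    (hirr : Irreducible ((minpoly k pb.gen).map (algebraMap k K))) : IsField (k' ⊗[k] K) := by
  classical
  set q := (minpoly k pb.gen).map (algebraMap k K) with hq
  have : Fact (Irreducible q) := ⟨hirr⟩
  let E := AdjoinRoot q
  let θ : E := AdjoinRoot.root q
  have hθ : aeval θ (minpoly k pb.gen) = 0 := by
    have h1 : aeval θ (minpoly k pb.gen) = aeval θ q :=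
      (aeval_map_algebraMap K θ (minpoly k pb.gen)).symm
    rw [h1, AdjoinRoot.aeval_eq, AdjoinRoot.mk_self]
  let fa : k' →ₐ[k] E := pb.lift θ hθ
  have hfa : fa pb.gen = θ := pb.lift_gen θ hθ
  let A : IntermediateField k E := fa.fieldRange
  let e : k' ≃ₐ[k] A := AlgEquiv.ofInjectiveField fa
  let a : Module.Basis (Fin pb.dim) k A := pb.basis.map e.toLinearEquiv
  have ha : ∀ i, ((a i : A) : E) = θ ^ (i : ℕ) := by
    intro i
    show ((e (pb.basis i) : A) : E) = θ ^ (i : ℕ)
    rw [pb.basis_eq_pow]
    show fa (pb.gen ^ (i : ℕ)) = θ ^ (i : ℕ)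
    rw [map_pow, hfa]
  have hdim : pb.dim = q.natDegree := by
    rw [hq, natDegree_map, pb.natDegree_minpoly]
  have H : LinearIndependent K (A.val ∘ a) := by
    rw [Fintype.linearIndependent_iff]
    intro c hc
    set p : K[X] := ∑ i : Fin pb.dim, C (c i) * X ^ (i : ℕ) with hp
    have hpθ : aeval θ p = 0 := by
      rw [hp, map_sum, ← hc]
      apply Finset.sum_congr rfl
      intro i _
      rw [map_mul, aeval_C, map_pow, aeval_X, Function.comp_apply, Algebra.smul_def]
      congr 1
      exact (ha i).symm
    rw [AdjoinRoot.aeval_eq, AdjoinRoot.mk_eq_zero] at hpθ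
    have hdeg : p.degree < q.degree := by
      have h1 : p.degree < pb.dim := degree_sum_fin_lt c
      rw [degree_eq_natDegree hirr.ne_zero, ← hdim]
      exact h1
    have hp0 : p = 0 := eq_zero_of_dvd_of_degree_lt hpθ hdeg
    intro i
    have : p.coeff (i : ℕ) = c i := by
      rw [hp, finsetSum_coeff]
      rw [Finset.sum_eq_single i]
      · simp
      · intro j _ hji
        rw [coeff_C_mul, coeff_X_pow, if_neg, mul_zero]
        intro h
        exact hji (Fin.ext h.symm)
      · intro h; exact absurd (Finset.mem_univ i) h
    rw [← this, hp0, coeff_zero]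
  have LD : A.LinearDisjoint K := IntermediateField.LinearDisjoint.of_basis_left a H
  have hAalg : Algebra.IsAlgebraic k A := by
    have : Module.Finite k A := Module.Finite.of_basis a
    exact Algebra.IsAlgebraic.of_finite k A
  have hfield : IsField (A ⊗[k] K) := LD.isField_of_isAlgebraic (Or.inl hAalg)
  exact (Algebra.TensorProduct.congr e (AlgEquiv.refl : K ≃ₐ[k] K)).toMulEquiv.isField hfield

end Groth.Agent.FF

namespace Groth.Agent.FF

universe u v
variable {k : Type u} {K : Type v} [Field k] [Field K] [Algebra k K]

/-- `k' ⊗ K` is a field for `k'/k` finite separable, when `k` is algebraically closed in `K` -/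
theorem isField_tensor_of_isSeparable (hK : IsFunctionField k K) (k' : Type u) [Field k']
    [Algebra k k'] [FiniteDimensional k k'] [Algebra.IsSeparable k k'] : IsField (k' ⊗[k] K) := by
  let pb := Field.powerBasisOfFiniteOfSeparable k k'
  have hint : IsIntegral k pb.gen := Algebra.IsIntegral.isIntegral pb.gen
  exact isField_tensor_of_irreducible k' pb
    (irreducible_map_of_algClosedIn hK.2 (minpoly.irreducible hint) (minpoly.monic hint))

theorem isGeometric_of_perfectField [PerfectField k] (hK : IsFunctionField k K) :
    IsGeometric k K := by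
  intro k' _ _ hfin
  have halg : Algebra.IsAlgebraic k k' := Algebra.IsAlgebraic.of_finite k k'
  have hsep : Algebra.IsSeparable k k' := Algebra.IsAlgebraic.isSeparable_of_perfectField
  exact isField_tensor_of_isSeparable hK k'

end Groth.Agent.FF
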