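import Groth.Agent.FunFld.WeilDim

/-!
# The Riemann–Roch theorem
-/

set_option autoImplicit false

open FunFld IntermediateField Polynomial WithZero

namespace Groth.Agent.FF

universe u v
variable {k : Type u} {K : Type v} [Field k] [Field K] [Algebra k K]

/-- For `ω` with divisor `C`, multiplication `x ↦ xω` is a bijection `L(C - D) → W(D)`. -/
theorem existsUnique_mulW_eq (hK : IsFunctionField k K)
    (hx : ∀ (x : K), ∀ a ∈ adele k K, x • a ∈ adele k K)
    {ω : Module.Dual k (adele k K)} {C : Divisor k K} (hω : IsDivOf ω C) (D : Divisor k K)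
    {ω' : Module.Dual k (adele k K)} (hω' : ω' ∈ WD D) :
    ∃! x : K, x ∈ L (C - D) ∧ mulW x (hx x) ω = ω' := by
  have hω0 : ω ≠ 0 := isDivOf_ne_zero hK hω
  have hωW : IsWeil ω := ⟨C, (hω C).mpr le_rfl⟩
  obtain ⟨x, hxω⟩ := exists_mulW_eq hK hx ω ω' hωW hω0 ⟨D, hω'⟩
  refine ⟨x, ⟨?_, hxω⟩, ?_⟩
  · by_cases hx0 : x = 0
    · rw [hx0]; exact Submodule.zero_mem _
    have hdiv := isDivOf_mulW hK hx0 (hx x) hω
    rw [hxω] at hdiv
    have hDle : D ≤ C + FunFld.div k x := (hdiv D).mp hω'
    rw [mem_L_iff_div hK _ hx0]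
    have : C - D + FunFld.div k x = C + FunFld.div k x - D := by abel
    rw [this, sub_nonneg]
    exact hDle
  · rintro y ⟨-, hy⟩
    have h1 : mulWLin hx ω y = mulWLin hx ω x := by
      rw [mulWLin_apply, mulWLin_apply, hy, hxω]
    exact mulWLin_injective hx hω0 h1

/-- `dim W(D) = ℓ(C - D)` for a canonical divisor `C`. -/
theorem finrank_WD_eq_ell (hK : IsFunctionField k K) {C : Divisor k K} (hC : IsCanonical k K C)
    (D : Divisor k K) : Module.finrank k (WD D) = ell (C - D) := by
  obtain ⟨ω, hω0, hω⟩ := hC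
  have hx := fun x : K => adele_smul_mem hK x
  have hmap : (L (C - D)).map (mulWLin hx ω) = WD D := by
    ext ω'
    constructor
    · rintro ⟨x, hxL, rfl⟩
      have hωC : ω ∈ WD C := (hω C).mpr le_rfl
      have := mulW_mem_WD_sub hK hxL (hx x) hωC
      rwa [sub_sub_cancel] at this
    · intro hω'
      obtain ⟨x, ⟨hxL, hxω⟩, -⟩ := existsUnique_mulW_eq hK hx hω D hω'
      exact ⟨x, hxL, hxω⟩
  rw [← hmap]
  exact (Submodule.equivMapOfInjective _ (mulWLin_injective hx hω0) _).finrank_eq.symm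

/-- The Riemann–Roch theorem. -/
theorem riemann_roch (hK : IsFunctionField k K) {C : Divisor k K} (hC : IsCanonical k K C)
    (D : Divisor k K) : (ell D : ℤ) = D.deg + 1 - genus k K + ell (C - D) := by
  obtain ⟨-, hrank⟩ := finite_WD hK D
  rw [finrank_WD_eq_ell hK hC] at hrank
  unfold delta at hrank
  linarith

/-- existence of a nonzero Weil differential, hence of a canonical divisor -/
theorem exists_isCanonical (hK : IsFunctionField k K) : ∃ C : Divisor k K, IsCanonical k K C := by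
  obtain ⟨P₀⟩ := exists_place hK
  set B : Divisor k K := Finsupp.single P₀ (-2 : ℤ) with hB
  have hBdeg : B.deg ≤ -2 := by
    rw [hB, deg_single]
    have h1 : (1 : ℤ) ≤ P₀.deg := by exact_mod_cast deg_pos hK P₀
    nlinarith
  obtain ⟨hfin, hrank⟩ := finite_WD hK B
  have hell : ell B = 0 := ell_eq_zero_of_deg_neg hK _ (by linarith)
  unfold delta at hrank
  rw [hell] at hrank
  have hpos : 0 < Module.finrank k (WD B) := by
    have : (0 : ℤ) < Module.finrank k (WD B) := by
      rw [hrank]; push_cast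
      have : (0 : ℤ) ≤ genus k K := by positivity
      linarith
    exact_mod_cast this
  have := Module.nontrivial_of_finrank_pos hpos
  obtain ⟨⟨ω, hω⟩, hω0⟩ := exists_ne (0 : WD B)
  have hω0' : ω ≠ 0 := fun h => hω0 (Subtype.ext h)
  obtain ⟨C, hC⟩ := exists_isDivOf hK ω ⟨B, hω⟩ hω0'
  exact ⟨C, ω, hω0', hC⟩

lemma ell_canonical (hK : IsFunctionField k K) {C : Divisor k K} (hC : IsCanonical k K C) :
    ell C = genus k K := by
  have h := riemann_roch hK hC 0
  rw [ell_zero hK, deg_zero, sub_zero] at h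
  have : (ell C : ℤ) = genus k K := by push_cast at h; linarith
  exact_mod_cast this

lemma deg_canonical (hK : IsFunctionField k K) {C : Divisor k K} (hC : IsCanonical k K C) :
    C.deg = 2 * (genus k K : ℤ) - 2 := by
  have h := riemann_roch hK hC C
  rw [sub_self, ell_zero hK, ell_canonical hK hC] at h
  push_cast at h
  linarith

/-- `ℓ(D) = deg D + 1 - g` for `deg D ≥ 2g - 1`. -/
theorem ell_eq_of_deg_ge (hK : IsFunctionField k K) (D : Divisor k K)
    (h : 2 * (genus k K : ℤ) - 1 ≤ D.deg) : (ell D : ℤ) = D.deg + 1 - genus k K := by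
  obtain ⟨C, hC⟩ := exists_isCanonical hK
  have hrr := riemann_roch hK hC D
  have hneg : (C - D).deg < 0 := by
    rw [deg_sub, deg_canonical hK hC]; linarith
  rw [ell_eq_zero_of_deg_neg hK _ hneg] at hrr
  simpa using hrr

/-- a divisor of degree zero with a nonzero section is principal -/
lemma eq_neg_div_of_deg_zero (hK : IsFunctionField k K) {D : Divisor k K} (hdeg : D.deg = 0)
    {x : K} (hx0 : x ≠ 0) (hx : x ∈ L D) : D + FunFld.div k x = 0 := by
  have h1 := (mem_L_iff_div hK D hx0).mp hx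
  by_contra hne
  have hlt : (0 : Divisor k K) < D + FunFld.div k x := lt_of_le_of_ne h1 (Ne.symm hne)
  have := deg_lt_of_lt hK hlt
  rw [deg_zero, deg_add, deg_div_eq_zero hK, hdeg, add_zero] at this
  exact lt_irrefl (0 : ℤ) this

/-- characterization of canonical divisors -/
theorem isCanonical_iff (hK : IsFunctionField k K) (C : Divisor k K) :
    IsCanonical k K C ↔ (ell C = genus k K ∧ C.deg = 2 * (genus k K : ℤ) - 2) := by
  constructor
  · intro hC
    exact ⟨ell_canonical hK hC, deg_canonical hK hC⟩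
  · rintro ⟨hell, hdeg⟩
    obtain ⟨W, hW⟩ := exists_isCanonical hK
    have hrr := riemann_roch hK hW C
    rw [hell, hdeg] at hrr
    have h1 : ell (W - C) = 1 := by
      have : (ell (W - C) : ℤ) = 1 := by linarith
      exact_mod_cast this
    have hd0 : (W - C).deg = 0 := by
      rw [deg_sub, deg_canonical hK hW, hdeg]; ring
    obtain ⟨x, hx0, hxL⟩ := exists_ne_zero_mem_L (D := W - C) (by rw [h1]; exact one_pos)
    have hprinc := eq_neg_div_of_deg_zero hK hd0 hx0 hxL
    have hCeq : C = W + FunFld.div k x := by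
      have : W - C + FunFld.div k x = 0 := hprinc
      have h2 : C = W + FunFld.div k x - (W - C + FunFld.div k x) := by abel
      rw [h2, this, sub_zero]
    obtain ⟨ω, hω0, hω⟩ := hW
    have hx := adele_smul_mem hK x
    refine ⟨mulW x hx ω, ?_, ?_⟩
    · intro h
      exact hω0 ((mulW_eq_zero_iff (fun x => adele_smul_mem hK x) hx0 ω).mp h)
    · rw [hCeq]
      exact isDivOf_mulW hK hx0 hx hω

/-- any two canonical divisors are linearly equivalent -/
theorem canonical_linEquiv (hK : IsFunctionField k K) {C₁ C₂ : Divisor k K}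
    (h₁ : IsCanonical k K C₁) (h₂ : IsCanonical k K C₂) :
    ∃ x : K, x ≠ 0 ∧ C₂ = C₁ + FunFld.div k x := by
  obtain ⟨ω₁, hω₁0, hω₁⟩ := h₁
  obtain ⟨ω₂, hω₂0, hω₂⟩ := h₂
  have hx := fun x : K => adele_smul_mem hK x
  obtain ⟨x, hxω⟩ := exists_mulW_eq hK hx ω₁ ω₂ ⟨C₁, (hω₁ C₁).mpr le_rfl⟩ hω₁0
    ⟨C₂, (hω₂ C₂).mpr le_rfl⟩
  have hx0 : x ≠ 0 := by
    rintro rfl
    rw [mulW_zero hx] at hxω
    exact hω₂0 hxω.symm
  refine ⟨x, hx0, ?_⟩
  have hdiv := isDivOf_mulW hK hx0 (hx x) hω₁
  rw [hxω] at hdiv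
  exact isDivOf_unique hω₂ hdiv

end Groth.Agent.FF
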