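import Groth.Agent.FunFld.CharPFF2
import Mathlib.FieldTheory.PurelyInseparable.Exponent

/-!
# `L = E(L^p)` with `L/E` finite implies `L/E` separable; constants of `d` in char `p`
-/

set_option autoImplicit false

open FunFld IntermediateField KaehlerDifferential

namespace Groth.Agent.FF

section general

universe w₁ w₂
variable {E : Type w₁} {L : Type w₂} [Field E] [Field L] [Algebra E L]

/-- the preimage of an intermediate field under the Frobenius map -/
noncomputable def frobComap (p : ℕ) [hp : Fact p.Prime] [CharP L p] (M : IntermediateField E L) :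
    IntermediateField E L where
  carrier := {y | y ^ p ∈ M}
  mul_mem' {a b} ha hb := by
    change (a * b) ^ p ∈ M
    rw [mul_pow]; exact M.mul_mem ha hb
  one_mem' := by
    change (1 : L) ^ p ∈ M
    rw [one_pow]; exact M.one_mem
  add_mem' {a b} ha hb := by
    change (a + b) ^ p ∈ M
    rw [add_pow_char]; exact M.add_mem ha hb
  zero_mem' := by
    change (0 : L) ^ p ∈ M
    rw [zero_pow hp.out.ne_zero]; exact M.zero_mem
  algebraMap_mem' c := by
    change (algebraMap E L c) ^ p ∈ M
    rw [← map_pow]; exact M.algebraMap_mem _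
  inv_mem' a ha := by
    change (a⁻¹) ^ p ∈ M
    rw [inv_pow]; exact M.inv_mem ha

lemma mem_frobComap (p : ℕ) [Fact p.Prime] [CharP L p] (M : IntermediateField E L) (y : L) :
    y ∈ frobComap p M ↔ y ^ p ∈ M := Iff.rfl

/-- if `L/E` is finite of characteristic `p` and `L = E(L^p)` then `L/E` is separable -/
theorem isSeparable_of_adjoin_pow_eq_top (p : ℕ) [hp : Fact p.Prime] [CharP L p]
    [FiniteDimensional E L] (h : adjoin E (Set.range fun y : L => y ^ p) = ⊤) :
    Algebra.IsSeparable E L := by
  rw [← separableClosure.eq_top_iff]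
  set S := separableClosure E L with hS
  have hcharS : CharP S p :=
    (RingHom.charP_iff (algebraMap S L) (algebraMap S L).injective p).mpr inferInstance
  have hexp : ExpChar S p := ExpChar.prime hp.out
  have hpi : IsPurelyInseparable S L := separableClosure.isPurelyInseparable E L
  have hfin : FiniteDimensional S L := inferInstance
  have hexpo : IsPurelyInseparable.HasExponent S L :=
    IsPurelyInseparable.hasExponent_of_finiteDimensional
  have key : ∀ m : ℕ, S ⊔ adjoin E (Set.range fun y : L => y ^ p ^ m) = ⊤ := by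
    intro m
    induction m with
    | zero =>
      rw [eq_top_iff]
      intro y _
      have : y ∈ adjoin E (Set.range fun y : L => y ^ p ^ 0) :=
        subset_adjoin E _ ⟨y, by simp⟩
      exact (le_sup_right : _ ≤ S ⊔ adjoin E (Set.range fun y : L => y ^ p ^ 0)) this
    | succ m ih =>
      set M := S ⊔ adjoin E (Set.range fun y : L => y ^ p ^ (m + 1)) with hM
      have hN : S ⊔ adjoin E (Set.range fun y : L => y ^ p ^ m) ≤ frobComap p M := by
        apply sup_le
        · intro y hy
          rw [mem_frobComap]
          exact (le_sup_left : S ≤ M) (pow_mem hy p)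
        · rw [adjoin_le_iff]
          rintro _ ⟨z, rfl⟩
          change (z ^ p ^ m) ^ p ∈ M
          rw [← pow_mul, ← pow_succ]
          exact (le_sup_right : _ ≤ M) (subset_adjoin E _ ⟨z, rfl⟩)
      rw [ih] at hN
      rw [eq_top_iff, ← h, adjoin_le_iff]
      rintro _ ⟨y, rfl⟩
      exact hN (mem_top (x := y))
  have hle : S ⊔ adjoin E (Set.range fun y : L => y ^ p ^ (IsPurelyInseparable.exponent S L)) ≤ S := by
    apply sup_le le_rfl
    rw [adjoin_le_iff]
    rintro _ ⟨y, rfl⟩
    obtain ⟨s, hs⟩ := IsPurelyInseparable.exponent_def' S p y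
    change y ^ p ^ IsPurelyInseparable.exponent S L ∈ S
    rw [← hs]
    exact s.2
  rw [key] at hle
  exact top_le_iff.mp hle

end general

end Groth.Agent.FF

namespace Groth.Agent.FF

universe u v
variable {k : Type u} {K : Type v} [Field k] [Field K] [Algebra k K]

/-- an element `x` with `K/k(x)` separable algebraic is transcendental -/
lemma transcendental_of_isSeparable (hK : IsFunctionField k K) {x : K}
    [Algebra.IsSeparable (adjoin k ({x} : Set K)) K] : Transcendental k x := by
  intro halg
  obtain ⟨⟨x₀, hx₀, -⟩, -⟩ := id hK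
  have h1 : Algebra.IsAlgebraic k (adjoin k ({x} : Set K)) :=
    isAlgebraic_adjoin_simple halg.isIntegral
  have h2 : Algebra.IsAlgebraic (adjoin k ({x} : Set K)) K := inferInstance
  have : Algebra.IsAlgebraic k K := Algebra.IsAlgebraic.trans k (adjoin k ({x} : Set K)) K
  exact hx₀ (Algebra.IsAlgebraic.isAlgebraic x₀)

/-- `dx ≠ 0` for a separating variable `x` -/
lemma D_ne_zero_of_isSeparable (p : ℕ) [hp : Fact p.Prime] [CharP K p]
    (hK : IsFunctionField k K) {x : K}
    [Algebra.IsSeparable (adjoin k ({x} : Set K)) K] : D k K x ≠ 0 := by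
  intro hD
  have hx := transcendental_of_isSeparable hK (x := x)
  have htop := adjoin_kKp_simple_eq_top (k := k) p (x := x)
  have hΩ := finrank_kaehler_eq_one_of_separating hx
  have hle := adjoin_pow_le_kerD (k := k) (K := K) p
  have hker : kerD k K = ⊤ := by
    rw [eq_top_iff]
    intro y _
    have hy : y ∈ adjoin (adjoin k (Set.range fun y : K => y ^ p)) ({x} : Set K) := by
      rw [htop]; trivial
    have : adjoin (adjoin k (Set.range fun y : K => y ^ p)) ({x} : Set K) ≤
        extendScalars hle := by
      rw [adjoin_simple_le_iff]; exact hD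
    exact this hy
  have := finrank_kaehler_eq_zero_of_kerD_eq_top hker
  omega

/-- an element outside `k K^p` is a separating variable -/
lemma isSeparable_of_not_mem_kKp (p : ℕ) [hp : Fact p.Prime] [CharP K p]
    (hK : IsFunctionField k K) (hg : IsGeometric k K) {x : K}
    (hx : x ∉ adjoin k (Set.range fun y : K => y ^ p)) :
    Algebra.IsSeparable (adjoin k ({x} : Set K)) K := by
  have hxt : Transcendental k x := transcendental_of_not_mem_range hK
    (fun ⟨c, hc⟩ => hx (hc ▸ IntermediateField.algebraMap_mem _ c))
  have hfin := finite_adjoin_of_transcendental hK hxt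
  have hF := finrank_kKp p hK hg
  have hprime : (Module.finrank (adjoin k (Set.range fun y : K => y ^ p)) K).Prime := by
    rw [hF]; exact hp.out
  have hsimple := isSimpleOrder_of_finrank_prime
    (adjoin k (Set.range fun y : K => y ^ p)) K hprime
  have htop : adjoin (adjoin k (Set.range fun y : K => y ^ p)) ({x} : Set K) = ⊤ := by
    rcases eq_bot_or_eq_top (adjoin (adjoin k (Set.range fun y : K => y ^ p)) ({x} : Set K))
      with h | h
    · exfalso
      rw [adjoin_simple_eq_bot_iff, mem_bot] at h
      obtain ⟨z, rfl⟩ := h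
      exact hx z.2
    · exact h
  apply isSeparable_of_adjoin_pow_eq_top p
  have hFM : adjoin k (Set.range fun y : K => y ^ p) ≤
      (adjoin (adjoin k ({x} : Set K)) (Set.range fun y : K => y ^ p)).restrictScalars k := by
    rw [adjoin_le_iff]
    rintro _ ⟨y, rfl⟩
    exact subset_adjoin _ _ ⟨y, rfl⟩
  have hxM : x ∈ adjoin (adjoin k ({x} : Set K)) (Set.range fun y : K => y ^ p) :=
    IntermediateField.algebraMap_mem _ (⟨x, mem_adjoin_simple_self k x⟩ : adjoin k ({x} : Set K))
  rw [eq_top_iff]
  intro y _
  have hy : y ∈ adjoin (adjoin k (Set.range fun y : K => y ^ p)) ({x} : Set K) := by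
    rw [htop]; trivial
  have : adjoin (adjoin k (Set.range fun y : K => y ^ p)) ({x} : Set K) ≤
      extendScalars hFM := by
    rw [adjoin_simple_le_iff]; exact hxM
  exact this hy

/-- `x ∈ k K^p ↔ dx = 0 ↔ x` is not a separating variable -/
theorem mem_kKp_iff (p : ℕ) [hp : Fact p.Prime] [CharP K p]
    (hK : IsFunctionField k K) (hg : IsGeometric k K) (x : K) :
    (x ∈ adjoin k (Set.range fun y : K => y ^ p) ↔ D k K x = 0) ∧
    (x ∈ adjoin k (Set.range fun y : K => y ^ p) ↔
      ¬ Algebra.IsSeparable (adjoin k ({x} : Set K)) K) := by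
  have h1 : x ∈ adjoin k (Set.range fun y : K => y ^ p) → D k K x = 0 :=
    fun h => adjoin_pow_le_kerD (k := k) (K := K) p h
  have h2 : D k K x = 0 → ¬ Algebra.IsSeparable (adjoin k ({x} : Set K)) K :=
    fun hD hsep => D_ne_zero_of_isSeparable p hK hD
  have h3 : ¬ Algebra.IsSeparable (adjoin k ({x} : Set K)) K →
      x ∈ adjoin k (Set.range fun y : K => y ^ p) := by
    intro hns
    by_contra hx
    exact hns (isSeparable_of_not_mem_kKp p hK hg hx)
  exact ⟨⟨h1, fun h => h3 (h2 h)⟩, ⟨fun h => h2 (h1 h), h3⟩⟩

end Groth.Agent.FF
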