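import Groth.Agent.FunFld.SepVar
import Mathlib.RingTheory.Etale.Kaehler
import Mathlib.RingTheory.Etale.Field
import Mathlib.RingTheory.Kaehler.Polynomial
import Mathlib.RingTheory.Smooth.Field

/-!
# Kähler differentials of a function field with a separating variable
-/

set_option autoImplicit false

open FunFld IntermediateField TensorProduct KaehlerDifferential

namespace Groth.Agent.FF

universe u v

/-- base change of Kähler differentials along a formally étale map preserves the rank -/
lemma kaehler_free_finrank_of_formallyEtale (R S T : Type*) [CommRing R] [CommRing S] [CommRing T]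
    [Algebra R S] [Algebra R T] [Algebra S T] [IsScalarTower R S T]
    [Algebra.FormallyEtale S T] [Module.Free S Ω[S⁄R]] [StrongRankCondition S]
    [StrongRankCondition T] :
    Module.Free T Ω[T⁄R] ∧ Module.finrank T Ω[T⁄R] = Module.finrank S Ω[S⁄R] := by
  have e := tensorKaehlerEquivOfFormallyEtale R S T
  refine ⟨Module.Free.of_equiv e, ?_⟩
  rw [← e.finrank_eq, Module.finrank_baseChange]

end Groth.Agent.FF

namespace Groth.Agent.FF

universe u v

lemma kaehler_free_finrank_of_algEquiv (R S S' : Type*) [CommRing R] [CommRing S] [CommRing S']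
    [Algebra R S] [Algebra R S'] (e : S ≃ₐ[R] S') [Module.Free S Ω[S⁄R]]
    [StrongRankCondition S] [StrongRankCondition S'] :
    Module.Free S' Ω[S'⁄R] ∧ Module.finrank S' Ω[S'⁄R] = Module.finrank S Ω[S⁄R] := by
  let _ : Algebra S S' := e.toAlgHom.toRingHom.toAlgebra
  have : IsScalarTower R S S' := IsScalarTower.of_algebraMap_eq (fun r => (e.commutes r).symm)
  have : Algebra.FormallyEtale S S' := by
    let e' : S ≃ₐ[S] S' := { e.toRingEquiv with commutes' := fun s => rfl }
    exact Algebra.FormallyEtale.of_equiv e'
  exact kaehler_free_finrank_of_formallyEtale R S S'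

variable {k : Type u} {K : Type v} [Field k] [Field K] [Algebra k K]

open scoped IntermediateField.algebraAdjoinAdjoin in
/-- `dim_K Ω_{K/k} = 1` when `K` is separable algebraic over `k(x)` with `x` transcendental -/
theorem finrank_kaehler_eq_one_of_separating {x : K} (hx : Transcendental k x)
    [Algebra.IsSeparable (adjoin k ({x} : Set K)) K] :
    Module.finrank K Ω[K⁄k] = 1 := by
  -- the polynomial ring
  have h0 : Module.Free (Polynomial k) Ω[Polynomial k⁄k] ∧
      Module.finrank (Polynomial k) Ω[Polynomial k⁄k] = 1 := by
    have e := KaehlerDifferential.polynomialEquiv k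
    exact ⟨Module.Free.of_equiv e.symm, by rw [e.finrank_eq, Module.finrank_self]⟩
  have := h0.1
  -- the subalgebra `k[x]`
  let e : Polynomial k ≃ₐ[k] Algebra.adjoin k ({x} : Set K) :=
    (AlgEquiv.ofInjective (Polynomial.aeval x) (transcendental_iff_injective.mp hx)).trans
      (Subalgebra.equivOfEq _ _ (Algebra.adjoin_singleton_eq_range_aeval k x).symm)
  have h1 := kaehler_free_finrank_of_algEquiv k (Polynomial k) (Algebra.adjoin k ({x} : Set K)) e
  have := h1.1
  -- the field `k(x)`
  have : Algebra.FormallyEtale (Algebra.adjoin k ({x} : Set K)) (adjoin k ({x} : Set K)) :=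
    .of_isLocalization (nonZeroDivisors _)
  have h2 := kaehler_free_finrank_of_formallyEtale k (Algebra.adjoin k ({x} : Set K))
    (adjoin k ({x} : Set K))
  have := h2.1
  -- the field `K`
  have : Algebra.FormallyEtale (adjoin k ({x} : Set K)) K :=
    Algebra.FormallyEtale.of_isSeparable _ K
  have h3 := kaehler_free_finrank_of_formallyEtale k (adjoin k ({x} : Set K)) K
  rw [h3.2, h2.2, h1.2, h0.2]

end Groth.Agent.FF
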