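import Groth.Agent.FunFld.Geometric
import Mathlib.FieldTheory.SeparablyGenerated
import Mathlib.FieldTheory.IsAlgClosed.AlgebraicClosure
import Mathlib.LinearAlgebra.TensorProduct.Basis

/-!
# Separating variables of geometric function fields
-/

set_option autoImplicit false

open FunFld IntermediateField TensorProduct

namespace Groth.Agent.FF

universe u v
variable {k : Type u} {K : Type v} [Field k] [Field K] [Algebra k K]

/-- in a tensor product over a field, `∑ aᵢ ⊗ sᵢ = 0` with the `sᵢ` linearly independent forces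
`aᵢ = 0` -/
lemma tmul_sum_eq_zero_of_linearIndepOn {M : Type*} [AddCommGroup M] [Module k M]
    (s : Finset K) (hs : LinearIndepOn k id (s : Set K)) (a : K → M)
    (h : ∑ i ∈ s, a i ⊗ₜ[k] i = 0) : ∀ i ∈ s, a i = 0 := by
  classical
  let b := Module.Basis.extend hs
  have hsub : (s : Set K) ⊆ hs.extend (Set.subset_univ _) := Module.Basis.subset_extend hs
  -- the finitely supported function
  let f : ↥(hs.extend (Set.subset_univ (s : Set K))) →₀ M :=
    Finsupp.onFinset (s.subtype (fun x => x ∈ hs.extend (Set.subset_univ (s : Set K))))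
      (fun x => if (x : K) ∈ s then a x else 0)
      (by
        intro x hx
        simp only [ne_eq, ite_eq_right_iff, Classical.not_imp] at hx
        simpa using hx.1)
  have hf : (f.sum fun i m => m ⊗ₜ[k] b i) = 0 := by
    rw [Finsupp.sum, ← h]
    have hsupp : f.support ⊆ s.subtype (fun x => x ∈ hs.extend (Set.subset_univ (s : Set K))) :=
      Finsupp.support_onFinset_subset
    rw [Finset.sum_subset hsupp (by
      intro x _ hx
      rw [Finsupp.notMem_support_iff] at hx
      rw [hx, zero_tmul])]
    rw [← Finset.sum_subtype_of_mem (f := fun i : K => a i ⊗ₜ[k] i)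
      (p := fun x => x ∈ hs.extend (Set.subset_univ (s : Set K))) (fun x hx => hsub hx)]
    apply Finset.sum_congr rfl
    intro x hx
    rw [Finset.mem_subtype] at hx
    simp only [f, Finsupp.onFinset_apply, if_pos hx, b, Module.Basis.extend_apply_self]
  have := TensorProduct.sum_tmul_basis_right_eq_zero b f hf
  intro i hi
  have h1 := DFunLike.congr_fun this ⟨i, hsub hi⟩
  simpa [f, hi] using h1

end Groth.Agent.FF

namespace Groth.Agent.FF

universe u v
variable {k : Type u} {K : Type v} [Field k] [Field K] [Algebra k K]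

lemma eq_zero_of_pow_eq_zero_of_isField {T : Type*} [CommRing T] (hT : IsField T) {x : T} {n : ℕ}
    (h : x ^ n = 0) : x = 0 := by
  by_contra hne
  obtain ⟨y, hy⟩ := hT.mul_inv_cancel hne
  have h1 : (1 : T) = 0 := by
    calc (1 : T) = (x * y) ^ n := by rw [hy, one_pow]
      _ = x ^ n * y ^ n := mul_pow _ _ _
      _ = 0 := by rw [h, zero_mul]
  obtain ⟨a, b, hab⟩ := hT.exists_pair_ne
  apply hab
  rw [← mul_one a, ← mul_one b, h1, mul_zero, mul_zero]

lemma sum_tmul_pow_char {A B ι : Type*} [CommRing A] [CommRing B] [Algebra k A] [Algebra k B]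
    (p : ℕ) [ExpChar (A ⊗[k] B) p] (s : Finset ι) (a : ι → A) (b : ι → B) :
    (∑ i ∈ s, a i ⊗ₜ[k] b i) ^ p = ∑ i ∈ s, (a i ^ p) ⊗ₜ[k] (b i ^ p) := by
  rw [sum_pow_char p]
  apply Finset.sum_congr rfl
  intro i _
  rw [Algebra.TensorProduct.tmul_pow]

/-- in a geometric extension of characteristic `p`, `p`-th powers of `k`-linearly independent
elements stay `k`-linearly independent -/
theorem linearIndepOn_pow_of_isGeometric (p : ℕ) [hp : Fact p.Prime] [CharP k p]
    (hg : IsGeometric k K) (s : Finset K) (hs : LinearIndepOn k id (s : Set K)) :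
    LinearIndepOn k (· ^ p) (s : Set K) := by
  classical
  rw [linearIndepOn_finset_iff]
  intro c hc
  -- p-th roots of the coefficients in the algebraic closure
  have hroot : ∀ i : K, ∃ z : AlgebraicClosure k, z ^ p = algebraMap k (AlgebraicClosure k) (c i) :=
    fun i => IsAlgClosed.exists_pow_nat_eq _ hp.out.pos
  choose γ hγ using hroot
  let S : Set (AlgebraicClosure k) := γ '' (s : Set K)
  have hSfin : S.Finite := (Finset.finite_toSet s).image γ
  have := hSfin.to_subtype
  obtain ⟨k', hk'⟩ : ∃ k' : IntermediateField k (AlgebraicClosure k), k' = adjoin k S := ⟨_, rfl⟩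
  have hfd : FiniteDimensional k k' := by
    rw [hk']
    exact finiteDimensional_adjoin fun x _ => (Algebra.IsAlgebraic.isAlgebraic x).isIntegral
  have hT := hg k' hfd
  have hmem : ∀ i ∈ s, γ i ∈ k' := by
    intro i hi
    rw [hk']
    exact subset_adjoin _ _ ⟨i, hi, rfl⟩
  let γ' : K → k' := fun i => if h : i ∈ s then ⟨γ i, hmem i h⟩ else 0
  have hγ' : ∀ i ∈ s, γ' i ^ p = algebraMap k k' (c i) := by
    intro i hi
    apply Subtype.ext
    simp only [γ', dif_pos hi]
    exact hγ i
  have hnt : Nontrivial (k' ⊗[k] K) := by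
    obtain ⟨a, b, hab⟩ := hT.exists_pair_ne
    exact ⟨a, b, hab⟩
  have hchar : CharP (k' ⊗[k] K) p :=
    charP_of_injective_algebraMap (algebraMap k (k' ⊗[k] K)).injective p
  set θ : k' ⊗[k] K := ∑ i ∈ s, γ' i ⊗ₜ[k] i with hθ
  have hexp : ExpChar (k' ⊗[k] K) p := ExpChar.prime hp.out
  have hθp : θ ^ p = 0 := by
    have h0 := sum_tmul_pow_char (k := k) p s γ' (fun i : K => i)
    have h1 : ∀ i ∈ s, (γ' i ^ p) ⊗ₜ[k] (i ^ p) = (1 : k') ⊗ₜ[k] (c i • i ^ p) := by
      intro i hi
      rw [hγ' i hi, Algebra.algebraMap_eq_smul_one, TensorProduct.smul_tmul]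
    rw [Finset.sum_congr rfl h1, ← TensorProduct.tmul_sum, hc, TensorProduct.tmul_zero] at h0
    exact h0
  have hθ0 : θ = 0 := eq_zero_of_pow_eq_zero_of_isField hT hθp
  have hzero := tmul_sum_eq_zero_of_linearIndepOn s hs γ' hθ0
  intro i hi
  have h1 := hγ' i hi
  rw [hzero i hi, zero_pow hp.out.ne_zero] at h1
  exact ((algebraMap k k').injective (by rw [map_zero]; exact h1.symm))

end Groth.Agent.FF

namespace Groth.Agent.FF

universe u v
variable {k : Type u} {K : Type v} [Field k] [Field K] [Algebra k K]

/-- a transcendental element of a function field is a transcendence basis -/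
lemma isTranscendenceBasis_punit (hK : IsFunctionField k K) {x : K} (hx : Transcendental k x) :
    IsTranscendenceBasis k (fun _ : PUnit.{v+1} => x) := by
  have hess := essFiniteType_of_isFunctionField hK
  have htr := trdeg_le_one_of_isFunctionField hK
  have hind : AlgebraicIndependent k (fun _ : PUnit.{v+1} => x) := by
    rw [algebraicIndependent_unique_type_iff]; exact hx
  exact hind.isTranscendenceBasis_of_trdeg_le_of_finite (by simpa using htr)

/-- a geometric function field has a separating variable -/
theorem exists_separating (hK : IsFunctionField k K) (hg : IsGeometric k K) :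
    ∃ x : K, Transcendental k x ∧ Algebra.IsSeparable (adjoin k ({x} : Set K)) K := by
  classical
  obtain ⟨⟨x₀, hx₀, hfin⟩, -⟩ := id hK
  rcases CharP.exists' k with h0 | ⟨p, hp, hpk⟩
  · refine ⟨x₀, hx₀, ?_⟩
    have : CharZero (adjoin k ({x₀} : Set K)) :=
      charZero_of_injective_algebraMap (algebraMap k (adjoin k ({x₀} : Set K))).injective
    have : Algebra.IsAlgebraic (adjoin k ({x₀} : Set K)) K := Algebra.IsAlgebraic.of_finite _ _
    infer_instance
  · have := essFiniteType_of_isFunctionField hK
    obtain ⟨s, hs, hsep⟩ :=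
      exists_isTranscendenceBasis_and_isSeparable_of_linearIndepOn_pow_of_essFiniteType
        (k := k) (K := K) p hp.out (fun s hs => linearIndepOn_pow_of_isGeometric p hg s hs)
    have hcard := (isTranscendenceBasis_punit hK hx₀).cardinalMk_eq hs
    have hcard1 : s.card = 1 := by
      have h1 : Cardinal.mk ↥s = (1 : Cardinal.{v}) := by
        rw [← hcard]; simp
      rw [Cardinal.mk_fintype, Fintype.card_coe] at h1
      exact_mod_cast h1
    obtain ⟨x, rfl⟩ := Finset.card_eq_one.mp hcard1
    refine ⟨x, ?_, ?_⟩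
    · have := hs.1.transcendental ⟨x, Finset.mem_singleton_self x⟩
      exact this
    · have e : ((({x} : Finset K) : Set K)) = {x} := Finset.coe_singleton x
      rw [e] at hsep
      exact hsep

end Groth.Agent.FF
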