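import Groth.Agent.FunFld.RR

/-!
# Strong approximation
-/

set_option autoImplicit false

open FunFld IntermediateField Polynomial WithZero

namespace Groth.Agent.FF

universe u v
variable {k : Type u} {K : Type v} [Field k] [Field K] [Algebra k K]

lemma delta_eq_genus_of_deg_ge (hK : IsFunctionField k K) (D : Divisor k K)
    (h : 2 * (genus k K : ℤ) - 1 ≤ D.deg) : delta D = (genus k K : ℤ) := by
  unfold delta
  rw [ell_eq_of_deg_ge hK D h]; ring

/-- every adele is congruent to a principal adele modulo `A(D₀ + l P∞)` for some `l` -/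
lemma exists_approx_adele (hK : IsFunctionField k K) (Pinf : Place k K) (D₀ : Divisor k K)
    {a : Place k K → K} (ha : a ∈ adele k K) :
    ∃ (l : ℕ) (z : K), diag k K z - a ∈ AD (D₀ + Finsupp.single Pinf (l : ℤ)) := by
  set l : ℕ := (2 * (genus k K : ℤ) - 1 - D₀.deg).toNat with hl
  have hdeg : 2 * (genus k K : ℤ) - 1 ≤ (D₀ + Finsupp.single Pinf (l : ℤ)).deg := by
    rw [deg_add, deg_single]
    have h1 : (1 : ℤ) ≤ Pinf.deg := by exact_mod_cast deg_pos hK Pinf
    have h2 : 2 * (genus k K : ℤ) - 1 - D₀.deg ≤ l := Int.self_le_toNat _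
    have h3 : (0 : ℤ) ≤ l := by simp
    nlinarith
  have hle := adele_le_of_delta_eq_genus hK (delta_eq_genus_of_deg_ge hK _ hdeg) ha
  rw [Submodule.mem_sup] at hle
  obtain ⟨b, hb, c, ⟨z, rfl⟩, hbc⟩ := hle
  refine ⟨l, z, ?_⟩
  have : diag k K z - a = -b := by rw [← hbc]; abel
  rw [this]
  exact Submodule.neg_mem _ hb

/-- Strong approximation, inequality form. -/
theorem strong_approx_le (hK : IsFunctionField k K) (Pinf : Place k K) {n : ℕ}
    (P : Fin n → Place k K) (hP : Function.Injective P) (hinf : Pinf ∉ Set.range P)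
    (x : Fin n → K) (m : Fin n → ℤ) :
    ∃ z : K, (∀ i, (P i).1 (z - x i) ≤ exp (-(m i))) ∧
      ∀ Q : Place k K, Q ≠ Pinf → Q ∉ Set.range P → Q.1 z ≤ 1 := by
  classical
  let a : Place k K → K := Function.extend P x (fun _ => (0:K))
  have haP : ∀ i, a (P i) = x i := fun i => hP.extend_apply x (fun _ => (0:K)) i
  have haQ : ∀ Q, Q ∉ Set.range P → a Q = 0 := fun Q hQ =>
    Function.extend_apply' x (fun _ => (0:K)) Q (fun ⟨i, hi⟩ => hQ ⟨i, hi⟩)
  have ha : a ∈ adele k K := by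
    rw [mem_adele]
    apply (Set.finite_range P).subset
    intro Q hQ
    by_contra hn
    apply hQ
    rw [haQ Q hn]; simp
  let f : Place k K → ℤ := Function.extend P (fun i => -(m i)) (fun _ => (0:ℤ))
  have hfP : ∀ i, f (P i) = -(m i) := fun i => hP.extend_apply _ (fun _ => (0:ℤ)) i
  have hfQ : ∀ Q, Q ∉ Set.range P → f Q = 0 := fun Q hQ =>
    Function.extend_apply' _ (fun _ => (0:ℤ)) Q (fun ⟨i, hi⟩ => hQ ⟨i, hi⟩)
  let D₀ : Divisor k K := Finsupp.onFinset (Finset.univ.image P) f (fun Q hQ => by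
    by_contra hn
    apply hQ
    apply hfQ
    rintro ⟨i, rfl⟩
    exact hn (Finset.mem_image_of_mem P (Finset.mem_univ i)))
  have hD₀ : ∀ Q, D₀ Q = f Q := fun Q => rfl
  obtain ⟨l, z, hz⟩ := exists_approx_adele hK Pinf D₀ ha
  refine ⟨z, fun i => ?_, fun Q hQinf hQ => ?_⟩
  · have := hz (P i)
    rw [Pi.sub_apply, diag_apply, haP, Finsupp.add_apply, hD₀, hfP, Finsupp.single_apply,
      if_neg (fun h => hinf ⟨i, h.symm⟩), add_zero] at this
    exact this
  · have := hz Q
    rw [Pi.sub_apply, diag_apply, haQ Q hQ, sub_zero, Finsupp.add_apply, hD₀, hfQ Q hQ,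
      Finsupp.single_apply, if_neg (Ne.symm hQinf), add_zero, exp_zero] at this
    exact this

/-- Strong approximation. -/
theorem strong_approx (hK : IsFunctionField k K) (Pinf : Place k K) {n : ℕ}
    (P : Fin n → Place k K) (hP : Function.Injective P) (hinf : Pinf ∉ Set.range P)
    (x : Fin n → K) (m : Fin n → ℤ) :
    ∃ y : K, (∀ i, (P i).1 (y - x i) = exp (-(m i))) ∧
      ∀ Q : Place k K, Q ≠ Pinf → Q ∉ Set.range P → Q.1 y ≤ 1 := by
  obtain ⟨z, hz1, hz2⟩ := strong_approx_le hK Pinf P hP hinf x (fun i => m i + 1)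
  have hy : ∀ i, ∃ t : K, t ≠ 0 ∧ (P i).ord t = m i := fun i => exists_ord_eq (P i) (m i)
  choose t ht0 ht using hy
  obtain ⟨w, hw1, hw2⟩ := strong_approx_le hK Pinf P hP hinf t (fun i => m i + 1)
  refine ⟨z + w, fun i => ?_, fun Q hQinf hQ => ?_⟩
  · have hlt : exp (-(m i + 1)) < (exp (-(m i)) : ℤᵐ⁰) := by rw [exp_lt_exp]; omega
    have h1 : (P i).1 (z - x i) < exp (-(m i)) := lt_of_le_of_lt (hz1 i) hlt
    have h2 : (P i).1 (w - t i) < exp (-(m i)) := lt_of_le_of_lt (hw1 i) hlt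
    have h3 : (P i).1 (t i) = exp (-(m i)) := by rw [val_eq_exp_neg_ord (P i) (ht0 i), ht i]
    have h4 : z + w - x i = ((z - x i) + (w - t i)) + t i := by ring
    rw [h4, (P i).1.map_add_eq_of_lt_right (by rw [h3]; exact (P i).1.map_add_lt h1 h2), h3]
  · exact Q.1.map_add_le (hz2 Q hQinf hQ) (hw2 Q hQinf hQ)

end Groth.Agent.FF
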