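import Groth.Agent.FunFld.FundIneq2

/-!
# Residue fields of places: finiteness; finiteness of zeros and poles
-/

set_option autoImplicit false

open FunFld IntermediateField Polynomial WithZero

namespace Groth.Agent.FF

universe u v
variable {k : Type u} {K : Type v} [Field k] [Field K] [Algebra k K]

/-- the residue map of a place, as a map from the valuation ring -/
noncomputable abbrev res (P : Place k K) : P.O →+* IsLocalRing.ResidueField P.O :=
  IsLocalRing.residue P.O

lemma res_eq_zero_iff (P : Place k K) (a : P.O) : res P a = 0 ↔ P.1 (a : K) < 1 := by
  rw [IsLocalRing.residue_eq_zero_iff, IsLocalRing.mem_maximalIdeal, mem_nonunits_iff]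
  have hint : P.1.Integers P.O := Valuation.valuationSubring.integers P.1
  rw [hint.isUnit_iff_valuation_eq_one]
  have hle : P.1 (a : K) ≤ 1 := a.2
  constructor
  · intro h; exact lt_of_le_of_ne hle h
  · intro h; exact ne_of_lt h

lemma algebraMap_res (P : Place k K) (c : k) :
    algebraMap k (IsLocalRing.ResidueField P.O) c = res P (algebraMap k P.O c) := rfl

lemma coe_algebraMap_O (P : Place k K) (c : k) : ((algebraMap k P.O c : P.O) : K) = algebraMap k K c :=
  rfl

/-- lifts of a linearly independent family of residues are residue-independent -/
lemma resIndep_of_linearIndependent (P : Place k K) {m : ℕ} (s : Fin m → P.O)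
    (h : LinearIndependent k (fun j => res P (s j))) : ResIndep P (fun j => (s j : K)) := by
  refine ⟨fun j => (s j).2, fun c hc => ?_⟩
  rw [Fintype.linearIndependent_iff] at h
  apply h c
  have h1 : ∑ j, c j • res P (s j) = res P (∑ j, algebraMap k P.O (c j) * s j) := by
    rw [map_sum]
    apply Finset.sum_congr rfl
    intro j _
    rw [map_mul, Algebra.smul_def, algebraMap_res]
  refine h1.trans ?_
  rw [res_eq_zero_iff]
  have h2 : ((∑ j, algebraMap k P.O (c j) * s j : P.O) : K) = ∑ j, c j • (s j : K) := by
    rw [AddSubmonoidClass.coe_finsetSum]
    apply Finset.sum_congr rfl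
    intro j _
    rw [Algebra.smul_def]
    rfl
  rw [h2]; exact hc

/-- Any finite linearly independent family in the residue field of a zero of `x` has size
bounded by `[K : k(x)]`. -/
lemma card_le_of_linearIndependent_res (hK : IsFunctionField k K) (P : Place k K) {x : K}
    (hx : Transcendental k x) (hPx : 0 < P.ord x) {m : ℕ}
    (b : Fin m → IsLocalRing.ResidueField P.O) (hb : LinearIndependent k b) :
    m ≤ Module.finrank (adjoin k ({x} : Set K)) K := by
  have hx0 : x ≠ 0 := by rintro rfl; exact hx isAlgebraic_zero
  have hlift : ∀ j, ∃ s : P.O, res P s = b j := fun j => IsLocalRing.residue_surjective (b j)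
  choose s hs using hlift
  have hli : LinearIndependent k (fun j => res P (s j)) := by
    convert hb using 2
    exact hs _
  have hR := resIndep_of_linearIndependent P s hli
  have := sum_mul_le_finrank hK (ι := Unit) (fun _ => P) (fun _ _ _ => rfl) hx (fun _ => 1)
    (fun _ => by
      rw [val_le_exp_iff P hx0]; simp; omega)
    (fun _ => m) (fun _ => fun j => (s j : K)) (fun _ => hR)
  simpa using this

/-- The residue field of a place of a function field is finite over `k`. -/
theorem finite_residueField (hK : IsFunctionField k K) (P : Place k K) :
    FiniteDimensional k (IsLocalRing.ResidueField P.O) := by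
  obtain ⟨x, hx0, hx1⟩ := exists_ord_eq P 1
  have hxv : P.1 x < 1 := by rw [val_lt_one_iff P hx0, hx1]; exact one_pos
  have hx : Transcendental k x := transcendental_of_gval_lt_one P.1 P.2.1 hK hx0 hxv
  set n := Module.finrank (adjoin k ({x} : Set K)) K
  rw [FiniteDimensional, ← Module.rank_lt_aleph0_iff]
  have hle : Module.rank k (IsLocalRing.ResidueField P.O) ≤ n := by
    apply rank_le
    intro t ht
    have e := t.equivFin
    have hli : LinearIndependent k (fun j : Fin t.card => ((e.symm j : t) :
        IsLocalRing.ResidueField P.O)) := ht.comp _ e.symm.injective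
    exact card_le_of_linearIndependent_res hK P hx (by rw [hx1]; exact one_pos) _ hli
  exact lt_of_le_of_lt hle Cardinal.natCast_lt_aleph0

/-- a residue-independent family of size `deg P` -/
lemma exists_resIndep_deg (hK : IsFunctionField k K) (P : Place k K) :
    ∃ s : Fin P.deg → K, ResIndep P s := by
  have := finite_residueField hK P
  let B := Module.finBasis k (IsLocalRing.ResidueField P.O)
  have hlift : ∀ j, ∃ s : P.O, res P s = B j := fun j => IsLocalRing.residue_surjective (B j)
  choose s hs using hlift
  have hli : LinearIndependent k (fun j => res P (s j)) := by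
    convert B.linearIndependent using 2
    exact hs _
  exact ⟨fun j => (s j : K), resIndep_of_linearIndependent P s hli⟩

lemma deg_pos (hK : IsFunctionField k K) (P : Place k K) : 0 < P.deg := by
  have := finite_residueField hK P
  exact Module.finrank_pos

lemma resIndep_one (P : Place k K) : ResIndep P (fun _ : Fin 1 => (1 : K)) := by
  refine ⟨fun _ => by simp, fun c hc j => ?_⟩
  by_contra hne
  have hj : j = 0 := Subsingleton.elim _ _
  subst hj
  simp only [Finset.univ_unique, Fin.default_eq_zero, Fin.isValue, Finset.sum_singleton] at hc
  rw [Algebra.smul_def, mul_one, val_algebraMap P hne] at hc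
  exact lt_irrefl _ hc

/-- A transcendental element has finitely many zeros. -/
theorem finite_zeros (hK : IsFunctionField k K) {x : K} (hx : Transcendental k x) :
    {P : Place k K | 0 < P.ord x}.Finite := by
  classical
  have hx0 : x ≠ 0 := by rintro rfl; exact hx isAlgebraic_zero
  by_contra hinf
  set n := Module.finrank (adjoin k ({x} : Set K)) K
  obtain ⟨t, htsub, htcard⟩ := (Set.not_finite.mp hinf).exists_subset_card_eq (n + 1)
  have := sum_mul_le_finrank hK (ι := t) (fun i => (i : Place k K)) Subtype.val_injective hx
    (fun _ => 1) (fun i => by
      have hi : 0 < (i : Place k K).ord x := htsub i.2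
      rw [val_le_exp_iff _ hx0]; simp; omega)
    (fun _ => 1) (fun _ => fun _ => 1) (fun i => resIndep_one _)
  simp only [mul_one, Finset.sum_const, Finset.card_univ, Fintype.card_coe, smul_eq_mul] at this
  omega

theorem finite_poles (hK : IsFunctionField k K) {x : K} (hx : Transcendental k x) :
    {P : Place k K | P.ord x < 0}.Finite := by
  have hx' : Transcendental k x⁻¹ := by
    intro h; exact hx (by simpa using h.inv)
  have := finite_zeros hK hx'
  simpa [ord_inv] using this

/-- An element of a function field has only finitely many zeros and poles. -/
theorem finite_support_ord (hK : IsFunctionField k K) (x : K) :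
    (Function.support fun P : Place k K => P.ord x).Finite := by
  by_cases hx : x ∈ Set.range (algebraMap k K)
  · obtain ⟨c, rfl⟩ := hx
    convert Set.finite_empty
    ext P
    simp [ord_algebraMap]
  · have htr := transcendental_of_not_mem_range hK hx
    apply ((finite_zeros hK htr).union (finite_poles hK htr)).subset
    intro P hP
    rw [Function.mem_support] at hP
    rcases lt_or_gt_of_ne hP with h | h
    · exact Or.inr h
    · exact Or.inl h

lemma div_apply (hK : IsFunctionField k K) (x : K) (P : Place k K) :
    FunFld.div k x P = P.ord x := by
  unfold FunFld.div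
  rw [dif_pos (finite_support_ord hK x)]
  rfl

end Groth.Agent.FF
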