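import Groth.Agent.FunFld.AS2
import Groth.Agent.FunFld.ArtinSchreier
import Groth.Agent.FunFld.KerD
import Groth.Agent.FunFld.RR
import Groth.Agent.FunFld.Genus0Cusp
import Groth.Agent.FunFld.Perfect
import Groth.Agent.H57.ExpandAt
import Groth.Agent.H57.ResCanon

/-!
# Artin–Schreier extensions `y² + y = f(x)` in characteristic two: the divisor of `dx`, the genus
-/

set_option autoImplicit false
set_option linter.unusedSectionVars false

open FunFld IntermediateField WithZero Polynomial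

namespace Groth.Agent.FF.AS2

open Groth.Agent.FF.Ext Groth.Agent.H57

universe u v w w₁ w₂

section Indep

variable {k : Type u} {K : Type v} [Field k] [Field K] [Algebra k K]

/-- the order of `dx` at a place does not depend on the expansion used -/
theorem ordDiff_indep (hK : IsFunctionField k K) (hg : IsGeometric k K)
    {F₁ : Type w₁} {F₂ : Type w₂} [Field F₁] [Algebra k F₁] [Field F₂] [Algebra k F₂]
    (P : Place k K) (ψ₁ : K →ₐ[k] LaurentSeries F₁) (h₁ : LocRes.IsExpansionAt P.1 ψ₁)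
    (ψ₂ : K →ₐ[k] LaurentSeries F₂) (h₂ : LocRes.IsExpansionAt P.1 ψ₂)
    {x : K} (hx : KaehlerDifferential.D k K x ≠ 0) :
    LocRes.ordDiff ψ₁ 1 x = LocRes.ordDiff ψ₂ 1 x := by
  obtain ⟨t, ht⟩ := exists_uniformizer P
  obtain ⟨c, hc⟩ := ResW.exists_D_eq_smul hK hg hx t
  have e1 := vDiff_one_uniformizer P.1 ψ₁ h₁ t ht
  have e2 := vDiff_one_uniformizer P.1 ψ₂ h₂ t ht
  rw [D_exp_of_D_eq_smul ψ₁ hc, map_mul, h₁.1] at e1
  rw [D_exp_of_D_eq_smul ψ₂ hc, map_mul, h₂.1] at e2
  have hc0 : P.1 c ≠ 0 := by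
    intro h0
    rw [h0, zero_mul] at e1
    exact zero_ne_one e1
  have : Valued.v (LocRes.D F₁ (ψ₁ x)) = Valued.v (LocRes.D F₂ (ψ₂ x)) := by
    have h3 : P.1 c * Valued.v (LocRes.D F₁ (ψ₁ x)) = P.1 c * Valued.v (LocRes.D F₂ (ψ₂ x)) := by
      rw [e1, e2]
    exact mul_left_cancel₀ hc0 h3
  unfold LocRes.ordDiff LocRes.vDiff
  rw [map_one, map_one, one_mul, one_mul, this]

end Indep

section RatFuncDiff

variable {k : Type u} [Field k] {F : Type w} [Field F] [Algebra k F]

lemma D_exp_X_sub_C (φ : RatFunc k →ₐ[k] LaurentSeries F) (β : k) :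
    LocRes.D F (φ (RatFunc.X - RatFunc.C β)) = LocRes.D F (φ RatFunc.X) := by
  rw [map_sub, map_sub, ← RatFunc.algebraMap_eq_C, LocRes.map_algebraMap, LocRes.D_apply,
    LocRes.D_apply, LocRes.derivative_C, sub_zero]

/-- `dx` has order `0` at the finite places of `k(x)` -/
lemma vDiff_X_of_le_one [IsAlgClosed k] (p : Place k (RatFunc k)) (hp : p.1 RatFunc.X ≤ 1)
    (φ : RatFunc k →ₐ[k] LaurentSeries F) (hφ : LocRes.IsExpansionAt p.1 φ) :
    LocRes.vDiff φ 1 RatFunc.X = 1 := by
  obtain ⟨ξ, hξ'⟩ := exists_const_approx (isFunctionField_ratFunc k) p hp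
  have hξ : p.1 (RatFunc.X - RatFunc.C ξ) < 1 := by
    have e : (algebraMap k (RatFunc k)) ξ = RatFunc.C ξ := by rw [RatFunc.algebraMap_eq_C]
    rw [← e]
    exact hξ'
  have h1 : p.ord (RatFunc.X - RatFunc.C ξ) = 1 := ord_X_sub_C p ξ hξ
  have h2 : p.1 (RatFunc.X - RatFunc.C ξ) = exp (-1 : ℤ) := by
    rw [val_eq_exp_neg_ord p (X_sub_C_ne_zero ξ), h1]
  have h3 := vDiff_one_uniformizer p.1 φ hφ _ h2
  rw [D_exp_X_sub_C] at h3
  unfold LocRes.vDiff
  rw [map_one, one_mul, h3]

/-- `dx` has order `-2` at the infinite place of `k(x)` -/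
lemma vDiff_X_of_one_lt (p : Place k (RatFunc k)) (hp : 1 < p.1 RatFunc.X)
    (φ : RatFunc k →ₐ[k] LaurentSeries F) (hφ : LocRes.IsExpansionAt p.1 φ) :
    LocRes.vDiff φ 1 RatFunc.X = exp (2 : ℤ) := by
  have h1 : Valued.v (φ RatFunc.X) = (exp (-(-1 : ℤ)) : WithZero (Multiplicative ℤ)) := by
    rw [hφ.1, val_eq_exp_neg_ord p RatFunc.X_ne_zero, ratFunc_ord_X_of_one_lt p hp]
  have h2 : (((-1 : ℤ)) : F) ≠ 0 := by
    push_cast
    exact neg_ne_zero.mpr one_ne_zero
  have h3 := val_D_eq_of_cast_ne_zero h1 h2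
  unfold LocRes.vDiff
  rw [map_one, one_mul, h3]
  norm_num

end RatFuncDiff

section Main

variable {k : Type u} {K : Type v} [Field k] [Field K] [Algebra k K]
  [Algebra (RatFunc k) K] [IsScalarTower k (RatFunc k) K]

local notation "ι" => algebraMap (Polynomial k) (RatFunc k)
local notation "j" => algebraMap (RatFunc k) K

lemma j_mem_adjoin (z : RatFunc k) : j z ∈ adjoin k ({j RatFunc.X} : Set K) := by
  have hpoly : ∀ q : k[X], j (ι q) ∈ adjoin k ({j RatFunc.X} : Set K) := by
    intro q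
    have h1 : j (ι q) = aeval (j RatFunc.X) q := by
      rw [← RatFunc.algebraMap_X, aeval_algebraMap_apply, aeval_algebraMap_apply, aeval_X_left_apply]
    rw [h1]
    exact algebra_adjoin_le_adjoin k _ (aeval_mem_adjoin_singleton k _)
  rw [← RatFunc.num_div_denom z, map_div₀]
  exact div_mem (hpoly _) (hpoly _)

/-- separability over `k(x)` as an intermediate field -/
lemma isSeparable_adjoin [Algebra.IsSeparable (RatFunc k) K] :
    Algebra.IsSeparable (adjoin k ({j RatFunc.X} : Set K)) K := by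
  letI : Algebra (RatFunc k) (adjoin k ({j RatFunc.X} : Set K)) :=
    ((algebraMap (RatFunc k) K).codRestrict (adjoin k ({j RatFunc.X} : Set K)).toSubfield
      (fun z => j_mem_adjoin z)).toAlgebra
  haveI : IsScalarTower (RatFunc k) (adjoin k ({j RatFunc.X} : Set K)) K :=
    IsScalarTower.of_algebraMap_eq (fun _ => rfl)
  exact Algebra.isSeparable_tower_top_of_isSeparable (RatFunc k) _ K

lemma transcendental_jX : Transcendental k (j RatFunc.X) := by
  have h := RatFunc.transcendental_X (K := k)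
  exact (transcendental_algebraMap_iff (algebraMap (RatFunc k) K).injective).mpr h

lemma D_jX_ne_zero [Algebra.IsSeparable (RatFunc k) K] :
    KaehlerDifferential.D k K (j RatFunc.X) ≠ 0 := by
  haveI := isSeparable_adjoin (k := k) (K := K)
  exact D_ne_zero_of_separating transcendental_jX

end Main

section Unram

variable {k : Type u} {K : Type v} {K' : Type w₁} [Field k] [Field K] [Field K'] [Algebra k K]
  [Algebra K K'] [Algebra k K'] [IsScalarTower k K K']

/-- the different exponent vanishes at an unramified place (with expansions over `k`-fields) -/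
lemma diffExp_eq_zero_of_unramified (hK : IsFunctionField k K) (hg : IsGeometric k K)
    {F F' : Type w} [Field F] [Algebra k F] [Field F'] [Algebra k F']
    {P : Place k K} {Q : Place k K'} (he : IsOverWith Q P 1)
    (φ : K →ₐ[k] LaurentSeries F) (hφ : LocRes.IsExpansionAt P.1 φ)
    (ψ : K' →ₐ[k] LaurentSeries F') (hψ : LocRes.IsExpansionAt Q.1 ψ)
    {x : K} (hx : LocRes.vDiff φ 1 x ≠ 0) (hx' : LocRes.vDiff ψ 1 (algebraMap K K' x) ≠ 0) :
    LocRes.diffExp φ ψ 1 x = 0 := by
  obtain ⟨t, ht⟩ := exists_uniformizer P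
  obtain ⟨-, -, -, -, hdiff⟩ := U.diffExp_uniformizer hK hg he φ hφ ψ hψ hx hx' ht
  have h1 : Q.1 (algebraMap K K' t) = exp (-1 : ℤ) := by rw [he t, ht, pow_one]
  rw [hdiff, vDiff_one_uniformizer Q.1 ψ hψ _ h1]
  simp

end Unram

section Setup

variable (k : Type u) (K : Type v) [Field k] [Field K] [Algebra k K]
  [Algebra (RatFunc k) K] [IsScalarTower k (RatFunc k) K]

local notation "j" => algebraMap (RatFunc k) K

/-- the standing hypotheses on `y² + y = f(x)` -/
structure Setup (y : K) (f : RatFunc k) (B : Finset k) (d : k → ℕ) : Prop where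
  hK : IsFunctionField k K
  hdeg : Module.finrank (RatFunc k) K = 2
  hy : y ∉ Set.range j
  heq : y ^ 2 + y = j f
  h0 : (0 : k) ∈ B
  hd : ∀ β ∈ B, Odd (d β)
  hpole : ∀ (p : Place k (RatFunc k)) (β : k), β ∈ B →
    p.1 ((RatFunc.X : RatFunc k) - RatFunc.C β) < 1 → p.ord f = -(d β : ℤ)
  hint : ∀ p : Place k (RatFunc k),
    (∀ β ∈ B, 1 ≤ p.1 ((RatFunc.X : RatFunc k) - RatFunc.C β)) → p.1 f ≤ 1

end Setup

section Compute

variable {k : Type u} {K : Type v} [Field k] [Field K] [Algebra k K]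
  [Algebra (RatFunc k) K] [IsScalarTower k (RatFunc k) K]
  [IsAlgClosed k] [CharP k 2] [Algebra.IsSeparable (RatFunc k) K]
  {y : K} {f : RatFunc k} {B : Finset k} {d : k → ℕ}

local notation "j" => algebraMap (RatFunc k) K

lemma Setup.finiteDimensional (S : Setup k K y f B d) : FiniteDimensional (RatFunc k) K :=
  FiniteDimensional.of_finrank_pos (by rw [S.hdeg]; norm_num)

lemma Setup.isGeometric (S : Setup k K y f B d) : IsGeometric k K :=
  isGeometric_of_perfectField S.hK

/-- the order of `dx` above in terms of the different exponent and the order of `dx` below -/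
lemma Setup.ordDiff_via (S : Setup k K y f B d) {F' : Type w} [Field F'] [Algebra k F']
    {P : Place k K} {p : Place k (RatFunc k)} {e : ℕ} (he : IsOverWith P p e)
    (ψ : K →ₐ[k] LaurentSeries F') (hψ : LocRes.IsExpansionAt P.1 ψ) :
    ∃ (φ : RatFunc k →ₐ[k] LaurentSeries k) (Ψ : K →ₐ[k] LaurentSeries k),
      LocRes.IsExpansionAt p.1 φ ∧ LocRes.IsExpansionAt P.1 Ψ ∧
      LocRes.vDiff φ 1 RatFunc.X ≠ 0 ∧ LocRes.vDiff Ψ 1 (j RatFunc.X) ≠ 0 ∧
      LocRes.ordDiff ψ 1 (j RatFunc.X) =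
        LocRes.diffExp φ Ψ e RatFunc.X + e * LocRes.ordDiff φ 1 RatFunc.X := by
  have hKr := isFunctionField_ratFunc k
  have hgr : IsGeometric k (RatFunc k) := isGeometric_of_perfectField hKr
  obtain ⟨Φ, hΦ⟩ := exists_expansion_family hKr
  obtain ⟨Ψ, hΨ⟩ := exists_expansion_family S.hK
  have hD := D_jX_ne_zero (k := k) (K := K)
  have hDr : KaehlerDifferential.D k (RatFunc k) RatFunc.X ≠ 0 := by
    intro h0
    apply hD
    have := congrArg (KaehlerDifferential.map k k (RatFunc k) K) h0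
    rwa [KaehlerDifferential.map_D, map_zero] at this
  have h1 : LocRes.D k (Φ p RatFunc.X) ≠ 0 :=
    ResW.D_expansion_ne_zero_of_D_ne_zero hKr hgr hDr p.1 (Φ p) (hΦ p)
  have h2 : LocRes.D k (Ψ P (j RatFunc.X)) ≠ 0 :=
    ResW.D_expansion_ne_zero_of_D_ne_zero S.hK S.isGeometric hD P.1 (Ψ P) (hΨ P)
  refine ⟨Φ p, Ψ P, hΦ p, hΨ P, ?_, ?_, ?_⟩
  · unfold LocRes.vDiff
    rw [map_one, one_mul]
    exact (Valuation.ne_zero_iff _).mpr h1
  · unfold LocRes.vDiff
    rw [map_one, one_mul]
    exact (Valuation.ne_zero_iff _).mpr h2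
  · rw [ordDiff_indep S.hK S.isGeometric P ψ hψ (Ψ P) (hΨ P) hD]
    unfold LocRes.diffExp
    ring

end Compute

section Compute2

variable {k : Type u} {K : Type v} [Field k] [Field K] [Algebra k K]
  [Algebra (RatFunc k) K] [IsScalarTower k (RatFunc k) K]
  [IsAlgClosed k] [CharP k 2] [Algebra.IsSeparable (RatFunc k) K]
  {y : K} {f : RatFunc k} {B : Finset k} {d : k → ℕ}

local notation "j" => algebraMap (RatFunc k) K

/-- `dx` has order `d_β + 1` at the place above a pole `x = β` of `f` -/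
theorem Setup.ordDiff_ram (S : Setup k K y f B d) {F' : Type w} [Field F'] [Algebra k F']
    (P : Place k K) (ψ : K →ₐ[k] LaurentSeries F') (hψ : LocRes.IsExpansionAt P.1 ψ)
    {β : k} (hβ : β ∈ B) (hP : P.1 (j RatFunc.X - algebraMap k K β) < 1) :
    LocRes.ordDiff ψ 1 (j RatFunc.X) = (d β : ℤ) + 1 := by
  have hfd := S.finiteDimensional
  have halg : Algebra.IsAlgebraic (RatFunc k) K := Algebra.IsAlgebraic.of_finite _ _
  obtain ⟨p, e, he⟩ := exists_isOverWith_below (K := RatFunc k) P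
  rw [sub_eq, lt_one_iff he] at hP
  have hpf := S.hpole p β hβ hP
  obtain ⟨he2, -⟩ := ramified_of_odd_pole S.hdeg S.heq he (S.hd β hβ) hpf
  obtain ⟨φ, Ψ, hφ, hΨ, hz, hz', hord⟩ := S.ordDiff_via he ψ hψ
  have hdpos : 0 < d β := (S.hd β hβ).pos
  have hf0 : f ≠ 0 := by
    rintro rfl
    rw [ord_zero] at hpf
    omega
  have h1f : 1 < p.1 f := by
    by_contra hle
    rw [not_lt, val_le_one_iff p hf0] at hle
    omega
  have hodd : Odd (p.ord f) := by
    rw [hpf]
    exact Odd.neg (by exact_mod_cast S.hd β hβ)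
  have hdiff := artinSchreier_diffExp S.hdeg (ringChar.eq k 2) y f S.heq p h1f hodd P e he
    φ hφ Ψ hΨ RatFunc.X hz hz'
  have hX : p.1 (RatFunc.X : RatFunc k) ≤ 1 := by
    rw [← iota_X_sub_C] at hP
    exact ratFunc_val_X_le_one p (Polynomial.X_sub_C_ne_zero β) hP
  have h0 : LocRes.ordDiff φ 1 (RatFunc.X : RatFunc k) = 0 := by
    unfold LocRes.ordDiff
    rw [vDiff_X_of_le_one p hX φ hφ]
    simp
  rw [hord, hdiff, h0, hpf]
  ring

/-- `dx` has order `-2` at the places above infinity -/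
theorem Setup.ordDiff_inf (S : Setup k K y f B d) {F' : Type w} [Field F'] [Algebra k F']
    (P : Place k K) (ψ : K →ₐ[k] LaurentSeries F') (hψ : LocRes.IsExpansionAt P.1 ψ)
    (hP : 1 < P.1 (j RatFunc.X)) :
    LocRes.ordDiff ψ 1 (j RatFunc.X) = -2 := by
  have hfd := S.finiteDimensional
  have halg : Algebra.IsAlgebraic (RatFunc k) K := Algebra.IsAlgebraic.of_finite _ _
  have hKr := isFunctionField_ratFunc k
  have hgr : IsGeometric k (RatFunc k) := isGeometric_of_perfectField hKr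
  obtain ⟨p, e, he⟩ := exists_isOverWith_below (K := RatFunc k) P
  have h1 : 1 < p.1 (RatFunc.X : RatFunc k) := by
    by_contra hle
    rw [not_lt] at hle
    exact absurd ((le_one_iff he _).mpr hle) (not_le.mpr hP)
  have hf1 : p.1 f ≤ 1 := S.hint p fun β _ => (val_X_sub_C_of_one_lt p β h1).le
  have he1 : e = 1 := unramified_of_val_le_one (k := k) S.hdeg S.hy S.heq he hf1
  subst he1
  obtain ⟨φ, Ψ, hφ, hΨ, hz, hz', hord⟩ := S.ordDiff_via he ψ hψ
  have hdiff := diffExp_eq_zero_of_unramified hKr hgr he φ hφ Ψ hΨ hz hz'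
  have h0 : LocRes.ordDiff φ 1 (RatFunc.X : RatFunc k) = -2 := by
    unfold LocRes.ordDiff
    rw [vDiff_X_of_one_lt p h1 φ hφ, log_exp]
  rw [hord, hdiff, h0]
  norm_num

/-- `dx` has order `0` at the remaining places -/
theorem Setup.ordDiff_other (S : Setup k K y f B d) {F' : Type w} [Field F'] [Algebra k F']
    (P : Place k K) (ψ : K →ₐ[k] LaurentSeries F') (hψ : LocRes.IsExpansionAt P.1 ψ)
    (hP : P.1 (j RatFunc.X) ≤ 1)
    (hB : ∀ β ∈ B, 1 ≤ P.1 (j RatFunc.X - algebraMap k K β)) :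
    LocRes.ordDiff ψ 1 (j RatFunc.X) = 0 := by
  have hfd := S.finiteDimensional
  have halg : Algebra.IsAlgebraic (RatFunc k) K := Algebra.IsAlgebraic.of_finite _ _
  have hKr := isFunctionField_ratFunc k
  have hgr : IsGeometric k (RatFunc k) := isGeometric_of_perfectField hKr
  obtain ⟨p, e, he⟩ := exists_isOverWith_below (K := RatFunc k) P
  have hpX : p.1 (RatFunc.X : RatFunc k) ≤ 1 := (le_one_iff he _).mp hP
  have hpB : ∀ β ∈ B, 1 ≤ p.1 ((RatFunc.X : RatFunc k) - RatFunc.C β) := by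
    intro β hβ
    have := hB β hβ
    rw [sub_eq] at this
    by_contra hlt
    rw [not_le] at hlt
    exact absurd ((lt_one_iff he _).mpr hlt) (not_lt.mpr this)
  have hf1 : p.1 f ≤ 1 := S.hint p hpB
  have he1 : e = 1 := unramified_of_val_le_one (k := k) S.hdeg S.hy S.heq he hf1
  subst he1
  obtain ⟨φ, Ψ, hφ, hΨ, hz, hz', hord⟩ := S.ordDiff_via he ψ hψ
  have hdiff := diffExp_eq_zero_of_unramified hKr hgr he φ hφ Ψ hΨ hz hz'
  have h0 : LocRes.ordDiff φ 1 (RatFunc.X : RatFunc k) = 0 := by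
    unfold LocRes.ordDiff
    rw [vDiff_X_of_le_one p hpX φ hφ]
    simp
  rw [hord, hdiff, h0]
  norm_num

end Compute2

section Genus

variable {k : Type u} {K : Type v} [Field k] [Field K] [Algebra k K]
  [Algebra (RatFunc k) K] [IsScalarTower k (RatFunc k) K]
  [IsAlgClosed k] [CharP k 2] [Algebra.IsSeparable (RatFunc k) K]
  {y : K} {f : RatFunc k} {B : Finset k} {d : k → ℕ}

local notation "j" => algebraMap (RatFunc k) K

/-- a place above `x = β` -/
lemma Setup.exists_place_above (S : Setup k K y f B d) (β : k) :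
    ∃ P : Place k K, P.1 (j RatFunc.X - algebraMap k K β) < 1 := by
  have htr : Transcendental k (j RatFunc.X - algebraMap k K β) := by
    intro halg
    apply transcendental_jX (k := k) (K := K)
    have h2 : IsAlgebraic k (algebraMap k K β) := isAlgebraic_algebraMap β
    have := halg.add h2
    rwa [sub_add_cancel] at this
  obtain ⟨P, hP⟩ := exists_zero_of_transcendental S.hK htr
  refine ⟨P, ?_⟩
  have h0 : j RatFunc.X - algebraMap k K β ≠ 0 := by
    rw [sub_eq]
    exact j_ne_zero (X_sub_C_ne_zero β)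
  rwa [val_lt_one_iff P h0]

/-- facts on a place above a pole `x = β` of `f` -/
lemma Setup.place_above_facts (S : Setup k K y f B d) {β : k} (hβ : β ∈ B) {P : Place k K}
    (hP : P.1 (j RatFunc.X - algebraMap k K β) < 1) :
    ∃ p : Place k (RatFunc k), IsOverWith P p 2 ∧ p.1 (RatFunc.X - RatFunc.C β) < 1 ∧
      P.ord y = -(d β : ℤ) ∧ P.ord (j RatFunc.X - algebraMap k K β) = 2 := by
  have hfd := S.finiteDimensional
  have halg : Algebra.IsAlgebraic (RatFunc k) K := Algebra.IsAlgebraic.of_finite _ _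
  obtain ⟨p, e, he⟩ := exists_isOverWith_below (K := RatFunc k) P
  rw [sub_eq, lt_one_iff he] at hP
  obtain ⟨he2, hy⟩ := ramified_of_odd_pole S.hdeg S.heq he (S.hd β hβ) (S.hpole p β hβ hP)
  subst he2
  refine ⟨p, he, hP, hy, ?_⟩
  rw [sub_eq, ord_eq he, ord_X_sub_C p β hP]
  norm_num

/-- uniqueness of the place above a pole of `f` -/
lemma Setup.place_above_unique (S : Setup k K y f B d) {β : k} (hβ : β ∈ B) {P P' : Place k K}
    (hP : P.1 (j RatFunc.X - algebraMap k K β) < 1)
    (hP' : P'.1 (j RatFunc.X - algebraMap k K β) < 1) : P' = P := by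
  classical
  obtain ⟨p, he, hp, -, -⟩ := S.place_above_facts hβ hP
  exact eq_of_val_lt_one S.hdeg he hp P' hP'

/-- places above different points are different -/
lemma val_sub_eq_one_of_ne (P : Place k K) {α β : k} (hαβ : β ≠ α)
    (h : P.1 (j RatFunc.X - algebraMap k K β) < 1) :
    P.1 (j RatFunc.X - algebraMap k K α) = 1 := by
  have h1 : j RatFunc.X - algebraMap k K α =
      (j RatFunc.X - algebraMap k K β) + algebraMap k K (β - α) := by
    rw [map_sub]
    ring
  have h2 : P.1 (algebraMap k K (β - α)) = 1 := val_algebraMap P (sub_ne_zero.mpr hαβ)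
  rw [h1, Valuation.map_add_eq_of_lt_right P.1 (by rw [h2]; exact h), h2]

/-- the divisor of `dx` is canonical, with its values -/
theorem Setup.exists_canonical (S : Setup k K y f B d)
    (F : Place k K → Type w) [∀ P, Field (F P)] [∀ P, Algebra k (F P)]
    [∀ P, FiniteDimensional k (F P)]
    (φ : ∀ P, K →ₐ[k] LaurentSeries (F P)) (hφ : ∀ P, LocRes.IsExpansionAt P.1 (φ P)) :
    ∃ C : Divisor k K, IsCanonical k K C ∧
      (∀ P, C P = LocRes.ordDiff (φ P) 1 (j RatFunc.X)) ∧
      (∀ P, ∀ β ∈ B, P.1 (j RatFunc.X - algebraMap k K β) < 1 → C P = (d β : ℤ) + 1) ∧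
      (∀ P, 1 < P.1 (j RatFunc.X) → C P = -2) ∧
      (∀ P, P.1 (j RatFunc.X) ≤ 1 → (∀ β ∈ B, 1 ≤ P.1 (j RatFunc.X - algebraMap k K β)) →
        C P = 0) := by
  have hD := D_jX_ne_zero (k := k) (K := K)
  obtain ⟨C, hC, hcan, -, -⟩ := ResW.exists_divisor_dv S.hK S.isGeometric F φ hφ (j RatFunc.X) hD
  refine ⟨C, hcan, hC, ?_, ?_, ?_⟩
  · intro P β hβ hP
    rw [hC, S.ordDiff_ram P (φ P) (hφ P) hβ hP]
  · intro P hP
    rw [hC, S.ordDiff_inf P (φ P) (hφ P) hP]
  · intro P hP hB
    rw [hC, S.ordDiff_other P (φ P) (hφ P) hP hB]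

/-- the genus of `y² + y = f(x)` -/
theorem Setup.genus_eq (S : Setup k K y f B d) :
    2 * (genus k K : ℤ) - 2 = ∑ β ∈ B, ((d β : ℤ) + 1) - 4 := by
  classical
  have hfd := S.finiteDimensional
  have halg : Algebra.IsAlgebraic (RatFunc k) K := Algebra.IsAlgebraic.of_finite _ _
  obtain ⟨Ψ, hΨ⟩ := exists_expansion_family S.hK
  obtain ⟨C, hcan, -, hC1, hC2, hC3⟩ := S.exists_canonical (fun _ => k) Ψ hΨ
  rw [← deg_canonical S.hK hcan]
  choose Pl hPl using S.exists_place_above
  set x : K := j RatFunc.X with hx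
  have hx0 : x ≠ 0 := j_ne_zero RatFunc.X_ne_zero
  set E : Divisor k K := C - (2 : ℤ) • FunFld.div k x with hE
  have hEdeg : E.deg = C.deg := by
    rw [hE, deg_sub, deg_zsmul, deg_div_eq_zero S.hK, mul_zero, sub_zero]
  have hEP : ∀ P, E P = C P - 2 * P.ord x := by
    intro P
    rw [hE, Finsupp.sub_apply, Finsupp.smul_apply, div_apply S.hK, smul_eq_mul]
  -- the order of `x` at the places above `B`
  have hordx : ∀ β ∈ B, (Pl β).ord x = if β = 0 then 2 else 0 := by
    intro β hβ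
    obtain ⟨p, he, hp, -, h2⟩ := S.place_above_facts hβ (hPl β)
    split_ifs with h0
    · subst h0
      rw [map_zero, sub_zero] at h2
      exact h2
    · have := val_sub_eq_one_of_ne (Pl β) (α := 0) h0 (hPl β)
      rw [map_zero, sub_zero] at this
      exact (val_eq_one_iff _ hx0).mp this
  -- injectivity
  have hinj : Set.InjOn Pl (B : Set k) := by
    intro β hβ β' hβ' heq
    by_contra hne
    have h1 := val_sub_eq_one_of_ne (Pl β) (α := β') hne (hPl β)
    have h2 := hPl β'
    rw [← heq, h1] at h2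
    exact lt_irrefl _ h2
  -- the support
  have hsupp : E.support ⊆ B.image Pl := by
    intro P hP
    rw [Finsupp.mem_support_iff] at hP
    by_contra hnot
    apply hP
    rw [hEP]
    by_cases hinf : 1 < P.1 x
    · rw [hC2 P hinf]
      obtain ⟨p, e, he⟩ := exists_isOverWith_below (K := RatFunc k) P
      have h1 : 1 < p.1 (RatFunc.X : RatFunc k) := by
        by_contra hle
        rw [not_lt] at hle
        exact absurd ((le_one_iff he _).mpr hle) (not_le.mpr hinf)
      have hf1 : p.1 f ≤ 1 := S.hint p fun β _ => (val_X_sub_C_of_one_lt p β h1).le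
      have he1 : e = 1 := unramified_of_val_le_one (k := k) S.hdeg S.hy S.heq he hf1
      rw [hx, ord_eq he, ratFunc_ord_X_of_one_lt p h1, he1]
      norm_num
    · rw [not_lt] at hinf
      by_cases hB : ∀ β ∈ B, 1 ≤ P.1 (x - algebraMap k K β)
      · rw [hC3 P hinf hB]
        have h1 := hB 0 S.h0
        rw [map_zero, sub_zero] at h1
        rw [(val_eq_one_iff P hx0).mp (le_antisymm hinf h1)]
        norm_num
      · exfalso
        push Not at hB
        obtain ⟨β, hβ, hlt⟩ := hB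
        apply hnot
        rw [Finset.mem_image]
        exact ⟨β, hβ, (S.place_above_unique hβ (hPl β) hlt).symm⟩
  rw [← hEdeg]
  unfold Divisor.deg
  rw [Finsupp.sum_of_support_subset E hsupp _ (fun P _ => by rw [zero_mul]),
    Finset.sum_image hinj]
  have hterm : ∀ β ∈ B, E (Pl β) * ((Pl β).deg : ℤ) =
      ((d β : ℤ) + 1) - 2 * (if β = 0 then 2 else 0) := by
    intro β hβ
    rw [hEP, hC1 (Pl β) β hβ (hPl β), hordx β hβ, deg_eq_one_of_isAlgClosed S.hK]
    push_cast
    ring
  rw [Finset.sum_congr rfl hterm, Finset.sum_sub_distrib, ← Finset.mul_sum,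
    Finset.sum_ite_eq' B 0, if_pos S.h0]
  norm_num

end Genus

end Groth.Agent.FF.AS2
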