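import Groth.Agent.FunFld.Adele

/-!
# `dim A/(A(D)+K) = g - δ(D)`; Weil differentials `W(D)`
-/

set_option autoImplicit false

open FunFld IntermediateField Polynomial WithZero

namespace Groth.Agent.FF

universe u v
variable {k : Type u} {K : Type v} [Field k] [Field K] [Algebra k K]

lemma mem_adele (a : Place k K → K) :
    a ∈ adele k K ↔ {P : Place k K | ¬ P.1 (a P) ≤ 1}.Finite := by
  change (∀ᶠ P : Place k K in Filter.cofinite, P.1 (a P) ≤ 1) ↔ _
  rw [Filter.eventually_cofinite]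

lemma AD_le_adele (D : Divisor k K) : AD D ≤ adele k K := by
  intro a ha
  rw [mem_adele]
  apply (D.support.finite_toSet).subset
  intro P hP
  simp only [Set.mem_ofPred_eq] at hP
  rw [Finset.mem_coe, Finsupp.mem_support_iff]
  intro h0
  apply hP
  have := ha P
  rwa [h0, exp_zero] at this

lemma Kd_le_adele (hK : IsFunctionField k K) : Kd k K ≤ adele k K := by
  rintro _ ⟨x, rfl⟩
  rw [mem_adele]
  by_cases hx : x = 0
  · subst hx
    convert Set.finite_empty
    ext P
    simp [diag_apply]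
  apply (finite_support_ord hK x).subset
  intro P hP
  simp only [Set.mem_ofPred_eq, diag_apply] at hP
  rw [Function.mem_support]
  intro h0
  apply hP
  rw [val_le_one_iff P hx, h0]

lemma ADK_le_adele (hK : IsFunctionField k K) (D : Divisor k K) : AD D ⊔ Kd k K ≤ adele k K :=
  sup_le (AD_le_adele D) (Kd_le_adele hK)

/-- every adele lies in some `A(D₁)` with `D₁ ≥ D` -/
lemma exists_ge_mem_AD (D : Divisor k K) {a : Place k K → K} (ha : a ∈ adele k K) :
    ∃ D₁ : Divisor k K, D ≤ D₁ ∧ a ∈ AD D₁ := by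
  classical
  rw [mem_adele] at ha
  set S : Finset (Place k K) := ha.toFinset ∪ D.support with hS
  let F : Divisor k K := Finsupp.onFinset S (fun P => if P ∈ S then -(P.ord (a P)) else 0)
    (fun P hP => by
      by_contra hn
      rw [if_neg hn] at hP
      exact hP rfl)
  refine ⟨D ⊔ F, le_sup_left, fun P => ?_⟩
  rw [Finsupp.sup_apply]
  by_cases hPS : P ∈ S
  · by_cases h0 : a P = 0
    · rw [h0]; simp
    have hF : F P = -(P.ord (a P)) := by
      simp only [F, Finsupp.onFinset_apply, if_pos hPS]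
    rw [val_eq_exp_neg_ord P h0, exp_le_exp, hF]
    exact le_sup_right
  · have h1 : P.1 (a P) ≤ 1 := by
      by_contra hn
      apply hPS
      rw [hS, Finset.mem_union, Set.Finite.mem_toFinset]
      exact Or.inl hn
    have hD0 : D P = 0 := by
      by_contra hn
      apply hPS
      rw [hS, Finset.mem_union, Finsupp.mem_support_iff]
      exact Or.inr hn
    have hF : F P = 0 := by
      simp only [F, Finsupp.onFinset_apply, if_neg hPS]
    rw [hD0, hF, sup_idem, exp_zero]
    exact h1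

/-- if `δ(D) = g` then `A = A(D) + K` -/
lemma adele_le_of_delta_eq_genus (hK : IsFunctionField k K) {D : Divisor k K}
    (hD : delta D = (genus k K : ℤ)) : adele k K ≤ AD D ⊔ Kd k K := by
  intro a ha
  obtain ⟨D₁, hDD₁, haD₁⟩ := exists_ge_mem_AD D ha
  obtain ⟨n, hn, hdelta⟩ := relLen_ADK hK hDD₁
  have h1 : delta D₁ = (genus k K : ℤ) :=
    le_antisymm (delta_le_genus hK D₁) (hD ▸ delta_mono hK hDD₁)
  have hn0 : n = 0 := by
    have : (n : ℤ) = 0 := by rw [hdelta, h1, hD]; ring
    exact_mod_cast this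
  rw [hn0, Nat.cast_zero, relLen_eq_zero_iff] at hn
  exact hn (Submodule.mem_sup_left haD₁)

/-- there is `D' ≥ D` with `δ(D') = g` -/
lemma exists_ge_delta_eq_genus (hK : IsFunctionField k K) (D : Divisor k K) :
    ∃ D' : Divisor k K, D ≤ D' ∧ delta D' = (genus k K : ℤ) := by
  obtain ⟨N, hN⟩ := exists_deg_bound_delta_eq_genus hK
  obtain ⟨P₀⟩ := exists_place hK
  set m : ℕ := (N - D.deg).toNat with hm
  refine ⟨D + Finsupp.single P₀ (m : ℤ), le_add_of_nonneg_right (single_nonneg' P₀ (by simp)), ?_⟩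
  apply hN
  rw [deg_add, deg_single]
  have h1 : (1 : ℤ) ≤ P₀.deg := by exact_mod_cast deg_pos hK P₀
  have h2 : N - D.deg ≤ m := Int.self_le_toNat _
  have h3 : (0 : ℤ) ≤ m := by simp
  nlinarith

/-- `dim A/(A(D)+K) = g - δ(D)` -/
theorem relLen_ADK_adele (hK : IsFunctionField k K) (D : Divisor k K) :
    ∃ n : ℕ, relLen (AD D ⊔ Kd k K) (adele k K) = (n : ℕ∞) ∧
      (n : ℤ) = (genus k K : ℤ) - delta D := by
  obtain ⟨D', hDD', hD'⟩ := exists_ge_delta_eq_genus hK D
  obtain ⟨n, hn, hdelta⟩ := relLen_ADK hK hDD'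
  have heq : AD D' ⊔ Kd k K = adele k K :=
    le_antisymm (ADK_le_adele hK D') (adele_le_of_delta_eq_genus hK hD')
  rw [heq] at hn
  exact ⟨n, hn, by rw [hdelta, hD']⟩

lemma ADK_eq (D : Divisor k K) : ADK D = (AD D ⊔ Kd k K).submoduleOf (adele k K) := rfl

theorem finite_adele_quot (hK : IsFunctionField k K) (D : Divisor k K) :
    FiniteDimensional k (↥(adele k K) ⧸ ADK D) ∧
    (Module.finrank k (↥(adele k K) ⧸ ADK D) : ℤ) = (genus k K : ℤ) - delta D := by
  obtain ⟨n, hn, hdelta⟩ := relLen_ADK_adele hK D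
  unfold relLen at hn
  rw [← ADK_eq, length_eq_natCast_iff] at hn
  exact ⟨hn.1, by rw [hn.2, hdelta]⟩

theorem finite_WD (hK : IsFunctionField k K) (D : Divisor k K) :
    FiniteDimensional k (WD D) ∧
    (Module.finrank k (WD D) : ℤ) = (genus k K : ℤ) - delta D := by
  obtain ⟨hfin, hrank⟩ := finite_adele_quot hK D
  have e : Module.Dual k (↥(adele k K) ⧸ ADK D) ≃ₗ[k] WD D :=
    Submodule.dualQuotEquivDualAnnihilator (ADK D)
  refine ⟨Module.Finite.equiv e, ?_⟩
  rw [← e.finrank_eq, Subspace.dual_finrank_eq, hrank]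

end Groth.Agent.FF
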