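import Groth.Agent.FunFld.LDim

/-!
# `L(D)` is finite-dimensional; `ℓ(D₂) - ℓ(D₁) ≤ deg D₂ - deg D₁`
-/

set_option autoImplicit false

open FunFld IntermediateField Polynomial WithZero

namespace Groth.Agent.FF

universe u v
variable {k : Type u} {K : Type v} [Field k] [Field K] [Algebra k K]

/-- `L(0) = k`. -/
theorem L_zero_eq (hK : IsFunctionField k K) : L (0 : Divisor k K) = 1 := by
  ext x
  rw [Submodule.mem_one]
  constructor
  · intro hx
    have hx' : ∀ P : Place k K, P.1 x ≤ exp ((0 : Divisor k K) P) := hx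
    by_contra hnot
    have hnot' : x ∉ Set.range (algebraMap k K) := hnot
    have htr := transcendental_of_not_mem_range hK hnot'
    obtain ⟨Q, hQ⟩ := exists_pole_of_transcendental hK htr
    have hx0 : x ≠ 0 := by
      rintro rfl
      rw [ord_zero] at hQ
      exact lt_irrefl _ hQ
    have := hx' Q
    rw [Finsupp.zero_apply, exp_zero, val_le_one_iff Q hx0] at this
    omega
  · rintro ⟨c, rfl⟩
    intro P
    rw [Finsupp.zero_apply, exp_zero]
    exact P.2.1 c

lemma length_L_zero (hK : IsFunctionField k K) : Module.length k (L (0 : Divisor k K)) = 1 := by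
  rw [L_zero_eq hK]
  have e : (1 : Submodule k K) ≃ₗ[k] k := by
    have h1 : (1 : Submodule k K) = LinearMap.range (Algebra.linearMap k K) :=
      Submodule.one_eq_range
    rw [h1]
    exact (LinearEquiv.ofInjective (Algebra.linearMap k K)
      (FaithfulSMul.algebraMap_injective k K)).symm
  rw [e.length_eq, Module.length_eq_finrank]
  simp

/-- `L(D)` has finite length. -/
theorem length_L_ne_top (hK : IsFunctionField k K) (D : Divisor k K) :
    Module.length k (L D) ≠ ⊤ := by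
  have h0 : D ⊓ 0 ≤ D := inf_le_left
  have h1 : D ⊓ 0 ≤ 0 := inf_le_right
  obtain ⟨E, hE⟩ := exists_toDiv_of_le h0
  have hlen0 : Module.length k (L (D ⊓ 0)) ≤ 1 := by
    rw [← length_L_zero hK]
    exact Module.length_le_of_injective (Submodule.inclusion (L_mono h1))
      (Submodule.inclusion_injective _)
  rw [length_eq_add_relLen (L_mono h0)]
  have h2 : relLen (L (D ⊓ 0)) (L D) ≤ (degN E : ℕ∞) := by
    have := relLen_L_le hK E (D ⊓ 0)
    rwa [← hE] at this
  have h3 : Module.length k (L (D ⊓ 0)) + relLen (L (D ⊓ 0)) (L D) ≤ 1 + (degN E : ℕ∞) :=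
    add_le_add hlen0 h2
  intro htop
  rw [htop] at h3
  have : (1 : ℕ∞) + (degN E : ℕ∞) ≠ ⊤ := by
    exact_mod_cast ENat.natCast_ne_top (1 + degN E)
  exact this (top_le_iff.mp h3)

/-- `L(D)` is finite-dimensional. -/
theorem finite_L (hK : IsFunctionField k K) (D : Divisor k K) : FiniteDimensional k (L D) :=
  length_ne_top_iff_finite.mp (length_L_ne_top hK D)

lemma length_L_eq_ell (hK : IsFunctionField k K) (D : Divisor k K) :
    Module.length k (L D) = (ell D : ℕ∞) := by
  have := finite_L hK D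
  rw [Module.length_eq_finrank]; rfl

/-- `ℓ(D₂) ≤ ℓ(D₁) + deg D₂ - deg D₁` for `D₁ ≤ D₂`. -/
theorem ell_le_add (hK : IsFunctionField k K) {D₁ D₂ : Divisor k K} (h : D₁ ≤ D₂) :
    (ell D₂ : ℤ) ≤ ell D₁ + (D₂.deg - D₁.deg) := by
  obtain ⟨E, hE⟩ := exists_toDiv_of_le h
  have h1 := length_eq_add_relLen (L_mono h)
  have h2 : relLen (L D₁) (L D₂) ≤ (degN E : ℕ∞) := by
    have := relLen_L_le hK E D₁
    rwa [← hE] at this
  rw [length_L_eq_ell hK, length_L_eq_ell hK] at h1
  have h3 : (ell D₂ : ℕ∞) ≤ (ell D₁ : ℕ∞) + (degN E : ℕ∞) := by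
    rw [h1]; exact add_le_add le_rfl h2
  have h4 : ell D₂ ≤ ell D₁ + degN E := by exact_mod_cast h3
  have h5 : D₂.deg - D₁.deg = (degN E : ℤ) := by
    rw [hE, deg_add, deg_toDiv]; ring
  rw [h5]
  exact_mod_cast h4

lemma ell_mono (hK : IsFunctionField k K) {D₁ D₂ : Divisor k K} (h : D₁ ≤ D₂) :
    ell D₁ ≤ ell D₂ := by
  have := finite_L hK D₂
  exact Submodule.finrank_mono (L_mono h)

/-- `dim A(D₂)/A(D₁) = deg D₂ - deg D₁` -/
theorem relLen_AD_of_le (hK : IsFunctionField k K) {D₁ D₂ : Divisor k K} (h : D₁ ≤ D₂) :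
    ∃ n : ℕ, relLen (AD D₁) (AD D₂) = (n : ℕ∞) ∧ (n : ℤ) = D₂.deg - D₁.deg := by
  obtain ⟨E, hE⟩ := exists_toDiv_of_le h
  refine ⟨degN E, ?_, ?_⟩
  · have := relLen_AD_eq hK E D₁
    rwa [← hE] at this
  · rw [hE, deg_add, deg_toDiv]; ring

end Groth.Agent.FF
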