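import Groth.Agent.FunFld.AS2Diff
import Groth.Agent.FunFld.LFinite
import Groth.Agent.FunFld.Adele2

/-!
# Artin–Schreier extensions `y² + y = f(x)` in characteristic two: `H¹(O)` by repartitions
-/

set_option autoImplicit false
set_option linter.unusedSectionVars false

open FunFld IntermediateField WithZero Polynomial

namespace Groth.Agent.FF.AS2

open Groth.Agent.FF.Ext Groth.Agent.H57

universe u v w

section Core

variable {k : Type u} {K : Type v} [Field k] [Field K] [Algebra k K]
  [Algebra (RatFunc k) K] [IsScalarTower k (RatFunc k) K]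
  [IsAlgClosed k] [CharP k 2] [Algebra.IsSeparable (RatFunc k) K]
  {y : K} {f : RatFunc k} {B : Finset k} {d : k → ℕ}

local notation "j" => algebraMap (RatFunc k) K

/-- every element of `K` is `a + b y` with `a, b ∈ k(x)` -/
lemma Setup.exists_decomp (S : Setup k K y f B d) (z : K) :
    ∃ a b : RatFunc k, z = j a + j b * y := by
  have hfd := S.finiteDimensional
  have hli : LinearIndependent (RatFunc k) ![(1 : K), y] := by
    rw [LinearIndependent.pair_iff]
    intro s t hst
    by_cases ht : t = 0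
    · subst ht
      rw [zero_smul, add_zero, Algebra.smul_def, mul_one] at hst
      exact ⟨(map_eq_zero _).mp hst, rfl⟩
    · exfalso
      apply S.hy
      refine ⟨-s / t, ?_⟩
      rw [Algebra.smul_def, Algebra.smul_def, mul_one] at hst
      rw [map_div₀, map_neg, div_eq_iff ((_root_.map_ne_zero _).mpr ht)]
      linear_combination -hst
  have hcard : Fintype.card (Fin 2) = Module.finrank (RatFunc k) K := by
    rw [S.hdeg, Fintype.card_fin]
  let b := basisOfLinearIndependentOfCardEqFinrank hli hcard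
  have hz := b.sum_repr z
  rw [Fin.sum_univ_two] at hz
  simp only [b, coe_basisOfLinearIndependentOfCardEqFinrank, Matrix.cons_val_zero,
    Matrix.cons_val_one] at hz
  refine ⟨b.repr z 0, b.repr z 1, ?_⟩
  rw [Algebra.smul_def, Algebra.smul_def, mul_one] at hz
  exact hz.symm

end Core

section Core2

variable {k : Type u} {K : Type v} [Field k] [Field K] [Algebra k K]

/-- the order of a polynomial expression in an element of order two -/
lemma ord_aeval_of_ord_two (P : Place k K) {u : K} (hu : P.ord u = 2) (hu0 : u ≠ 0) {R : k[X]}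
    (hR : R ≠ 0) :
    ∃ m : ℕ, m ≤ R.natDegree ∧ P.ord (aeval u R) = 2 * m ∧ aeval u R ≠ 0 := by
  obtain ⟨R', hRR', hR'⟩ := exists_eq_pow_rootMultiplicity_mul_and_not_dvd R hR 0
  rw [map_zero, sub_zero] at hRR' hR'
  set m := rootMultiplicity 0 R with hm
  have hR'0 : R' ≠ 0 := by
    rintro rfl
    exact hR' (dvd_zero _)
  have hc0 : R'.coeff 0 ≠ 0 := fun h => hR' (X_dvd_iff.mpr h)
  have hult : P.1 u < 1 := by
    rw [val_lt_one_iff P hu0, hu]
    norm_num
  have h1 : P.1 (aeval u R') = 1 := gval_aeval_eq_one P.1 P.2.1 hult hc0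
  have h10 : aeval u R' ≠ 0 := by
    intro h0
    rw [h0, map_zero] at h1
    exact zero_ne_one h1
  have hev : aeval u R = u ^ m * aeval u R' := by
    conv_lhs => rw [hRR']
    rw [map_mul, map_pow, aeval_X]
  refine ⟨m, ?_, ?_, ?_⟩
  · have : R.natDegree = m + R'.natDegree := by
      conv_lhs => rw [hRR']
      rw [natDegree_mul (pow_ne_zero _ X_ne_zero) hR'0, natDegree_X_pow]
    omega
  · rw [hev, ord_mul P (pow_ne_zero _ hu0) h10, ord_pow, hu, (val_eq_one_iff P h10).mp h1]
    ring
  · rw [hev]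
    exact mul_ne_zero (pow_ne_zero _ hu0) h10

end Core2

section Core3

variable {k : Type u} {K : Type v} [Field k] [Field K] [Algebra k K]
  [Algebra (RatFunc k) K] [IsScalarTower k (RatFunc k) K]
  [IsAlgClosed k] [CharP k 2] [Algebra.IsSeparable (RatFunc k) K]
  {y : K} {f : RatFunc k} {B : Finset k} {d : k → ℕ}

local notation "j" => algebraMap (RatFunc k) K

/-- a repartition `(y q_β(x - β))_β` supported above the poles of `f`, with `deg q_β ≤ c_β`, lies in
`A(0) + K` only if all `q_β` are one and the same constant -/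
theorem Setup.core (S : Setup k K y f B d) (Pl : k → Place k K)
    (hPl : ∀ β ∈ B, (Pl β).1 (j RatFunc.X - algebraMap k K β) < 1)
    (Q : k → k[X]) (hQ : ∀ β ∈ B, 2 * (Q β).natDegree + 1 ≤ d β)
    (A : Place k K → K)
    (hA1 : ∀ β ∈ B, A (Pl β) = y * aeval (j RatFunc.X - algebraMap k K β) (Q β))
    (hA0 : ∀ P, (∀ β ∈ B, P ≠ Pl β) → A P = 0)
    (hAW : A ∈ AD (0 : Divisor k K) ⊔ LinearMap.range (diag k K)) :
    ∃ c : k, ∀ β ∈ B, Q β = C c := by
  classical
  have hfd := S.finiteDimensional
  have hcharK : CharP K 2 := charP_K (k := k)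
  have hKr := isFunctionField_ratFunc k
  have h2K : (2 : K) = 0 := CharTwo.two_eq_zero
  obtain ⟨a₀, ha₀, _, ⟨z, rfl⟩, hsum⟩ := Submodule.mem_sup.mp hAW
  rw [mem_AD_zero_iff] at ha₀
  have hAz : ∀ P : Place k K, P.1 (A P - z) ≤ 1 := by
    intro P
    have : A P - z = a₀ P := by
      rw [← hsum, Pi.add_apply, diag_apply, add_sub_cancel_right]
    rw [this]
    exact ha₀ P
  obtain ⟨σ, hσ⟩ := exists_conj (k := k) S.hdeg S.hy S.heq
  obtain ⟨a, b, hz⟩ := S.exists_decomp z
  have hσz : z + σ z = j b := by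
    rw [hz, map_add, map_mul, σ.commutes, σ.commutes, hσ]
    linear_combination (j a + j b * y) * h2K
  have hσu : ∀ β : k, σ (j RatFunc.X - algebraMap k K β) = j RatFunc.X - algebraMap k K β := by
    intro β
    rw [sub_eq, σ.commutes]
  -- places above `B` are `σ`-stable
  have hstab : ∀ β ∈ B, ∀ t : K, (Pl β).1 (σ t) = (Pl β).1 t := by
    intro β hβ t
    have h1 : (Place.comapEquiv (Pl β) σ).1 (j RatFunc.X - algebraMap k K β) < 1 := by
      rw [Place.comapEquiv_apply, hσu]
      exact hPl β hβ
    have := S.place_above_unique hβ (hPl β hβ) h1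
    rw [← Place.comapEquiv_apply, this]
  -- `b` is integral everywhere
  have hb : ∀ p : Place k (RatFunc k), p.1 b ≤ 1 := by
    intro p
    obtain ⟨P, e, he⟩ := exists_isOver (K' := K) hKr p
    rw [← le_one_iff he, ← hσz]
    by_cases hP : ∃ β ∈ B, P = Pl β
    · obtain ⟨β, hβ, rfl⟩ := hP
      set u := j RatFunc.X - algebraMap k K β with hu
      set w := aeval u (Q β) with hw
      have hw1 : (Pl β).1 w ≤ 1 := gval_aeval_le_one (Pl β).1 (Pl β).2.1 (hPl β hβ).le (Q β)
      have hσw : σ w = w := by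
        rw [hw, hu, sub_eq, aeval_algebraMap_apply, σ.commutes]
      have h1 := hAz (Pl β)
      rw [hA1 β hβ] at h1
      have h2 : (Pl β).1 (σ (y * w - z)) ≤ 1 := by
        rw [hstab β hβ]
        exact h1
      rw [map_sub, map_mul, hσ, hσw] at h2
      have h3 : z + σ z = w - ((y * w - z) + ((y + 1) * w - σ z)) := by
        linear_combination (y * w) * h2K
      rw [h3]
      exact Valuation.map_sub_le _ hw1 (Valuation.map_add_le _ h1 h2)
    · push Not at hP
      have h1 := hAz P
      rw [hA0 P hP, zero_sub, Valuation.map_neg] at h1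
      have hP' : ∀ β ∈ B, Place.comapEquiv P σ ≠ Pl β := by
        intro β hβ heq
        apply hP β hβ
        have h := hPl β hβ
        rw [← heq, Place.comapEquiv_apply, hσu] at h
        exact S.place_above_unique hβ (hPl β hβ) h
      have h2 := hAz (Place.comapEquiv P σ)
      rw [hA0 _ hP', zero_sub, Valuation.map_neg, Place.comapEquiv_apply] at h2
      exact Valuation.map_add_le _ h1 h2
  obtain ⟨c, hc⟩ : ∃ c : k, b = RatFunc.C c := by
    have hbL : b ∈ L (0 : Divisor k (RatFunc k)) := fun p => by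
      rw [Finsupp.coe_zero, Pi.zero_apply, exp_zero]
      exact hb p
    rw [L_zero_eq hKr, Submodule.mem_one] at hbL
    obtain ⟨c, hc⟩ := hbL
    exact ⟨c, by rw [← hc, RatFunc.algebraMap_eq_C]⟩
  refine ⟨c, fun β hβ => ?_⟩
  by_contra hne
  set R := Q β - C c with hR
  have hR0 : R ≠ 0 := sub_ne_zero.mpr hne
  have hRdeg : R.natDegree ≤ (Q β).natDegree := by
    refine (natDegree_sub_le _ _).trans ?_
    rw [natDegree_C]
    simp
  obtain ⟨p, he, hp, hordy, hordu⟩ := S.place_above_facts hβ (hPl β hβ)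
  set u := j RatFunc.X - algebraMap k K β with hu
  have hu0 : u ≠ 0 := by
    rw [hu, sub_eq]
    exact j_ne_zero (X_sub_C_ne_zero β)
  obtain ⟨m, hm, hordR, hR0'⟩ := ord_aeval_of_ord_two (Pl β) hordu hu0 hR0
  have h1 := hAz (Pl β)
  rw [hA1 β hβ, hz, hc] at h1
  have h2 : y * aeval u (Q β) - (j a + j (RatFunc.C c) * y) = y * aeval u R - j a := by
    rw [hR, map_sub, aeval_C, ← RatFunc.algebraMap_eq_C, ← IsScalarTower.algebraMap_apply]
    ring
  rw [h2] at h1
  have hy0 := y_ne_zero S.hy
  have hyR0 : y * aeval u R ≠ 0 := mul_ne_zero hy0 hR0'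
  have hord1 : (Pl β).ord (y * aeval u R) = -(d β : ℤ) + 2 * m := by
    rw [ord_mul _ hy0 hR0', hordy, hordR]
  have hQβ := hQ β hβ
  have hneg : (Pl β).ord (y * aeval u R) < 0 := by
    rw [hord1]
    omega
  by_cases ha : a = 0
  · subst ha
    rw [map_zero, sub_zero, val_le_one_iff _ hyR0] at h1
    omega
  · have hja : j a ≠ 0 := j_ne_zero ha
    have hord2 : (Pl β).ord (j a) = 2 * p.ord a := by
      rw [ord_eq he]
      norm_num
    have hdist : (Pl β).1 (y * aeval u R) ≠ (Pl β).1 (-j a) := by
      rw [Valuation.map_neg, val_eq_exp_neg_ord _ hyR0, val_eq_exp_neg_ord _ hja, Ne, exp_inj,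
        hord1, hord2]
      obtain ⟨t, ht⟩ := S.hd β hβ
      omega
    rw [sub_eq_add_neg, Valuation.map_add_of_distinct_val _ hdist] at h1
    have h3 := (le_max_left _ _).trans h1
    rw [val_le_one_iff _ hyR0] at h3
    omega

end Core3

section Index

variable {k : Type u} (B : Finset k) (d : k → ℕ)

/-- the index type of the classes `y (x - β)^j`, `1 ≤ j ≤ c_β` -/
abbrev I₁ : Type u := {a : ↥B × ℕ // 1 ≤ a.2 ∧ 2 * a.2 + 1 ≤ d (a.1 : k)}

/-- the index type of the classes `y` at `β ≠ 0` -/
abbrev I₂ [Zero k] : Type u := {b : ↥B // (b : k) ≠ 0}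

lemma card_I₁ [Fintype (I₁ B d)] : Fintype.card (I₁ B d) = ∑ β ∈ B, (d β - 1) / 2 := by
  classical
  set N := B.sup d with hNdef
  have hN : ∀ β ∈ B, d β ≤ N := fun β hβ => Finset.le_sup hβ
  let s : Finset (↥B × ℕ) := ((Finset.univ : Finset ↥B) ×ˢ Finset.range (N + 1)).filter
    (fun a => 1 ≤ a.2 ∧ 2 * a.2 + 1 ≤ d (a.1 : k))
  have hs : ∀ a, a ∈ s ↔ (1 ≤ a.2 ∧ 2 * a.2 + 1 ≤ d (a.1 : k)) := by
    intro a
    simp only [s, Finset.mem_filter, Finset.mem_product, Finset.mem_univ, true_and,
      Finset.mem_range, and_iff_right_iff_imp]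
    intro h
    have := hN a.1 a.1.2
    omega
  rw [Fintype.card_of_subtype s hs, Finset.card_filter, Finset.sum_product,
    ← Finset.sum_coe_sort B]
  apply Finset.sum_congr rfl
  intro β _
  rw [← Finset.card_filter]
  have hset : (Finset.range (N + 1)).filter (fun jj => 1 ≤ jj ∧ 2 * jj + 1 ≤ d (β : k)) =
      Finset.Icc 1 ((d (β : k) - 1) / 2) := by
    ext jj
    simp only [Finset.mem_filter, Finset.mem_range, Finset.mem_Icc]
    have := hN β β.2
    constructor
    · intro h
      omega
    · intro h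
      omega
  rw [hset, Nat.card_Icc]
  omega

lemma card_I₂ [Zero k] [Fintype (I₂ B)] (h0 : (0 : k) ∈ B) :
    Fintype.card (I₂ B) = B.card - 1 := by
  classical
  let s : Finset ↥B := (Finset.univ : Finset ↥B).erase ⟨0, h0⟩
  have hs : ∀ b : ↥B, b ∈ s ↔ (b : k) ≠ 0 := by
    intro b
    simp only [s, Finset.mem_erase, Finset.mem_univ, and_true, ne_eq]
    rw [Subtype.ext_iff]
  rw [Fintype.card_of_subtype s hs, Finset.card_erase_of_mem (Finset.mem_univ _),
    Finset.card_univ, Fintype.card_coe]

end Index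

section Count

variable {k : Type u} {K : Type v} [Field k] [Field K] [Algebra k K]
  [Algebra (RatFunc k) K] [IsScalarTower k (RatFunc k) K]
  [IsAlgClosed k] [CharP k 2] [Algebra.IsSeparable (RatFunc k) K]
  {y : K} {f : RatFunc k} {B : Finset k} {d : k → ℕ}

/-- the number of basis classes is the genus -/
lemma Setup.card_index (S : Setup k K y f B d) [Fintype (I₁ B d)] [Fintype (I₂ B)] :
    Fintype.card (I₁ B d ⊕ I₂ B) = genus k K := by
  rw [Fintype.card_sum, card_I₁, card_I₂ B S.h0]
  have hg := S.genus_eq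
  have hsum : ∑ β ∈ B, ((d β : ℤ) + 1) = 2 * ((∑ β ∈ B, (d β - 1) / 2 : ℕ) : ℤ) + 2 * B.card := by
    have h1 : ∑ β ∈ B, ((d β : ℤ) + 1) = ∑ β ∈ B, (2 * (((d β - 1) / 2 : ℕ) : ℤ) + 2) := by
      apply Finset.sum_congr rfl
      intro β hβ
      obtain ⟨t, ht⟩ := S.hd β hβ
      have : (d β - 1) / 2 = t := by omega
      rw [this, ht]
      push_cast
      ring
    rw [h1, Finset.sum_add_distrib, ← Finset.mul_sum, Finset.sum_const, nsmul_eq_mul,
      Nat.cast_sum]
    ring
  have hpos : 0 < B.card := Finset.card_pos.mpr ⟨0, S.h0⟩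
  rw [hsum] at hg
  omega

end Count

section Family

variable {k : Type u} {K : Type v} [Field k] [Field K] [Algebra k K]
  [Algebra (RatFunc k) K] [IsScalarTower k (RatFunc k) K]
  [IsAlgClosed k] [CharP k 2] [Algebra.IsSeparable (RatFunc k) K]
  {y : K} {f : RatFunc k} {B : Finset k} {d : k → ℕ}
  [DecidableEq (Place k K)]

local notation "j" => algebraMap (RatFunc k) K

/-- the repartitions whose classes form a basis of `H¹(O)` -/
noncomputable abbrev fam (Pl : k → Place k K) (y : K) (B : Finset k) (d : k → ℕ) :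
    I₁ B d ⊕ I₂ B → (Place k K → K) :=
  Sum.elim
    (fun a : I₁ B d =>
      (Pi.single (Pl (a.1.1 : k)) (y * (j RatFunc.X - algebraMap k K (a.1.1 : k)) ^ a.1.2) :
        Place k K → K))
    (fun b : I₂ B => (Pi.single (Pl (b.1 : k)) y : Place k K → K))

lemma fam_inl (Pl : k → Place k K) (a : I₁ B d) : fam Pl y B d (Sum.inl a) =
    Pi.single (Pl (a.1.1 : k)) (y * (j RatFunc.X - algebraMap k K (a.1.1 : k)) ^ a.1.2) := rfl

lemma fam_inr (Pl : k → Place k K) (b : I₂ B) : fam Pl y B d (Sum.inr b) =
    Pi.single (Pl (b.1 : k)) y := rfl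

lemma single_mem_adele (P : Place k K) (w : K) : (Pi.single P w : Place k K → K) ∈ adele k K := by
  rw [mem_adele]
  apply (Set.finite_singleton P).subset
  intro P' hP'
  rw [Set.mem_setOf_eq] at hP'
  rw [Set.mem_singleton_iff]
  by_contra hne
  apply hP'
  rw [Pi.single_eq_of_ne hne, map_zero]
  exact zero_le_one

lemma fam_mem_adele (Pl : k → Place k K) (i : I₁ B d ⊕ I₂ B) : fam Pl y B d i ∈ adele k K := by
  rcases i with a | b
  · exact single_mem_adele _ _
  · exact single_mem_adele _ _

/-- the key bookkeeping: a vanishing combination of the classes has zero coefficients -/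
theorem Setup.fam_coeff_zero (S : Setup k K y f B d) (Pl : k → Place k K)
    (hPl : ∀ β ∈ B, (Pl β).1 (j RatFunc.X - algebraMap k K β) < 1)
    [Fintype (I₁ B d)] [Fintype (I₂ B)]
    (g : I₁ B d ⊕ I₂ B → k)
    (hg : ∑ i, g i • fam Pl y B d i ∈ AD (0 : Divisor k K) ⊔ LinearMap.range (diag k K)) :
    ∀ i, g i = 0 := by
  classical
  -- injectivity of `Pl` on `B`
  have hinj : ∀ β ∈ B, ∀ β' ∈ B, Pl β = Pl β' → β = β' := by
    intro β hβ β' hβ' heq
    by_contra hne
    have h1 := val_sub_eq_one_of_ne (Pl β) (α := β') hne (hPl β hβ)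
    have h2 := hPl β' hβ'
    rw [← heq, h1] at h2
    exact lt_irrefl _ h2
  set A : Place k K → K := ∑ i, g i • fam Pl y B d i with hA
  let μ : k → k := fun α => ∑ b : I₂ B, if (b.1 : k) = α then g (Sum.inr b) else 0
  let Q : k → k[X] := fun α =>
    (∑ a : I₁ B d, if (a.1.1 : k) = α then monomial a.1.2 (g (Sum.inl a)) else 0) + C (μ α)
  have hQ : ∀ β ∈ B, 2 * (Q β).natDegree + 1 ≤ d β := by
    intro β hβ
    have hdpos : 0 < d β := (S.hd β hβ).pos
    have h1 : (Q β).natDegree ≤ (d β - 1) / 2 := by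
      refine (natDegree_add_le _ _).trans (max_le ?_ ?_)
      · apply natDegree_sum_le_of_forall_le
        intro a _
        split_ifs with h
        · refine (natDegree_monomial_le _).trans ?_
          have := a.2.2
          rw [h] at this
          omega
        · simp
      · rw [natDegree_C]
        exact Nat.zero_le _
    omega
  have hA1 : ∀ β ∈ B, A (Pl β) = y * aeval (j RatFunc.X - algebraMap k K β) (Q β) := by
    intro β hβ
    rw [hA, Finset.sum_apply, Fintype.sum_sum_type]
    simp only [Q, μ, map_add, map_sum, aeval_C, mul_add, Finset.mul_sum]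
    congr 1
    · apply Finset.sum_congr rfl
      intro a _
      rw [Pi.smul_apply, fam_inl, Pi.single_apply]
      by_cases h : (a.1.1 : k) = β
      · rw [if_pos (by rw [h]), if_pos h, aeval_monomial, h, Algebra.smul_def]
        ring
      · rw [if_neg h, if_neg, map_zero, mul_zero, smul_zero]
        intro heq
        exact h (hinj _ a.1.1.2 _ hβ heq.symm)
    · apply Finset.sum_congr rfl
      intro b _
      rw [Pi.smul_apply, fam_inr, Pi.single_apply]
      by_cases h : (b.1 : k) = β
      · rw [if_pos (by rw [h]), if_pos h, Algebra.smul_def]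
        ring
      · rw [if_neg h, if_neg, map_zero, mul_zero, smul_zero]
        intro heq
        exact h (hinj _ b.1.2 _ hβ heq.symm)
  have hA0 : ∀ P, (∀ β ∈ B, P ≠ Pl β) → A P = 0 := by
    intro P hP
    rw [hA, Finset.sum_apply]
    apply Finset.sum_eq_zero
    intro i _
    rcases i with a | b
    · rw [Pi.smul_apply, fam_inl, Pi.single_eq_of_ne (hP _ a.1.1.2), smul_zero]
    · rw [Pi.smul_apply, fam_inr, Pi.single_eq_of_ne (hP _ b.1.2), smul_zero]
  obtain ⟨c, hc⟩ := S.core Pl hPl Q hQ A hA1 hA0 hg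
  -- extraction of the coefficients
  have hcoeff0 : ∀ β ∈ B, μ β = c := by
    intro β hβ
    have h := congrArg (fun q => q.coeff 0) (hc β hβ)
    simp only [Q, coeff_add, coeff_C_zero, finset_sum_coeff] at h
    rw [Finset.sum_eq_zero, zero_add] at h
    · exact h
    · intro a _
      split_ifs with h1
      · rw [coeff_monomial, if_neg]
        have := a.2.1
        omega
      · exact coeff_zero _
  have hc0 : c = 0 := by
    rw [← hcoeff0 0 S.h0]
    apply Finset.sum_eq_zero
    intro b _
    rw [if_neg b.2]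
  intro i
  rcases i with a₀ | b₀
  · have hβ : (a₀.1.1 : k) ∈ B := a₀.1.1.2
    have hn : a₀.1.2 ≠ 0 := by
      have := a₀.2.1
      omega
    have h := congrArg (fun q => q.coeff a₀.1.2) (hc _ hβ)
    simp only [Q, coeff_add, finset_sum_coeff] at h
    rw [coeff_C_ne_zero hn, coeff_C_ne_zero hn, add_zero, Finset.sum_eq_single a₀] at h
    · rw [if_pos rfl, coeff_monomial, if_pos rfl] at h
      exact h
    · intro a _ hne
      split_ifs with h1
      · rw [coeff_monomial, if_neg]
        intro h2
        apply hne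
        apply Subtype.ext
        apply Prod.ext
        · exact Subtype.ext h1
        · exact h2
      · exact coeff_zero _
    · intro h
      exact absurd (Finset.mem_univ _) h
  · have hβ : (b₀.1 : k) ∈ B := b₀.1.2
    have h := hcoeff0 _ hβ
    rw [hc0] at h
    simp only [μ] at h
    rw [Finset.sum_eq_single b₀] at h
    · rw [if_pos rfl] at h
      exact h
    · intro b _ hne
      rw [if_neg]
      intro h2
      apply hne
      apply Subtype.ext
      exact Subtype.ext h2
    · intro h
      exact absurd (Finset.mem_univ _) h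

end Family

section Finite

variable {k : Type u} (B : Finset k) (d : k → ℕ)

lemma finite_I₁ : Finite (I₁ B d) := by
  classical
  have hN : ∀ β ∈ B, d β ≤ B.sup d := fun β hβ => Finset.le_sup hβ
  exact (Fintype.subtype (((Finset.univ : Finset ↥B) ×ˢ Finset.range (B.sup d + 1)).filter
    (fun a => 1 ≤ a.2 ∧ 2 * a.2 + 1 ≤ d (a.1 : k))) (by
      intro a
      simp only [Finset.mem_filter, Finset.mem_product, Finset.mem_univ, true_and,
        Finset.mem_range, and_iff_right_iff_imp]
      intro h
      have := hN a.1 a.1.2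
      omega)).finite

lemma finite_I₂ [Zero k] : Finite (I₂ B) := inferInstance

end Finite

section Basis

variable {k : Type u} {K : Type v} [Field k] [Field K] [Algebra k K]
  [Algebra (RatFunc k) K] [IsScalarTower k (RatFunc k) K]
  [IsAlgClosed k] [CharP k 2] [Algebra.IsSeparable (RatFunc k) K]
  {y : K} {f : RatFunc k} {B : Finset k} {d : k → ℕ}
  [DecidableEq (Place k K)]

local notation "j" => algebraMap (RatFunc k) K

/-- the classes are linearly independent modulo `A(0) + K` -/
theorem Setup.fam_linearIndependent (S : Setup k K y f B d) (Pl : k → Place k K)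
    (hPl : ∀ β ∈ B, (Pl β).1 (j RatFunc.X - algebraMap k K β) < 1) :
    LinearIndependent k (fun i => Submodule.mkQ
      (AD (0 : Divisor k K) ⊔ LinearMap.range (diag k K)) (fam Pl y B d i)) := by
  classical
  haveI := finite_I₁ B d
  haveI := finite_I₂ B
  haveI := Fintype.ofFinite (I₁ B d)
  haveI := Fintype.ofFinite (I₂ B)
  rw [Fintype.linearIndependent_iff]
  intro g hg
  apply S.fam_coeff_zero Pl hPl g
  rw [← Submodule.Quotient.mk_eq_zero, ← Submodule.mkQ_apply, map_sum]
  simp_rw [map_smul]
  exact hg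

/-- the classes span the repartitions modulo `A(0) + K` -/
theorem Setup.fam_span (S : Setup k K y f B d) (Pl : k → Place k K)
    (hPl : ∀ β ∈ B, (Pl β).1 (j RatFunc.X - algebraMap k K β) < 1)
    (a : Place k K → K) (ha : a ∈ adele k K) :
    a ∈ (AD (0 : Divisor k K) ⊔ LinearMap.range (diag k K)) ⊔
      Submodule.span k (Set.range (fam Pl y B d)) := by
  classical
  haveI := finite_I₁ B d
  haveI := finite_I₂ B
  haveI := Fintype.ofFinite (I₁ B d)
  haveI := Fintype.ofFinite (I₂ B)
  obtain ⟨hfin, hrank⟩ := finite_adele_quot S.hK (0 : Divisor k K)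
  rw [delta_zero S.hK, sub_zero] at hrank
  let v' : I₁ B d ⊕ I₂ B → adele k K := fun i => ⟨fam Pl y B d i, fam_mem_adele Pl i⟩
  have hsub : ∀ c : I₁ B d ⊕ I₂ B → k,
      ((∑ i, c i • v' i : adele k K) : Place k K → K) = ∑ i, c i • fam Pl y B d i := by
    intro c
    rw [Submodule.coe_sum]
    rfl
  have hli : LinearIndependent k (fun i => Submodule.mkQ (ADK (0 : Divisor k K)) (v' i)) := by
    rw [Fintype.linearIndependent_iff]
    intro g hg
    apply S.fam_coeff_zero Pl hPl g
    have h1 : ∑ i, g i • v' i ∈ ADK (0 : Divisor k K) := by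
      rw [← Submodule.Quotient.mk_eq_zero, ← Submodule.mkQ_apply, map_sum]
      simp_rw [map_smul]
      exact hg
    unfold ADK at h1
    rw [Submodule.mem_comap, Submodule.subtype_apply, hsub] at h1
    exact h1
  have hcard : Fintype.card (I₁ B d ⊕ I₂ B) =
      Module.finrank k (↥(adele k K) ⧸ ADK (0 : Divisor k K)) := by
    rw [S.card_index]
    exact_mod_cast hrank.symm
  have htop := hli.span_eq_top_of_card_eq_finrank' hcard
  have hmem : Submodule.mkQ (ADK (0 : Divisor k K)) ⟨a, ha⟩ ∈
      Submodule.span k (Set.range fun i => Submodule.mkQ (ADK (0 : Divisor k K)) (v' i)) := by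
    rw [htop]
    trivial
  obtain ⟨c, hc⟩ := (Submodule.mem_span_range_iff_exists_fun k).mp hmem
  have h3 : (⟨a, ha⟩ : adele k K) - ∑ i, c i • v' i ∈ ADK (0 : Divisor k K) := by
    rw [← Submodule.Quotient.mk_eq_zero, ← Submodule.mkQ_apply, map_sub, map_sum]
    simp_rw [map_smul]
    rw [hc, sub_self]
  unfold ADK at h3
  rw [Submodule.mem_comap, Submodule.subtype_apply, Submodule.coe_sub, hsub] at h3
  have h4 : a = (a - ∑ i, c i • fam Pl y B d i) + ∑ i, c i • fam Pl y B d i := by abel
  rw [h4]
  apply Submodule.add_mem_sup h3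
  exact Submodule.sum_mem _ (fun i _ => Submodule.smul_mem _ _ (Submodule.subset_span ⟨i, rfl⟩))

end Basis

end Groth.Agent.FF.AS2
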