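import Groth.Agent.FunFld.ResExt
import Groth.Agent.FunFld.DegDiv
import Mathlib.FieldTheory.AlgebraicClosure

/-!
# The constant field of a finite extension of a function field
-/

set_option autoImplicit false
set_option linter.unusedSectionVars false

open FunFld WithZero IntermediateField

namespace Groth.Agent.FF.Ext

open Groth.Agent.FF

variable {k K K' : Type*} [Field k] [Field K] [Field K'] [Algebra k K] [Algebra K K']
  [Algebra k K'] [IsScalarTower k K K']

/-- finiteness over a subfield containing the image of the scalars -/
lemma finite_of_range_le {A : Type*} [CommRing A] [Algebra A K'] [Module.Finite A K']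
    {k₁ : Type*} [Field k₁] [Algebra k₁ K'] (F : IntermediateField k₁ K')
    (h : ∀ a : A, algebraMap A K' a ∈ F) : Module.Finite F K' := by
  obtain ⟨s, hs⟩ := (Module.finite_def (R := A) (M := K')).mp inferInstance
  rw [Module.finite_def]
  refine ⟨s, ?_⟩
  rw [eq_top_iff]
  rintro y -
  have hy : y ∈ Submodule.span A (s : Set K') := by rw [hs]; trivial
  induction hy using Submodule.span_induction with
  | mem x hx => exact Submodule.subset_span hx
  | zero => exact Submodule.zero_mem _
  | add x y _ _ hx hy => exact Submodule.add_mem _ hx hy
  | smul a x _ hx =>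
    have h1 : a • x = (⟨algebraMap A K' a, h a⟩ : F) • x := by
      rw [Algebra.smul_def]
      rfl
    rw [h1]
    exact Submodule.smul_mem _ _ hx

/-- a finite extension of a function field is a function field over its constant field -/
theorem isFunctionField_algebraicClosure [FiniteDimensional K K'] (hK : IsFunctionField k K) :
    IsFunctionField (algebraicClosure k K') K' := by
  obtain ⟨⟨x₀, hx₀, hfin⟩, -⟩ := hK
  have halgk : Algebra.IsAlgebraic k (algebraicClosure k K') := algebraicClosure.isAlgebraic k K'
  refine ⟨⟨algebraMap K K' x₀, ?_, ?_⟩, ?_⟩
  · intro halg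
    have h1 : IsAlgebraic k (algebraMap K K' x₀) := halg.restrictScalars k
    exact hx₀ ((isAlgebraic_algebraMap_iff (algebraMap K K').injective).mp h1)
  · have hfin' : Module.Finite (adjoin k ({x₀} : Set K)) K' := Module.Finite.trans K K'
    apply finite_of_range_le (A := adjoin k ({x₀} : Set K))
    intro a
    let E : IntermediateField k K :=
      ((adjoin (algebraicClosure k K') ({algebraMap K K' x₀} : Set K')).restrictScalars k).comap
        (IsScalarTower.toAlgHom k K K')
    have hle : adjoin k ({x₀} : Set K) ≤ E := by
      rw [adjoin_simple_le_iff]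
      change algebraMap K K' x₀ ∈ adjoin (algebraicClosure k K') ({algebraMap K K' x₀} : Set K')
      exact mem_adjoin_simple_self _ _
    exact hle a.2
  · intro y hy
    have h1 : IsAlgebraic k y := hy.restrictScalars k
    exact ⟨⟨y, mem_algebraicClosure_iff.mpr h1⟩, rfl⟩

/-- a place is trivial on elements algebraic over the base field -/
lemma val_le_one_of_isAlgebraic (Q : Place k K') {c : K'} (hc : IsAlgebraic k c) :
    Q.1 c ≤ 1 := by
  have htower : IsScalarTower k Q.O K' := IsScalarTower.of_algebraMap_eq (fun _ => rfl)
  have hint : IsIntegral k c := isAlgebraic_iff_isIntegral.mp hc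
  have hint' : IsIntegral Q.O c := hint.tower_top
  have hQ : Q.1.Integers Q.O := Valuation.valuationSubring.integers Q.1
  exact hQ.mem_of_integral hint'

/-- a place over `k` as a place over the constant field -/
def placeUp (Q : Place k K') : Place (algebraicClosure k K') K' :=
  ⟨Q.1, ⟨fun c => val_le_one_of_isAlgebraic Q (mem_algebraicClosure_iff.mp c.2), Q.2.2⟩⟩

/-- a place over the constant field as a place over `k` -/
def placeDown (Q : Place (algebraicClosure k K') K') : Place k K' :=
  ⟨Q.1, ⟨fun c => by
    rw [IsScalarTower.algebraMap_apply k (algebraicClosure k K') K']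
    exact Q.2.1 _, Q.2.2⟩⟩

lemma placeUp_val (Q : Place k K') : (placeUp Q).1 = Q.1 := rfl
lemma placeDown_val (Q : Place (algebraicClosure k K') K') : (placeDown Q).1 = Q.1 := rfl
lemma placeDown_placeUp (Q : Place k K') : placeDown (placeUp Q) = Q := rfl
lemma placeUp_placeDown (Q : Place (algebraicClosure k K') K') : placeUp (placeDown Q) = Q := rfl
lemma placeUp_ord (Q : Place k K') (y : K') : (placeUp Q).ord y = Q.ord y := rfl

lemma placeUp_injective : Function.Injective (placeUp : Place k K' → _) := by
  intro Q₁ Q₂ h
  have := congrArg placeDown h
  simpa [placeDown_placeUp] using this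

/-- degrees over `k` and over the constant field -/
lemma deg_eq_mul_deg_placeUp (Q : Place k K') :
    Q.deg = Module.finrank k (algebraicClosure k K') * (placeUp Q).deg := by
  letI : Algebra (algebraicClosure k K') (IsLocalRing.ResidueField Q.O) :=
    (Place.algRes (placeUp Q) :
      Algebra (algebraicClosure k K') (IsLocalRing.ResidueField (placeUp Q).O))
  have htower : IsScalarTower k (algebraicClosure k K') (IsLocalRing.ResidueField Q.O) := by
    apply IsScalarTower.of_algebraMap_eq
    intro c
    rfl
  have h := (@Module.finrank_mul_finrank k (algebraicClosure k K') (IsLocalRing.ResidueField Q.O)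
    _ _ _ _ _ _ htower _ _ _ _).symm
  exact h

lemma isScalarTower_res {P : Place k K} {Q : Place k K'} {e : ℕ} (he : IsOverWith Q P e) :
    letI := (resMap he).toAlgebra
    IsScalarTower k (IsLocalRing.ResidueField P.O) (IsLocalRing.ResidueField Q.O) := by
  letI := (resMap he).toAlgebra
  apply IsScalarTower.of_algebraMap_eq
  intro c
  change algebraMap k (IsLocalRing.ResidueField Q.O) c =
    resMap he (algebraMap k (IsLocalRing.ResidueField P.O) c)
  rw [algebraMap_res, algebraMap_res, resMap_res]
  congr 1
  ext
  rw [OMap_coe, coe_algebraMap_O, coe_algebraMap_O, ← IsScalarTower.algebraMap_apply]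

/-- residue fields of places of a finite extension are finite over `k` -/
theorem finite_residueField_ext [FiniteDimensional K K'] (hK : IsFunctionField k K)
    (Q : Place k K') : FiniteDimensional k (IsLocalRing.ResidueField Q.O) := by
  obtain ⟨P, e, he⟩ := exists_isOverWith_below (K := K) Q
  letI := (resMap he).toAlgebra
  have h1 := (finite_and_mul_finrank_le he).1
  have h2 : Module.Finite k (IsLocalRing.ResidueField P.O) := finite_residueField hK P
  have htower := isScalarTower_res he
  exact @Module.Finite.trans k (IsLocalRing.ResidueField P.O) (IsLocalRing.ResidueField Q.O)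
    _ _ _ _ _ _ htower h2 h1

/-- the constant field of a finite extension of a function field is finite over `k` -/
theorem finite_algebraicClosure [FiniteDimensional K K'] (hK : IsFunctionField k K) :
    FiniteDimensional k (algebraicClosure k K') := by
  have hK' := isFunctionField_algebraicClosure (K' := K') hK
  obtain ⟨⟨x, hx, -⟩, -⟩ := id hK'
  obtain ⟨Q', hQ'⟩ := exists_zero_of_transcendental hK' hx
  have h3 := finite_residueField_ext hK (placeDown Q')
  letI : Algebra (algebraicClosure k K') (IsLocalRing.ResidueField (placeDown Q').O) :=
    (Place.algRes Q' : Algebra (algebraicClosure k K') (IsLocalRing.ResidueField Q'.O))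
  let f : algebraicClosure k K' →ₗ[k] IsLocalRing.ResidueField (placeDown Q').O :=
    { toFun := algebraMap (algebraicClosure k K') (IsLocalRing.ResidueField (placeDown Q').O)
      map_add' := map_add _
      map_smul' := fun c x => by
        rw [Algebra.smul_def, map_mul, RingHom.id_apply]
        exact (Algebra.smul_def c _).symm }
  exact FiniteDimensional.of_injective f
    (algebraMap (algebraicClosure k K') (IsLocalRing.ResidueField (placeDown Q').O)).injective

end Groth.Agent.FF.Ext
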