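import Groth.Agent.FunFld.Transc
import Mathlib.FieldTheory.LinearDisjoint
import Mathlib.RingTheory.Flat.Basic

/-!
# Geometric function fields: intermediate fields
-/

set_option autoImplicit false

open FunFld IntermediateField Polynomial TensorProduct

namespace Groth.Agent.FF

universe u v
variable {k : Type u} {K : Type v} [Field k] [Field K] [Algebra k K]

/-- an intermediate field containing a transcendental element is a function field -/
theorem isFunctionField_intermediateField (hK : IsFunctionField k K) (K₀ : IntermediateField k K)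
    (h₀ : ∃ x ∈ K₀, Transcendental k x) : IsFunctionField k K₀ := by
  obtain ⟨x, hxK₀, hx⟩ := h₀
  refine ⟨⟨⟨x, hxK₀⟩, ?_, ?_⟩, ?_⟩
  · rw [← transcendental_algebraMap_iff (algebraMap K₀ K).injective]
    exact hx
  · set x₀ : K₀ := ⟨x, hxK₀⟩ with hx₀
    set F' : IntermediateField k K₀ := adjoin k {x₀} with hF'
    have hfin : FiniteDimensional (adjoin k ({x} : Set K)) K := finite_adjoin_of_transcendental hK hx
    have hlift : lift F' = adjoin k ({x} : Set K) := lift_adjoin_simple k K₀ x₀
    have hfin' : FiniteDimensional (lift F') K := by rw [hlift]; exact hfin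
    have hF'K : Module.Finite F' K := by
      refine Module.Finite.of_equiv_equiv (A₁ := lift F') (B₁ := K) (A₂ := F') (B₂ := K)
        (liftAlgEquiv F').symm.toRingEquiv (RingEquiv.refl K) ?_
      ext y
      obtain ⟨z, rfl⟩ := (liftAlgEquiv F').surjective y
      simp only [RingHom.coe_comp, Function.comp_apply]
      rfl
    have hnoeth : IsNoetherian F' K := IsNoetherian.iff_fg.mpr hF'K
    exact Module.Finite.of_injective ((IsScalarTower.toAlgHom F' K₀ K).toLinearMap)
      (IsScalarTower.toAlgHom F' K₀ K).injective
  · intro y hy
    have hy' : IsAlgebraic k (y : K) := by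
      have := hy.algebraMap (A := K)
      exact this
    obtain ⟨c, hc⟩ := hK.2 _ hy'
    exact ⟨c, Subtype.ext hc⟩

end Groth.Agent.FF

namespace Groth.Agent.FF

universe u v
variable {k : Type u} {K : Type v} [Field k] [Field K] [Algebra k K]

theorem isGeometric_intermediateField (hg : IsGeometric k K) (K₀ : IntermediateField k K) :
    IsGeometric k K₀ := by
  intro k' _ _ hfin
  have hfield := hg k' hfin
  let φ : k' ⊗[k] K₀ →ₐ[k] k' ⊗[k] K := Algebra.TensorProduct.map (AlgHom.id k k') K₀.val
  have hinj : Function.Injective φ := by
    have h1 : Function.Injective (LinearMap.lTensor k' K₀.val.toLinearMap) :=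
      Module.Flat.lTensor_preserves_injective_linearMap _ K₀.val.injective
    intro a b hab
    apply h1
    exact hab
  have hdom : IsDomain (k' ⊗[k] K) := hfield.isDomain
  have hdom₀ : IsDomain (k' ⊗[k] K₀) := hinj.isDomain φ.toRingHom
  have halg : Algebra.IsAlgebraic k k' := Algebra.IsAlgebraic.of_finite k k'
  exact Algebra.TensorProduct.isField_of_isAlgebraic k k' K₀ (Or.inl halg)

end Groth.Agent.FF
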