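import Groth.Agent.FunFld.RelLen

/-!
# More on relative length: second isomorphism theorem, modular law, injective maps
-/

set_option autoImplicit false

namespace Groth.Agent.FF

variable {k V : Type*} [Field k] [AddCommGroup V] [Module k V]

lemma relLen_inf_right (A X : Submodule k V) : relLen A X = relLen (A ⊓ X) X := by
  unfold relLen
  have : A.submoduleOf X = (A ⊓ X).submoduleOf X := by
    ext x
    simp [Submodule.submoduleOf]
  rw [this]

/-- second isomorphism theorem -/
theorem relLen_sup_right (A X : Submodule k V) : relLen A (A ⊔ X) = relLen A X := by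
  symm
  let g : X →ₗ[k] ((A ⊔ X : Submodule k V) ⧸ A.submoduleOf (A ⊔ X)) :=
    (A.submoduleOf (A ⊔ X)).mkQ.comp (Submodule.inclusion le_sup_right)
  have hker : ∀ x : X, g x = 0 ↔ (x : V) ∈ A := by
    intro x
    simp only [g, LinearMap.comp_apply, Submodule.mkQ_apply, Submodule.Quotient.mk_eq_zero]
    rfl
  have hsurj : Function.Surjective g := by
    intro y
    induction y using Submodule.Quotient.induction_on with
    | _ y =>
      obtain ⟨a, ha, x, hx, hax⟩ := Submodule.mem_sup.mp y.2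
      refine ⟨⟨x, hx⟩, ?_⟩
      simp only [g, LinearMap.comp_apply, Submodule.mkQ_apply]
      rw [Submodule.Quotient.eq]
      change ((Submodule.inclusion le_sup_right ⟨x, hx⟩ : (A ⊔ X : Submodule k V)) : V) - (y : V) ∈ A
      rw [← hax]
      simp only [Submodule.coe_inclusion, sub_add_cancel_right]
      exact A.neg_mem ha
  exact relLen_eq_of_ker_of_surjective g hker hsurj

theorem relLen_map_of_injective {V' : Type*} [AddCommGroup V'] [Module k V'] (φ : V →ₗ[k] V')
    (hφ : Function.Injective φ) (A B : Submodule k V) :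
    relLen (A.map φ) (B.map φ) = relLen A B := by
  symm
  let g : B →ₗ[k] ((B.map φ : Submodule k V') ⧸ (A.map φ).submoduleOf (B.map φ)) :=
    ((A.map φ).submoduleOf (B.map φ)).mkQ.comp
      ((φ.comp B.subtype).codRestrict (B.map φ) (fun x => Submodule.mem_map_of_mem x.2))
  have hker : ∀ x : B, g x = 0 ↔ (x : V) ∈ A := by
    intro x
    simp only [g, LinearMap.comp_apply, Submodule.mkQ_apply, Submodule.Quotient.mk_eq_zero]
    change φ (x : V) ∈ A.map φ ↔ _
    constructor
    · rintro ⟨a, ha, hax⟩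
      rw [← hφ hax]; exact ha
    · intro h; exact Submodule.mem_map_of_mem h
  have hsurj : Function.Surjective g := by
    intro y
    induction y using Submodule.Quotient.induction_on with
    | _ y =>
      obtain ⟨b, hb, hby⟩ := y.2
      refine ⟨⟨b, hb⟩, ?_⟩
      simp only [g, LinearMap.comp_apply, Submodule.mkQ_apply]
      congr 1
      apply Subtype.ext
      exact hby
  exact relLen_eq_of_ker_of_surjective g hker hsurj

/-- the "snake" formula: `dim A₂/A₁ = dim (W∩A₂)/(W∩A₁) + dim (A₂+W)/(A₁+W)`. -/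
theorem relLen_modular {A₁ A₂ : Submodule k V} (h : A₁ ≤ A₂) (W : Submodule k V) :
    relLen A₁ A₂ = relLen (W ⊓ A₁) (W ⊓ A₂) + relLen (A₁ ⊔ W) (A₂ ⊔ W) := by
  have h1 : A₁ ≤ A₁ ⊔ (W ⊓ A₂) := le_sup_left
  have h2 : A₁ ⊔ (W ⊓ A₂) ≤ A₂ := sup_le h inf_le_right
  rw [relLen_add h1 h2]
  congr 1
  · rw [relLen_sup_right, relLen_inf_right]
    congr 1
    rw [← inf_assoc, inf_comm A₁ W, inf_assoc, inf_eq_left.mpr h]
  · have h3 : A₂ ⊔ W = (A₁ ⊔ W) ⊔ A₂ := by
      rw [sup_comm (A₁ ⊔ W) A₂, ← sup_assoc, sup_eq_left.mpr h]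
    have h4 : (A₁ ⊔ W) ⊓ A₂ = A₁ ⊔ W ⊓ A₂ := sup_inf_assoc_of_le W h
    calc relLen (A₁ ⊔ W ⊓ A₂) A₂ = relLen ((A₁ ⊔ W) ⊓ A₂) A₂ := by rw [h4]
      _ = relLen (A₁ ⊔ W) A₂ := (relLen_inf_right _ _).symm
      _ = relLen (A₁ ⊔ W) ((A₁ ⊔ W) ⊔ A₂) := (relLen_sup_right _ _).symm
      _ = relLen (A₁ ⊔ W) (A₂ ⊔ W) := by rw [h3]

lemma relLen_eq_zero_iff {A B : Submodule k V} : relLen A B = 0 ↔ B ≤ A := by
  unfold relLen
  rw [Module.length_eq_zero_iff, Submodule.Quotient.subsingleton_iff]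
  constructor
  · intro h x hx
    have : (⟨x, hx⟩ : B) ∈ A.submoduleOf B := by rw [h]; trivial
    exact this
  · intro h
    rw [eq_top_iff]
    intro x _
    exact h x.2

end Groth.Agent.FF
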