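import Groth.Agent.FunFld.Riemann
import Groth.Agent.FunFld.RelLen2

/-!
# Adeles (repartitions): `dim (A(D₂)+K)/(A(D₁)+K)` and `dim A/(A(D)+K)`
-/

set_option autoImplicit false

open FunFld IntermediateField Polynomial WithZero

namespace Groth.Agent.FF

universe u v
variable {k : Type u} {K : Type v} [Field k] [Field K] [Algebra k K]

lemma enat_eq_sub {n m : ℕ} {c : ℕ∞} (h : (n : ℕ∞) = m + c) :
    c = ((n - m : ℕ) : ℕ∞) ∧ m ≤ n := by
  have hc : c ≠ ⊤ := by
    rintro rfl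
    rw [add_top] at h
    exact ENat.natCast_ne_top n h
  obtain ⟨c', rfl⟩ := ENat.ne_top_iff_exists.mp hc
  have h' : n = m + c' := by exact_mod_cast h
  constructor
  · congr 1; omega
  · omega

/-- existence of a place -/
lemma exists_place (hK : IsFunctionField k K) : Nonempty (Place k K) := by
  have hK' := hK
  obtain ⟨⟨x, hx, -⟩, -⟩ := hK
  obtain ⟨P, -⟩ := exists_zero_of_transcendental hK' hx
  exact ⟨P⟩

variable (k K) in
/-- the diagonal copy of `K` in the repartition space -/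
noncomputable abbrev Kd : Submodule k (Place k K → K) := LinearMap.range (diag k K)

lemma diag_apply (x : K) (P : Place k K) : diag k K x P = x := rfl

lemma diag_injective (hK : IsFunctionField k K) : Function.Injective (diag k K) := by
  obtain ⟨P⟩ := exists_place hK
  intro x y h
  have := congrFun h P
  exact this

lemma map_diag_L (D : Divisor k K) : (L D).map (diag k K) = Kd k K ⊓ AD D := by
  ext a
  constructor
  · rintro ⟨x, hx, rfl⟩
    exact ⟨⟨x, rfl⟩, fun P => hx P⟩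
  · rintro ⟨⟨x, rfl⟩, ha⟩
    exact ⟨x, fun P => ha P, rfl⟩

/-- `ℓ(D₂) - ℓ(D₁)` as relative length -/
lemma relLen_L_eq (hK : IsFunctionField k K) {D₁ D₂ : Divisor k K} (h : D₁ ≤ D₂) :
    relLen (L D₁) (L D₂) = ((ell D₂ - ell D₁ : ℕ) : ℕ∞) ∧ ell D₁ ≤ ell D₂ := by
  have h1 := length_eq_add_relLen (L_mono h)
  rw [length_L_eq_ell hK, length_L_eq_ell hK] at h1
  exact enat_eq_sub h1

/-- `dim (A(D₂)+K)/(A(D₁)+K) = δ(D₂) - δ(D₁)` -/
theorem relLen_ADK (hK : IsFunctionField k K) {D₁ D₂ : Divisor k K} (h : D₁ ≤ D₂) :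
    ∃ n : ℕ, relLen (AD D₁ ⊔ Kd k K) (AD D₂ ⊔ Kd k K) = (n : ℕ∞) ∧
      (n : ℤ) = delta D₂ - delta D₁ := by
  obtain ⟨N, hN, hNdeg⟩ := relLen_AD_of_le hK h
  obtain ⟨hL, hle⟩ := relLen_L_eq hK h
  have hmod := relLen_modular (AD_mono h) (Kd k K)
  rw [← map_diag_L, ← map_diag_L, relLen_map_of_injective _ (diag_injective hK), hN, hL] at hmod
  obtain ⟨h1, h2⟩ := enat_eq_sub hmod
  refine ⟨N - (ell D₂ - ell D₁), h1, ?_⟩
  unfold delta
  rw [Nat.cast_sub h2, Nat.cast_sub hle, hNdeg]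
  ring

end Groth.Agent.FF
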