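import Groth.Agent.FunFld.KerD
import Groth.Agent.FunFld.Residue
import Groth.Agent.FunFld.Adele
import Groth.Prelude.Def_LocRes

/-!
# Local residues through Laurent expansions: basic vanishing
-/

set_option autoImplicit false

open FunFld IntermediateField WithZero

namespace Groth.Agent.FF

universe u v w
variable {k : Type u} {K : Type v} [Field k] [Field K] [Algebra k K]

/-- the residue of `u dv` vanishes when the expansions of `u`, `v` are power series -/
lemma resExp_eq_zero_of_le_one {F : Type w} [Field F] [Algebra k F]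
    (w : Valuation K (WithZero (Multiplicative ℤ))) (φ : K →ₐ[k] LaurentSeries F)
    (hφ : LocRes.IsExpansionAt w φ) {u v : K} (hu : w u ≤ 1) (hv : w v ≤ 1) :
    LocRes.resExp φ u v = 0 := by
  have h1 : Valued.v (φ u) ≤ (1 : WithZero (Multiplicative ℤ)) := by rw [hφ.1 u]; exact hu
  have h2 : Valued.v (φ v) ≤ (1 : WithZero (Multiplicative ℤ)) := by rw [hφ.1 v]; exact hv
  obtain ⟨U, hU⟩ := (LaurentSeries.val_le_one_iff_eq_coe F (φ u)).mp h1
  obtain ⟨V, hV⟩ := (LaurentSeries.val_le_one_iff_eq_coe F (φ v)).mp h2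
  unfold LocRes.resExp
  rw [← hU, ← hV, LocRes.D_coe, ← PowerSeries.coe_mul, LocRes.res_apply, PowerSeries.coeff_coe,
    if_pos (by norm_num)]

end Groth.Agent.FF

namespace Groth.Agent.FF

universe u v w
variable {k : Type u} {K : Type v} [Field k] [Field K] [Algebra k K]

lemma finite_not_val_le_one (hK : IsFunctionField k K) (x : K) :
    {P : Place k K | ¬ P.1 x ≤ 1}.Finite := by
  by_cases hx : x = 0
  · subst hx
    convert Set.finite_empty
    ext P
    simp
  · apply (finite_support_ord hK x).subset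
    intro P hP
    rw [Set.mem_ofPred_eq, val_le_one_iff P hx, not_le] at hP
    rw [Function.mem_support]
    omega

theorem resExp_vanishing (hK : IsFunctionField k K)
    (F : Place k K → Type w) [∀ P, Field (F P)] [∀ P, Algebra k (F P)]
    (φ : ∀ P, K →ₐ[k] LaurentSeries (F P)) (hφ : ∀ P, LocRes.IsExpansionAt P.1 (φ P)) :
    (∀ (P : Place k K) (u v : K), P.1 u ≤ 1 → P.1 v ≤ 1 → LocRes.resExp (φ P) u v = 0) ∧
    ∀ (a : Place k K → K), a ∈ adele k K → ∀ v : K,
      {P : Place k K | LocRes.resExp (φ P) (a P) v ≠ 0}.Finite := by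
  have h1 : ∀ (P : Place k K) (u v : K), P.1 u ≤ 1 → P.1 v ≤ 1 →
      LocRes.resExp (φ P) u v = 0 :=
    fun P u v hu hv => resExp_eq_zero_of_le_one P.1 (φ P) (hφ P) hu hv
  refine ⟨h1, ?_⟩
  intro a ha v
  have ha' : {P : Place k K | ¬ P.1 (a P) ≤ 1}.Finite := Filter.eventually_cofinite.mp ha
  apply (ha'.union (finite_not_val_le_one hK v)).subset
  intro P hP
  by_contra hcon
  rw [Set.mem_union, not_or] at hcon
  apply hP
  apply h1 P
  · by_contra h; exact hcon.1 h
  · by_contra h; exact hcon.2 h

end Groth.Agent.FF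

namespace Groth.Agent.FF

universe u v w
variable {k : Type u} {K : Type v} [Field k] [Field K] [Algebra k K]

/-- the derivative of the expansion is `K`-linear in the differential -/
lemma D_exp_of_D_eq_smul {F : Type w} [Field F] [Algebra k F] (φ : K →ₐ[k] LaurentSeries F)
    {x x' u : K} (h : KaehlerDifferential.D k K x' = u • KaehlerDifferential.D k K x) :
    LocRes.D F (φ x') = φ u * LocRes.D F (φ x) := by
  let _i := φ.toRingHom.toAlgebra
  have _t : IsScalarTower k K (LaurentSeries F) := LocRes.isScalarTower_exp φ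
  have h1 : (LocRes.dExp φ).liftKaehlerDifferential (KaehlerDifferential.D k K x') =
      LocRes.dExp φ x' := Derivation.liftKaehlerDifferential_comp_D _ _
  have h2 : (LocRes.dExp φ).liftKaehlerDifferential (KaehlerDifferential.D k K x) =
      LocRes.dExp φ x := Derivation.liftKaehlerDifferential_comp_D _ _
  rw [h, map_smul, h2] at h1
  exact h1.symm

/-- `vDiff` scales by the valuation of the coefficient -/
lemma vDiff_of_D_eq_smul {F : Type w} [Field F] [Algebra k F]
    (w : Valuation K (WithZero (Multiplicative ℤ))) (φ : K →ₐ[k] LaurentSeries F)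
    (hφ : ∀ f : K, Valued.v (φ f) = w f)
    {x x' u : K} (h : KaehlerDifferential.D k K x' = u • KaehlerDifferential.D k K x) :
    LocRes.vDiff φ 1 x' = w u * LocRes.vDiff φ 1 x := by
  unfold LocRes.vDiff
  rw [D_exp_of_D_eq_smul φ h, map_one, one_mul, one_mul, map_mul, hφ u]

/-- `ordDiff` shifts by the order of the coefficient -/
lemma ordDiff_of_D_eq_smul {F : Type w} [Field F] [Algebra k F]
    (w : Valuation K (WithZero (Multiplicative ℤ))) (φ : K →ₐ[k] LaurentSeries F)
    (hφ : ∀ f : K, Valued.v (φ f) = w f)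
    {x x' u : K} (h : KaehlerDifferential.D k K x' = u • KaehlerDifferential.D k K x)
    (hu : u ≠ 0) (hx : LocRes.vDiff φ 1 x ≠ 0) :
    LocRes.ordDiff φ 1 x' = - WithZero.log (w u) + LocRes.ordDiff φ 1 x := by
  unfold LocRes.ordDiff
  rw [vDiff_of_D_eq_smul w φ hφ h, WithZero.log_mul ((Valuation.ne_zero_iff w).mpr hu) hx]
  ring

end Groth.Agent.FF

namespace Groth.Agent.FF

universe u
variable {F : Type u} [Field F]

/-- coefficients of a Laurent series of given valuation -/
lemma coeff_of_val_eq {f : LaurentSeries F} {e : ℤ}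
    (h : Valued.v f = (WithZero.exp (-e) : WithZero (Multiplicative ℤ))) :
    (∀ n : ℤ, n < e → f.coeff n = 0) ∧ f.coeff e ≠ 0 := by
  have h1 : ∀ n : ℤ, n < e → f.coeff n = 0 :=
    (LaurentSeries.valuation_le_iff_coeff_lt_eq_zero F).mp h.le
  refine ⟨h1, fun h0 => ?_⟩
  have h2 : Valued.v f ≤ (WithZero.exp (-(e + 1)) : WithZero (Multiplicative ℤ)) := by
    rw [LaurentSeries.valuation_le_iff_coeff_lt_eq_zero]
    intro n hn
    rcases (show n < e ∨ n = e by omega) with h | h
    · exact h1 n h
    · rw [h, h0]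
  rw [h, WithZero.exp_le_exp] at h2
  omega

/-- the derivative of a series of order `e` has order at least `e - 1` -/
lemma val_D_le {f : LaurentSeries F} {e : ℤ}
    (h : Valued.v f = (WithZero.exp (-e) : WithZero (Multiplicative ℤ))) :
    Valued.v (LocRes.D F f) ≤ (WithZero.exp (-(e - 1)) : WithZero (Multiplicative ℤ)) := by
  rw [LaurentSeries.valuation_le_iff_coeff_lt_eq_zero]
  intro n hn
  rw [LocRes.D_coeff, (coeff_of_val_eq h).1 (n + 1) (by omega), smul_zero]

/-- the derivative of a series of order `e` has order `≥ e` if `e = 0` in the field -/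
lemma val_D_le_of_cast_eq_zero {f : LaurentSeries F} {e : ℤ}
    (h : Valued.v f = (WithZero.exp (-e) : WithZero (Multiplicative ℤ))) (he : (e : F) = 0) :
    Valued.v (LocRes.D F f) ≤ (WithZero.exp (-e) : WithZero (Multiplicative ℤ)) := by
  rw [LaurentSeries.valuation_le_iff_coeff_lt_eq_zero]
  intro n hn
  rw [LocRes.D_coeff]
  rcases (show n + 1 < e ∨ n + 1 = e by omega) with h' | h'
  · rw [(coeff_of_val_eq h).1 (n + 1) h', smul_zero]
  · rw [h', zsmul_eq_mul, he, zero_mul]

/-- the derivative of a series of order `e` has order `e - 1` if `e ≠ 0` in the field -/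
lemma val_D_eq_of_cast_ne_zero {f : LaurentSeries F} {e : ℤ}
    (h : Valued.v f = (WithZero.exp (-e) : WithZero (Multiplicative ℤ))) (he : (e : F) ≠ 0) :
    Valued.v (LocRes.D F f) = (WithZero.exp (-(e - 1)) : WithZero (Multiplicative ℤ)) := by
  apply le_antisymm (val_D_le h)
  by_contra hlt
  rw [not_le] at hlt
  have h2 : Valued.v (LocRes.D F f) ≤ (WithZero.exp (-e) : WithZero (Multiplicative ℤ)) := by
    by_cases h0 : Valued.v (LocRes.D F f) = (0 : WithZero (Multiplicative ℤ))
    · rw [h0]; exact zero_le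
    · obtain ⟨m, hm⟩ : ∃ m : ℤ, Valued.v (LocRes.D F f) = (WithZero.exp m : WithZero (Multiplicative ℤ)) :=
        ⟨WithZero.log (Valued.v (LocRes.D F f)), (WithZero.exp_log h0).symm⟩
      rw [hm, WithZero.exp_lt_exp] at hlt
      rw [hm, WithZero.exp_le_exp]
      omega
  rw [LaurentSeries.valuation_le_iff_coeff_lt_eq_zero] at h2
  have h3 := h2 (e - 1) (by omega)
  rw [LocRes.D_coeff, sub_add_cancel, zsmul_eq_mul] at h3
  rcases mul_eq_zero.mp h3 with h4 | h4
  · exact he h4
  · exact (coeff_of_val_eq h).2 h4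

end Groth.Agent.FF
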