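import Groth.Agent.FunFld.RelFundIneq

/-!
# The conorm of divisors
-/

set_option autoImplicit false
set_option linter.unusedSectionVars false

open FunFld WithZero

namespace Groth.Agent.FF.Ext

open Groth.Agent.FF

variable {k K K' : Type*} [Field k] [Field K] [Field K'] [Algebra k K] [Algebra K K']
  [Algebra k K']

/-- the coefficient of the conorm at a place above `P` -/
theorem conorm_apply [FiniteDimensional K K'] {Q : Place k K'} {P : Place k K} {e : ℕ}
    (he : IsOverWith Q P e) (D : Divisor k K) : conorm K' D Q = e * D P := by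
  classical
  have hfin : ∀ P : Place k K, {Q : Place k K' | IsOver Q P}.Finite := finite_isOver
  unfold conorm
  rw [Finsupp.sum_apply]
  have hterm : ∀ (P' : Place k K) (n : ℤ),
      (n • if h : {Q : Place k K' | IsOver Q P'}.Finite then
        h.toFinset.sum (fun Q => (ramIdx Q P' : ℤ) • Finsupp.single Q (1 : ℤ)) else 0) Q =
      n * (if P' = P then (e : ℤ) else 0) := by
    intro P' n
    rw [dif_pos (hfin P'), Finsupp.smul_apply, Finsupp.finsetSum_apply, smul_eq_mul]
    congr 1
    by_cases hP : P' = P
    · subst hP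
      rw [if_pos rfl]
      rw [Finset.sum_eq_single Q]
      · rw [Finsupp.smul_apply, Finsupp.single_eq_same, smul_eq_mul, mul_one, ramIdx_eq he]
      · intro Q₁ _ hne
        rw [Finsupp.smul_apply, Finsupp.single_eq_of_ne hne.symm, smul_zero]
      · intro hQ
        exfalso
        apply hQ
        rw [Set.Finite.mem_toFinset]
        exact ⟨e, he⟩
    · rw [if_neg hP]
      apply Finset.sum_eq_zero
      intro Q₁ hQ₁
      rw [Set.Finite.mem_toFinset] at hQ₁
      have hne : Q₁ ≠ Q := by
        rintro rfl
        exact hP (unique_below hQ₁ ⟨e, he⟩)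
      rw [Finsupp.smul_apply, Finsupp.single_eq_of_ne hne.symm, smul_zero]
  simp_rw [hterm]
  rw [Finsupp.sum]
  by_cases hP : P ∈ D.support
  · rw [Finset.sum_eq_single_of_mem P hP]
    · rw [if_pos rfl, mul_comm]
    · intro P' _ hne
      rw [if_neg hne, mul_zero]
  · rw [Finsupp.notMem_support_iff.mp hP, mul_zero]
    apply Finset.sum_eq_zero
    intro P' hP'
    have hne : P' ≠ P := by
      rintro rfl
      exact hP hP'
    rw [if_neg hne, mul_zero]

/-- ramification indices are multiplicative in towers -/
lemma isOverWith_trans {K'' : Type*} [Field K''] [Algebra k K''] [Algebra K' K'']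
    [Algebra K K''] [IsScalarTower K K' K''] {P : Place k K} {Q : Place k K'}
    {R : Place k K''} {e₁ e₂ : ℕ} (h₁ : IsOverWith Q P e₁) (h₂ : IsOverWith R Q e₂) :
    IsOverWith R P (e₁ * e₂) := by
  intro x
  rw [IsScalarTower.algebraMap_apply K K' K'', h₂, h₁, pow_mul]

/-- transitivity of the conorm -/
theorem conorm_trans {K'' : Type*} [Field K''] [Algebra k K''] [Algebra K' K'']
    [Algebra K K''] [IsScalarTower K K' K''] [IsScalarTower k K K'] [IsScalarTower k K' K'']
    [FiniteDimensional K K'] [FiniteDimensional K' K''] (D : Divisor k K) :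
    conorm K'' (conorm K' D) = conorm K'' D := by
  have : FiniteDimensional K K'' := Module.Finite.trans K' K''
  ext R
  obtain ⟨Q, e₂, h₂⟩ := exists_isOverWith_below (K := K') R
  obtain ⟨P, e₁, h₁⟩ := exists_isOverWith_below (K := K) Q
  rw [conorm_apply h₂, conorm_apply h₁, conorm_apply (isOverWith_trans h₁ h₂)]
  push_cast
  ring

end Groth.Agent.FF.Ext
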