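import Groth.Agent.FunFld.SumEF
import Groth.Agent.FunFld.Conorm

/-!
# Degree of the conorm; conorm of principal divisors
-/

set_option autoImplicit false
set_option linter.unusedSectionVars false

open FunFld WithZero IntermediateField

namespace Groth.Agent.FF.Ext

open Groth.Agent.FF

variable {k K K' : Type*} [Field k] [Field K] [Field K'] [Algebra k K] [Algebra K K']
  [Algebra k K'] [IsScalarTower k K K']

/-- elements of a finite extension have finitely many zeros and poles, also with respect to the
smaller constant field -/
lemma finite_support_ord_ext [FiniteDimensional K K'] (hK : IsFunctionField k K) (y : K') :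
    (Function.support fun Q : Place k K' => Q.ord y).Finite := by
  have hK' := isFunctionField_algebraicClosure (K' := K') hK
  have h := finite_support_ord hK' y
  have heq : (Function.support fun Q : Place k K' => Q.ord y) =
      placeUp ⁻¹' (Function.support fun Q' : Place (algebraicClosure k K') K' => Q'.ord y) := by
    ext Q
    rfl
  rw [heq]
  exact h.preimage placeUp_injective.injOn

lemma div_apply_ext [FiniteDimensional K K'] (hK : IsFunctionField k K) (y : K')
    (Q : Place k K') : FunFld.div k y Q = Q.ord y := by
  unfold FunFld.div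
  rw [dif_pos (finite_support_ord_ext hK y)]
  rfl

/-- the principal divisor of `x ∈ K` in `K'` is the conorm of its divisor in `K` -/
theorem div_algebraMap_eq_conorm [FiniteDimensional K K'] (hK : IsFunctionField k K) (x : K) :
    FunFld.div k (algebraMap K K' x) = conorm K' (FunFld.div k x) := by
  ext Q
  obtain ⟨P, e, he⟩ := exists_isOverWith_below (K := K) Q
  rw [div_apply_ext hK, conorm_apply he, div_apply hK, ord_eq he]

lemma deg_zsmul (n : ℤ) (D : Divisor k K) : (n • D).deg = n * D.deg := by
  have := map_zsmul (degHom (k := k) (K := K)) n D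
  rw [degHom_apply, degHom_apply, smul_eq_mul] at this
  exact this

/-- `deg N*(D) = [K' : K] deg D` (degrees over `k`) -/
theorem deg_conorm [FiniteDimensional K K'] (hK : IsFunctionField k K) (D : Divisor k K) :
    (conorm K' D).deg = Module.finrank K K' * D.deg := by
  classical
  have hfin : ∀ P : Place k K, {Q : Place k K' | IsOver Q P}.Finite := finite_isOver
  unfold conorm
  rw [Finsupp.sum, deg_sum]
  have hD : D.deg = ∑ P ∈ D.support, D P * (P.deg : ℤ) := rfl
  rw [hD, Finset.mul_sum]
  apply Finset.sum_congr rfl
  intro P _
  rw [dif_pos (hfin P), deg_zsmul, deg_sum]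
  have h1 : ∀ Q ∈ (hfin P).toFinset,
      Divisor.deg ((ramIdx Q P : ℤ) • (Finsupp.single Q (1 : ℤ) : Divisor k K')) =
        ((ramIdx Q P * Q.deg : ℕ) : ℤ) := by
    intro Q _
    rw [deg_zsmul, deg_single]
    push_cast
    ring
  rw [Finset.sum_congr rfl h1, ← Nat.cast_sum,
    sum_ramIdx_mul_deg_eq hK P (hfin P).toFinset (fun Q => by rw [Set.Finite.mem_toFinset]; rfl)]
  push_cast
  ring

end Groth.Agent.FF.Ext
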