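import Groth.Agent.FunFld.IntClosure
import Groth.Agent.FunFld.ConormDeg
import Mathlib.FieldTheory.PrimitiveElement
import Mathlib.RingTheory.Localization.Integral

/-!
# A criterion for unramifiedness: simple roots of the reduced equation
-/

set_option autoImplicit false
set_option linter.unusedSectionVars false

open FunFld WithZero IntermediateField Polynomial

namespace Groth.Agent.FF.Ext

open Groth.Agent.FF

variable {k K K' : Type*} [Field k] [Field K] [Field K'] [Algebra k K] [Algebra K K']
  [Algebra k K']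

variable {P : Place k K} {Q : Place k K'} {e : ℕ}

/-- evaluation of a polynomial over `O_P` at an element of `O_Q` -/
noncomputable def evQ (he : IsOverWith Q P e) (y : Q.O) (G : P.O[X]) : Q.O :=
  G.eval₂ (OMap he) y

lemma evQ_add (he : IsOverWith Q P e) (y : Q.O) (G H : P.O[X]) :
    evQ he y (G + H) = evQ he y G + evQ he y H := eval₂_add _ _

lemma evQ_mul (he : IsOverWith Q P e) (y : Q.O) (G H : P.O[X]) :
    evQ he y (G * H) = evQ he y G * evQ he y H := eval₂_mul _ _

lemma evQ_sub (he : IsOverWith Q P e) (y : Q.O) (G H : P.O[X]) :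
    evQ he y (G - H) = evQ he y G - evQ he y H := eval₂_sub _

lemma evQ_C (he : IsOverWith Q P e) (y : Q.O) (c : P.O) :
    evQ he y (C c) = OMap he c := eval₂_C _ _

/-- the residue of the value is the value of the reduced polynomial at the residue -/
lemma res_evQ (he : IsOverWith Q P e) (y : Q.O) (G : P.O[X]) :
    res Q (evQ he y G) = (G.map (IsLocalRing.residue P.O)).eval₂ (resMap he) (res Q y) := by
  unfold evQ res
  rw [hom_eval₂, eval₂_map]
  congr 1

/-- polynomials reducing to zero are divisible by a uniformizer -/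
lemma exists_eq_C_mul_of_map_eq_zero {t : P.O} (ht : P.1 (t : K) = exp (-1 : ℤ)) {H : P.O[X]}
    (hH : H.map (IsLocalRing.residue P.O) = 0) : ∃ B : P.O[X], H = C t * B := by
  classical
  have hcoeff : ∀ i, ∃ b : P.O, H.coeff i = t * b := by
    intro i
    have h1 : IsLocalRing.residue P.O (H.coeff i) = 0 := by
      have := congrArg (fun p => p.coeff i) hH
      simpa using this
    have h2 : P.1 ((H.coeff i : P.O) : K) < 1 := (res_eq_zero_iff P _).mp h1
    have ht0 : (t : K) ≠ 0 := by
      intro h0
      rw [h0, map_zero] at ht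
      exact exp_ne_zero ht.symm
    have h3 : P.1 (((H.coeff i : P.O) : K) / (t : K)) ≤ 1 := by
      rw [map_div₀, ht, div_le_iff₀ exp_pos, one_mul]
      exact le_exp_neg_one_of_lt_one h2
    refine ⟨⟨_, h3⟩, ?_⟩
    apply Subtype.ext
    push_cast
    field_simp
  choose b hb using hcoeff
  refine ⟨∑ i ∈ H.support, monomial i (b i), ?_⟩
  ext i
  rw [coeff_C_mul, finsetSum_coeff]
  simp only [coeff_monomial]
  rw [Finset.sum_ite_eq' H.support i]
  split_ifs with hi
  · exact congrArg Subtype.val (hb i)
  · rw [mul_zero]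
    exact congrArg Subtype.val (notMem_support_iff.mp hi)

/-- the key divisibility: values at `y` of polynomials over `O_P` have order divisible by `e`
when `y` is a simple root modulo `P` of a polynomial over `O_P` -/
theorem dvd_ord_evQ [FiniteDimensional K K'] (he : IsOverWith Q P e) (y : Q.O) {t : P.O}
    (ht : P.1 (t : K) = exp (-1 : ℤ)) (g₀ : P.O[X]) (hroot : evQ he y g₀ = 0)
    (hsimple : Q.1 ((evQ he y (derivative g₀) : Q.O) : K') = 1) :
    ∀ (m : ℕ) (G : P.O[X]), evQ he y G ≠ 0 → Q.ord ((evQ he y G : Q.O) : K') = m →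
      (e : ℤ) ∣ m := by
  classical
  obtain ⟨hfinres, -⟩ := finite_and_mul_finrank_le he
  letI := (resMap he).toAlgebra
  set ρ := IsLocalRing.residue P.O with hρ
  set yb := res Q y with hyb
  have hint : IsIntegral (IsLocalRing.ResidueField P.O) yb := IsIntegral.of_finite _ _
  set mp := minpoly (IsLocalRing.ResidueField P.O) yb with hmp
  have haeval : ∀ G : P.O[X], res Q (evQ he y G) = aeval yb (G.map ρ) := fun G => res_evQ he y G
  have hsurj : Function.Surjective (Polynomial.map ρ) :=
    Polynomial.map_surjective ρ IsLocalRing.residue_surjective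
  have hepos := e_pos he
  -- values are integral
  have hval_of_res : ∀ G : P.O[X], aeval yb (G.map ρ) ≠ 0 →
      Q.1 ((evQ he y G : Q.O) : K') = 1 := by
    intro G hne
    have hle : Q.1 ((evQ he y G : Q.O) : K') ≤ 1 := (evQ he y G).2
    by_contra hne1
    apply hne
    rw [← haeval]
    exact (res_eq_zero_iff Q _).mpr (lt_of_le_of_ne hle hne1)
  -- factorization of g₀
  have h0 : aeval yb (g₀.map ρ) = 0 := by rw [← haeval, hroot, map_zero]
  obtain ⟨hbar, hhbar⟩ := minpoly.dvd _ yb h0
  obtain ⟨gi, hgi⟩ := hsurj mp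
  obtain ⟨h, hh⟩ := hsurj hbar
  obtain ⟨r, hr⟩ := exists_eq_C_mul_of_map_eq_zero ht (H := g₀ - gi * h) (by
    rw [Polynomial.map_sub, Polynomial.map_mul, hgi, hh, hhbar, sub_self])
  have hg₀ : g₀ = gi * h + C t * r := by rw [← hr]; ring
  -- `h(y)` is a unit
  have hhunit : Q.1 ((evQ he y h : Q.O) : K') = 1 := by
    apply hval_of_res
    rw [hh]
    intro hzero
    have hd : res Q (evQ he y (derivative g₀)) =
        aeval yb (derivative mp) * aeval yb hbar + aeval yb mp * aeval yb (derivative hbar) := by
      rw [haeval, ← Polynomial.derivative_map, hhbar, derivative_mul, map_add, map_mul, map_mul]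
    rw [hzero, minpoly.aeval, mul_zero, zero_mul, add_zero, res_eq_zero_iff, hsimple] at hd
    exact lt_irrefl _ hd
  have hhne : ((evQ he y h : Q.O) : K') ≠ 0 := by
    intro h0'
    rw [h0', map_zero] at hhunit
    exact zero_ne_one hhunit
  have htK : (t : K) ≠ 0 := by
    intro h0'
    rw [h0', map_zero] at ht
    exact exp_ne_zero ht.symm
  have hordt : Q.ord (algebraMap K K' (t : K)) = e := by
    rw [ord_eq he]
    have : P.ord (t : K) = 1 := by
      unfold Place.ord
      rw [ht, log_exp]
      ring
    rw [this, mul_one]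
  have e2 : evQ he y gi * evQ he y h = - (OMap he t * evQ he y r) := by
    have h3 := hroot
    rw [hg₀, evQ_add, evQ_mul, evQ_mul, evQ_C] at h3
    linear_combination h3
  intro m
  induction m using Nat.strong_induction_on with
  | _ m ih =>
    intro G hG hord
    by_cases hGy : aeval yb (G.map ρ) = 0
    · obtain ⟨Abar, hAbar⟩ := minpoly.dvd _ yb hGy
      obtain ⟨A, hA⟩ := hsurj Abar
      obtain ⟨B, hB⟩ := exists_eq_C_mul_of_map_eq_zero ht (H := G - gi * A) (by
        rw [Polynomial.map_sub, Polynomial.map_mul, hgi, hA, hAbar, sub_self])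
      have hGeq : G = gi * A + C t * B := by rw [← hB]; ring
      have e1 : evQ he y G = evQ he y gi * evQ he y A + OMap he t * evQ he y B := by
        conv_lhs => rw [hGeq]
        rw [evQ_add, evQ_mul, evQ_mul, evQ_C]
      have hkey : evQ he y G * evQ he y h = OMap he t * evQ he y (B * h - r * A) := by
        rw [e1, evQ_sub, evQ_mul, evQ_mul]
        linear_combination (evQ he y A) * e2
      have hkey' : ((evQ he y G : Q.O) : K') * ((evQ he y h : Q.O) : K') =
          algebraMap K K' (t : K) * ((evQ he y (B * h - r * A) : Q.O) : K') := by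
        have := congrArg (fun z : Q.O => (z : K')) hkey
        simp only [MulMemClass.coe_mul] at this
        rw [this]
        rfl
      have hGne : ((evQ he y G : Q.O) : K') ≠ 0 := fun h0' => hG (Subtype.ext h0')
      have hιt : algebraMap K K' (t : K) ≠ 0 :=
        (map_ne_zero_iff _ (algebraMap K K').injective).mpr htK
      have hG₂ne : ((evQ he y (B * h - r * A) : Q.O) : K') ≠ 0 := by
        intro h0'
        rw [h0', mul_zero] at hkey'
        exact mul_ne_zero hGne hhne hkey'
      have hords := congrArg Q.ord hkey'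
      rw [ord_mul Q hGne hhne, ord_mul Q hιt hG₂ne, hord, hordt,
        (val_eq_one_iff Q hhne).mp hhunit, add_zero] at hords
      have hnn : 0 ≤ Q.ord ((evQ he y (B * h - r * A) : Q.O) : K') :=
        (val_le_one_iff Q hG₂ne).mp (evQ he y (B * h - r * A)).2
      have hlt : (Q.ord ((evQ he y (B * h - r * A) : Q.O) : K')).toNat < m := by
        zify
        rw [Int.toNat_of_nonneg hnn]
        have : (1 : ℤ) ≤ e := by exact_mod_cast hepos
        omega
      have hdvd := ih _ hlt (B * h - r * A) (fun h0' => hG₂ne (by rw [h0']; rfl))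
        (Int.toNat_of_nonneg hnn).symm
      rw [Int.toNat_of_nonneg hnn] at hdvd
      rw [hords]
      exact dvd_add (dvd_refl _) hdvd
    · have h1 := hval_of_res G hGy
      have hGne : ((evQ he y G : Q.O) : K') ≠ 0 := fun h0' => hG (Subtype.ext h0')
      rw [val_eq_one_iff Q hGne, hord] at h1
      rw [h1]
      exact dvd_zero _

lemma coe_evQ (he : IsOverWith Q P e) (y : Q.O) (G : P.O[X]) :
    ((evQ he y G : Q.O) : K') =
      (G.map (algebraMap P.O K)).eval₂ (algebraMap K K') (y : K') := by
  unfold evQ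
  have h1 := Polynomial.hom_eval₂ G (OMap he) Q.O.subtype y
  rw [eval₂_map]
  exact h1

/-- if `K' = K[y]` with `y` a simple root modulo `P` of a polynomial over `O_P`, then `Q` is
unramified over `P` -/
theorem unramified_of_simple_root [FiniteDimensional K K'] (he : IsOverWith Q P e) (y : Q.O)
    (hgen : Algebra.adjoin K ({(y : K')} : Set K') = ⊤)
    (g₀ : P.O[X]) (hroot : evQ he y g₀ = 0)
    (hsimple : Q.1 ((evQ he y (derivative g₀) : Q.O) : K') = 1) : e = 1 := by
  obtain ⟨t, ht⟩ := exists_uniformizer P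
  have htO : t ∈ P.O := by
    rw [mem_O_iff, ht, ← exp_zero, exp_le_exp]
    norm_num
  obtain ⟨z, hz⟩ := exists_uniformizer Q
  have hz0 : z ≠ 0 := by
    intro h0
    rw [h0, map_zero] at hz
    exact exp_ne_zero hz.symm
  have hzmem : z ∈ Algebra.adjoin K ({(y : K')} : Set K') := by
    rw [hgen]
    trivial
  rw [Algebra.adjoin_singleton_eq_range_aeval] at hzmem
  obtain ⟨p, hp⟩ := hzmem
  obtain ⟨b, hb⟩ := IsLocalization.integerNormalization_map_to_map (nonZeroDivisors P.O) p
  set G := IsLocalization.integerNormalization (nonZeroDivisors P.O) p with hG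
  have hb0 : ((b : P.O) : K) ≠ 0 := by
    intro h0
    have : (b : P.O) = 0 := Subtype.ext h0
    exact nonZeroDivisors.ne_zero b.2 this
  have hval : ((evQ he y G : Q.O) : K') = algebraMap K K' ((b : P.O) : K) * z := by
    rw [coe_evQ, hb, Algebra.smul_def, eval₂_mul, Polynomial.algebraMap_apply, eval₂_C, ← hp]
    rfl
  have hιb : algebraMap K K' ((b : P.O) : K) ≠ 0 :=
    (map_ne_zero_iff _ (algebraMap K K').injective).mpr hb0
  have hne : evQ he y G ≠ 0 := by
    intro h0
    rw [h0] at hval
    exact mul_ne_zero hιb hz0 hval.symm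
  have hordz : Q.ord z = 1 := by
    unfold Place.ord
    rw [hz, log_exp]
    ring
  have hord : Q.ord ((evQ he y G : Q.O) : K') = e * P.ord ((b : P.O) : K) + 1 := by
    rw [hval, ord_mul Q hιb hz0, ord_eq he, hordz]
  have hnn : 0 ≤ Q.ord ((evQ he y G : Q.O) : K') :=
    (val_le_one_iff Q (by rw [hval]; exact mul_ne_zero hιb hz0)).mp (evQ he y G).2
  have hdvd := dvd_ord_evQ he y (t := ⟨t, htO⟩) ht g₀ hroot hsimple
    (Q.ord ((evQ he y G : Q.O) : K')).toNat G hne (Int.toNat_of_nonneg hnn).symm
  rw [Int.toNat_of_nonneg hnn, hord] at hdvd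
  have h1 : (e : ℤ) ∣ 1 := by
    have h2 : (e : ℤ) ∣ e * P.ord ((b : P.O) : K) := dvd_mul_right _ _
    exact (dvd_add_right h2).mp hdvd
  have h3 := Int.eq_one_of_dvd_one (by positivity) h1
  exact_mod_cast h3

/-- a polynomial with `P`-integral coefficients comes from a polynomial over `O_P` -/
lemma exists_lift_poly (P : Place k K) (g : K[X]) (hg : ∀ i, P.1 (g.coeff i) ≤ 1) :
    ∃ g₀ : P.O[X], g₀.map (algebraMap P.O K) = g := by
  rw [← Polynomial.mem_lifts, Polynomial.lifts_iff_coeff_lifts]
  intro i
  exact ⟨⟨g.coeff i, hg i⟩, rfl⟩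

/-- the unramifiedness criterion with the polynomial over `K` -/
theorem unramified_of_simple_root' [FiniteDimensional K K'] (he : IsOverWith Q P e) (y : K')
    (hy1 : Q.1 y ≤ 1) (hgen : Algebra.adjoin K ({y} : Set K') = ⊤)
    (g : K[X]) (hg : ∀ i, P.1 (g.coeff i) ≤ 1) (hroot : aeval y g = 0)
    (hsimple : Q.1 (aeval y (derivative g)) = 1) : e = 1 := by
  obtain ⟨g₀, hg₀⟩ := exists_lift_poly P g hg
  refine unramified_of_simple_root he ⟨y, hy1⟩ hgen g₀ ?_ ?_
  · apply Subtype.ext
    rw [coe_evQ, hg₀]
    exact hroot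
  · rw [coe_evQ, ← Polynomial.derivative_map, hg₀]
    exact hsimple

variable [IsScalarTower k K K']

/-- in a finite separable extension almost all places are unramified -/
theorem finite_ramified [FiniteDimensional K K'] [Algebra.IsSeparable K K']
    (hK : IsFunctionField k K) :
    {Q : Place k K' | ∀ (P : Place k K) (e : ℕ), IsOverWith Q P e → e ≠ 1}.Finite := by
  classical
  obtain ⟨y, hy⟩ := Field.exists_primitive_element K K'
  have hint : IsIntegral K y := IsIntegral.of_finite K y
  set g := minpoly K y with hg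
  have hsep : g.Separable := Algebra.IsSeparable.isSeparable K y
  have hroot : aeval y g = 0 := minpoly.aeval K y
  have hd0 : aeval y (derivative g) ≠ 0 := hsep.aeval_derivative_ne_zero hroot
  have hgen : Algebra.adjoin K ({y} : Set K') = ⊤ := by
    rw [← IntermediateField.adjoin_simple_toSubalgebra_of_isAlgebraic hint.isAlgebraic, hy]
    rfl
  -- the bad sets
  have hB1 : {Q : Place k K' | Q.ord (aeval y (derivative g)) ≠ 0}.Finite :=
    finite_support_ord_ext hK _
  have hB2 : {Q : Place k K' | Q.ord y ≠ 0}.Finite := finite_support_ord_ext hK y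
  have hB3 : ∀ i : ℕ, {Q : Place k K' | ∃ P : Place k K, IsOver Q P ∧ P.ord (g.coeff i) ≠ 0}.Finite := by
    intro i
    have hfin : {P : Place k K | P.ord (g.coeff i) ≠ 0}.Finite := finite_support_ord hK _
    have : {Q : Place k K' | ∃ P : Place k K, IsOver Q P ∧ P.ord (g.coeff i) ≠ 0} =
        ⋃ P ∈ {P : Place k K | P.ord (g.coeff i) ≠ 0}, {Q : Place k K' | IsOver Q P} := by
      ext Q
      simp only [Set.mem_setOf_eq, Set.mem_iUnion, exists_prop]
      constructor
      · rintro ⟨P, h1, h2⟩
        exact ⟨P, h2, h1⟩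
      · rintro ⟨P, h2, h1⟩
        exact ⟨P, h1, h2⟩
    rw [this]
    exact hfin.biUnion (fun P _ => finite_isOver P)
  have hB3' : (⋃ i ∈ Finset.range (g.natDegree + 1),
      {Q : Place k K' | ∃ P : Place k K, IsOver Q P ∧ P.ord (g.coeff i) ≠ 0}).Finite :=
    Set.Finite.biUnion (Finset.finite_toSet _) (fun i _ => hB3 i)
  refine ((hB1.union hB2).union hB3').subset ?_
  intro Q hQ
  by_contra hnot
  simp only [Set.mem_union, Set.mem_setOf_eq, Set.mem_iUnion, Finset.mem_range, exists_prop,
    not_or, not_exists, not_and, not_not] at hnot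
  obtain ⟨⟨h1, h2⟩, h3⟩ := hnot
  obtain ⟨P, e, he⟩ := exists_isOverWith_below (K := K) Q
  apply hQ P e he
  refine unramified_of_simple_root' he y ?_ hgen g ?_ hroot ?_
  · by_cases hy0 : y = 0
    · rw [hy0, map_zero]
      exact zero_le
    · rw [val_le_one_iff Q hy0, h2]
  · intro i
    by_cases hi : i < g.natDegree + 1
    · by_cases hc0 : g.coeff i = 0
      · rw [hc0, map_zero]
        exact zero_le
      · rw [val_le_one_iff P hc0, h3 i hi P ⟨e, he⟩]
    · rw [Polynomial.coeff_eq_zero_of_natDegree_lt (by omega), map_zero]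
      exact zero_le
  · rw [val_eq_one_iff Q hd0, h1]

end Groth.Agent.FF.Ext
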