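import Groth.Agent.FunFld.NormDiv
import Groth.Agent.FunFld.Unramified
import Groth.Agent.FunFld.ConstField
import Groth.Agent.FunFld.SepVar
import Groth.Agent.FunFld.Geometric
import Groth.Agent.FunFld.DegDiv
import Groth.Agent.FunFld.UniqueExt
import Groth.Agent.FunFld.LocResFF
import Mathlib.RingTheory.Discriminant

/-!
# Places with separable residue field
-/

set_option autoImplicit false
set_option linter.unusedSectionVars false

open FunFld IntermediateField Polynomial WithZero

namespace Groth.Agent.FF.Ext

open Groth.Agent.FF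

universe u v w

section unitNorm
variable {k : Type u} {K : Type v} {K' : Type w} [Field k] [Field K] [Field K'] [Algebra k K]
  [Algebra K K'] [Algebra k K'] [IsScalarTower k K K'] [FiniteDimensional K K']

/-- an integral element whose norm is a unit at `P` is a unit at every place above `P` -/
theorem val_eq_one_of_norm (hK : IsFunctionField k K) (P : Place k K)
    [Algebra P.O K'] [IsScalarTower P.O K K'] {w : K'} (hw : IsIntegral P.O w)
    (hN : P.1 (Algebra.norm K w) = 1) {Q : Place k K'} (hQ : IsOver Q P) : Q.1 w = 1 := by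
  classical
  have hfin : {Q : Place k K' | IsOver Q P}.Finite := finite_isOver P
  have hmem : ∀ Q, Q ∈ hfin.toFinset ↔ IsOver Q P := fun Q => by
    rw [Set.Finite.mem_toFinset]; rfl
  have hw0 : w ≠ 0 := by
    rintro rfl
    rw [Algebra.norm_zero, map_zero] at hN
    exact zero_ne_one hN
  have hN0 : Algebra.norm K w ≠ 0 := by rw [Ne, Algebra.norm_eq_zero_iff]; exact hw0
  have h1 := deg_mul_ord_norm hK P hfin.toFinset hmem w
  rw [(val_eq_one_iff P hN0).mp hN, mul_zero] at h1
  have hnonneg : ∀ Q' ∈ hfin.toFinset, 0 ≤ (Q'.deg : ℤ) * Q'.ord w := by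
    intro Q' hQ'
    obtain ⟨e, he⟩ := (hmem Q').mp hQ'
    have := (val_le_one_iff Q' hw0).mp (val_le_one_of_isIntegral he hw)
    positivity
  have h2 := (Finset.sum_eq_zero_iff_of_nonneg hnonneg).mp h1.symm Q ((hmem Q).mpr hQ)
  have hKc : IsFunctionField (algebraicClosure k K') K' := isFunctionField_algebraicClosure hK
  have hdeg : 0 < Q.deg := by
    have := finite_residueField_ext hK Q
    exact Module.finrank_pos
  have h3 : Q.ord w = 0 := by
    rcases mul_eq_zero.mp h2 with h | h
    · exact absurd h (by exact_mod_cast hdeg.ne')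
    · exact h
  exact (val_eq_one_iff Q hw0).mpr h3

end unitNorm

section discr
variable {k : Type u} {K : Type v} {K' : Type w} [Field k] [Field K] [Field K'] [Algebra k K]
  [Algebra K K'] [Algebra k K'] [IsScalarTower k K K'] [FiniteDimensional K K']
  [Algebra.IsSeparable K K']

/-- where the discriminant of an integral power basis is a unit, the integral closure is
monogenic -/
theorem integralClosure_eq_adjoin_of_discr_unit (P : Place k K)
    [Algebra P.O K'] [IsScalarTower P.O K K'] (B : PowerBasis K K')
    (hint : IsIntegral P.O B.gen) (hd : P.1 (Algebra.discr K B.basis) = 1) :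
    integralClosure P.O K' = Algebra.adjoin P.O ({B.gen} : Set K') := by
  set d := Algebra.discr K B.basis with hdd
  have hd0 : d ≠ 0 := by
    rintro h
    rw [h, map_zero] at hd
    exact zero_ne_one hd
  have hdinv : P.1 d⁻¹ ≤ 1 := by rw [map_inv₀, hd, inv_one]
  apply le_antisymm
  · intro z hz
    have h1 := Algebra.discr_mul_isIntegral_mem_adjoin K (B := B) hint hz
    have hz' : z = (⟨d⁻¹, hdinv⟩ : P.O) • (d • z) := by
      rw [Algebra.smul_def, Algebra.smul_def, IsScalarTower.algebraMap_apply P.O K K',
        ← mul_assoc, ← map_mul]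
      have : (algebraMap P.O K) ⟨d⁻¹, hdinv⟩ * d = 1 := by
        show d⁻¹ * d = 1
        exact inv_mul_cancel₀ hd0
      rw [this, map_one, one_mul]
    rw [hz']
    exact Subalgebra.smul_mem _ h1 _
  · apply Algebra.adjoin_le
    intro z hz
    rw [Set.mem_singleton_iff] at hz
    rw [hz]
    exact hint

/-- a root with nonvanishing derivative is separable -/
lemma isSeparable_of_root_of_derivative_ne_zero {F E : Type*} [Field F] [Field E] [Algebra F E]
    {y : E} {f : F[X]} (h0 : aeval y f = 0) (h1 : aeval y (derivative f) ≠ 0) :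
    IsSeparable F y := by
  have hf0 : f ≠ 0 := by
    rintro rfl
    simp at h1
  have halg : IsAlgebraic F y := ⟨f, hf0, h0⟩
  have hint : IsIntegral F y := isAlgebraic_iff_isIntegral.mp halg
  obtain ⟨h, hh⟩ := minpoly.dvd F y h0
  have hirr := minpoly.irreducible hint
  show (minpoly F y).Separable
  rw [Polynomial.separable_iff_derivative_ne_zero hirr]
  intro hder
  apply h1
  rw [hh, derivative_mul, hder, zero_mul, zero_add, map_mul, minpoly.aeval, zero_mul]

/-- where the discriminant of an integral power basis is a unit, residue field extensions are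
separable -/
theorem isSeparable_residue_of_discr_unit (hK : IsFunctionField k K) (P : Place k K)
    [Algebra P.O K'] [IsScalarTower P.O K K'] (B : PowerBasis K K')
    (hint : IsIntegral P.O B.gen) (hd : P.1 (Algebra.discr K B.basis) = 1)
    {Q : Place k K'} {e : ℕ} (he : IsOverWith Q P e) :
    letI := (resMap he).toAlgebra
    Algebra.IsSeparable (IsLocalRing.ResidueField P.O) (IsLocalRing.ResidueField Q.O) := by
  classical
  letI := (resMap he).toAlgebra
  set y := B.gen with hy
  have hyQ : Q.1 y ≤ 1 := val_le_one_of_isIntegral he hint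
  set yQ : Q.O := ⟨y, hyQ⟩ with hyQdef
  set g₀ : P.O[X] := minpoly P.O y with hg₀
  have hg : minpoly K y = g₀.map (algebraMap P.O K) :=
    minpoly.isIntegrallyClosed_eq_field_fractions' K hint
  -- `y` is a root of `g₀`
  have hroot : evQ he yQ g₀ = 0 := by
    apply Subtype.ext
    rw [coe_evQ, ← hg]
    show eval₂ (algebraMap K K') y (minpoly K y) = 0
    rw [← aeval_def, minpoly.aeval]
  -- the derivative is a unit at `Q`
  set w : K' := aeval y (derivative (minpoly K y)) with hw
  have hwint : IsIntegral P.O w := by
    have h1 : w = aeval y (derivative g₀) := by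
      rw [hw, hg, derivative_map, aeval_map_algebraMap]
    rw [h1]
    exact (adjoin_le_integralClosure hint)
      (Polynomial.aeval_mem_adjoin_singleton P.O y)
  have hNw : P.1 (Algebra.norm K w) = 1 := by
    have h1 := Algebra.discr_powerBasis_eq_norm K B
    rw [h1, map_mul, map_pow, Valuation.map_neg, map_one, one_pow, one_mul] at hd
    exact hd
  have hwQ : Q.1 w = 1 := val_eq_one_of_norm hK P hwint hNw ⟨e, he⟩
  have hder : ((evQ he yQ (derivative g₀) : Q.O) : K') = w := by
    rw [coe_evQ, hw, hg, derivative_map, aeval_def]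
  -- residues
  set ybar := res Q yQ with hybar
  have h0 : aeval ybar (g₀.map (IsLocalRing.residue P.O)) = 0 := by
    have := res_evQ he yQ g₀
    rw [hroot, map_zero] at this
    rw [aeval_def]
    exact this.symm
  have h1 : aeval ybar (derivative (g₀.map (IsLocalRing.residue P.O))) ≠ 0 := by
    have := res_evQ he yQ (derivative g₀)
    rw [derivative_map, aeval_def]
    show eval₂ (resMap he) ybar _ ≠ 0
    rw [← this, Ne, res_eq_zero_iff, hder, hwQ]
    exact lt_irrefl _
  have hysep : IsSeparable (IsLocalRing.ResidueField P.O) ybar :=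
    isSeparable_of_root_of_derivative_ne_zero h0 h1
  -- every residue is a polynomial in `ybar`
  have hic := integralClosure_eq_adjoin_of_discr_unit P B hint hd
  have hfin : {Q' : Place k K' | IsOver Q' P}.Finite := finite_isOver P
  have hmem : ∀ Q', Q' ∈ hfin.toFinset ↔ IsOver Q' P := fun Q' => by
    rw [Set.Finite.mem_toFinset]; rfl
  refine ⟨fun zbar => ?_⟩
  obtain ⟨z, rfl⟩ := IsLocalRing.residue_surjective zbar
  obtain ⟨z', hz'⟩ := weak_approx (fun i : ↥hfin.toFinset => (i : Place k K'))
    Subtype.val_injective (fun i => if (i : Place k K') = Q then (z : K') else 0) 0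
  have hzQ : Q.1 (z' - (z : K')) < 1 := by
    have := hz' ⟨Q, (hmem Q).mpr ⟨e, he⟩⟩
    simp only [if_true, exp_zero] at this
    exact this
  have hzall : ∀ Q' : Place k K', IsOver Q' P → Q'.1 z' ≤ 1 := by
    intro Q' hQ'
    have := hz' ⟨Q', (hmem Q').mpr hQ'⟩
    simp only [exp_zero] at this
    by_cases hQQ : Q' = Q
    · rw [if_pos hQQ] at this
      have h3 : z' = (z' - (z : K')) + (z : K') := by ring
      rw [h3]
      refine (Q'.1.map_add _ _).trans (max_le this.le ?_)
      rw [hQQ]; exact z.2
    · rw [if_neg hQQ, sub_zero] at this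
      exact this.le
  have hz'int : z' ∈ integralClosure P.O K' := isIntegral_of_val_le_one hK P hzall
  rw [hic, Algebra.adjoin_singleton_eq_range_aeval] at hz'int
  obtain ⟨G, hG⟩ := hz'int
  have hGz : ((evQ he yQ G : Q.O) : K') = z' := by
    rw [coe_evQ, ← hG]
    show eval₂ (algebraMap K K') y (G.map (algebraMap P.O K)) = aeval y G
    rw [eval₂_map, aeval_def, IsScalarTower.algebraMap_eq P.O K K']
  have hres : IsLocalRing.residue Q.O z = res Q (evQ he yQ G) := by
    rw [← sub_eq_zero]
    show res Q z - res Q (evQ he yQ G) = 0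
    rw [← map_sub, res_eq_zero_iff]
    push_cast
    rw [hGz, ← Valuation.map_neg, neg_sub]
    exact hzQ
  rw [hres, res_evQ]
  have hmemsep : eval₂ (resMap he) ybar (G.map (IsLocalRing.residue P.O)) ∈
      separableClosure (IsLocalRing.ResidueField P.O) (IsLocalRing.ResidueField Q.O) := by
    change aeval ybar (G.map (IsLocalRing.residue P.O)) ∈ _
    have hle : Algebra.adjoin (IsLocalRing.ResidueField P.O) ({ybar} : Set _) ≤
        (separableClosure (IsLocalRing.ResidueField P.O)
          (IsLocalRing.ResidueField Q.O)).toSubalgebra := by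
      apply Algebra.adjoin_le
      intro t ht
      rw [Set.mem_singleton_iff] at ht
      rw [ht]
      exact mem_separableClosure_iff.mpr hysep
    exact hle (Polynomial.aeval_mem_adjoin_singleton _ ybar)
  exact mem_separableClosure_iff.mp hmemsep

/-- packaged version: separability of the residue field over `k` goes up at good places -/
theorem isSeparable_residue_over (hK : IsFunctionField k K) (P : Place k K)
    (B : PowerBasis K K') (hcoeff : ∀ i, P.1 ((minpoly K B.gen).coeff i) ≤ 1)
    (hd : P.1 (Algebra.discr K B.basis) = 1)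
    (hsepP : Algebra.IsSeparable k (IsLocalRing.ResidueField P.O))
    {Q : Place k K'} (hQ : IsOver Q P) :
    Algebra.IsSeparable k (IsLocalRing.ResidueField Q.O) := by
  letI aO : Algebra P.O K' := ((algebraMap K K').comp P.O.subtype).toAlgebra
  haveI t1 : IsScalarTower P.O K K' := IsScalarTower.of_algebraMap_eq (fun _ => rfl)
  obtain ⟨e, he⟩ := hQ
  have hintK : IsIntegral K B.gen := IsIntegral.of_finite K B.gen
  obtain ⟨g₀, hg₀⟩ := exists_lift_poly P (minpoly K B.gen) hcoeff
  have hmonic : g₀.Monic := by
    apply Polynomial.monic_of_injective (f := algebraMap P.O K)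
      (FaithfulSMul.algebraMap_injective P.O K)
    rw [hg₀]
    exact minpoly.monic hintK
  have hint : IsIntegral P.O B.gen := by
    refine ⟨g₀, hmonic, ?_⟩
    have h1 : eval₂ (algebraMap P.O K') B.gen g₀ = aeval B.gen (g₀.map (algebraMap P.O K)) := by
      rw [aeval_def, eval₂_map, IsScalarTower.algebraMap_eq P.O K K']
    rw [h1, hg₀, minpoly.aeval]
  have h2 := isSeparable_residue_of_discr_unit hK P B hint hd he
  letI := (resMap he).toAlgebra
  haveI := isScalarTower_res he
  exact Algebra.IsSeparable.trans k (IsLocalRing.ResidueField P.O) (IsLocalRing.ResidueField Q.O)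

end discr

section degOne
variable {k : Type u} {K : Type v} [Field k] [Field K] [Algebra k K]

/-- a zero of a generator of a rational function field has degree one -/
theorem deg_eq_one_of_adjoin_eq_top (hK : IsFunctionField k K) {t : K} (ht : Transcendental k t)
    (htop : IntermediateField.adjoin k ({t} : Set K) = ⊤) {P : Place k K} (hP : 0 < P.ord t) :
    P.deg = 1 := by
  classical
  have h1 := deg_zeroDiv_eq hK ht
  rw [htop, IntermediateField.finrank_top] at h1
  have hle : (Finsupp.single P 1 : Divisor k K) ≤ zeroDiv k t := by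
    intro Q
    rw [Finsupp.single_apply, zeroDiv_apply hK]
    split_ifs with h
    · subst h
      exact le_max_of_le_left (by omega)
    · exact le_max_right _ _
  have h2 := deg_mono hle
  rw [deg_single, h1] at h2
  have h3 := deg_pos hK P
  have h4 : (P.deg : ℤ) ≤ 1 := by simpa using h2
  omega

/-- a place of degree one has residue field `k` -/
lemma isSeparable_residue_of_deg_eq_one {P : Place k K} (hP : P.deg = 1) :
    Algebra.IsSeparable k (IsLocalRing.ResidueField P.O) := by
  have h1 : Module.finrank k (IsLocalRing.ResidueField P.O) = 1 := hP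
  have hsurj : Function.Surjective (algebraMap k (IsLocalRing.ResidueField P.O)) := by
    have hb : (⊥ : Subalgebra k (IsLocalRing.ResidueField P.O)) = ⊤ :=
      Subalgebra.bot_eq_top_of_finrank_eq_one h1
    intro z
    have hz : z ∈ (⊥ : Subalgebra k (IsLocalRing.ResidueField P.O)) := by rw [hb]; trivial
    exact Algebra.mem_bot.mp hz
  refine ⟨fun z => ?_⟩
  obtain ⟨c, rfl⟩ := hsurj z
  exact isSeparable_algebraMap c

end degOne

section euclid
variable {k : Type u} {K : Type v} [Field k] [Field K] [Algebra k K]

/-- Euclid: there are infinitely many monic irreducible polynomials -/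
theorem infinite_monic_irreducible (k : Type u) [Field k] :
    {f : k[X] | f.Monic ∧ Irreducible f}.Infinite := by
  classical
  intro hfin
  set S := hfin.toFinset with hS
  have hSmem : ∀ f, f ∈ S ↔ f.Monic ∧ Irreducible f := fun f => by
    rw [hS, Set.Finite.mem_toFinset]; rfl
  set q : k[X] := X * ∏ f ∈ S, f + 1 with hq
  have hprod_monic : (∏ f ∈ S, f).Monic := monic_prod_of_monic _ _ fun f hf => ((hSmem f).mp hf).1
  have hXprod : (X * ∏ f ∈ S, f).Monic := monic_X.mul hprod_monic
  have hdeg : (1 : k[X]).degree < (X * ∏ f ∈ S, f).degree := by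
    rw [degree_one, degree_mul, degree_X]
    have : 0 ≤ (∏ f ∈ S, f).degree := by
      rw [degree_eq_natDegree hprod_monic.ne_zero]
      exact_mod_cast Nat.zero_le _
    calc (0 : WithBot ℕ) < 1 + 0 := by norm_num
      _ ≤ 1 + (∏ f ∈ S, f).degree := by gcongr
  have hqmonic : q.Monic := hXprod.add_of_left hdeg
  have hqdeg : q.degree ≠ 0 := by
    rw [hq, degree_add_eq_left_of_degree_lt hdeg, degree_mul, degree_X]
    have : 0 ≤ (∏ f ∈ S, f).degree := by
      rw [degree_eq_natDegree hprod_monic.ne_zero]
      exact_mod_cast Nat.zero_le _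
    intro h
    have h1 : (1 : WithBot ℕ) ≤ 1 + (∏ f ∈ S, f).degree := by
      calc (1 : WithBot ℕ) = 1 + 0 := by norm_num
        _ ≤ 1 + (∏ f ∈ S, f).degree := by gcongr
    rw [h] at h1
    exact absurd h1 (by norm_num)
  have hqunit : ¬ IsUnit q := by
    intro hu
    exact hqdeg (degree_eq_zero_of_isUnit hu)
  obtain ⟨g, hg, hgq⟩ := WfDvdMonoid.exists_irreducible_factor hqunit hqmonic.ne_zero
  set g' := g * C g.leadingCoeff⁻¹ with hg'
  have hg'monic : g'.Monic := monic_mul_leadingCoeff_inv hg.ne_zero
  have hassoc : Associated g g' := by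
    have hu : IsUnit (C g.leadingCoeff⁻¹ : k[X]) :=
      isUnit_C.mpr (isUnit_iff_ne_zero.mpr (inv_ne_zero (leadingCoeff_ne_zero.mpr hg.ne_zero)))
    exact associated_mul_unit_right g _ hu
  have hg'irr : Irreducible g' := hassoc.irreducible hg
  have hg'S : g' ∈ S := (hSmem g').mpr ⟨hg'monic, hg'irr⟩
  have hg'q : g' ∣ q := hassoc.symm.dvd.trans hgq
  have hg'prod : g' ∣ X * ∏ f ∈ S, f := Dvd.dvd.mul_left (Finset.dvd_prod_of_mem _ hg'S) X
  have hg'one : g' ∣ 1 := by
    have := (dvd_add_right hg'prod).mp hg'q
    exact this
  exact hg'irr.not_isUnit (isUnit_of_dvd_one hg'one)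

/-- at a pole of `z` the valuation of a polynomial in `z` is given by its degree -/
lemma val_aeval_of_one_lt (P : Place k K) {z : K} (hz : 1 < P.1 z) {q : k[X]} (hq : q ≠ 0) :
    P.1 (aeval z q) = P.1 z ^ q.natDegree := by
  have hz0 : z ≠ 0 := by
    rintro rfl
    rw [map_zero] at hz
    exact not_lt.mpr zero_le hz
  let _ : Invertible z := invertibleOfNonzero hz0
  have h := Polynomial.eval₂_reverse_mul_pow (algebraMap k K) z q
  have hinv : P.1 (⅟z) < 1 := by
    rw [invOf_eq_inv, map_inv₀]
    exact inv_lt_one_of_one_lt₀ hz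
  have hrev : q.reverse.coeff 0 ≠ 0 := by
    rw [coeff_zero_reverse]
    exact leadingCoeff_ne_zero.mpr hq
  have h1 : P.1 (aeval (⅟z) q.reverse) = 1 := gval_aeval_eq_one P.1 P.2.1 hinv hrev
  have h2 : eval₂ (algebraMap k K) z q = aeval z q := rfl
  rw [h2] at h
  rw [← h, map_mul, map_pow]
  have h3 : eval₂ (algebraMap k K) (⅟z) q.reverse = aeval (⅟z) q.reverse := rfl
  rw [h3, h1, one_mul]

/-- every function field of one variable has infinitely many places -/
theorem infinite_places' (hK : IsFunctionField k K) : Infinite (Place k K) := by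
  classical
  obtain ⟨⟨z, hz, -⟩, -⟩ := id hK
  have hinf := infinite_monic_irreducible k
  haveI : Infinite {f : k[X] | f.Monic ∧ Irreducible f} := hinf.to_subtype
  have htr : ∀ f : {f : k[X] | f.Monic ∧ Irreducible f}, Transcendental k (aeval z (f : k[X])) := by
    intro f halg
    obtain ⟨c, hc⟩ := hK.2 _ halg
    have hdeg : 0 < (f : k[X]).natDegree := f.2.2.natDegree_pos
    apply hz
    refine ⟨(f : k[X]) - C c, ?_, ?_⟩
    · intro h0
      have h1 : (f : k[X]) = C c := sub_eq_zero.mp h0
      rw [h1, natDegree_C] at hdeg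
      exact lt_irrefl _ hdeg
    · rw [map_sub, aeval_C, hc, sub_self]
  choose Pf hPf using fun f => exists_zero_of_transcendental hK (htr f)
  apply Infinite.of_injective Pf
  intro f g hfg
  by_contra hne
  have hf0 : aeval z (f : k[X]) ≠ 0 := fun h0 => htr f (by rw [h0]; exact isAlgebraic_zero)
  have hg0 : aeval z (g : k[X]) ≠ 0 := fun h0 => htr g (by rw [h0]; exact isAlgebraic_zero)
  have h1 : (Pf f).1 (aeval z (f : k[X])) < 1 := (val_lt_one_iff _ hf0).mpr (hPf f)
  have h2 : (Pf f).1 (aeval z (g : k[X])) < 1 := by
    rw [hfg]; exact (val_lt_one_iff _ hg0).mpr (hPf g)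
  have hzint : (Pf f).1 z ≤ 1 := by
    by_contra hlt
    push Not at hlt
    rw [val_aeval_of_one_lt (Pf f) hlt f.2.1.ne_zero] at h1
    exact absurd h1 (not_lt.mpr (one_le_pow₀ hlt.le))
  have hnd : ¬ (f : k[X]) ∣ (g : k[X]) := by
    intro hdvd
    have hassoc : Associated (f : k[X]) (g : k[X]) := f.2.2.associated_of_dvd g.2.2 hdvd
    have := eq_of_monic_of_associated f.2.1 g.2.1 hassoc
    exact hne (Subtype.ext this)
  have hcop : IsCoprime (f : k[X]) (g : k[X]) := (f.2.2.coprime_iff_not_dvd).mpr hnd
  obtain ⟨a, b, hab⟩ := hcop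
  have h3 := congrArg (aeval z) hab
  rw [map_add, map_mul, map_mul, map_one] at h3
  have h4 : (Pf f).1 (1 : K) < 1 := by
    rw [← h3]
    refine lt_of_le_of_lt ((Pf f).1.map_add _ _) (max_lt ?_ ?_)
    · rw [map_mul]
      exact mul_lt_one_of_nonneg_of_lt_one_right
        (gval_aeval_le_one (Pf f).1 (Pf f).2.1 hzint a) zero_le h1
    · rw [map_mul]
      exact mul_lt_one_of_nonneg_of_lt_one_right
        (gval_aeval_le_one (Pf f).1 (Pf f).2.1 hzint b) zero_le h2
  rw [map_one] at h4
  exact lt_irrefl _ h4

end euclid

section main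
variable {k : Type u} {K : Type v} [Field k] [Field K] [Algebra k K]

lemma isSeparable_of_finite_field (k F : Type*) [Field k] [Finite k] [Field F] [Algebra k F]
    [FiniteDimensional k F] : Algebra.IsSeparable k F := by
  haveI : Algebra.IsAlgebraic k F := Algebra.IsAlgebraic.of_finite k F
  exact Algebra.IsAlgebraic.isSeparable_of_perfectField

/-- a geometric function field has infinitely many places with separable residue field -/
theorem infinite_separable_places (hK : IsFunctionField k K) (hg : IsGeometric k K) :
    {P : Place k K | Algebra.IsSeparable k (IsLocalRing.ResidueField P.O)}.Infinite := by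
  classical
  rcases finite_or_infinite k with hfink | hinfk
  · -- finite constant field: every place is separable
    haveI := infinite_places' hK
    have hall : {P : Place k K | Algebra.IsSeparable k (IsLocalRing.ResidueField P.O)} =
        Set.univ := by
      ext P
      simp only [Set.mem_setOf_eq, Set.mem_univ, iff_true]
      exact @isSeparable_of_finite_field k (IsLocalRing.ResidueField P.O) _ _ _ (Place.algRes P)
        (finite_residueField hK P)
    rw [hall]
    exact Set.infinite_univ
  · obtain ⟨x, hx, hsep⟩ := exists_separating hK hg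
    set E := adjoin k ({x} : Set K) with hEdef
    have hE : IsFunctionField k E :=
      isFunctionField_intermediateField hK E ⟨x, mem_adjoin_simple_self k x, hx⟩
    haveI : FiniteDimensional E K := finite_adjoin_of_transcendental hK hx
    let B : PowerBasis E K := Field.powerBasisOfFiniteOfSeparable E K
    set m := minpoly E B.gen with hm
    set d := Algebra.discr E B.basis with hd
    have hd0 : d ≠ 0 := Algebra.discr_not_zero_of_basis E B.basis
    set Bad : Set (Place k E) :=
      ((⋃ i ∈ Finset.range (m.natDegree + 1), {p : Place k E | ¬ p.1 (m.coeff i) ≤ 1}) ∪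
        {p : Place k E | ¬ p.1 d ≤ 1}) ∪ {p : Place k E | ¬ p.1 d⁻¹ ≤ 1} with hBad
    have hBadfin : Bad.Finite := by
      refine Set.Finite.union (Set.Finite.union ?_ (finite_not_val_le_one hE d))
        (finite_not_val_le_one hE d⁻¹)
      exact Set.Finite.biUnion (Finset.finite_toSet _) fun i _ => finite_not_val_le_one hE _
    have hgood : ∀ p : Place k E, p ∉ Bad → (∀ i, p.1 (m.coeff i) ≤ 1) ∧ p.1 d = 1 := by
      intro p hp
      rw [hBad] at hp
      simp only [Set.mem_union, Set.mem_iUnion, Set.mem_setOf_eq, not_or, not_exists,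
        not_not] at hp
      obtain ⟨⟨h1, h2⟩, h3⟩ := hp
      refine ⟨fun i => ?_, ?_⟩
      · by_cases hi : i < m.natDegree + 1
        · exact h1 i (Finset.mem_range.mpr hi)
        · rw [coeff_eq_zero_of_natDegree_lt (by omega), map_zero]
          exact zero_le
      · apply le_antisymm h2
        rw [map_inv₀] at h3
        by_contra hlt
        push Not at hlt
        have hpos : 0 < p.1 d := by
          rw [zero_lt_iff]; exact (Valuation.ne_zero_iff p.1).mpr hd0
        exact absurd h3 (not_le.mpr (one_lt_inv_iff₀.mpr ⟨hpos, hlt⟩))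
    -- the rational places of `E`
    set xE : E := ⟨x, mem_adjoin_simple_self k x⟩ with hxE
    have hxEtr : Transcendental k xE := by
      rw [← transcendental_algebraMap_iff (algebraMap E K).injective]
      exact hx
    have htopx : adjoin k ({xE} : Set E) = ⊤ := by
      apply IntermediateField.lift_injective
      rw [lift_adjoin_simple, lift_top]
    have ht : ∀ a : k, Transcendental k (xE - algebraMap k E a) := by
      intro a halg
      apply hxEtr
      have : xE = (xE - algebraMap k E a) + algebraMap k E a := by ring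
      rw [this]
      exact halg.add (isAlgebraic_algebraMap a)
    have htop : ∀ a : k, adjoin k ({xE - algebraMap k E a} : Set E) = ⊤ := by
      intro a
      rw [eq_top_iff, ← htopx, adjoin_le_iff, Set.singleton_subset_iff]
      have hmem := add_mem (mem_adjoin_simple_self k (xE - algebraMap k E a))
        (IntermediateField.algebraMap_mem (adjoin k ({xE - algebraMap k E a} : Set E)) a)
      rw [sub_add_cancel] at hmem
      exact hmem
    choose p hp using fun a => exists_zero_of_transcendental hE (ht a)
    have hpinj : Function.Injective p := by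
      intro a b hab
      by_contra hne
      have ha0 : xE - algebraMap k E a ≠ 0 := fun h0 => ht a (by rw [h0]; exact isAlgebraic_zero)
      have hb0 : xE - algebraMap k E b ≠ 0 := fun h0 => ht b (by rw [h0]; exact isAlgebraic_zero)
      have h1 : (p a).1 (xE - algebraMap k E a) < 1 := (val_lt_one_iff _ ha0).mpr (hp a)
      have h2 : (p a).1 (xE - algebraMap k E b) < 1 := by
        rw [hab]; exact (val_lt_one_iff _ hb0).mpr (hp b)
      have e : algebraMap k E (b - a) = (xE - algebraMap k E a) - (xE - algebraMap k E b) := by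
        rw [map_sub]; ring
      have h3 : (p a).1 (algebraMap k E (b - a)) < 1 := by
        rw [e]
        exact lt_of_le_of_lt ((p a).1.map_sub _ _) (max_lt h1 h2)
      rw [val_algebraMap (p a) (sub_ne_zero.mpr (Ne.symm hne))] at h3
      exact lt_irrefl _ h3
    have hpdeg : ∀ a, (p a).deg = 1 := fun a =>
      deg_eq_one_of_adjoin_eq_top hE (ht a) (htop a) (hp a)
    have hSfin : {a : k | p a ∈ Bad}.Finite := hBadfin.preimage hpinj.injOn
    haveI : Infinite {a : k // a ∈ {a : k | p a ∈ Bad}ᶜ} := (hSfin.infinite_compl).to_subtype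
    choose Q hQ using fun a : k => exists_isOver (K' := K) hE (p a)
    apply Set.infinite_of_injective_forall_mem
      (f := fun a : {a : k // a ∈ {a : k | p a ∈ Bad}ᶜ} => Q (a : k))
    · intro a b hab
      have hab' : Q (a : k) = Q (b : k) := hab
      have h1 := hQ (a : k)
      have h2 := hQ (b : k)
      rw [← hab'] at h2
      have := unique_below h1 h2
      exact Subtype.ext (hpinj this)
    · intro a
      have ha : p (a : k) ∉ Bad := a.2
      obtain ⟨hc, hdu⟩ := hgood _ ha
      exact isSeparable_residue_over hE (p (a : k)) B hc hdu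
        (isSeparable_residue_of_deg_eq_one (hpdeg (a : k))) (hQ (a : k))

end main

end Groth.Agent.FF.Ext
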