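import Groth.Agent.FunFld.AS2H1
import Groth.Agent.FunFld.SepPlaces

/-!
# Artin–Schreier extensions `y² + y = f(x)` in characteristic two: the regular differentials
-/

set_option autoImplicit false
set_option linter.unusedSectionVars false

open FunFld IntermediateField WithZero Polynomial

namespace Groth.Agent.FF.AS2

open Groth.Agent.FF.Ext Groth.Agent.H57

universe u v w

section Orders

variable {k : Type u} {K : Type v} [Field k] [Field K] [Algebra k K]
  [Algebra (RatFunc k) K] [IsScalarTower k (RatFunc k) K]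
  [IsAlgClosed k] [CharP k 2] [Algebra.IsSeparable (RatFunc k) K]
  {y : K} {f : RatFunc k} {B : Finset k} {d : k → ℕ}

local notation "j" => algebraMap (RatFunc k) K

lemma u_ne_zero (α : k) : j RatFunc.X - algebraMap k K α ≠ 0 := by
  rw [sub_eq]
  exact j_ne_zero (X_sub_C_ne_zero α)

/-- the order of `x - α` at a place above infinity -/
lemma Setup.ord_u_inf (S : Setup k K y f B d) (P : Place k K) (hP : 1 < P.1 (j RatFunc.X))
    (α : k) : P.ord (j RatFunc.X - algebraMap k K α) = -1 := by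
  have hfd := S.finiteDimensional
  have halg : Algebra.IsAlgebraic (RatFunc k) K := Algebra.IsAlgebraic.of_finite _ _
  obtain ⟨p, e, he⟩ := exists_isOverWith_below (K := RatFunc k) P
  have h1 : 1 < p.1 (RatFunc.X : RatFunc k) := by
    by_contra hle
    rw [not_lt] at hle
    exact absurd ((le_one_iff he _).mpr hle) (not_le.mpr hP)
  have hf1 : p.1 f ≤ 1 := S.hint p fun β _ => (val_X_sub_C_of_one_lt p β h1).le
  have he1 : e = 1 := unramified_of_val_le_one (k := k) S.hdeg S.hy S.heq he hf1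
  rw [sub_eq, ord_eq he, ord_X_sub_C_of_one_lt p α h1, he1]
  norm_num

/-- the joint behaviour of `x - α`, `x - α'` (`α ≠ α'` in `B`) and the divisor of `dx` at a place -/
lemma Setup.ord_cases (S : Setup k K y f B d) {C : Divisor k K}
    (hC1 : ∀ P, ∀ β ∈ B, P.1 (j RatFunc.X - algebraMap k K β) < 1 → C P = (d β : ℤ) + 1)
    (hC2 : ∀ P, 1 < P.1 (j RatFunc.X) → C P = -2)
    (hC3 : ∀ P, P.1 (j RatFunc.X) ≤ 1 →
      (∀ β ∈ B, 1 ≤ P.1 (j RatFunc.X - algebraMap k K β)) → C P = 0)
    (P : Place k K) {α α' : k} (hα : α ∈ B) (hα' : α' ∈ B) (hne : α ≠ α') :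
    (P.ord (j RatFunc.X - algebraMap k K α) = -1 ∧ P.ord (j RatFunc.X - algebraMap k K α') = -1 ∧
      C P = -2) ∨
    (P.ord (j RatFunc.X - algebraMap k K α) = 2 ∧ P.ord (j RatFunc.X - algebraMap k K α') = 0 ∧
      C P = (d α : ℤ) + 1) ∨
    (P.ord (j RatFunc.X - algebraMap k K α) = 0 ∧ P.ord (j RatFunc.X - algebraMap k K α') = 2 ∧
      C P = (d α' : ℤ) + 1) ∨
    (P.ord (j RatFunc.X - algebraMap k K α) = 0 ∧ P.ord (j RatFunc.X - algebraMap k K α') = 0 ∧
      0 ≤ C P) := by
  by_cases hinf : 1 < P.1 (j RatFunc.X)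
  · exact Or.inl ⟨S.ord_u_inf P hinf α, S.ord_u_inf P hinf α', hC2 P hinf⟩
  rw [not_lt] at hinf
  have hle : ∀ β : k, P.1 (j RatFunc.X - algebraMap k K β) ≤ 1 := fun β =>
    Valuation.map_sub_le _ hinf (P.2.1 β)
  by_cases h1 : P.1 (j RatFunc.X - algebraMap k K α) < 1
  · obtain ⟨-, -, -, -, h2⟩ := S.place_above_facts hα h1
    have h3 := val_sub_eq_one_of_ne P (α := α') hne h1
    exact Or.inr (Or.inl ⟨h2, (val_eq_one_iff P (u_ne_zero α')).mp h3, hC1 P α hα h1⟩)
  have h1' : P.1 (j RatFunc.X - algebraMap k K α) = 1 := le_antisymm (hle α) (not_lt.mp h1)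
  by_cases h2 : P.1 (j RatFunc.X - algebraMap k K α') < 1
  · obtain ⟨-, -, -, -, h3⟩ := S.place_above_facts hα' h2
    exact Or.inr (Or.inr (Or.inl ⟨(val_eq_one_iff P (u_ne_zero α)).mp h1', h3, hC1 P α' hα' h2⟩))
  have h2' : P.1 (j RatFunc.X - algebraMap k K α') = 1 := le_antisymm (hle α') (not_lt.mp h2)
  refine Or.inr (Or.inr (Or.inr ⟨(val_eq_one_iff P (u_ne_zero α)).mp h1',
    (val_eq_one_iff P (u_ne_zero α')).mp h2', ?_⟩))
  by_cases hB : ∀ β ∈ B, 1 ≤ P.1 (j RatFunc.X - algebraMap k K β)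
  · rw [hC3 P hinf hB]
  · push Not at hB
    obtain ⟨β, hβ, hlt⟩ := hB
    rw [hC1 P β hβ hlt]
    positivity

end Orders

section ZFam

variable {k : Type u} {K : Type v} [Field k] [Field K] [Algebra k K]
  [Algebra (RatFunc k) K] [IsScalarTower k (RatFunc k) K]
  [IsAlgClosed k] [CharP k 2] [Algebra.IsSeparable (RatFunc k) K]
  {y : K} {f : RatFunc k} {B : Finset k} {d : k → ℕ}

local notation "j" => algebraMap (RatFunc k) K

/-- the behaviour of `x - α` (`α ∈ B`) and the divisor of `dx` at a place -/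
lemma Setup.ord_cases₁ (S : Setup k K y f B d) {C : Divisor k K}
    (hC1 : ∀ P, ∀ β ∈ B, P.1 (j RatFunc.X - algebraMap k K β) < 1 → C P = (d β : ℤ) + 1)
    (hC2 : ∀ P, 1 < P.1 (j RatFunc.X) → C P = -2)
    (hC3 : ∀ P, P.1 (j RatFunc.X) ≤ 1 →
      (∀ β ∈ B, 1 ≤ P.1 (j RatFunc.X - algebraMap k K β)) → C P = 0)
    (P : Place k K) {α : k} (hα : α ∈ B) :
    (P.ord (j RatFunc.X - algebraMap k K α) = -1 ∧ C P = -2) ∨
    (P.ord (j RatFunc.X - algebraMap k K α) = 2 ∧ C P = (d α : ℤ) + 1) ∨
    (P.ord (j RatFunc.X - algebraMap k K α) = 0 ∧ 0 ≤ C P) := by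
  by_cases hinf : 1 < P.1 (j RatFunc.X)
  · exact Or.inl ⟨S.ord_u_inf P hinf α, hC2 P hinf⟩
  rw [not_lt] at hinf
  have hle : ∀ β : k, P.1 (j RatFunc.X - algebraMap k K β) ≤ 1 := fun β =>
    Valuation.map_sub_le _ hinf (P.2.1 β)
  by_cases h1 : P.1 (j RatFunc.X - algebraMap k K α) < 1
  · obtain ⟨-, -, -, -, h2⟩ := S.place_above_facts hα h1
    exact Or.inr (Or.inl ⟨h2, hC1 P α hα h1⟩)
  have h1' : P.1 (j RatFunc.X - algebraMap k K α) = 1 := le_antisymm (hle α) (not_lt.mp h1)
  refine Or.inr (Or.inr ⟨(val_eq_one_iff P (u_ne_zero α)).mp h1', ?_⟩)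
  by_cases hB : ∀ β ∈ B, 1 ≤ P.1 (j RatFunc.X - algebraMap k K β)
  · rw [hC3 P hinf hB]
  · push Not at hB
    obtain ⟨β, hβ, hlt⟩ := hB
    rw [hC1 P β hβ hlt]
    positivity

variable (K B d) in
/-- the functions `z` with `z dx` regular -/
noncomputable abbrev zfam : I₁ B d ⊕ I₂ B → K :=
  Sum.elim
    (fun a : I₁ B d =>
      j (((RatFunc.X : RatFunc k) - RatFunc.C (a.1.1 : k))⁻¹ ^ (a.1.2 + 1)))
    (fun b : I₂ B => j (RatFunc.C (b.1 : k) /
      ((RatFunc.X : RatFunc k) * ((RatFunc.X : RatFunc k) - RatFunc.C (b.1 : k)))))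

lemma zfam_inl (a : I₁ B d) : zfam K B d (Sum.inl a) =
    (j RatFunc.X - algebraMap k K (a.1.1 : k))⁻¹ ^ (a.1.2 + 1) := by
  show j _ = _
  rw [map_pow, map_inv₀, sub_eq]

lemma zfam_inr (b : I₂ B) : zfam K B d (Sum.inr b) =
    algebraMap k K (b.1 : k) / (j RatFunc.X * (j RatFunc.X - algebraMap k K (b.1 : k))) := by
  show j _ = _
  rw [map_div₀, map_mul, sub_eq, ← RatFunc.algebraMap_eq_C, ← IsScalarTower.algebraMap_apply]

/-- `z dx` is regular for the listed `z` -/
theorem Setup.zfam_mem_L (S : Setup k K y f B d) {C : Divisor k K}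
    (hC1 : ∀ P, ∀ β ∈ B, P.1 (j RatFunc.X - algebraMap k K β) < 1 → C P = (d β : ℤ) + 1)
    (hC2 : ∀ P, 1 < P.1 (j RatFunc.X) → C P = -2)
    (hC3 : ∀ P, P.1 (j RatFunc.X) ≤ 1 →
      (∀ β ∈ B, 1 ≤ P.1 (j RatFunc.X - algebraMap k K β)) → C P = 0)
    (i : I₁ B d ⊕ I₂ B) : zfam K B d i ∈ L C := by
  intro P
  rcases i with a | b
  · have hα : (a.1.1 : k) ∈ B := a.1.1.2
    have hu0 := u_ne_zero (K := K) (a.1.1 : k)
    have hz0 : (j RatFunc.X - algebraMap k K (a.1.1 : k))⁻¹ ^ (a.1.2 + 1) ≠ 0 :=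
      pow_ne_zero _ (inv_ne_zero hu0)
    rw [zfam_inl, val_le_exp_iff P hz0, ord_pow, ord_inv]
    have h1 := a.2.1
    have h2 := a.2.2
    rcases S.ord_cases₁ hC1 hC2 hC3 P hα with ⟨ho, hc⟩ | ⟨ho, hc⟩ | ⟨ho, hc⟩
    · rw [ho, hc]
      push_cast
      nlinarith
    · rw [ho, hc]
      push_cast
      have : (2 * (a.1.2 : ℤ) + 1 ≤ d (a.1.1 : k)) := by exact_mod_cast h2
      linarith
    · rw [ho]
      simp only [neg_zero, mul_zero]
      linarith
  · have hα : (b.1 : k) ∈ B := b.1.2
    have hα0 : (b.1 : k) ≠ 0 := b.2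
    have hu0 := u_ne_zero (K := K) (b.1 : k)
    have hx0 : j (RatFunc.X : RatFunc k) ≠ 0 := j_ne_zero RatFunc.X_ne_zero
    have hc0 : algebraMap k K (b.1 : k) ≠ 0 := (_root_.map_ne_zero _).mpr hα0
    have hz0 : algebraMap k K (b.1 : k) /
        (j RatFunc.X * (j RatFunc.X - algebraMap k K (b.1 : k))) ≠ 0 :=
      div_ne_zero hc0 (mul_ne_zero hx0 hu0)
    rw [zfam_inr, val_le_exp_iff P hz0, ord_div P hc0 (mul_ne_zero hx0 hu0), ord_mul P hx0 hu0,
      ord_algebraMap]
    have hd0 : 0 < d 0 := (S.hd 0 S.h0).pos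
    have hdα : 0 < d (b.1 : k) := (S.hd _ hα).pos
    have hcases := S.ord_cases hC1 hC2 hC3 P S.h0 hα (Ne.symm hα0)
    rw [map_zero, sub_zero] at hcases
    rcases hcases with ⟨ho, ho', hc⟩ | ⟨ho, ho', hc⟩ | ⟨ho, ho', hc⟩ | ⟨ho, ho', hc⟩
    · rw [ho, ho', hc]
      norm_num
    · rw [ho, ho', hc]
      have : (0 : ℤ) < d 0 := by exact_mod_cast hd0
      linarith
    · rw [ho, ho', hc]
      have : (0 : ℤ) < d (b.1 : k) := by exact_mod_cast hdα
      linarith
    · rw [ho, ho']
      linarith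

end ZFam

section Indep

variable {k : Type u} {K : Type v} [Field k] [Field K] [Algebra k K]
  [Algebra (RatFunc k) K] [IsScalarTower k (RatFunc k) K]
  [IsAlgClosed k] [CharP k 2] [Algebra.IsSeparable (RatFunc k) K]
  {y : K} {f : RatFunc k} {B : Finset k} {d : k → ℕ}

local notation "j" => algebraMap (RatFunc k) K

/-- a polynomial without constant term in `u⁻¹` is not integral at a zero of `u` unless it is `0` -/
lemma eq_zero_of_aeval_inv_integral (P : Place k K) {u : K} (hu : P.1 u < 1) (hu0 : u ≠ 0)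
    {Q : k[X]} (hQ0 : Q.coeff 0 = 0) (hint : P.1 (aeval u⁻¹ Q) ≤ 1) : Q = 0 := by
  by_contra hne
  have h1 : 1 < P.1 u⁻¹ := by
    rw [map_inv₀]
    exact (one_lt_inv₀ (zero_lt_iff.mpr ((Valuation.ne_zero_iff _).mpr hu0))).mpr hu
  rw [val_aeval_of_one_lt P h1 hne] at hint
  have hdeg : Q.natDegree ≠ 0 := by
    intro h0
    rw [natDegree_eq_zero] at h0
    obtain ⟨c, hc⟩ := h0
    rw [← hc, coeff_C_zero] at hQ0
    rw [← hc, hQ0, map_zero] at hne
    exact hne rfl
  exact absurd hint (not_le.mpr (one_lt_pow₀ h1 hdeg))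

/-- the functions `z` are linearly independent -/
theorem Setup.zfam_linearIndependent (S : Setup k K y f B d) :
    LinearIndependent k (zfam K B d) := by
  classical
  haveI := finite_I₁ B d
  haveI := finite_I₂ B
  haveI := Fintype.ofFinite (I₁ B d)
  haveI := Fintype.ofFinite (I₂ B)
  rw [Fintype.linearIndependent_iff]
  intro g hg
  have hx0 : j (RatFunc.X : RatFunc k) ≠ 0 := j_ne_zero RatFunc.X_ne_zero
  -- the local analysis at a place above `α ∈ B`
  have key : ∀ α ∈ B,
      (∑ a : I₁ B d, if (a.1.1 : k) = α then monomial (a.1.2 + 1) (g (Sum.inl a)) else 0) +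
      (∑ b : I₂ B, monomial 1 ((if (b.1 : k) = α then g (Sum.inr b) else 0) -
        (if α = 0 then g (Sum.inr b) else 0))) = (0 : k[X]) := by
    intro α hα
    obtain ⟨P, hP⟩ := S.exists_place_above α
    set u : K := j RatFunc.X - algebraMap k K α with hu
    have hu0 : u ≠ 0 := u_ne_zero α
    let q : I₁ B d ⊕ I₂ B → k[X] := Sum.elim
      (fun a => if (a.1.1 : k) = α then monomial (a.1.2 + 1) (g (Sum.inl a)) else 0)
      (fun b => monomial 1 ((if (b.1 : k) = α then g (Sum.inr b) else 0) -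
        (if α = 0 then g (Sum.inr b) else 0)))
    have hone : ∀ β : k, β ≠ α → P.1 (j RatFunc.X - algebraMap k K β) = 1 := fun β hβ =>
      val_sub_eq_one_of_ne P (α := β) (β := α) hβ.symm hP
    have hterm : ∀ i, P.1 (aeval u⁻¹ (q i) - g i • zfam K B d i) ≤ 1 := by
      intro i
      rcases i with a | b
      · rw [zfam_inl]
        simp only [q, Sum.elim_inl]
        by_cases h : (a.1.1 : k) = α
        · rw [if_pos h, aeval_monomial, h, ← hu, Algebra.smul_def, sub_self, map_zero]
          exact zero_le_one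
        · rw [if_neg h, map_zero, zero_sub, Valuation.map_neg, Algebra.smul_def, map_mul,
            map_pow, map_inv₀, hone _ h, inv_one, one_pow, mul_one]
          exact P.2.1 _
      · rw [zfam_inr]
        simp only [q, Sum.elim_inr]
        rw [aeval_monomial, pow_one]
        have hβ0 : (b.1 : k) ≠ 0 := b.2
        have huβ0 := u_ne_zero (K := K) (b.1 : k)
        by_cases h : (b.1 : k) = α
        · have hα0 : α ≠ 0 := h ▸ hβ0
          rw [if_pos h, if_neg hα0, sub_zero, h, ← hu, Algebra.smul_def]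
          have hPx : P.1 (j (RatFunc.X : RatFunc k)) = 1 := by
            have := hone 0 hα0.symm
            rwa [map_zero, sub_zero] at this
          have e1 : algebraMap k K (g (Sum.inr b)) * u⁻¹ -
              algebraMap k K (g (Sum.inr b)) * (algebraMap k K α / (j RatFunc.X * u)) =
              algebraMap k K (g (Sum.inr b)) / j RatFunc.X := by
            field_simp
            rw [hu]
          rw [e1, map_div₀, hPx, _root_.div_one]
          exact P.2.1 _
        · rw [if_neg h]
          have hPu : P.1 (j RatFunc.X - algebraMap k K (b.1 : k)) = 1 := hone _ h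
          by_cases hα0 : α = 0
          · rw [if_pos hα0, zero_sub, Algebra.smul_def]
            have hux : u = j RatFunc.X := by rw [hu, hα0, map_zero, sub_zero]
            have e1 : algebraMap k K (-g (Sum.inr b)) * u⁻¹ -
                algebraMap k K (g (Sum.inr b)) * (algebraMap k K (b.1 : k) /
                  (j RatFunc.X * (j RatFunc.X - algebraMap k K (b.1 : k)))) =
                -(algebraMap k K (g (Sum.inr b)) / (j RatFunc.X - algebraMap k K (b.1 : k))) := by
              rw [hux, map_neg]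
              field_simp
              ring
            rw [e1, Valuation.map_neg, map_div₀, hPu, _root_.div_one]
            exact P.2.1 _
          · rw [if_neg hα0, sub_zero, map_zero, zero_mul, zero_sub, Valuation.map_neg,
              Algebra.smul_def]
            have hPx : P.1 (j (RatFunc.X : RatFunc k)) = 1 := by
              have := hone 0 (Ne.symm hα0)
              rwa [map_zero, sub_zero] at this
            rw [map_mul, map_div₀, map_mul, hPx, hPu, mul_one, _root_.div_one]
            exact mul_le_one' (P.2.1 _) (P.2.1 _)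
    have hsumq : P.1 (aeval u⁻¹ (∑ i, q i)) ≤ 1 := by
      have e : aeval u⁻¹ (∑ i, q i) = ∑ i, (aeval u⁻¹ (q i) - g i • zfam K B d i) := by
        rw [Finset.sum_sub_distrib, hg, sub_zero, map_sum]
      rw [e]
      exact Valuation.map_sum_le _ (fun i _ => hterm i)
    have hq0 : (∑ i, q i).coeff 0 = 0 := by
      rw [finset_sum_coeff]
      apply Finset.sum_eq_zero
      intro i _
      rcases i with a | b
      · simp only [q, Sum.elim_inl]
        split_ifs
        · rw [coeff_monomial, if_neg (by omega)]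
        · exact coeff_zero _
      · simp only [q, Sum.elim_inr]
        rw [coeff_monomial, if_neg (by omega)]
    have hzero := eq_zero_of_aeval_inv_integral P hP hu0 hq0 hsumq
    rw [Fintype.sum_sum_type] at hzero
    exact hzero
  intro i
  rcases i with a₀ | b₀
  · have h := congrArg (fun p => p.coeff (a₀.1.2 + 1)) (key _ a₀.1.1.2)
    simp only [coeff_add, finset_sum_coeff, coeff_zero] at h
    have hn := a₀.2.1
    rw [Finset.sum_eq_single a₀, Finset.sum_eq_zero, add_zero, if_pos rfl, coeff_monomial,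
      if_pos rfl] at h
    · exact h
    · intro b _
      rw [coeff_monomial, if_neg (by omega)]
    · intro a _ hne
      split_ifs with h1
      · rw [coeff_monomial, if_neg]
        intro h2
        apply hne
        apply Subtype.ext
        apply Prod.ext
        · exact Subtype.ext h1
        · omega
      · exact coeff_zero _
    · intro h
      exact absurd (Finset.mem_univ _) h
  · have hα0 : (b₀.1 : k) ≠ 0 := b₀.2
    have h := congrArg (fun p => p.coeff 1) (key _ b₀.1.2)
    simp only [coeff_add, finset_sum_coeff, coeff_zero] at h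
    rw [Finset.sum_eq_zero, zero_add, Finset.sum_eq_single b₀] at h
    · rw [coeff_monomial, if_pos rfl, if_pos rfl, if_neg hα0, sub_zero] at h
      exact h
    · intro b _ hne
      rw [coeff_monomial, if_pos rfl, if_neg hα0, sub_zero, if_neg]
      intro h2
      apply hne
      apply Subtype.ext
      exact Subtype.ext h2
    · intro h
      exact absurd (Finset.mem_univ _) h
    · intro a _
      have := a.2.1
      split_ifs
      · rw [coeff_monomial, if_neg (by omega)]
      · exact coeff_zero _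

end Indep

section Final

variable {k : Type u} {K : Type v} [Field k] [Field K] [Algebra k K]
  [Algebra (RatFunc k) K] [IsScalarTower k (RatFunc k) K]
  [IsAlgClosed k] [CharP k 2] [Algebra.IsSeparable (RatFunc k) K]
  {y : K} {f : RatFunc k} {B : Finset k} {d : k → ℕ}

local notation "j" => algebraMap (RatFunc k) K

/-- the regular differentials of `y² + y = f(x)`: a basis by partial fractions -/
theorem Setup.omega_basis (S : Setup k K y f B d)
    (F : Place k K → Type w) [∀ P, Field (F P)] [∀ P, Algebra k (F P)]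
    [∀ P, FiniteDimensional k (F P)]
    (φ : ∀ P, K →ₐ[k] LaurentSeries (F P)) (hφ : ∀ P, LocRes.IsExpansionAt P.1 (φ P)) :
    (∀ i P, LocRes.vDiff (φ P) (zfam K B d i) (j RatFunc.X) ≤ 1) ∧
    LinearIndependent k (zfam K B d) ∧
    ∀ z : K, (∀ P, LocRes.vDiff (φ P) z (j RatFunc.X) ≤ 1) →
      z ∈ Submodule.span k (Set.range (zfam K B d)) := by
  classical
  haveI := finite_I₁ B d
  haveI := finite_I₂ B
  haveI := Fintype.ofFinite (I₁ B d)
  haveI := Fintype.ofFinite (I₂ B)
  obtain ⟨C, hcan, hCφ, hC1, hC2, hC3⟩ := S.exists_canonical F φ hφ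
  have hD := D_jX_ne_zero (k := k) (K := K)
  have hiff : ∀ (z : K) (P : Place k K),
      LocRes.vDiff (φ P) z (j RatFunc.X) ≤ 1 ↔ P.1 z ≤ exp (C P) := by
    intro z P
    have h := ResW.vDiff_le_iff S.hK S.isGeometric F φ hφ (j RatFunc.X) hD z P 0
    rw [neg_zero, exp_zero, sub_zero, ← hCφ] at h
    exact h
  have hmem : ∀ i, zfam K B d i ∈ L C := S.zfam_mem_L hC1 hC2 hC3
  refine ⟨fun i P => (hiff _ P).mpr (hmem i P), S.zfam_linearIndependent, ?_⟩
  intro z hz
  have hzL : z ∈ L C := fun P => (hiff z P).mp (hz P)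
  haveI := finite_L S.hK C
  let w : I₁ B d ⊕ I₂ B → L C := fun i => ⟨zfam K B d i, hmem i⟩
  have hli : LinearIndependent k w :=
    LinearIndependent.of_comp (L C).subtype S.zfam_linearIndependent
  have hcard : Fintype.card (I₁ B d ⊕ I₂ B) = Module.finrank k (L C) := by
    rw [S.card_index]
    exact (ell_canonical S.hK hcan).symm
  have htop := hli.span_eq_top_of_card_eq_finrank' hcard
  have hzs : (⟨z, hzL⟩ : L C) ∈ Submodule.span k (Set.range w) := by
    rw [htop]
    trivial
  obtain ⟨c, hc⟩ := (Submodule.mem_span_range_iff_exists_fun k).mp hzs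
  have hzsum : z = ∑ i, c i • zfam K B d i := by
    have h := congrArg Subtype.val hc
    rw [Submodule.coe_sum] at h
    exact h.symm
  rw [hzsum]
  exact Submodule.sum_mem _ (fun i _ => Submodule.smul_mem _ _ (Submodule.subset_span ⟨i, rfl⟩))

end Final

end Groth.Agent.FF.AS2
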