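import Mathlib
import Groth.Agent.Lib.Helper99.PSRoot2

/-!
# The order-`p` automorphism `X ↦ X·u`, `u^n (1 + X^n) = 1`, of `k⟦X⟧`: twisted actions and `H¹`
(helper56)

`τ = subst (X u)`, `σ_e h = u^e · τ h`.  We prove
* `Q = 1` (so `σ_e^p 1 = 1`) and the elements `c` with `X^m c = u^(e-m) - 1` are killed by the norm;
* an explicit additive Hilbert 90: if `N_a z = 0` there is `W` with `σ_{a-N} W - W = X^N z`,
  `N = n (p - 1)`;
* the pole descent: `ker N_a ⊆ span {c_m} + range (σ_a - 1)`.
-/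

set_option autoImplicit false
set_option linter.unusedSectionVars false
set_option linter.style.haveILetI false

namespace Groth.Agent.FunFld.ASH1

open PowerSeries Finset

section powsum

theorem sum_zmod_pow (p : ℕ) [Fact p.Prime] (l : ℕ) (hl : l < p - 1) :
    ∑ x : ZMod p, x ^ l = 0 := by
  apply FiniteField.sum_pow_lt_card_sub_one
  rw [ZMod.card]
  exact hl

theorem sum_zmod_pow_top (p : ℕ) [Fact p.Prime] :
    ∑ x : ZMod p, x ^ (p - 1) = -1 := by
  classical
  have hp : p.Prime := Fact.out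
  have h1 : ∀ x : ZMod p, x ^ (p - 1) = if x = 0 then 0 else 1 := by
    intro x
    split_ifs with h
    · rw [h, zero_pow]
      have := hp.two_le
      omega
    · exact ZMod.pow_card_sub_one_eq_one h
  rw [Finset.sum_congr rfl (fun x _ => h1 x), Finset.sum_ite, Finset.sum_const_zero, zero_add,
    Finset.sum_const, nsmul_eq_mul, mul_one]
  have h2 : (Finset.univ.filter (fun x : ZMod p => ¬ x = 0)).card = p - 1 := by
    rw [Finset.filter_not, Finset.filter_eq' , if_pos (Finset.mem_univ _),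
      Finset.card_sdiff_of_subset (by simp), Finset.card_univ, ZMod.card, Finset.card_singleton]
  rw [h2, Nat.cast_sub hp.one_le, Nat.cast_one, ZMod.natCast_self, zero_sub]

theorem sum_range_natCast_pow (p : ℕ) [Fact p.Prime] (B : Type*) [CommRing B] [CharP B p] (l : ℕ) :
    ∑ j ∈ range p, ((j : ℕ) : B) ^ l = (ZMod.castHom (dvd_refl p) B) (∑ x : ZMod p, x ^ l) := by
  have hp : p.Prime := Fact.out
  haveI : NeZero p := ⟨hp.ne_zero⟩
  rw [map_sum]
  apply Finset.sum_nbij' (fun i : ℕ => (i : ZMod p)) (fun x : ZMod p => x.val)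
  · intro i _; exact Finset.mem_univ _
  · intro x _; exact Finset.mem_range.mpr (ZMod.val_lt x)
  · intro i hi; exact ZMod.val_natCast_of_lt (Finset.mem_range.mp hi)
  · intro x _; exact ZMod.natCast_zmod_val x
  · intro i _
    rw [map_pow, map_natCast]

/-- the trace identity: `∑_{j<p} (1 + j T)^(p-1) = - T^(p-1)` in characteristic `p` -/
theorem sum_one_add_mul_pow (p : ℕ) [Fact p.Prime] (B : Type*) [CommRing B] [CharP B p] (T : B) :
    ∑ j ∈ range p, (1 + (j : B) * T) ^ (p - 1) = - T ^ (p - 1) := by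
  have hp : p.Prime := Fact.out
  have hexp : ∀ j : ℕ, (1 + (j : B) * T) ^ (p - 1) =
      ∑ l ∈ range (p - 1 + 1), ((j : B) ^ l) * (T ^ l * ((p - 1).choose l : B)) := by
    intro j
    rw [add_comm, add_pow]
    apply Finset.sum_congr rfl
    intro l _
    rw [one_pow, mul_one, mul_pow, mul_assoc]
  rw [Finset.sum_congr rfl (fun j _ => hexp j), Finset.sum_comm]
  simp_rw [← Finset.sum_mul]
  rw [Finset.sum_range_succ]
  have h0 : ∀ l ∈ range (p - 1), (∑ j ∈ range p, ((j : ℕ) : B) ^ l) *
      (T ^ l * ((p - 1).choose l : B)) = 0 := by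
    intro l hl
    rw [sum_range_natCast_pow, sum_zmod_pow p l (Finset.mem_range.mp hl), map_zero, zero_mul]
  rw [Finset.sum_eq_zero h0, zero_add, sum_range_natCast_pow, sum_zmod_pow_top, map_neg, map_one,
    Nat.choose_self, Nat.cast_one, mul_one, neg_one_mul]

end powsum

variable {k : Type*} [Field k]

theorem hasSubst (u : PowerSeries k) : HasSubst (X * u : PowerSeries k) :=
  HasSubst.of_constantCoeff_zero' (by rw [map_mul, constantCoeff_X, zero_mul])

/-- the substitution `X ↦ X u` -/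
noncomputable def tau (u : PowerSeries k) : PowerSeries k →ₐ[k] PowerSeries k :=
  substAlgHom (hasSubst u)

theorem tau_apply (u f : PowerSeries k) : tau u f = subst (X * u : PowerSeries k) f := by
  rw [tau, coe_substAlgHom]

theorem tau_X (u : PowerSeries k) : tau u X = X * u := by
  rw [tau_apply, subst_X (hasSubst u)]

/-- the twisted action `σ_e h = u^e · τ h` -/
noncomputable def sg (u : PowerSeries k) (U : (PowerSeries k)ˣ) (e : ℤ) :
    PowerSeries k →ₗ[k] PowerSeries k :=
  (LinearMap.mulLeft k ((U ^ e : (PowerSeries k)ˣ) : PowerSeries k)).comp (tau u).toLinearMap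

theorem sg_apply (u : PowerSeries k) (U : (PowerSeries k)ˣ) (e : ℤ) (h : PowerSeries k) :
    sg u U e h = ((U ^ e : (PowerSeries k)ˣ) : PowerSeries k) * tau u h := rfl

section twist

variable (u : PowerSeries k) (U : (PowerSeries k)ˣ) (hU : (U : PowerSeries k) = u)

include hU in
theorem zpow_mul_pow (e : ℤ) (m : ℕ) :
    ((U ^ (e - m) : (PowerSeries k)ˣ) : PowerSeries k) * u ^ m =
      ((U ^ e : (PowerSeries k)ˣ) : PowerSeries k) := by
  rw [← hU, ← Units.val_pow_eq_pow_val, ← Units.val_mul, ← zpow_natCast U m, ← zpow_add]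
  congr 2
  ring

include hU in
/-- the intertwining relation -/
theorem X_pow_mul_sg (m : ℕ) (e : ℤ) (h : PowerSeries k) :
    X ^ m * sg u U e h = sg u U (e - m) (X ^ m * h) := by
  rw [sg_apply, sg_apply, map_mul, map_pow, tau_X, mul_pow, ← zpow_mul_pow u U hU e m]
  ring

include hU in
theorem X_pow_mul_sg_pow (m : ℕ) (e : ℤ) (i : ℕ) (h : PowerSeries k) :
    X ^ m * ((sg u U e) ^ i) h = ((sg u U (e - m)) ^ i) (X ^ m * h) := by
  induction i with
  | zero => simp
  | succ i ih =>
    rw [pow_succ', Module.End.mul_apply, X_pow_mul_sg u U hU, ih, pow_succ', Module.End.mul_apply]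

/-- the norm `∑_{i<p} σ_e^i` -/
noncomputable def Nm (p : ℕ) (e : ℤ) : PowerSeries k →ₗ[k] PowerSeries k :=
  ∑ i ∈ range p, (sg u U e) ^ i

include hU in
theorem X_pow_mul_Nm (p : ℕ) (m : ℕ) (e : ℤ) (h : PowerSeries k) :
    X ^ m * Nm u U p e h = Nm u U p (e - m) (X ^ m * h) := by
  unfold Nm
  rw [LinearMap.sum_apply, LinearMap.sum_apply, Finset.mul_sum]
  apply Finset.sum_congr rfl
  intro i _
  exact X_pow_mul_sg_pow u U hU m e i h

end twist

section order

variable (p n : ℕ) [Fact p.Prime] [CharP k p] (hn : 0 < n) (hnk : (n : k) ≠ 0)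
  (u : PowerSeries k) (hu1 : constantCoeff u = 1) (hun : u ^ n * (1 + X ^ n) = 1)
  (U : (PowerSeries k)ˣ) (hU : (U : PowerSeries k) = u)

theorem charP_ps : CharP (PowerSeries k) p :=
  charP_of_injective_algebraMap (algebraMap k (PowerSeries k)).injective p

/-- `R j = 1 + j X^n` -/
noncomputable def R (n j : ℕ) : PowerSeries k := 1 + (j : PowerSeries k) * X ^ n

include hun in
theorem tau_R_mul (j : ℕ) : tau u (R n j) * (1 + X ^ n) = R n (j + 1) := by
  unfold R
  rw [map_add, map_one, map_mul, map_natCast, map_pow, tau_X, mul_pow]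
  push_cast
  linear_combination ((j : PowerSeries k) * X ^ n) * hun

include hun in
theorem tau_R (j : ℕ) : tau u (R n j) = R n (j + 1) * u ^ n := by
  have h := tau_R_mul n u hun j
  calc tau u (R n j) = tau u (R n j) * (u ^ n * (1 + X ^ n)) := by rw [hun, mul_one]
    _ = (tau u (R n j) * (1 + X ^ n)) * u ^ n := by ring
    _ = R n (j + 1) * u ^ n := by rw [h]

theorem R_zero : R (k := k) n 0 = 1 := by simp [R]

theorem R_p : R (k := k) n p = 1 := by
  haveI := charP_ps (k := k) p
  unfold R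
  rw [CharP.cast_eq_zero (PowerSeries k) p, zero_mul, add_zero]

include hn in
theorem constantCoeff_R (j : ℕ) : constantCoeff (R (k := k) n j) = 1 := by
  unfold R
  rw [map_add, map_one, map_mul, map_pow, constantCoeff_X, zero_pow hn.ne', mul_zero, add_zero]

/-- `τ` on units -/
noncomputable def tauU : (PowerSeries k)ˣ →* (PowerSeries k)ˣ :=
  Units.map (tau u : PowerSeries k →* PowerSeries k)

theorem tauU_val (x : (PowerSeries k)ˣ) :
    ((tauU u x : (PowerSeries k)ˣ) : PowerSeries k) = tau u (x : PowerSeries k) := rfl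

/-- `Qi i = ∏_{j<i} τ^j u` -/
noncomputable def Qi : ℕ → (PowerSeries k)ˣ
  | 0 => 1
  | i + 1 => U * tauU u (Qi i)

include hU in
theorem iterate_X (i : ℕ) : (tau u)^[i] X = X * ((Qi u U i : (PowerSeries k)ˣ) : PowerSeries k) := by
  induction i with
  | zero => simp [Qi]
  | succ i ih =>
    rw [Function.iterate_succ_apply', ih, map_mul, tau_X, Qi, Units.val_mul, tauU_val, hU]
    ring

include hun in
theorem iterate_X_pow (i : ℕ) : ((tau u)^[i] X) ^ n * R n i = X ^ n := by
  induction i with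
  | zero => simp [R_zero]
  | succ i ih =>
    have h1 := congrArg (tau u) ih
    rw [map_mul, map_pow, map_pow, tau_X, ← Function.iterate_succ_apply' (tau u)] at h1
    rw [← tau_R_mul n u hun i]
    calc ((tau u)^[i + 1] X) ^ n * (tau u (R n i) * (1 + X ^ n))
        = (((tau u)^[i + 1] X) ^ n * tau u (R n i)) * (1 + X ^ n) := by ring
      _ = (X * u) ^ n * (1 + X ^ n) := by rw [h1]
      _ = X ^ n * (u ^ n * (1 + X ^ n)) := by ring
      _ = X ^ n := by rw [hun, mul_one]

include hu1 hU in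
theorem constantCoeff_Qi (i : ℕ) :
    constantCoeff ((Qi u U i : (PowerSeries k)ˣ) : PowerSeries k) = 1 := by
  induction i with
  | zero => simp [Qi]
  | succ i ih =>
    rw [Qi, Units.val_mul, tauU_val, map_mul, hU, hu1, one_mul,
      Groth.Agent.Lib.Helper99.constantCoeff_algHom, ih]

include hnk hu1 hun hU in
theorem Qi_p : Qi u U p = 1 := by
  have h1 := iterate_X_pow n u hun p
  rw [R_p, mul_one, iterate_X u U hU, mul_pow] at h1
  have hXne : (X : PowerSeries k) ^ n ≠ 0 := pow_ne_zero _ X_ne_zero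
  have h2 : ((Qi u U p : (PowerSeries k)ˣ) : PowerSeries k) ^ n = 1 := by
    apply mul_left_cancel₀ hXne
    rw [h1, mul_one]
  apply Units.ext
  rw [Units.val_one]
  apply Groth.Agent.Lib.Helper99.PSRoot.eq_of_pow_eq n hnk
  · exact constantCoeff_Qi u hu1 U hU p
  · simp
  · rw [h2, one_pow]

theorem sg_pow_apply (e : ℤ) (i : ℕ) (h : PowerSeries k) :
    ((sg u U e) ^ i) h =
      (((Qi u U i) ^ e : (PowerSeries k)ˣ) : PowerSeries k) * (tau u)^[i] h := by
  induction i with
  | zero => simp [Qi]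
  | succ i ih =>
    rw [pow_succ', Module.End.mul_apply, ih, sg_apply, map_mul, Function.iterate_succ_apply', Qi,
      mul_zpow, Units.val_mul, ← map_zpow, tauU_val]
    ring

include hnk hu1 hun hU in
theorem sg_pow_p_one (e : ℤ) : ((sg u U e) ^ p) 1 = 1 := by
  rw [sg_pow_apply, Qi_p p n hnk u hu1 hun U hU, one_zpow, Units.val_one, one_mul,
    Function.iterate_fixed (map_one (tau u))]

theorem Nm_sub (e : ℤ) (w : PowerSeries k) :
    Nm u U p e (sg u U e w - w) = ((sg u U e) ^ p) w - w := by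
  have h := geom_sum_mul (sg u U e) p
  have h2 := congrArg (fun f : Module.End k (PowerSeries k) => f w) h
  simp only [Module.End.mul_apply, LinearMap.sub_apply, Module.End.one_apply] at h2
  unfold Nm
  exact h2

include hnk hu1 hun hU in
/-- the elements `c` with `X^m c = u^(e-m) - 1` are killed by the norm -/
theorem Nm_eq_zero_of (e : ℤ) (m : ℕ) (c : PowerSeries k)
    (hc : X ^ m * c = ((U ^ (e - m) : (PowerSeries k)ˣ) : PowerSeries k) - 1) :
    Nm u U p e c = 0 := by
  have h1 : X ^ m * Nm u U p e c = Nm u U p (e - m) (X ^ m * c) := X_pow_mul_Nm u U hU p m e c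
  have h2 : X ^ m * c = sg u U (e - m) 1 - 1 := by rw [hc, sg_apply, map_one, mul_one]
  rw [h2, Nm_sub, sg_pow_p_one p n hnk u hu1 hun U hU, sub_self] at h1
  have hXne : (X : PowerSeries k) ^ m ≠ 0 := pow_ne_zero _ X_ne_zero
  exact (mul_eq_zero.mp h1).resolve_left hXne

end order

section h90

variable (p n : ℕ) [Fact p.Prime] [CharP k p]
  (u : PowerSeries k) (hun : u ^ n * (1 + X ^ n) = 1)
  (U : (PowerSeries k)ˣ) (hU : (U : PowerSeries k) = u)

/-- `P j = (1 + j X^n)^(p-1)` -/
noncomputable def P (p n j : ℕ) : PowerSeries k := (R n j) ^ (p - 1)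

include hun in
theorem tau_P (j : ℕ) : tau u (P p n j) = P p n (j + 1) * u ^ (n * (p - 1)) := by
  unfold P
  rw [map_pow, tau_R n u hun, mul_pow, ← pow_mul]

theorem sum_P : ∑ j ∈ range p, P (k := k) p n j = - X ^ (n * (p - 1)) := by
  haveI := charP_ps (k := k) p
  unfold P R
  rw [sum_one_add_mul_pow p (PowerSeries k) (X ^ n), ← pow_mul]

theorem P_zero : P (k := k) p n 0 = 1 := by
  unfold P
  rw [R_zero, one_pow]

theorem P_p : P (k := k) p n p = 1 := by
  unfold P
  rw [R_p, one_pow]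

theorem sum_P_succ : ∑ j ∈ range p, P (k := k) p n (j + 1) = - X ^ (n * (p - 1)) := by
  have h1 := Finset.sum_range_succ (fun j => P (k := k) p n j) p
  have h2 := Finset.sum_range_succ' (fun j => P (k := k) p n j) p
  rw [h1, P_p, P_zero, sum_P] at h2
  exact (add_right_cancel h2).symm

/-- partial norms -/
noncomputable def zs (a : ℤ) (z : PowerSeries k) (i : ℕ) : PowerSeries k :=
  (∑ j ∈ range i, (sg u U a) ^ j) z

theorem zs_zero (a : ℤ) (z : PowerSeries k) : zs u U a z 0 = 0 := by simp [zs]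

theorem zs_p (a : ℤ) (z : PowerSeries k) : zs u U a z p = Nm u U p a z := rfl

theorem sg_zs (a : ℤ) (z : PowerSeries k) (i : ℕ) :
    sg u U a (zs u U a z i) = zs u U a z (i + 1) - z := by
  unfold zs
  rw [Finset.sum_range_succ', LinearMap.add_apply, pow_zero, Module.End.one_apply,
    add_sub_cancel_right, LinearMap.sum_apply, LinearMap.sum_apply, map_sum]
  apply Finset.sum_congr rfl
  intro j _
  rw [pow_succ', Module.End.mul_apply]

include hun hU in
theorem sg_zs_mul_P (a : ℤ) (z : PowerSeries k) (i : ℕ) :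
    sg u U (a - ((n * (p - 1) : ℕ) : ℤ)) (zs u U a z i * P p n i) =
      (zs u U a z (i + 1) - z) * P p n (i + 1) := by
  rw [sg_apply, map_mul, tau_P p n u hun, ← sg_zs, sg_apply,
    ← zpow_mul_pow u U hU a (n * (p - 1))]
  ring

include hun hU in
/-- explicit additive Hilbert 90 -/
theorem h90 (a : ℤ) (z : PowerSeries k) (hz : Nm u U p a z = 0) :
    ∃ W : PowerSeries k, sg u U (a - ((n * (p - 1) : ℕ) : ℤ)) W - W = X ^ (n * (p - 1)) * z := by
  set f : ℕ → PowerSeries k := fun i => zs u U a z i * P p n i with hf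
  refine ⟨∑ i ∈ range p, f i, ?_⟩
  rw [map_sum]
  have h1 : ∀ i ∈ range p, sg u U (a - ((n * (p - 1) : ℕ) : ℤ)) (f i) =
      f (i + 1) - z * P p n (i + 1) := by
    intro i _
    rw [hf]
    simp only
    rw [sg_zs_mul_P p n u hun U hU]
    ring
  rw [Finset.sum_congr rfl h1, Finset.sum_sub_distrib, ← Finset.mul_sum, sum_P_succ]
  have h2 := Finset.sum_range_succ f p
  have h3 := Finset.sum_range_succ' f p
  rw [h2] at h3
  have hfp : f p = 0 := by
    rw [hf]
    simp only
    rw [zs_p, hz, zero_mul]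
  have hf0 : f 0 = 0 := by
    rw [hf]
    simp only
    rw [zs_zero, zero_mul]
  rw [hfp, hf0, add_zero, add_zero] at h3
  rw [← h3]
  ring

end h90

section descent

variable (p n : ℕ) [Fact p.Prime] [CharP k p] (hn : 0 < n) (hnk : (n : k) ≠ 0)
  (u : PowerSeries k) (hu1 : constantCoeff u = 1) (hun : u ^ n * (1 + X ^ n) = 1)
  (U : (PowerSeries k)ˣ) (hU : (U : PowerSeries k) = u) (a : ℤ)
  (c : ℕ → PowerSeries k)
  (hc : ∀ m : ℕ, 1 ≤ m → m ≤ n →
    X ^ m * c m = ((U ^ (a - m) : (PowerSeries k)ˣ) : PowerSeries k) - 1)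

/-- the index set of the basis -/
def F (p n : ℕ) (a : ℤ) : Finset ℕ :=
  (Finset.Icc 1 n).filter (fun m : ℕ => ¬ (p : ℤ) ∣ a - (m : ℤ))

/-- the target submodule `span {c_m} + range (σ_a - 1)` -/
noncomputable def M : Submodule k (PowerSeries k) :=
  Submodule.span k (c '' (F p n a : Set ℕ)) ⊔ LinearMap.range (sg u U a - LinearMap.id)

theorem sub_mem_M (h : PowerSeries k) : sg u U a h - h ∈ M p n u U a c :=
  Submodule.mem_sup_right ⟨h, rfl⟩

theorem c_mem_M (m : ℕ) (hm : m ∈ F p n a) : c m ∈ M p n u U a c :=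
  Submodule.mem_sup_left (Submodule.subset_span ⟨m, hm, rfl⟩)

include hn hnk hu1 hun hU in
/-- the invariant unit `V` -/
theorem exists_V [IsAlgClosed k] : ∃ V : (PowerSeries k)ˣ, U ^ p * tauU u V = V ∧
    ∃ gv : PowerSeries k, (V : PowerSeries k) = 1 + X ^ (n * (p - 1)) * gv := by
  have hp : p.Prime := Fact.out
  obtain ⟨ζ, hζ⟩ := IsAlgClosed.exists_pow_nat_eq (-1 : k) hn
  have hq : 0 < p - 1 := by have := hp.two_le; omega
  obtain ⟨v, hv1, hvn⟩ := Groth.Agent.Lib.Helper99.PSRoot.exists_root_v n (p - 1) hq u hu1 hun ζ hζ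
  have hkey := Groth.Agent.Lib.Helper99.PSRoot.key_identity p n hn hnk u v hu1 hun hv1 hvn
  have hvu : IsUnit v := by
    rw [PowerSeries.isUnit_iff_constantCoeff, hv1]; exact isUnit_one
  obtain ⟨gv, hgv⟩ := Groth.Agent.Lib.Helper99.PSRoot.X_pow_dvd_sub_one n (n * (p - 1)) hnk v
    (-(X : PowerSeries k) ^ (n * (p - 1))) hv1 (by rw [← sub_eq_add_neg]; exact hvn)
    (Dvd.intro (-1) (by ring))
  refine ⟨hvu.unit, ?_, gv, ?_⟩
  · apply Units.ext
    rw [Units.val_mul, Units.val_pow_eq_pow_val, tauU_val, hU, hvu.unit_spec, tau_apply]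
    exact hkey
  · rw [hvu.unit_spec, ← hgv]; ring

include hU in
theorem sg_invariant (V : (PowerSeries k)ˣ) (hV : U ^ p * tauU u V = V) (N m : ℕ) (hmN : m ≤ N)
    (e : ℤ) (he : a - m = p * e) :
    sg u U (a - N) (X ^ (N - m) * ((V ^ e : (PowerSeries k)ˣ) : PowerSeries k)) =
      X ^ (N - m) * ((V ^ e : (PowerSeries k)ˣ) : PowerSeries k) := by
  have hτV' : tauU u V = (U ^ p)⁻¹ * V := eq_inv_mul_of_mul_eq hV
  have key : U ^ (a - (N : ℤ)) * U ^ ((N - m : ℕ) : ℤ) * ((U ^ p)⁻¹ * V) ^ e = V ^ e := by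
    rw [mul_zpow, inv_zpow, ← zpow_natCast U p, ← zpow_mul, ← zpow_neg, ← mul_assoc, ← zpow_add,
      ← zpow_add]
    have h0 : a - (N : ℤ) + ((N - m : ℕ) : ℤ) + -((p : ℤ) * e) = 0 := by
      rw [Nat.cast_sub hmN]
      linarith [he]
    rw [h0, zpow_zero, one_mul]
  have h1 : tau u ((V ^ e : (PowerSeries k)ˣ) : PowerSeries k) =
      ((((U ^ p)⁻¹ * V) ^ e : (PowerSeries k)ˣ) : PowerSeries k) := by
    rw [← tauU_val, map_zpow, hτV']
  calc sg u U (a - N) (X ^ (N - m) * ((V ^ e : (PowerSeries k)ˣ) : PowerSeries k))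
      = ((U ^ (a - (N : ℤ)) : (PowerSeries k)ˣ) : PowerSeries k) *
          ((X * u) ^ (N - m) * tau u ((V ^ e : (PowerSeries k)ˣ) : PowerSeries k)) := by
        rw [sg_apply, map_mul, map_pow, tau_X]
    _ = X ^ (N - m) * (((U ^ (a - (N : ℤ)) : (PowerSeries k)ˣ) : PowerSeries k) *
          ((U ^ ((N - m : ℕ) : ℤ) : (PowerSeries k)ˣ) : PowerSeries k) *
          ((((U ^ p)⁻¹ * V) ^ e : (PowerSeries k)ˣ) : PowerSeries k)) := by
        rw [h1, zpow_natCast, Units.val_pow_eq_pow_val, hU]
        ring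
    _ = X ^ (N - m) * ((V ^ e : (PowerSeries k)ˣ) : PowerSeries k) := by
        rw [← Units.val_mul, ← Units.val_mul, key]

include hn hnk hu1 hun hU hc in
/-- pole descent -/
theorem descent (V : (PowerSeries k)ˣ) (hV : U ^ p * tauU u V = V) (gv : PowerSeries k) (N : ℕ)
    (hN : N = n * (p - 1)) (hVg : (V : PowerSeries k) = 1 + X ^ N * gv) (d : ℕ) :
    d ≤ N → ∀ W' : PowerSeries k,
      X ^ N ∣ sg u U (a - N) (X ^ (N - d) * W') - X ^ (N - d) * W' →
      ∃ y ∈ M p n u U a c, sg u U (a - N) (X ^ (N - d) * W') - X ^ (N - d) * W' = X ^ N * y := by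
  have hp : p.Prime := Fact.out
  have hNpos : 0 < N := by
    rw [hN]
    have := hp.two_le
    exact Nat.mul_pos hn (by omega)
  induction d with
  | zero =>
    intro _ W' _
    refine ⟨sg u U a W' - W', sub_mem_M p n u U a c W', ?_⟩
    rw [Nat.sub_zero, mul_sub, X_pow_mul_sg u U hU N a W']
  | succ d ih =>
    intro hd W' hdiv
    have hd' : d ≤ N := by omega
    obtain ⟨m, hm⟩ : ∃ m, m = d + 1 := ⟨_, rfl⟩
    obtain ⟨j, hj⟩ : ∃ j, j = N - (d + 1) := ⟨_, rfl⟩
    have hjm : j + m = N := by omega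
    have hj1 : N - d = j + 1 := by omega
    have hm1 : 1 ≤ m := by omega
    have hmN : m ≤ N := by omega
    have hjNm : j = N - m := by omega
    rw [← hj] at hdiv ⊢
    obtain ⟨w₀, hw₀⟩ : ∃ w₀, w₀ = constantCoeff W' := ⟨_, rfl⟩
    obtain ⟨W'', hW''⟩ : ∃ W'' : PowerSeries k, W'' = PowerSeries.mk fun i => coeff (i + 1) W' :=
      ⟨_, rfl⟩
    have hW' : W' = X * W'' + C w₀ := by
      rw [hW'', hw₀]
      exact eq_X_mul_shift_add_const W'
    have e1 : a - (m : ℤ) - (j : ℤ) = a - (N : ℤ) := by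
      rw [← hjm]; push_cast; ring
    -- reduction step
    have reduce : ∀ E W3 : PowerSeries k, sg u U (a - N) E = E →
        X ^ j * W' = E + X ^ (j + 1) * W3 →
        ∃ y ∈ M p n u U a c, sg u U (a - N) (X ^ j * W') - X ^ j * W' = X ^ N * y := by
      intro E W3 hE hdec
      have h1 : sg u U (a - N) (X ^ j * W') - X ^ j * W' =
          sg u U (a - N) (X ^ (j + 1) * W3) - X ^ (j + 1) * W3 := by
        rw [hdec, map_add, hE]; ring
      rw [h1, ← hj1]
      apply ih hd' W3
      rw [hj1, ← h1]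
      exact hdiv
    by_cases hp_dvd : (p : ℤ) ∣ a - (m : ℤ)
    · -- an invariant absorbs the coefficient
      obtain ⟨e, he⟩ := hp_dvd
      obtain ⟨ge, hge, -⟩ := Groth.Agent.Lib.Helper99.PSRoot.zpow_eq_one_add N hNpos V gv hVg e
      apply reduce (w₀ • (X ^ j * ((V ^ e : (PowerSeries k)ˣ) : PowerSeries k)))
        (W'' - w₀ • (X ^ (N - 1) * ge))
      · rw [map_smul, hjNm, sg_invariant p u U hU a V hV N m hmN e he]
      · rw [hge]
        conv_lhs => rw [hW']
        have hXN : (X : PowerSeries k) ^ N = X * X ^ (N - 1) := by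
          rw [← pow_succ', Nat.sub_add_cancel hNpos]
        rw [hXN, pow_succ, smul_eq_C_mul, smul_eq_C_mul]
        ring
    · by_cases hmn : m ≤ n
      · -- the basis element `c m`
        have hmF : m ∈ F p n a := by
          unfold F
          rw [Finset.mem_filter, Finset.mem_Icc]
          exact ⟨⟨hm1, hmn⟩, hp_dvd⟩
        have hDl : sg u U (a - N) (X ^ j) - X ^ j = X ^ N * c m := by
          have h1 := X_pow_mul_sg u U hU j (a - (m : ℤ)) 1
          rw [mul_one, e1] at h1
          rw [← h1, sg_apply, map_one, mul_one, ← hjm, pow_add, mul_assoc, hc m hm1 hmn]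
          ring
        have hsplit : X ^ j * W' = w₀ • X ^ j + X ^ (j + 1) * W'' := by
          conv_lhs => rw [hW']
          rw [pow_succ, smul_eq_C_mul]
          ring
        have h2 : sg u U (a - N) (X ^ j * W') - X ^ j * W' =
            w₀ • (X ^ N * c m) +
              (sg u U (a - N) (X ^ (j + 1) * W'') - X ^ (j + 1) * W'') := by
          rw [hsplit, map_add, map_smul, ← hDl, smul_sub]
          ring
        have hdiv' : X ^ N ∣ sg u U (a - N) (X ^ (j + 1) * W'') - X ^ (j + 1) * W'' := by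
          have h3 : sg u U (a - N) (X ^ (j + 1) * W'') - X ^ (j + 1) * W'' =
              (sg u U (a - N) (X ^ j * W') - X ^ j * W') - w₀ • (X ^ N * c m) := by
            rw [h2]; ring
          rw [h3]
          apply dvd_sub hdiv
          rw [smul_eq_C_mul]
          exact Dvd.intro (C w₀ * c m) (by ring)
        rw [← hj1] at hdiv'
        obtain ⟨y', hy', hy'eq⟩ := ih hd' W'' hdiv'
        rw [hj1] at hy'eq
        refine ⟨w₀ • c m + y', Submodule.add_mem _ (Submodule.smul_mem _ _
          (c_mem_M p n u U a c m hmF)) hy', ?_⟩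
        rw [h2, hy'eq, mul_add, mul_smul_comm]
      · -- the coefficient vanishes
        have hkey : sg u U (a - N) (X ^ j * W') - X ^ j * W' =
            X ^ j * (sg u U (a - (m : ℤ)) W' - W') := by
          rw [mul_sub, X_pow_mul_sg u U hU j (a - (m : ℤ)) W', e1]
        have hdvd2 : X ^ m ∣ sg u U (a - (m : ℤ)) W' - W' := by
          rw [hkey, ← hjm, pow_add] at hdiv
          exact (mul_dvd_mul_iff_left (pow_ne_zero j X_ne_zero)).mp hdiv
        have hcoeff := (X_pow_dvd_iff.mp hdvd2) n (by omega)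
        obtain ⟨g, hg, hg0⟩ := Groth.Agent.Lib.Helper99.PSRoot.exists_eq_one_add n hn hnk u hu1 hun
        have hg0ne : constantCoeff g ≠ 0 := by
          intro h0
          rw [h0, zero_mul] at hg0
          exact one_ne_zero (neg_eq_zero.mp hg0.symm)
        obtain ⟨gi, hgi, hgi0⟩ := Groth.Agent.Lib.Helper99.PSRoot.zpow_eq_one_add n hn U g
          (by rw [hU]; exact hg) (a - (m : ℤ))
        have hexp : sg u U (a - (m : ℤ)) W' - W' = (tau u W' - W') + X ^ n * (gi * tau u W') := by
          rw [sg_apply, hgi]; ring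
        rw [hexp, map_add, map_sub] at hcoeff
        have hc1 : coeff n (tau u W') = coeff n W' := by
          rw [tau_apply]
          exact Groth.Agent.Lib.Helper99.PSRoot.coeff_subst_of_le n hn hnk u hu1 hun W' n le_rfl
        have hc2 : coeff n (X ^ n * (gi * tau u W')) = constantCoeff gi * w₀ := by
          have h5 := coeff_X_pow_mul (gi * tau u W') n 0
          rw [zero_add] at h5
          rw [h5, coeff_zero_eq_constantCoeff_apply, map_mul,
            Groth.Agent.Lib.Helper99.constantCoeff_algHom, hw₀]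
        rw [hc1, sub_self, zero_add, hc2, hgi0] at hcoeff
        have hane : ((a - (m : ℤ) : ℤ) : k) ≠ 0 := by
          intro h0
          exact hp_dvd ((CharP.intCast_eq_zero_iff k p _).mp h0)
        have hw0 : w₀ = 0 := by
          rcases mul_eq_zero.mp hcoeff with h6 | h6
          · rcases mul_eq_zero.mp h6 with h7 | h7
            · exact absurd h7 hane
            · exact absurd h7 hg0ne
          · exact h6
        apply reduce 0 W'' (map_zero _)
        rw [zero_add, hW', hw0, map_zero, add_zero, pow_succ]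
        ring

include hn hnk hu1 hun hU hc in
/-- **Spanning**: the kernel of the norm lies in `span {c_m} + range (σ_a - 1)`. -/
theorem mem_M_of_Nm_eq_zero [IsAlgClosed k] (z : PowerSeries k) (hz : Nm u U p a z = 0) :
    z ∈ M p n u U a c := by
  obtain ⟨V, hV, gv, hVg⟩ := exists_V p n hn hnk u hu1 hun U hU
  obtain ⟨W, hW⟩ := h90 p n u hun U hU a z hz
  have hdiv : X ^ (n * (p - 1)) ∣ sg u U (a - ((n * (p - 1) : ℕ) : ℤ))
      (X ^ (n * (p - 1) - n * (p - 1)) * W) - X ^ (n * (p - 1) - n * (p - 1)) * W := by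
    rw [Nat.sub_self, pow_zero, one_mul, hW]
    exact Dvd.intro _ rfl
  obtain ⟨y, hy, hyW⟩ := descent p n hn hnk u hu1 hun U hU a c hc V hV gv (n * (p - 1)) rfl hVg
    (n * (p - 1)) le_rfl W hdiv
  rw [Nat.sub_self, pow_zero, one_mul, hW] at hyW
  have hzy : z = y := mul_left_cancel₀ (pow_ne_zero _ X_ne_zero) hyW
  rw [hzy]
  exact hy

include hn hnk hu1 hun hU hc in
/-- **Spanning**, existential form. -/
theorem span_result [IsAlgClosed k] (z : PowerSeries k) (hz : Nm u U p a z = 0) :
    ∃ (coef : ↥(F p n a) → k) (h : PowerSeries k),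
      z = ∑ i, coef i • c i + (sg u U a h - h) := by
  have hmem := mem_M_of_Nm_eq_zero p n hn hnk u hu1 hun U hU a c hc z hz
  unfold M at hmem
  obtain ⟨y, hy, w, ⟨h, hw⟩, hyw⟩ := Submodule.mem_sup.mp hmem
  obtain ⟨coef, hcoef⟩ := (Submodule.mem_span_image_finset_iff_exists_fun k).mp hy
  refine ⟨coef, h, ?_⟩
  rw [← hyw, ← hw, hcoef]
  rfl

end descent

end Groth.Agent.FunFld.ASH1
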