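import Mathlib
import Groth.Agent.FunFld.ASH1

/-!
# Counting lemmas for the `H¹` computations of `ASH1` (helper56)
-/

set_option autoImplicit false

namespace Groth.Agent.FunFld.ASH1

theorem sub_one_ediv (p : ℤ) (hp : 0 < p) (x : ℤ) :
    (x - 1) / p = x / p - (if p ∣ x then 1 else 0) := by
  by_cases h : p ∣ x
  · rw [if_pos h]
    obtain ⟨q, rfl⟩ := h
    rw [Int.mul_ediv_cancel_left q hp.ne']
    have := (Int.ediv_emod_unique hp (a := p * q - 1) (q := q - 1) (r := p - 1)).mpr
      ⟨by ring, by omega, by omega⟩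
    exact this.1
  · rw [if_neg h, sub_zero]
    have h1 : x % p ≠ 0 := fun h0 => h (Int.dvd_of_emod_eq_zero h0)
    have h2 : 0 ≤ x % p := Int.emod_nonneg x hp.ne'
    have h3 : x % p < p := Int.emod_lt_of_pos x hp
    have h4 : x % p + p * (x / p) = x := Int.emod_add_mul_ediv x p
    have := (Int.ediv_emod_unique hp (a := x - 1) (q := x / p) (r := x % p - 1)).mpr
      ⟨by linarith, by omega, by omega⟩
    exact this.1

theorem card_F (p : ℕ) (hp : 0 < p) (n : ℕ) (a : ℤ) :
    ((F p n a).card : ℤ) = n - (a - 1) / (p : ℤ) + (a - 1 - n) / (p : ℤ) := by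
  induction n with
  | zero => simp [F]
  | succ n ih =>
    have hIcc : Finset.Icc 1 (n + 1) = insert (n + 1) (Finset.Icc 1 n) := by
      ext x
      simp only [Finset.mem_Icc, Finset.mem_insert]
      omega
    have hnot : n + 1 ∉ (Finset.Icc 1 n).filter (fun m : ℕ => ¬ (p : ℤ) ∣ a - (m : ℤ)) := by
      rw [Finset.mem_filter, Finset.mem_Icc]
      omega
    have hfloor := sub_one_ediv (p : ℤ) (by exact_mod_cast hp) (a - 1 - n)
    have hx : a - 1 - ((n + 1 : ℕ) : ℤ) = a - 1 - n - 1 := by push_cast; ring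
    rw [hx, hfloor]
    unfold F at ih ⊢
    rw [hIcc, Finset.filter_insert]
    by_cases hd : (p : ℤ) ∣ a - ((n + 1 : ℕ) : ℤ)
    · have hd' : (p : ℤ) ∣ a - 1 - n := by
        have : a - 1 - (n : ℤ) = a - ((n + 1 : ℕ) : ℤ) := by push_cast; ring
        rw [this]; exact hd
      rw [if_neg (not_not.mpr hd), if_pos hd', ih]
      push_cast
      ring
    · have hd' : ¬ (p : ℤ) ∣ a - 1 - n := by
        have : a - 1 - (n : ℤ) = a - ((n + 1 : ℕ) : ℤ) := by push_cast; ring
        rw [this]; exact hd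
      rw [if_pos hd, if_neg hd', Finset.card_insert_of_notMem hnot]
      push_cast
      rw [ih]
      ring

end Groth.Agent.FunFld.ASH1
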