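import Mathlib
import Groth.Agent.FunFld.ASH1

/-!
# The derivative and the twisted actions of `ASH1` (helper56)

`X u' = u^(n+1) - u`, and for `c` with `X^m c = u^(-m) - 1`:
`X^(m+1) c' = - m (u^(n-m) - 1)`.
-/

set_option autoImplicit false

namespace Groth.Agent.FunFld.ASH1

open PowerSeries

variable {k : Type*} [Field k]

theorem mul_derivative_pow (a : PowerSeries k) (m : ℕ) :
    a * derivative k (a ^ m) = (m : PowerSeries k) * (a ^ m * derivative k a) := by
  rw [derivative_pow]
  cases m with
  | zero => simp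
  | succ m =>
    rw [Nat.add_sub_cancel, pow_succ]
    ring

theorem natCast_ne_zero (n : ℕ) (hnk : (n : k) ≠ 0) : (n : PowerSeries k) ≠ 0 := by
  intro h0
  apply hnk
  have := congrArg constantCoeff h0
  rw [map_natCast, map_zero] at this
  exact this

/-- `X u' = u^(n+1) - u` -/
theorem X_mul_derivative_u (n : ℕ) (hnk : (n : k) ≠ 0) (u : PowerSeries k)
    (hun : u ^ n * (1 + X ^ n) = 1) :
    X * derivative k u = u ^ (n + 1) - u := by
  have h0 : derivative k (u ^ n * (1 + X ^ n)) = 0 := by
    rw [hun]; exact Derivation.map_one_eq_zero _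
  rw [Derivation.leibniz, map_add, Derivation.map_one_eq_zero, zero_add, smul_eq_mul,
    smul_eq_mul] at h0
  have h1 := mul_derivative_pow (X : PowerSeries k) n
  rw [derivative_X, mul_one] at h1
  have h2 := mul_derivative_pow u n
  have hN : (n : PowerSeries k) * (u ^ (n + 1) * X ^ n + X * derivative k u) = 0 := by
    linear_combination (X * u) * h0 - u ^ (n + 1) * h1 - X * (1 + X ^ n) * h2 -
      (n : PowerSeries k) * X * derivative k u * hun
  have hS : u ^ (n + 1) * X ^ n + X * derivative k u = 0 :=
    (mul_eq_zero.mp hN).resolve_left (natCast_ne_zero n hnk)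
  linear_combination hS - u * hun

/-- the derivative of the cocycle representative `c` with `X^m c = u^(-m) - 1` -/
theorem X_pow_mul_derivative_c (n : ℕ) (hnk : (n : k) ≠ 0) (u : PowerSeries k)
    (hu1 : constantCoeff u = 1) (hun : u ^ n * (1 + X ^ n) = 1)
    (U : (PowerSeries k)ˣ) (hU : (U : PowerSeries k) = u) (m : ℕ) (hmn : m ≤ n)
    (c : PowerSeries k)
    (hc : X ^ m * c = ((U ^ ((0 : ℤ) - m) : (PowerSeries k)ˣ) : PowerSeries k) - 1) :
    X ^ (m + 1) * derivative k c = -((m : PowerSeries k) * (u ^ (n - m) - 1)) := by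
  obtain ⟨w, hw⟩ : ∃ w : PowerSeries k, w = ((U ^ ((0 : ℤ) - m) : (PowerSeries k)ˣ) : PowerSeries k) :=
    ⟨_, rfl⟩
  rw [← hw] at hc
  have r1 : w * u ^ m = 1 := by
    rw [hw, zpow_mul_pow u U hU 0 m, zpow_zero, Units.val_one]
  have r4 : w * derivative k (u ^ m) + u ^ m * derivative k w = 0 := by
    have h := congrArg (derivative k) r1
    rw [Derivation.leibniz, Derivation.map_one_eq_zero, smul_eq_mul, smul_eq_mul] at h
    exact h
  have r5 := mul_derivative_pow u m
  have rXu := X_mul_derivative_u n hnk u hun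
  have r6 : X ^ m * derivative k c + c * derivative k (X ^ m) = derivative k w := by
    have h := congrArg (derivative k) hc
    rw [Derivation.leibniz, map_sub, Derivation.map_one_eq_zero, sub_zero, smul_eq_mul,
      smul_eq_mul] at h
    exact h
  have r7 := mul_derivative_pow (X : PowerSeries k) m
  rw [derivative_X, mul_one] at r7
  have hG : u ^ (m + 1) * (X ^ (m + 1) * derivative k c) =
      -((m : PowerSeries k) * (u ^ (n + 1) - u ^ (m + 1))) := by
    linear_combination (u ^ (m + 1) * X) * r6 + (u * X) * r4 - (X * w) * r5 -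
      ((m : PowerSeries k) * X * derivative k u) * r1 - (m : PowerSeries k) * rXu -
      (u ^ (m + 1) * c) * r7 - ((m : PowerSeries k) * u ^ (m + 1)) * hc -
      ((m : PowerSeries k) * u) * r1
  have hune : u ^ (m + 1) ≠ 0 := by
    apply pow_ne_zero
    intro h0
    rw [h0, map_zero] at hu1
    exact zero_ne_one hu1
  apply mul_left_cancel₀ hune
  rw [hG]
  have hpow : u ^ (n + 1) = u ^ (m + 1) * u ^ (n - m) := by
    rw [← pow_add]
    congr 1
    omega
  rw [hpow]
  ring

end Groth.Agent.FunFld.ASH1
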