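import Mathlib
import Groth.Agent.FunFld.ASH1
import Groth.Agent.FunFld.ASCount
import Groth.Agent.FunFld.ASH1Deriv
import Groth.Agent.S13863
import Groth.Agent.S13864

/-!
# The image of `d/dX` on `H¹` for the twisted actions of `ASH1` (helper56)
-/

set_option autoImplicit false
set_option linter.unusedSectionVars false

namespace Groth.Agent.FunFld.ASH1

open PowerSeries

theorem mem_F (p n : ℕ) (a : ℤ) (m : ℕ) :
    m ∈ F p n a ↔ (1 ≤ m ∧ m ≤ n) ∧ ¬ (p : ℤ) ∣ a - (m : ℤ) := by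
  unfold F
  rw [Finset.mem_filter, Finset.mem_Icc]

/-- index set for the image of the derivative on `H¹` -/
def J (p n : ℕ) : Finset ℕ := F p n ((n : ℤ) + 1) ∩ F p n 1

theorem mem_J (p n : ℕ) (j : ℕ) :
    j ∈ J p n ↔ (1 ≤ j ∧ j ≤ n) ∧ ¬ (p : ℤ) ∣ (n : ℤ) + 1 - (j : ℤ) ∧ ¬ (p : ℤ) ∣ 1 - (j : ℤ) := by
  unfold J
  rw [Finset.mem_inter, mem_F, mem_F]
  tauto

theorem card_J (p n : ℕ) (hp : p.Prime) (hpn : ¬ p ∣ n) :
    ((J p n).card : ℤ) = ((n + 1) * (p - 1) : ℤ) / p - 1 - (n - 1 : ℤ) / p := by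
  have hpn' : ¬ (p : ℤ) ∣ (n : ℤ) := fun h => hpn (Int.natCast_dvd_natCast.mp h)
  have hp0 : (0 : ℤ) < p := by exact_mod_cast hp.pos
  have hunion : F p n ((n : ℤ) + 1) ∪ F p n 1 = Finset.Icc 1 n := by
    ext j
    rw [Finset.mem_union, mem_F, mem_F, Finset.mem_Icc]
    constructor
    · rintro (h | h) <;> exact h.1
    · intro h
      by_cases h1 : (p : ℤ) ∣ (n : ℤ) + 1 - (j : ℤ)
      · right
        refine ⟨h, fun h2 => hpn' ?_⟩
        have h3 := dvd_sub h1 h2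
        have h4 : (n : ℤ) + 1 - (j : ℤ) - (1 - (j : ℤ)) = n := by ring
        rw [h4] at h3
        exact h3
      · left
        exact ⟨h, h1⟩
  have hcard := Finset.card_union_add_card_inter (F p n ((n : ℤ) + 1)) (F p n 1)
  rw [hunion, Nat.card_Icc] at hcard
  have h1 := card_F p hp.pos n ((n : ℤ) + 1)
  have h2 := card_F p hp.pos n 1
  have e1 : (n : ℤ) + 1 - 1 = n := by ring
  have e2 : (n : ℤ) + 1 - 1 - n = 0 := by ring
  have e3 : (1 : ℤ) - 1 = 0 := by ring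
  have e4 : (1 : ℤ) - 1 - n = -n := by ring
  rw [e1, sub_self, Int.zero_ediv, add_zero] at h1
  rw [e3, zero_sub, Int.zero_ediv, sub_zero] at h2
  have hJ : ((J p n).card : ℤ) = n - (n : ℤ) / p + (-(n : ℤ)) / p := by
    unfold J
    have : ((n + 1 - 1 + (F p n ((n : ℤ) + 1) ∩ F p n 1).card : ℕ) : ℤ) =
        (((F p n ((n : ℤ) + 1)).card + (F p n 1).card : ℕ) : ℤ) := by rw [hcard]
    push_cast at this
    linarith
  rw [hJ]
  have h5 : ((n : ℤ) + 1) * ((p : ℤ) - 1) = (-(n : ℤ) - 1) + ((n : ℤ) + 1) * p := by ring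
  have h6 := sub_one_ediv (p : ℤ) hp0 (-(n : ℤ))
  rw [if_neg (fun h => hpn' ((dvd_neg).mp h)), sub_zero] at h6
  have h7 := sub_one_ediv (p : ℤ) hp0 (n : ℤ)
  rw [if_neg hpn', sub_zero] at h7
  rw [h5, Int.add_mul_ediv_right _ _ hp0.ne', h6, h7]
  ring

section range

variable {k : Type*} [Field k] [IsAlgClosed k]
  (p n : ℕ) [Fact p.Prime] [CharP k p] (hn : 0 < n) (hpn : ¬ p ∣ n)
  (u : PowerSeries k) (hu1 : constantCoeff u = 1) (hun : u ^ n * (1 + X ^ n) = 1)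
  (hu : IsUnit u)
  (c₀ c₁ : ℕ → PowerSeries k)
  (hc₀ : ∀ m : ℕ, 1 ≤ m → m ≤ n →
    X ^ m * c₀ m = ((hu.unit ^ ((0 : ℤ) - m) : (PowerSeries k)ˣ) : PowerSeries k) - 1)
  (hc₁ : ∀ m : ℕ, 1 ≤ m → m ≤ n →
    X ^ m * c₁ m = ((hu.unit ^ ((n : ℤ) + 1 - m) : (PowerSeries k)ˣ) : PowerSeries k) - 1)

include hpn in
theorem hnk_of : (n : k) ≠ 0 := by
  intro h0
  exact hpn ((CharP.cast_eq_zero_iff k p n).mp h0)

include hn hpn hu1 hun hc₀ hc₁ in
/-- `(c₀ m)' = - m • c₁ (m + 1)` for `1 ≤ m < n` -/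
theorem derivative_c₀ (m : ℕ) (hm1 : 1 ≤ m) (hmn : m < n) :
    derivative k (c₀ m) = (-(m : k)) • c₁ (m + 1) := by
  have hnk := hnk_of (k := k) p n hpn
  have hd := X_pow_mul_derivative_c n hnk u hu1 hun hu.unit hu.unit_spec m hmn.le (c₀ m)
    (hc₀ m hm1 hmn.le)
  have h1 := hc₁ (m + 1) (by omega) (by omega)
  have hexp : (n : ℤ) + 1 - ((m + 1 : ℕ) : ℤ) = ((n - m : ℕ) : ℤ) := by
    rw [Nat.cast_sub hmn.le]; push_cast; ring
  rw [hexp, zpow_natCast, Units.val_pow_eq_pow_val, hu.unit_spec] at h1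
  rw [← h1] at hd
  have hXne : (X : PowerSeries k) ^ (m + 1) ≠ 0 := pow_ne_zero _ X_ne_zero
  apply mul_left_cancel₀ hXne
  rw [hd, smul_eq_C_mul, map_neg, map_natCast]
  ring

include hn hpn hu1 hun hc₀ in
/-- `(c₀ n)' = 0` -/
theorem derivative_c₀_top : derivative k (c₀ n) = 0 := by
  have hnk := hnk_of (k := k) p n hpn
  have hd := X_pow_mul_derivative_c n hnk u hu1 hun hu.unit hu.unit_spec n le_rfl (c₀ n)
    (hc₀ n hn le_rfl)
  rw [Nat.sub_self, pow_zero, sub_self, mul_zero, neg_zero] at hd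
  have hXne : (X : PowerSeries k) ^ (n + 1) ≠ 0 := pow_ne_zero _ X_ne_zero
  exact (mul_eq_zero.mp hd).resolve_left hXne

/-- target submodule for the image -/
noncomputable def M' : Submodule k (PowerSeries k) :=
  Submodule.span k (c₁ '' (J p n : Set ℕ)) ⊔
    LinearMap.range (sg u hu.unit ((n : ℤ) + 1) - LinearMap.id)

include hn hpn hu1 hun hc₁ in
theorem c₁_mem_M' (j : ℕ) (hj1 : 1 ≤ j) (hjn : j ≤ n) (hj : ¬ (p : ℤ) ∣ 1 - (j : ℤ)) :
    c₁ j ∈ M' p n u hu c₁ := by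
  by_cases hd1 : (p : ℤ) ∣ (n : ℤ) + 1 - (j : ℤ)
  · obtain ⟨h, hh⟩ := Groth.Agent.S13863.result p n hn hpn u hu1 hun hu ((n : ℤ) + 1) j hj1 hjn hd1
      (c₁ j) (hc₁ j hj1 hjn)
    apply Submodule.mem_sup_right
    refine ⟨h, ?_⟩
    rw [← hh, LinearMap.sub_apply, LinearMap.id_apply, sg_apply, tau_apply]
  · apply Submodule.mem_sup_left
    apply Submodule.subset_span
    exact ⟨j, (mem_J p n j).mpr ⟨⟨hj1, hjn⟩, hd1, hj⟩, rfl⟩

include hn hpn hu1 hun hc₀ hc₁ in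
theorem derivative_c₀_mem (m : ℕ) (hm : m ∈ F p n 0) :
    derivative k (c₀ m) ∈ M' p n u hu c₁ := by
  obtain ⟨⟨hm1, hmn⟩, hmp⟩ := (mem_F p n 0 m).mp hm
  by_cases hmn' : m = n
  · rw [hmn', derivative_c₀_top p n hn hpn u hu1 hun hu c₀ hc₀]
    exact Submodule.zero_mem _
  · have hlt : m < n := lt_of_le_of_ne hmn hmn'
    rw [derivative_c₀ p n hn hpn u hu1 hun hu c₀ c₁ hc₀ hc₁ m hm1 hlt]
    apply Submodule.smul_mem
    apply c₁_mem_M' p n hn hpn u hu1 hun hu c₁ hc₁ (m + 1) (by omega) (by omega)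
    have : (1 : ℤ) - ((m + 1 : ℕ) : ℤ) = 0 - (m : ℤ) := by push_cast; ring
    rw [this]
    exact hmp

include hn hpn hu1 hun hc₀ hc₁ in
/-- the derivative maps `ker N₀` into `span {c₁ j : j ∈ J} + range (σ₁ - 1)` -/
theorem deriv_span
    (hequiv : ∀ h : PowerSeries k, derivative k (sg u hu.unit 0 h) =
      sg u hu.unit ((n : ℤ) + 1) (derivative k h))
    (z : PowerSeries k) (hz : Nm u hu.unit p 0 z = 0) :
    ∃ (coef : ↥(J p n) → k) (h : PowerSeries k),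
      derivative k z = ∑ i, coef i • c₁ i + (sg u hu.unit ((n : ℤ) + 1) h - h) := by
  have hnk := hnk_of (k := k) p n hpn
  obtain ⟨coef₀, h₀, hz₀⟩ := span_result p n hn hnk u hu1 hun hu.unit hu.unit_spec 0 c₀ hc₀ z hz
  have hmem : derivative k z ∈ M' p n u hu c₁ := by
    rw [hz₀, map_add, map_sum, map_sub, hequiv]
    apply Submodule.add_mem
    · apply Submodule.sum_mem
      intro i _
      rw [Derivation.map_smul]
      apply Submodule.smul_mem
      exact derivative_c₀_mem p n hn hpn u hu1 hun hu c₀ c₁ hc₀ hc₁ i i.2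
    · exact Submodule.mem_sup_right ⟨derivative k h₀, rfl⟩
  unfold M' at hmem
  obtain ⟨y, hy, w, ⟨h, hw⟩, hyw⟩ := Submodule.mem_sup.mp hmem
  obtain ⟨coef, hcoef⟩ := (Submodule.mem_span_image_finset_iff_exists_fun k).mp hy
  refine ⟨coef, h, ?_⟩
  rw [← hyw, ← hw, hcoef]
  rfl

include hn hpn hu1 hun hc₀ hc₁ in
/-- every `c₁ j`, `j ∈ J`, is the derivative of an element of `ker N₀` -/
theorem deriv_hit (j : ℕ) (hj : j ∈ J p n) :
    ∃ z : PowerSeries k, Nm u hu.unit p 0 z = 0 ∧ derivative k z = c₁ j := by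
  have hnk := hnk_of (k := k) p n hpn
  obtain ⟨⟨hj1, hjn⟩, -, hj2⟩ := (mem_J p n j).mp hj
  have hj2' : 2 ≤ j := by
    by_contra hlt
    have : j = 1 := by omega
    rw [this] at hj2
    exact hj2 (by simp)
  obtain ⟨m, rfl⟩ : ∃ m, j = m + 1 := ⟨j - 1, by omega⟩
  have hm1 : 1 ≤ m := by omega
  have hmn : m < n := by omega
  have hmk : (m : k) ≠ 0 := by
    intro h0
    have h1 := (CharP.cast_eq_zero_iff k p m).mp h0
    apply hj2
    have : (1 : ℤ) - ((m + 1 : ℕ) : ℤ) = -(m : ℤ) := by push_cast; ring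
    rw [this]
    exact (dvd_neg).mpr (Int.natCast_dvd_natCast.mpr h1)
  refine ⟨(-(m : k))⁻¹ • c₀ m, ?_, ?_⟩
  · rw [LinearMap.map_smul, Nm_eq_zero_of p n hnk u hu1 hun hu.unit hu.unit_spec 0 m (c₀ m)
      (hc₀ m hm1 hmn.le), smul_zero]
  · rw [Derivation.map_smul, derivative_c₀ p n hn hpn u hu1 hun hu c₀ c₁ hc₀ hc₁ m hm1 hmn, smul_smul,
      inv_mul_cancel₀ (neg_ne_zero.mpr hmk), one_smul]

include hn hpn hu1 hun hc₁ in
/-- independence of the `c₁ j`, `j ∈ J`, modulo coboundaries -/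
theorem indep_J (coef : ↥(J p n) → k) (h : PowerSeries k)
    (hh : sg u hu.unit ((n : ℤ) + 1) h - h = ∑ i, coef i • c₁ i) : ∀ i, coef i = 0 := by
  classical
  intro i
  have hJF : J p n ⊆ F p n ((n : ℤ) + 1) := Finset.inter_subset_left
  have key := Groth.Agent.S13864.result p n hn hpn u hu1 hun hu ((n : ℤ) + 1) c₁ hc₁
    (fun m => if hm : m ∈ J p n then coef ⟨m, hm⟩ else 0) h (by
      have h1 : ((hu.unit ^ ((n : ℤ) + 1) : (PowerSeries k)ˣ) : PowerSeries k) *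
          PowerSeries.subst (PowerSeries.X * u) h = sg u hu.unit ((n : ℤ) + 1) h := by
        rw [sg_apply, tau_apply]
      rw [h1, hh]
      change _ = ∑ m ∈ F p n ((n : ℤ) + 1), _
      rw [← Finset.sum_subset hJF]
      · have h2 := Finset.sum_coe_sort (J p n)
          (fun m => (if hm : m ∈ J p n then coef ⟨m, hm⟩ else 0) • c₁ m)
        rw [← h2]
        apply Finset.sum_congr rfl
        intro j _
        rw [dif_pos j.2]
      · intro x _ hx
        rw [dif_neg hx, zero_smul])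
  have := key i (hJF i.2)
  rw [dif_pos i.2] at this
  exact this

end range

end Groth.Agent.FunFld.ASH1
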