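import Groth.Agent.FunFld.QuadBasis

/-!
# Artin–Schreier extensions `y² + y = f(x)` in characteristic `2` over an arbitrary constant
field: integral basis and genus
-/

set_option autoImplicit false
set_option linter.unusedSectionVars false

open FunFld IntermediateField WithZero Polynomial

namespace Groth.Agent.FF.ASP

open Groth.Agent.FF.Ext Groth.Agent.FF.AS2 Groth.Agent.FF.Hyp

universe u v

variable {k : Type u} {K : Type v} [Field k] [Field K] [Algebra k K]
  [Algebra (RatFunc k) K] [IsScalarTower k (RatFunc k) K]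

local notation "ι" => algebraMap (Polynomial k) (RatFunc k)
local notation "j" => algebraMap (RatFunc k) K

variable (K) in
/-- the standing hypotheses: `q` has order `d_p` at the finite poles `p` of `f` (of order
`2 d_p - 1`), and `dinf` is the corresponding number at infinity -/
structure Setup (y : K) (f : RatFunc k) (q : k[X]) (dinf : ℕ) : Prop where
  hK : IsFunctionField k K
  hdeg : Module.finrank (RatFunc k) K = 2
  hchar : CharP k 2
  hy : y ∉ Set.range j
  heq : y ^ 2 + y = j f
  hodd : ∀ p : Place k (RatFunc k), 1 < p.1 f → Odd (p.ord f)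
  hq0 : q ≠ 0
  hq : ∀ p : Place k (RatFunc k), p.1 RatFunc.X ≤ 1 →
    p.ord (ι q) = if 1 < p.1 f then (1 - p.ord f) / 2 else 0
  hinf : ∀ p : Place k (RatFunc k), 1 < p.1 RatFunc.X →
    (dinf : ℤ) = if 1 < p.1 f then (1 - p.ord f) / 2 else 0

/-- distinct valuations: both summands of an integral sum are integral -/
lemma le_of_add_le_of_ne {P : Place k K} {u v : K} {c : ℤᵐ⁰} (hne : P.1 u ≠ P.1 v)
    (h : P.1 (u + v) ≤ c) : P.1 u ≤ c ∧ P.1 v ≤ c := by
  rw [Valuation.map_add_of_distinct_val _ hne] at h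
  exact ⟨(le_max_left _ _).trans h, (le_max_right _ _).trans h⟩

/-- valuations with orders of different parity are distinct -/
lemma val_ne_of_parity {P : Place k K} {u v : K}
    (h : P.ord u ≠ P.ord v) : P.1 u ≠ P.1 v := by
  intro he
  apply h
  unfold Place.ord
  rw [he]

namespace Setup

variable {y : K} {f : RatFunc k} {q : k[X]} {dinf : ℕ} (S : Setup K y f q dinf)
include S

lemma data : Quad.Data k K := ⟨S.hK, S.hdeg⟩

lemma y_ne_zero : y ≠ 0 := AS2.y_ne_zero S.hy

lemma qx_ne_zero : j (ι q) ≠ 0 := j_ne_zero (ratFunc_algebraMap_ne_zero S.hq0)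

/-- the shape of the order of `f` at a pole -/
lemma pole_data {p : Place k (RatFunc k)} (hp : 1 < p.1 f) :
    ∃ d : ℕ, 1 ≤ d ∧ p.ord f = 1 - 2 * (d : ℤ) ∧ (1 - p.ord f) / 2 = (d : ℤ) := by
  have hf0 : f ≠ 0 := by
    rintro rfl
    rw [map_zero] at hp
    exact absurd hp (not_lt.mpr zero_le)
  obtain ⟨t, ht⟩ := S.hodd p hp
  have hneg : p.ord f < 0 := by
    by_contra h
    rw [not_lt, ← val_le_one_iff p hf0] at h
    exact absurd hp (not_lt.mpr h)
  refine ⟨(-t).toNat, by omega, by omega, by omega⟩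

/-- above a pole of `f` the extension is ramified -/
lemma above_pole {p : Place k (RatFunc k)} {P : Place k K} {e : ℕ} (he : IsOverWith P p e)
    {d : ℕ} (hd : 1 ≤ d) (hord : p.ord f = 1 - 2 * (d : ℤ)) :
    e = 2 ∧ P.ord y = 1 - 2 * (d : ℤ) := by
  have hodd : Odd (2 * d - 1) := by
    refine ⟨d - 1, by omega⟩
  have hp : p.ord f = -((2 * d - 1 : ℕ) : ℤ) := by
    rw [hord]
    omega
  obtain ⟨h1, h2⟩ := ramified_of_odd_pole S.hdeg S.heq he hodd hp
  refine ⟨h1, ?_⟩
  rw [h2]
  omega

/-- `q(x) y` is integral at the finite places -/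
lemma val_qy_le_one (P : Place k K) (hP : P.1 (j RatFunc.X) ≤ 1) : P.1 (j (ι q) * y) ≤ 1 := by
  have hfd := S.data.fd
  have halg : Algebra.IsAlgebraic (RatFunc k) K := Algebra.IsAlgebraic.of_finite _ _
  obtain ⟨p, e, he⟩ := exists_isOverWith_below (K := RatFunc k) P
  have hpX : p.1 RatFunc.X ≤ 1 := (le_one_iff he _).mp hP
  by_cases hp : 1 < p.1 f
  · obtain ⟨d, hd1, hd2, hd3⟩ := S.pole_data hp
    obtain ⟨he2, hy⟩ := S.above_pole he hd1 hd2
    have hqo := S.hq p hpX
    rw [if_pos hp, hd3] at hqo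
    rw [val_le_one_iff P (mul_ne_zero S.qx_ne_zero S.y_ne_zero),
      ord_mul P S.qx_ne_zero S.y_ne_zero, ord_eq he, hqo, hy, he2]
    push_cast
    omega
  · rw [not_lt] at hp
    have h1 : P.1 y ≤ 1 := val_y_le_one S.heq P ((le_one_iff he f).mpr hp)
    have h2 : P.1 (j (ι q)) ≤ 1 := by
      rw [Quad.Data.jpoly]
      exact gval_aeval_le_one P.1 P.2.1 hP q
    rw [map_mul]
    exact mul_le_one' h2 h1

/-- conjugation -/
lemma exists_conj : ∃ σ : K ≃ₐ[RatFunc k] K, σ y = y + 1 := by
  haveI := S.hchar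
  exact AS2.exists_conj S.hdeg S.hy S.heq

/-- integrality at the finite places, in terms of the coordinates -/
lemma integral_coords {a b : RatFunc k}
    (hz : ∀ P : Place k K, P.1 (j RatFunc.X) ≤ 1 → P.1 (j a + j b * y) ≤ 1) :
    ∃ a' b' : k[X], a = ι a' ∧ b = ι b' * ι q := by
  have hfd := S.data.fd
  have hKr := isFunctionField_ratFunc k
  obtain ⟨σ, hσ⟩ := S.exists_conj
  have hq0' : ι q ≠ 0 := ratFunc_algebraMap_ne_zero S.hq0
  have hloc : ∀ p : Place k (RatFunc k), p.1 RatFunc.X ≤ 1 →
      p.1 a ≤ 1 ∧ p.1 (b / ι q) ≤ 1 := by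
    intro p hpX
    obtain ⟨P, e, he⟩ := exists_isOver (K' := K) hKr p
    have hP : P.1 (j RatFunc.X) ≤ 1 := (le_one_iff he _).mpr hpX
    by_cases hp : 1 < p.1 f
    · obtain ⟨d, hd1, hd2, hd3⟩ := S.pole_data hp
      obtain ⟨he2, hy⟩ := S.above_pole he hd1 hd2
      have hqo := S.hq p hpX
      rw [if_pos hp, hd3] at hqo
      have hzP := hz P hP
      have hboth : P.1 (j a) ≤ 1 ∧ P.1 (j b * y) ≤ 1 := by
        by_cases ha : a = 0
        · subst ha
          rw [map_zero, zero_add] at hzP
          rw [map_zero, map_zero]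
          exact ⟨zero_le_one, hzP⟩
        by_cases hb : b = 0
        · subst hb
          rw [map_zero, zero_mul, add_zero] at hzP
          rw [map_zero, zero_mul, map_zero]
          exact ⟨hzP, zero_le_one⟩
        refine le_of_add_le_of_ne (val_ne_of_parity ?_) hzP
        rw [ord_eq he, ord_mul P (j_ne_zero hb) S.y_ne_zero, ord_eq he, hy, he2]
        push_cast
        omega
      constructor
      · exact (le_one_iff he a).mp hboth.1
      · by_cases hb : b = 0
        · rw [hb, zero_div, map_zero]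
          exact zero_le_one
        rw [val_le_one_iff p (div_ne_zero hb hq0'), ord_div p hb hq0', hqo]
        have h2 := hboth.2
        rw [val_le_one_iff P (mul_ne_zero (j_ne_zero hb) S.y_ne_zero),
          ord_mul P (j_ne_zero hb) S.y_ne_zero, ord_eq he, hy, he2] at h2
        push_cast at h2
        omega
    · rw [not_lt] at hp
      have hy1 : P.1 y ≤ 1 := val_y_le_one S.heq P ((le_one_iff he f).mpr hp)
      have hzP := hz P hP
      have hzσ := hz (Place.comapEquiv P σ) (by
        rw [Place.comapEquiv_apply, σ.commutes]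
        exact hP)
      rw [Place.comapEquiv_apply, map_add, map_mul, σ.commutes, σ.commutes, hσ] at hzσ
      have hb1 : P.1 (j b) ≤ 1 := by
        have : j b = (j a + j b * (y + 1)) - (j a + j b * y) := by ring
        rw [this]
        exact Valuation.map_sub_le _ hzσ hzP
      have ha1 : P.1 (j a) ≤ 1 := by
        have : j a = (j a + j b * y) - j b * y := by ring
        rw [this]
        refine Valuation.map_sub_le _ hzP ?_
        rw [map_mul]
        exact mul_le_one' hb1 hy1
      have hqo := S.hq p hpX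
      rw [if_neg (not_lt.mpr hp)] at hqo
      have hq1 : p.1 (ι q) = 1 := (val_eq_one_iff p hq0').mpr hqo
      refine ⟨(le_one_iff he a).mp ha1, ?_⟩
      rw [map_div₀, hq1, _root_.div_one]
      exact (le_one_iff he b).mp hb1
  obtain ⟨a', ha'⟩ := exists_poly_of_integral a (fun p hp => (hloc p hp).1)
  obtain ⟨b', hb'⟩ := exists_poly_of_integral (b / ι q) (fun p hp => (hloc p hp).2)
  refine ⟨a', b', ha', ?_⟩
  rw [← hb', div_mul_cancel₀ _ hq0']

/-- data at an infinite place of `K` -/
lemma inf_data (P : Place k K) (hP : 1 < P.1 (j RatFunc.X)) :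
    ∃ (p : Place k (RatFunc k)) (e : ℕ), IsOverWith P p e ∧ 1 < p.1 RatFunc.X ∧
      poleDiv k (j RatFunc.X) P = e ∧
      ∀ b : k[X], b ≠ 0 → P.ord (aeval (j RatFunc.X) b) = -((e : ℤ) * b.natDegree) := by
  have hfd := S.data.fd
  have halg : Algebra.IsAlgebraic (RatFunc k) K := Algebra.IsAlgebraic.of_finite _ _
  obtain ⟨p, e, he⟩ := exists_isOverWith_below (K := RatFunc k) P
  have hpX : 1 < p.1 RatFunc.X := by
    by_contra hle
    rw [not_lt] at hle
    exact absurd ((le_one_iff he _).mpr hle) (not_le.mpr hP)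
  refine ⟨p, e, he, hpX, ?_, ?_⟩
  · rw [(S.data.poleDiv_of_one_lt P hP).2.2, ord_eq he, ratFunc_ord_X_of_one_lt p hpX]
    ring
  · intro b hb
    rw [← Quad.Data.jpoly, ord_eq he, ratFunc_ord_poly_of_one_lt p hpX hb,
      ratFunc_ord_X_of_one_lt p hpX]
    ring

/-- sufficient degree conditions for membership in `L(n (x)_∞)` -/
lemma mem_L_of_deg {n : ℕ} {a' b' : k[X]} (ha : a'.natDegree ≤ n)
    (hb : b' = 0 ∨ b'.natDegree + (q.natDegree + dinf) ≤ n) :
    aeval (j RatFunc.X) a' + aeval (j RatFunc.X) b' * (j (ι q) * y) ∈ L (nD k K n) := by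
  intro P
  rw [Hyp.Setup.nD_apply]
  refine (P.1.map_add _ _).trans (max_le (S.data.val_poly_le P ha) ?_)
  rcases hb with rfl | hb
  · rw [map_zero, zero_mul, map_zero]
    exact zero_le
  by_cases hb0 : b' = 0
  · rw [hb0, map_zero, zero_mul, map_zero]
    exact zero_le
  by_cases hP : P.1 (j RatFunc.X) ≤ 1
  · rw [S.data.poleDiv_of_le_one P hP, mul_zero, exp_zero, map_mul]
    exact mul_le_one' (gval_aeval_le_one P.1 P.2.1 hP b') (S.val_qy_le_one P hP)
  · rw [not_le] at hP
    obtain ⟨p, e, he, hpX, hpd, hord⟩ := S.inf_data P hP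
    have hinf := S.hinf p hpX
    by_cases hp : 1 < p.1 f
    · obtain ⟨d, hd1, hd2, hd3⟩ := S.pole_data hp
      obtain ⟨he2, hy⟩ := S.above_pole he hd1 hd2
      rw [if_pos hp, hd3] at hinf
      have hne : aeval (j RatFunc.X) b' * (j (ι q) * y) ≠ 0 := by
        refine mul_ne_zero ?_ (mul_ne_zero S.qx_ne_zero S.y_ne_zero)
        rw [← Quad.Data.jpoly]
        exact j_ne_zero (ratFunc_algebraMap_ne_zero hb0)
      have hb0' : aeval (j RatFunc.X) b' ≠ 0 := left_ne_zero_of_mul hne
      rw [val_le_exp_iff P hne, ord_mul P hb0' (mul_ne_zero S.qx_ne_zero S.y_ne_zero),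
        ord_mul P S.qx_ne_zero S.y_ne_zero, hord b' hb0, Quad.Data.jpoly, hord q S.hq0, hy, hpd,
        he2]
      push_cast
      have h1 : (b'.natDegree : ℤ) + (q.natDegree + dinf) ≤ n := by exact_mod_cast hb
      rw [hinf] at h1
      linarith
    · rw [not_lt] at hp
      rw [if_neg (not_lt.mpr hp)] at hinf
      have hy1 : P.1 y ≤ 1 := val_y_le_one S.heq P ((le_one_iff he f).mpr hp)
      have e1 : aeval (j RatFunc.X) b' * (j (ι q) * y) = aeval (j RatFunc.X) (b' * q) * y := by
        rw [Quad.Data.jpoly, map_mul]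
        ring
      rw [e1, map_mul]
      have hdeg : (b' * q).natDegree ≤ n := natDegree_mul_le.trans (by omega)
      calc P.1 (aeval (j RatFunc.X) (b' * q)) * P.1 y
          ≤ exp ((n : ℤ) * poleDiv k (j RatFunc.X) P) * 1 :=
            mul_le_mul' (S.data.val_poly_le P hdeg) hy1
        _ = _ := mul_one _

/-- necessary degree conditions for membership in `L(n (x)_∞)` -/
lemma deg_of_mem_L {n : ℕ} {a' b' : k[X]}
    (hz : aeval (j RatFunc.X) a' + aeval (j RatFunc.X) b' * (j (ι q) * y) ∈ L (nD k K n)) :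
    a'.natDegree ≤ n ∧ (b' = 0 ∨ b'.natDegree + (q.natDegree + dinf) ≤ n) := by
  have hfd := S.data.fd
  have hKr := isFunctionField_ratFunc k
  obtain ⟨p, hpX⟩ := S.data.exists_inf_place
  obtain ⟨P, e, he⟩ := exists_isOver (K' := K) hKr p
  have hP : 1 < P.1 (j RatFunc.X) := by
    by_contra hle
    rw [not_lt] at hle
    exact absurd ((le_one_iff he _).mp hle) (not_le.mpr hpX)
  have hinf := S.hinf p hpX
  have hinjx : Function.Injective (aeval (R := k) (j RatFunc.X)) :=
    transcendental_iff_injective.mp Quad.Data.trans_x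
  by_cases hp : 1 < p.1 f
  · -- ramified at infinity: parity
    obtain ⟨d, hd1, hd2, hd3⟩ := S.pole_data hp
    obtain ⟨he2, hy⟩ := S.above_pole he hd1 hd2
    rw [if_pos hp, hd3] at hinf
    have hpd : poleDiv k (j RatFunc.X) P = 2 := by
      rw [(S.data.poleDiv_of_one_lt P hP).2.2, ord_eq he, ratFunc_ord_X_of_one_lt p hpX, he2]
      norm_num
    have hord : ∀ b : k[X], b ≠ 0 → P.ord (aeval (j RatFunc.X) b) = -(2 * (b.natDegree : ℤ)) := by
      intro b hb
      rw [← Quad.Data.jpoly, ord_eq he, ratFunc_ord_poly_of_one_lt p hpX hb,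
        ratFunc_ord_X_of_one_lt p hpX, he2]
      push_cast
      ring
    have hzP := hz P
    rw [Hyp.Setup.nD_apply, hpd] at hzP
    have hw0 : j (ι q) * y ≠ 0 := mul_ne_zero S.qx_ne_zero S.y_ne_zero
    have hne : ∀ b : k[X], b ≠ 0 → aeval (j RatFunc.X) b ≠ 0 := by
      intro b hb h0
      exact hb (hinjx (by rw [h0, map_zero]))
    have hordw : P.ord (j (ι q) * y) = -(2 * (q.natDegree : ℤ)) + (1 - 2 * (d : ℤ)) := by
      rw [ord_mul P S.qx_ne_zero S.y_ne_zero, Quad.Data.jpoly, hord q S.hq0, hy]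
    have hboth : P.1 (aeval (j RatFunc.X) a') ≤ exp ((n : ℤ) * 2) ∧
        P.1 (aeval (j RatFunc.X) b' * (j (ι q) * y)) ≤ exp ((n : ℤ) * 2) := by
      by_cases ha : a' = 0
      · subst ha
        rw [map_zero, zero_add] at hzP
        rw [map_zero, map_zero]
        exact ⟨zero_le, hzP⟩
      by_cases hb : b' = 0
      · subst hb
        rw [map_zero, zero_mul, add_zero] at hzP
        rw [map_zero, zero_mul, map_zero]
        exact ⟨hzP, zero_le⟩
      refine le_of_add_le_of_ne (val_ne_of_parity ?_) hzP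
      rw [ord_mul P (hne b' hb) hw0, hordw, hord a' ha, hord b' hb]
      omega
    constructor
    · by_cases ha : a' = 0
      · rw [ha, natDegree_zero]
        exact Nat.zero_le _
      have h1 := hboth.1
      rw [val_le_exp_iff P (hne a' ha), hord a' ha] at h1
      have : (a'.natDegree : ℤ) ≤ n := by linarith
      exact_mod_cast this
    · by_cases hb : b' = 0
      · exact Or.inl hb
      right
      have h1 := hboth.2
      rw [val_le_exp_iff P (mul_ne_zero (hne b' hb) hw0), ord_mul P (hne b' hb) hw0, hordw,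
        hord b' hb] at h1
      have : (b'.natDegree : ℤ) + (q.natDegree + dinf) ≤ n := by
        rw [hinf]
        omega
      exact_mod_cast this
  · -- `y` integral at infinity: trace argument
    rw [not_lt] at hp
    rw [if_neg (not_lt.mpr hp)] at hinf
    have hdinf : dinf = 0 := by exact_mod_cast hinf
    obtain ⟨σ, hσ⟩ := S.exists_conj
    have hσz := S.data.map_mem_L σ hz
    have hσx : ∀ b : k[X], σ (aeval (j RatFunc.X) b) = aeval (j RatFunc.X) b := by
      intro b
      rw [← Quad.Data.jpoly, σ.commutes]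
    rw [map_add, map_mul, map_mul, hσx, hσx, σ.commutes, hσ] at hσz
    have hbq : aeval (j RatFunc.X) (b' * q) ∈ L (nD k K n) := by
      have : aeval (j RatFunc.X) (b' * q) =
          (aeval (j RatFunc.X) a' + aeval (j RatFunc.X) b' * (j (ι q) * (y + 1))) -
          (aeval (j RatFunc.X) a' + aeval (j RatFunc.X) b' * (j (ι q) * y)) := by
        rw [map_mul, Quad.Data.jpoly]
        ring
      rw [this]
      exact Submodule.sub_mem _ hσz hz
    rw [← Quad.Data.jpoly] at hbq
    obtain ⟨r, hr, hrdeg⟩ := S.data.exists_poly_of_mem_L hbq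
    have hr' : b' * q = r := RatFunc.algebraMap_injective k hr
    have hbcond : b' = 0 ∨ b'.natDegree + (q.natDegree + dinf) ≤ n := by
      by_cases hb : b' = 0
      · exact Or.inl hb
      right
      rw [← hr', natDegree_mul hb S.hq0] at hrdeg
      omega
    refine ⟨?_, hbcond⟩
    have hv := S.mem_L_of_deg (n := n) (a' := 0) (b' := b') (by simp) hbcond
    rw [map_zero, zero_add] at hv
    have hu : aeval (j RatFunc.X) a' ∈ L (nD k K n) := by
      have : aeval (j RatFunc.X) a' =
          (aeval (j RatFunc.X) a' + aeval (j RatFunc.X) b' * (j (ι q) * y)) -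
          aeval (j RatFunc.X) b' * (j (ι q) * y) := by ring
      rw [this]
      exact Submodule.sub_mem _ hz hv
    rw [← Quad.Data.jpoly] at hu
    obtain ⟨r₂, hr₂, hr₂deg⟩ := S.data.exists_poly_of_mem_L hu
    have : a' = r₂ := RatFunc.algebraMap_injective k hr₂
    rw [this]
    exact hr₂deg

/-- `q(x) y` does not lie in `k(x)` -/
lemma qy_not_mem : j (ι q) * y ∉ Set.range j := by
  rintro ⟨c, hc⟩
  apply S.hy
  refine ⟨c / ι q, ?_⟩
  rw [map_div₀, hc, mul_div_assoc, mul_comm, div_mul_cancel₀ _ S.qx_ne_zero]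

/-- the genus of `y² + y = f(x)` -/
theorem genus_eq : (genus k K : ℤ) = (q.natDegree : ℤ) + dinf - 1 := by
  have hfd := S.data.fd
  have h := S.data.genus_eq_of_basis S.qy_not_mem (c := q.natDegree + dinf) (by
    intro n z
    constructor
    · intro hz
      obtain ⟨a, b, hab⟩ := S.data.exists_decomp S.hy z
      have hint : ∀ P : Place k K, P.1 (j RatFunc.X) ≤ 1 → P.1 (j a + j b * y) ≤ 1 := by
        intro P hP
        have := hz P
        rwa [Hyp.Setup.nD_apply, S.data.poleDiv_of_le_one P hP, mul_zero, exp_zero, hab] at this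
      obtain ⟨a', b', rfl, rfl⟩ := S.integral_coords hint
      have hz' : aeval (j RatFunc.X) a' + aeval (j RatFunc.X) b' * (j (ι q) * y) ∈
          L (nD k K n) := by
        have : aeval (j RatFunc.X) a' + aeval (j RatFunc.X) b' * (j (ι q) * y) = z := by
          rw [hab, map_mul, Quad.Data.jpoly a', Quad.Data.jpoly b', Quad.Data.jpoly q]
          ring
        rw [this]
        exact hz
      obtain ⟨h1, h2⟩ := S.deg_of_mem_L hz'
      refine ⟨a', b', h1, h2, ?_⟩
      rw [hab, map_mul, Quad.Data.jpoly a', Quad.Data.jpoly b', Quad.Data.jpoly q]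
      ring
    · rintro ⟨a, b, ha, hb, rfl⟩
      exact S.mem_L_of_deg ha hb)
  rw [h]
  push_cast
  ring

end Setup

end Groth.Agent.FF.ASP
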