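import Groth.Agent.FunFld.ASPBasis

/-!
# The genus of `y² + y = f(x)` in characteristic `2`, in terms of the polar divisor of `f`
-/

set_option autoImplicit false
set_option linter.unusedSectionVars false

open FunFld IntermediateField WithZero Polynomial

namespace Groth.Agent.FF.ASP

open Groth.Agent.FF.Ext Groth.Agent.FF.AS2 Groth.Agent.FF.Hyp

universe u v

section RatFuncPlaces

variable {k : Type u} [Field k]

local notation "ι" => algebraMap (Polynomial k) (RatFunc k)

/-- the order of a product -/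
lemma ord_prod {K : Type v} [Field K] [Algebra k K] (P : Place k K) {α : Type*} (s : Finset α)
    (g : α → K) (h : ∀ i ∈ s, g i ≠ 0) : P.ord (∏ i ∈ s, g i) = ∑ i ∈ s, P.ord (g i) := by
  classical
  induction s using Finset.induction_on with
  | empty => simp [ord_one]
  | insert a s ha ih =>
    rw [Finset.prod_insert ha, Finset.sum_insert ha,
      ord_mul P (h a (Finset.mem_insert_self a s))
        (Finset.prod_ne_zero_iff.mpr fun i hi => h i (Finset.mem_insert_of_mem hi)),
      ih fun i hi => h i (Finset.mem_insert_of_mem hi)]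

/-- a finite place of `k(x)` is the place of an irreducible polynomial -/
lemma exists_irreducible_of_finite (p : Place k (RatFunc k)) (hp : p.1 RatFunc.X ≤ 1) :
    ∃ π : k[X], Irreducible π ∧ p.1 (ι π) < 1 := by
  obtain ⟨t, ht⟩ := exists_uniformizer p
  have ht0 : t ≠ 0 := by
    rintro rfl
    rw [map_zero] at ht
    exact exp_ne_zero ht.symm
  have hnd := RatFunc.num_div_denom t
  have hnum0 : t.num ≠ 0 := RatFunc.num_ne_zero ht0
  have hden0 : ι t.denom ≠ 0 := ratFunc_algebraMap_ne_zero (RatFunc.denom_ne_zero t)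
  have hnum : p.1 (ι t.num) < 1 := by
    have h1 : ι t.num = t * ι t.denom := ((eq_div_iff hden0).mp hnd.symm).symm
    rw [h1, map_mul, ht]
    calc exp (-1 : ℤ) * p.1 (ι t.denom) ≤ exp (-1 : ℤ) * 1 :=
          mul_le_mul' le_rfl (ratFunc_val_poly_le_one p hp _)
      _ = exp (-1 : ℤ) := mul_one _
      _ < 1 := by
        rw [← exp_zero, exp_lt_exp]
        norm_num
  obtain ⟨π, hπ, -, hπp⟩ := ratFunc_exists_irreducible_factor p hp hnum0 hnum
  exact ⟨π, hπ, hπp⟩

/-- an irreducible polynomial is a unit at the other finite places -/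
lemma ord_irreducible_of_ne {p p' : Place k (RatFunc k)} {π : k[X]} (hπ : Irreducible π)
    (hp : p.1 (ι π) < 1) (hp' : p'.1 RatFunc.X ≤ 1) (hne : p' ≠ p) : p'.ord (ι π) = 0 := by
  rw [← val_eq_one_iff p' (ratFunc_algebraMap_ne_zero hπ.ne_zero)]
  apply le_antisymm (ratFunc_val_poly_le_one p' hp' π)
  by_contra hlt
  rw [not_le] at hlt
  exact hne (place_unique_of_irreducible hπ hlt hp)

/-- the degree of the place of an irreducible polynomial -/
theorem deg_eq_natDegree {p : Place k (RatFunc k)} {π : k[X]} (hπ : Irreducible π)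
    (hp : p.1 (ι π) < 1) : p.deg = π.natDegree := by
  classical
  have hKr := isFunctionField_ratFunc k
  have hpX := ratFunc_val_X_le_one p hπ.ne_zero hp
  have hXtr : Transcendental k (RatFunc.X : RatFunc k) := RatFunc.transcendental_X (K := k)
  obtain ⟨pinf, hpinf'⟩ := exists_pole_of_transcendental hKr hXtr
  have hpinf : 1 < pinf.1 (RatFunc.X : RatFunc k) := by
    by_contra hle
    rw [not_lt, val_le_one_iff pinf RatFunc.X_ne_zero] at hle
    omega
  have hdiv : FunFld.div k (ι π) =
      Finsupp.single p 1 - (π.natDegree : ℤ) • Finsupp.single pinf 1 := by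
    ext P
    rw [div_apply hKr, Finsupp.sub_apply, Finsupp.smul_apply, Finsupp.single_apply,
      Finsupp.single_apply, smul_eq_mul]
    by_cases hPX : P.1 RatFunc.X ≤ 1
    · have hne : pinf ≠ P := by
        rintro rfl
        exact absurd hPX (not_le.mpr hpinf)
      rw [if_neg hne, mul_zero, sub_zero]
      by_cases hPp : p = P
      · subst hPp
        rw [if_pos rfl]
        exact ratFunc_ord_irreducible p hπ hp
      · rw [if_neg hPp]
        exact ord_irreducible_of_ne hπ hp hPX (Ne.symm hPp)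
    · rw [not_le] at hPX
      have hP : P = pinf := place_unique_of_one_lt hPX hpinf
      subst hP
      have hne : p ≠ P := by
        rintro rfl
        exact absurd hpX (not_le.mpr hPX)
      rw [if_neg hne, if_pos rfl, ratFunc_ord_poly_of_one_lt P hPX hπ.ne_zero,
        ratFunc_ord_X_of_one_lt P hPX]
      ring
  have h0 := deg_div_eq_zero hKr (ι π)
  rw [hdiv, deg_sub, deg_zsmul, deg_single, deg_single, ratFunc_deg_of_one_lt pinf hpinf] at h0
  have : (p.deg : ℤ) = π.natDegree := by
    push_cast at h0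
    linarith
  exact_mod_cast this

lemma one_lt_val_iff {K : Type v} [Field K] [Algebra k K] (P : Place k K) (x : K) :
    1 < P.1 x ↔ P.ord x < 0 := by
  by_cases hx : x = 0
  · subst hx
    rw [map_zero, ord_zero]
    exact ⟨fun h => absurd h (not_lt.mpr zero_le), fun h => absurd h (lt_irrefl _)⟩
  · rw [← not_le, val_le_one_iff P hx, not_le]

end RatFuncPlaces

section Main

variable {k : Type u} {K : Type v} [Field k] [Field K] [Algebra k K]
  [Algebra (RatFunc k) K] [IsScalarTower k (RatFunc k) K]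

local notation "ι" => algebraMap (Polynomial k) (RatFunc k)
local notation "j" => algebraMap (RatFunc k) K

/-- existence of the polynomial `q` and the genus formula -/
theorem exists_setup (hK : IsFunctionField k K) (hdeg : Module.finrank (RatFunc k) K = 2)
    (hchar : CharP k 2) {y : K} (hy : y ∉ Set.range j) {f : RatFunc k} (heq : y ^ 2 + y = j f)
    (hodd : ∀ p : Place k (RatFunc k), p.ord f < 0 → Odd (p.ord f))
    (T : Finset (Place k (RatFunc k))) (hT : ∀ p, p ∈ T ↔ p.ord f < 0) :
    ∃ (q : k[X]) (dinf : ℕ), Setup K y f q dinf ∧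
      ∑ p ∈ T, (1 - p.ord f) / 2 * (p.deg : ℤ) = (q.natDegree : ℤ) + dinf := by
  classical
  have hKr := isFunctionField_ratFunc k
  have hXtr : Transcendental k (RatFunc.X : RatFunc k) := RatFunc.transcendental_X (K := k)
  obtain ⟨pinf, hpinf'⟩ := exists_pole_of_transcendental hKr hXtr
  have hpinf : 1 < pinf.1 (RatFunc.X : RatFunc k) := (one_lt_val_iff pinf _).mpr hpinf'
  have hπex : ∀ p : Place k (RatFunc k), ∃ π : k[X], p.1 RatFunc.X ≤ 1 →
      Irreducible π ∧ p.1 (ι π) < 1 := by
    intro p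
    by_cases hp : p.1 RatFunc.X ≤ 1
    · obtain ⟨π, h1, h2⟩ := exists_irreducible_of_finite p hp
      exact ⟨π, fun _ => ⟨h1, h2⟩⟩
    · exact ⟨1, fun h => absurd h hp⟩
  choose π hπ using hπex
  let d : Place k (RatFunc k) → ℕ := fun p => ((1 - p.ord f) / 2).toNat
  have hd : ∀ p : Place k (RatFunc k), p.ord f < 0 → (d p : ℤ) = (1 - p.ord f) / 2 := by
    intro p hp
    exact Int.toNat_of_nonneg (by omega)
  let Tfin : Finset (Place k (RatFunc k)) := T.filter (fun p => p.1 RatFunc.X ≤ 1)
  have hTfin : ∀ p, p ∈ Tfin ↔ p.ord f < 0 ∧ p.1 RatFunc.X ≤ 1 := by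
    intro p
    rw [Finset.mem_filter, hT]
  let q : k[X] := ∏ p ∈ Tfin, π p ^ d p
  have hfac0 : ∀ p ∈ Tfin, π p ^ d p ≠ 0 := fun p hp =>
    pow_ne_zero _ (hπ p ((hTfin p).mp hp).2).1.ne_zero
  have hq0 : q ≠ 0 := Finset.prod_ne_zero_iff.mpr hfac0
  have hqord : ∀ p' : Place k (RatFunc k), p'.1 RatFunc.X ≤ 1 →
      p'.ord (ι q) = if p' ∈ Tfin then (d p' : ℤ) else 0 := by
    intro p' hp'
    have h1 : ι q = ∏ p ∈ Tfin, ι (π p ^ d p) := map_prod _ _ _
    rw [h1, ord_prod p' Tfin _ (fun p hp => ratFunc_algebraMap_ne_zero (hfac0 p hp))]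
    have h2 : ∀ p ∈ Tfin, p'.ord (ι (π p ^ d p)) = if p' = p then (d p' : ℤ) else 0 := by
      intro p hp
      obtain ⟨hirr, hlt⟩ := hπ p ((hTfin p).mp hp).2
      rw [map_pow, ord_pow]
      by_cases hpp : p' = p
      · subst hpp
        rw [if_pos rfl, ratFunc_ord_irreducible p' hirr hlt, mul_one]
      · rw [if_neg hpp, ord_irreducible_of_ne hirr hlt hp' hpp, mul_zero]
    rw [Finset.sum_congr rfl h2, Finset.sum_ite_eq Tfin p']
  let dinf : ℕ := if 1 < pinf.1 f then d pinf else 0
  have hS : Setup K y f q dinf := by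
    refine ⟨hK, hdeg, hchar, hy, heq, fun p hp => hodd p ((one_lt_val_iff p f).mp hp), hq0, ?_, ?_⟩
    · intro p hp
      rw [hqord p hp]
      by_cases hpole : 1 < p.1 f
      · have h1 := (one_lt_val_iff p f).mp hpole
        rw [if_pos ((hTfin p).mpr ⟨h1, hp⟩), if_pos hpole, hd p h1]
      · rw [if_neg hpole, if_neg]
        intro hmem
        exact hpole ((one_lt_val_iff p f).mpr ((hTfin p).mp hmem).1)
    · intro p hp
      have hpp : p = pinf := place_unique_of_one_lt hp hpinf
      subst hpp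
      by_cases hpole : 1 < p.1 f
      · have h1 := (one_lt_val_iff p f).mp hpole
        rw [if_pos hpole]
        show ((if 1 < p.1 f then d p else 0 : ℕ) : ℤ) = _
        rw [if_pos hpole, hd p h1]
      · rw [if_neg hpole]
        show ((if 1 < p.1 f then d p else 0 : ℕ) : ℤ) = _
        rw [if_neg hpole]
        rfl
  refine ⟨q, dinf, hS, ?_⟩
  -- the degree of `q`
  have hqdeg : (q.natDegree : ℤ) = ∑ p ∈ Tfin, (1 - p.ord f) / 2 * (p.deg : ℤ) := by
    have h1 : q.natDegree = ∑ p ∈ Tfin, (π p ^ d p).natDegree :=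
      natDegree_prod _ _ hfac0
    rw [h1]
    push_cast
    apply Finset.sum_congr rfl
    intro p hp
    obtain ⟨hirr, hlt⟩ := hπ p ((hTfin p).mp hp).2
    rw [natDegree_pow, deg_eq_natDegree hirr hlt, ← hd p ((hTfin p).mp hp).1]
    push_cast
    ring
  rw [← Finset.sum_filter_add_sum_filter_not T (fun p => p.1 RatFunc.X ≤ 1), hqdeg]
  congr 1
  by_cases hpole : 1 < pinf.1 f
  · have h1 := (one_lt_val_iff pinf f).mp hpole
    have hfilt : T.filter (fun p => ¬ p.1 RatFunc.X ≤ 1) = {pinf} := by
      ext p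
      rw [Finset.mem_filter, Finset.mem_singleton, hT, not_le]
      constructor
      · rintro ⟨-, h⟩
        exact place_unique_of_one_lt h hpinf
      · rintro rfl
        exact ⟨h1, hpinf⟩
    rw [hfilt, Finset.sum_singleton, ratFunc_deg_of_one_lt pinf hpinf]
    show _ = ((if 1 < pinf.1 f then d pinf else 0 : ℕ) : ℤ)
    rw [if_pos hpole, hd pinf h1]
    push_cast
    ring
  · have hfilt : T.filter (fun p => ¬ p.1 RatFunc.X ≤ 1) = ∅ := by
      ext p
      rw [Finset.mem_filter, hT, not_le]
      constructor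
      · rintro ⟨h, h'⟩
        have hpp : p = pinf := place_unique_of_one_lt h' hpinf
        subst hpp
        exact absurd ((one_lt_val_iff p f).mpr h) hpole
      · intro h
        exact absurd h (Finset.notMem_empty _)
    rw [hfilt, Finset.sum_empty]
    show _ = ((if 1 < pinf.1 f then d pinf else 0 : ℕ) : ℤ)
    rw [if_neg hpole]
    rfl

/-- the genus of `y² + y = f(x)` in characteristic `2` -/
theorem genus_eq_sum (hK : IsFunctionField k K) (hdeg : Module.finrank (RatFunc k) K = 2)
    (hchar : CharP k 2) {y : K} (hy : y ∉ Set.range j) {f : RatFunc k} (heq : y ^ 2 + y = j f)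
    (hodd : ∀ p : Place k (RatFunc k), p.ord f < 0 → Odd (p.ord f))
    (T : Finset (Place k (RatFunc k))) (hT : ∀ p, p ∈ T ↔ p.ord f < 0) :
    (genus k K : ℤ) = -1 + ∑ p ∈ T, (1 - p.ord f) / 2 * (p.deg : ℤ) := by
  obtain ⟨q, dinf, hS, hsum⟩ := exists_setup hK hdeg hchar hy heq hodd T hT
  rw [hS.genus_eq, hsum]
  ring

end Main

end Groth.Agent.FF.ASP
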