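import Groth.Agent.FunFld.ScalarExt
import Groth.Agent.FunFld.SepVar
import Groth.Agent.FunFld.RatFuncFF
import Mathlib.FieldTheory.KummerPolynomial
import Mathlib.FieldTheory.PurelyInseparable.PerfectClosure
import Mathlib.FieldTheory.RatFunc.AsPolynomial

/-!
# Function fields with a separating variable are geometric

`HasSepVar k K`: there is a transcendental `x` with `K` separable over `k(x)`.  If moreover `k`
is algebraically closed in `K` then `K/k` is geometric.
-/

set_option autoImplicit false
set_option linter.unusedSectionVars false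

open FunFld IntermediateField Polynomial TensorProduct

namespace Groth.Agent.FF

universe u v w

/-- `K/k` has a separating variable -/
def HasSepVar (k : Type*) (K : Type*) [Field k] [Field K] [Algebra k K] : Prop :=
  ∃ x : K, Transcendental k x ∧ Algebra.IsSeparable (adjoin k ({x} : Set K)) K

section basic
variable {k : Type u} {K : Type v} [Field k] [Field K] [Algebra k K]

/-- `k` is algebraically closed in `k(x)` for `x` transcendental -/
lemma mem_range_of_isAlgebraic_adjoin {x : K} (hx : Transcendental k x) {y : K}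
    (hy : y ∈ k⟮x⟯) (halg : IsAlgebraic k y) : y ∈ Set.range (algebraMap k K) := by
  let e := RatFunc.algEquivOfTranscendental x hx
  set y' : k⟮x⟯ := ⟨y, hy⟩ with hy'
  have h1 : IsAlgebraic k y' := by
    rw [← isAlgebraic_algebraMap_iff (A := K) (algebraMap k⟮x⟯ K).injective]
    exact halg
  have h2 : IsAlgebraic k (e.symm y') := h1.algHom e.symm.toAlgHom
  obtain ⟨c, hc⟩ := mem_range_of_isAlgebraic_ratFunc k h2
  refine ⟨c, ?_⟩
  have h3 : y' = e (algebraMap k (RatFunc k) c) := by rw [hc, AlgEquiv.apply_symm_apply]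
  rw [AlgEquiv.commutes] at h3
  have h4 : (y' : K) = ((algebraMap k k⟮x⟯ c : k⟮x⟯) : K) := by rw [h3]
  exact h4.symm

/-- with a separating variable, `p`-th roots of constants are constants -/
lemma pow_ne_of_hasSepVar (p : ℕ) [hp : Fact p.Prime] [CharP k p] (hsv : HasSepVar k K) {a : k}
    (ha : ∀ c : k, c ^ p ≠ a) : ∀ b : K, b ^ p ≠ algebraMap k K a := by
  intro b hb
  obtain ⟨x, hx, hsep⟩ := hsv
  set E := k⟮x⟯ with hE
  have hbsep : IsSeparable E b := Algebra.IsSeparable.isSeparable E b
  have : CharP E p := charP_of_injective_algebraMap (algebraMap k E).injective p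
  have : ExpChar E p := ExpChar.prime hp.out
  have hpi : IsPurelyInseparable E E⟮b⟯ := by
    rw [isPurelyInseparable_adjoin_simple_iff_pow_mem E K p]
    refine ⟨1, algebraMap k E a, ?_⟩
    rw [pow_one, hb]
    rfl
  have hs : Algebra.IsSeparable E E⟮b⟯ :=
    (IntermediateField.isSeparable_adjoin_simple_iff_isSeparable E K).mpr hbsep
  obtain ⟨w, hw⟩ := IsPurelyInseparable.surjective_algebraMap_of_isSeparable E E⟮b⟯
    (AdjoinSimple.gen E b)
  have hbE : b ∈ E := by
    have h1 : ((algebraMap E E⟮b⟯ w : E⟮b⟯) : K) = b := by rw [hw]; rfl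
    rw [← h1]
    exact w.2
  have halg : IsAlgebraic k b := by
    apply IsAlgebraic.of_pow hp.out.pos
    rw [hb]
    exact isAlgebraic_algebraMap a
  obtain ⟨c, hc⟩ := mem_range_of_isAlgebraic_adjoin hx hbE halg
  apply ha c
  apply (algebraMap k K).injective
  rw [map_pow, hc, hb]

/-- adjoining a `p`-th root of a non-`p`-th-power constant keeps the tensor product a field -/
lemma isField_tensor_simple_insep (p : ℕ) [hp : Fact p.Prime] [CharP k p] (hsv : HasSepVar k K)
    {k₁ : Type u} [Field k₁] [Algebra k k₁] (θ : k₁)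
    (hθ : θ ∉ Set.range (algebraMap k k₁)) (a : k) (hpow : θ ^ p = algebraMap k k₁ a) :
    IsField (k⟮θ⟯ ⊗[k] K) := by
  have : CharP k₁ p := charP_of_injective_algebraMap (algebraMap k k₁).injective p
  have ha : ∀ c : k, c ^ p ≠ a := by
    intro c hc
    apply hθ
    refine ⟨c, ?_⟩
    have h1 : (algebraMap k k₁ c) ^ p = θ ^ p := by rw [hpow, ← map_pow, hc]
    exact frobenius_inj k₁ p h1
  have hirr : Irreducible (X ^ p - C a : k[X]) :=
    (X_pow_sub_C_irreducible_iff_of_prime hp.out).mpr ha
  have hmonic : (X ^ p - C a : k[X]).Monic := monic_X_pow_sub_C a hp.out.ne_zero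
  have heval : aeval θ (X ^ p - C a : k[X]) = 0 := by
    rw [map_sub, map_pow, aeval_X, aeval_C, hpow, sub_self]
  have hmin : (X ^ p - C a : k[X]) = minpoly k θ :=
    minpoly.eq_of_irreducible_of_monic hirr heval hmonic
  have hint : IsIntegral k θ := ⟨_, hmonic, heval⟩
  let pb : PowerBasis k k⟮θ⟯ := IntermediateField.adjoin.powerBasis hint
  have hgen : minpoly k pb.gen = minpoly k θ := by
    show minpoly k (AdjoinSimple.gen k θ) = minpoly k θ
    exact IntermediateField.minpoly_gen k θ
  apply isField_tensor_of_irreducible k⟮θ⟯ pb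
  rw [hgen, ← hmin, Polynomial.map_sub, Polynomial.map_pow, Polynomial.map_X, Polynomial.map_C]
  exact (X_pow_sub_C_irreducible_iff_of_prime hp.out).mpr (pow_ne_of_hasSepVar p hsv ha)

end basic

section transfer

variable {k k₁ : Type u} {K : Type v} {L : Type w} [Field k] [Field k₁] [Field K] [Field L]
  [Algebra k k₁] [Algebra k K] [Algebra K L] [Algebra k₁ L] [Algebra k L]
  [IsScalarTower k k₁ L] [IsScalarTower k K L]

lemma transcendental_map_of_isAlgebraic [Algebra.IsAlgebraic k k₁] {x : K}
    (hx : Transcendental k x) : Transcendental k₁ (algebraMap K L x) := by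
  intro halg
  have h1 : IsAlgebraic k (algebraMap K L x) := halg.restrictScalars k
  exact hx ((isAlgebraic_algebraMap_iff (algebraMap K L).injective).mp h1)

lemma map_mem_adjoin (x : K) (w : K) (hw : w ∈ k⟮x⟯) :
    algebraMap K L w ∈ k₁⟮algebraMap K L x⟯ := by
  have h1 : (IsScalarTower.toAlgHom k K L) w ∈ (k⟮x⟯).map (IsScalarTower.toAlgHom k K L) :=
    ⟨w, hw, rfl⟩
  rw [IntermediateField.adjoin_map, Set.image_singleton] at h1
  have h2 : adjoin k ({IsScalarTower.toAlgHom k K L x} : Set L) ≤
      (k₁⟮algebraMap K L x⟯).restrictScalars k := by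
    rw [adjoin_le_iff, Set.singleton_subset_iff]
    exact mem_adjoin_simple_self k₁ _
  exact h2 h1

/-- transfer of separability from `k(x)` to `k₁(x)` -/
lemma isSeparable_adjoin_of_root (x : K) (z : L) (q : (k⟮x⟯)[X]) (hq : q.Separable)
    (hz : eval₂ ((algebraMap K L).comp (algebraMap k⟮x⟯ K)) z q = 0) :
    IsSeparable k₁⟮algebraMap K L x⟯ z := by
  set E := k₁⟮algebraMap K L x⟯ with hE
  let φ : k⟮x⟯ →+* E := RingHom.codRestrict ((algebraMap K L).comp (algebraMap k⟮x⟯ K)) E
    (fun w => map_mem_adjoin x (w : K) w.2)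
  have hφ : (algebraMap E L).comp φ = (algebraMap K L).comp (algebraMap k⟮x⟯ K) := by
    ext w; rfl
  have hroot : aeval z (q.map φ) = 0 := by
    rw [aeval_def, eval₂_map, hφ]
    exact hz
  exact (hq.map (f := φ)).of_dvd (minpoly.dvd E z hroot)

/-- `k₁ K` has a separating variable over `k₁` if `K` has one over `k` -/
theorem hasSepVar_of_surjective [Algebra.IsAlgebraic k k₁]
    (hsurj : Function.Surjective (Algebra.TensorProduct.productMap
      (IsScalarTower.toAlgHom k k₁ L) (IsScalarTower.toAlgHom k K L)))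
    (hsv : HasSepVar k K) : HasSepVar k₁ L := by
  obtain ⟨x, hx, hsep⟩ := hsv
  refine ⟨algebraMap K L x, transcendental_map_of_isAlgebraic hx, ?_⟩
  set E := k₁⟮algebraMap K L x⟯ with hE
  have key : ∀ t : k₁ ⊗[k] K, Algebra.TensorProduct.productMap
      (IsScalarTower.toAlgHom k k₁ L) (IsScalarTower.toAlgHom k K L) t ∈ separableClosure E L := by
    intro t
    induction t using TensorProduct.induction_on with
    | zero => rw [map_zero]; exact zero_mem _
    | tmul a c =>
      rw [Algebra.TensorProduct.productMap_apply_tmul]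
      apply mul_mem
      · have h1 : IsScalarTower.toAlgHom k k₁ L a = algebraMap E L (algebraMap k₁ E a) := rfl
        rw [h1]
        exact (separableClosure E L).algebraMap_mem _
      · rw [mem_separableClosure_iff]
        have hc : IsSeparable k⟮x⟯ c := Algebra.IsSeparable.isSeparable k⟮x⟯ c
        apply isSeparable_adjoin_of_root x _ (minpoly k⟮x⟯ c) hc
        show eval₂ ((algebraMap K L).comp (algebraMap k⟮x⟯ K)) (algebraMap K L c) _ = 0
        rw [← Polynomial.hom_eval₂, ← aeval_def, minpoly.aeval, map_zero]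
    | add s t hs ht => rw [map_add]; exact add_mem hs ht
  refine ⟨fun z => ?_⟩
  obtain ⟨t, rfl⟩ := hsurj z
  exact mem_separableClosure_iff.mp (key t)

/-- a separable algebraic extension keeps the separating variable -/
theorem hasSepVar_of_isSeparable [Algebra.IsAlgebraic k k₁] [Algebra.IsSeparable K L]
    (hsv : HasSepVar k K) : HasSepVar k₁ L := by
  obtain ⟨x, hx, hsep⟩ := hsv
  refine ⟨algebraMap K L x, transcendental_map_of_isAlgebraic hx, ?_⟩
  refine ⟨fun z => ?_⟩
  have hcomp : algebraMap k⟮x⟯ L = (algebraMap K L).comp (algebraMap k⟮x⟯ K) := rfl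
  have hz : IsSeparable K z := Algebra.IsSeparable.isSeparable K z
  have hz' : IsSeparable k⟮x⟯ z := IsSeparable.of_algebra_isSeparable_of_isSeparable k⟮x⟯ hz
  apply isSeparable_adjoin_of_root x z (minpoly k⟮x⟯ z) hz'
  have := minpoly.aeval k⟮x⟯ z
  rw [aeval_def, hcomp] at this
  exact this

end transfer

section tensor

variable {k k₁ : Type u} {K : Type v} [Field k] [Field k₁] [Field K]
  [Algebra k k₁] [Algebra k K]

attribute [local instance] Algebra.TensorProduct.rightAlgebra

/-- the tensor product, when a field, has a separating variable -/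
theorem hasSepVar_tensor [Algebra.IsAlgebraic k k₁] (hF : IsField (k₁ ⊗[k] K))
    (hsv : HasSepVar k K) :
    @HasSepVar k₁ (k₁ ⊗[k] K) _ hF.toField _ := by
  letI : Field (k₁ ⊗[k] K) := hF.toField
  apply hasSepVar_of_surjective (k := k) (k₁ := k₁) (K := K) (L := k₁ ⊗[k] K) _ hsv
  intro t
  refine ⟨t, ?_⟩
  induction t using TensorProduct.induction_on with
  | zero => rw [map_zero]
  | tmul a c =>
    rw [Algebra.TensorProduct.productMap_apply_tmul]
    show (a ⊗ₜ[k] (1 : K)) * ((1 : k₁) ⊗ₜ[k] c) = a ⊗ₜ[k] c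
    rw [Algebra.TensorProduct.tmul_mul_tmul, mul_one, one_mul]
  | add s t hs ht => rw [map_add, hs, ht]

end tensor

section induction

lemma isField_of_tower {k : Type u} {K : Type v} [Field k] [Field K] [Algebra k K]
    {k₂ k₁ : Type u} [Field k₂] [Field k₁] [Algebra k k₂] [Algebra k k₁] [Algebra k₂ k₁]
    [IsScalarTower k k₂ k₁] (hf₂ : IsField (k₂ ⊗[k] K))
    (h : @IsField (k₁ ⊗[k₂] (k₂ ⊗[k] K))
      (@Algebra.TensorProduct.instSemiring k₂ k₁ (k₂ ⊗[k] K) _ _ _
        (hf₂.toField).toSemifield.toDivisionSemiring.toSemiring _)) :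
    IsField (k₁ ⊗[k] K) := by
  let e2 : k₁ ⊗[k₂] (k₂ ⊗[k] K) ≃ₐ[k₂] k₁ ⊗[k] K :=
    Algebra.TensorProduct.cancelBaseChange k k₂ k₂ k₁ K
  exact e2.symm.toMulEquiv.isField h

/-- finite purely inseparable constant extensions keep the tensor product a field, in the
presence of a separating variable -/
theorem isField_tensor_of_isPurelyInseparable :
    ∀ (n : ℕ) (k : Type u) (K : Type (max u w)) [Field k] [Field K] [Algebra k K]
      (_ : HasSepVar k K) (k₁ : Type u) [Field k₁] [Algebra k k₁] [FiniteDimensional k k₁]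
      [IsPurelyInseparable k k₁], Module.finrank k k₁ ≤ n → IsField (k₁ ⊗[k] K) := by
  intro n
  induction n with
  | zero =>
    intro k K _ _ _ _ k₁ _ _ _ _ hn
    have : 0 < Module.finrank k k₁ := Module.finrank_pos
    omega
  | succ n ih =>
    intro k K _ _ _ hsv k₁ _ _ _ _ hn
    by_cases hbij : Function.Surjective (algebraMap k k₁)
    · let e : k ≃ₐ[k] k₁ := AlgEquiv.ofBijective (Algebra.ofId k k₁)
        ⟨(algebraMap k k₁).injective, hbij⟩
      let e1 : k₁ ⊗[k] K ≃ₐ[k] k ⊗[k] K := Algebra.TensorProduct.congr e.symm AlgEquiv.refl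
      let e2 : k ⊗[k] K ≃ₐ[k] K := Algebra.TensorProduct.lid k K
      exact (e1.trans e2).toMulEquiv.isField (Field.toIsField K)
    · obtain ⟨q, hq⟩ := ExpChar.exists k
      have hex : ∃ θ₀ : k₁, θ₀ ∉ Set.range (algebraMap k k₁) := by
        by_contra hcon
        push Not at hcon
        exact hbij hcon
      obtain ⟨θ₀, hθ₀⟩ := hex
      have hpm : ∃ m : ℕ, θ₀ ^ q ^ m ∈ (algebraMap k k₁).range :=
        IsPurelyInseparable.pow_mem k q θ₀
      classical
      set m := Nat.find hpm with hm
      have hm1 : θ₀ ^ q ^ m ∈ (algebraMap k k₁).range := Nat.find_spec hpm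
      have hm0 : m ≠ 0 := by
        intro h0
        rw [h0, pow_zero, pow_one] at hm1
        exact hθ₀ hm1
      obtain ⟨m', hm'⟩ := Nat.exists_eq_succ_of_ne_zero hm0
      set θ := θ₀ ^ q ^ m' with hθdef
      have hθ : θ ∉ Set.range (algebraMap k k₁) := by
        intro h
        have : m ≤ m' := Nat.find_min' hpm h
        omega
      have hθq : θ ^ q ∈ (algebraMap k k₁).range := by
        have : θ ^ q = θ₀ ^ q ^ m := by
          rw [hθdef, ← pow_mul, hm', pow_succ]
        rw [this]; exact hm1
      obtain ⟨a, ha⟩ := hθq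
      have hqprime : q.Prime := by
        rcases hq with _ | ⟨hprime⟩
        · exfalso
          apply hθ
          rw [pow_one] at ha
          exact ⟨a, ha⟩
        · exact hprime
      have hcp : CharP k q := by
        rcases hq with _ | ⟨hprime⟩
        · exact absurd hqprime Nat.not_prime_one
        · infer_instance
      haveI : Fact q.Prime := ⟨hqprime⟩
      have hf₂ : IsField (k⟮θ⟯ ⊗[k] K) := isField_tensor_simple_insep q hsv θ hθ a ha.symm
      have hsv₂ := hasSepVar_tensor (k₁ := k⟮θ⟯) hf₂ hsv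
      -- degrees
      have hdeg : Module.finrank k k⟮θ⟯ * Module.finrank k⟮θ⟯ k₁ = Module.finrank k k₁ :=
        Module.finrank_mul_finrank k k⟮θ⟯ k₁
      have h2 : 2 ≤ Module.finrank k k⟮θ⟯ := by
        by_contra hlt
        push Not at hlt
        have h1 : Module.finrank k k⟮θ⟯ = 1 := by
          have : 0 < Module.finrank k k⟮θ⟯ := Module.finrank_pos
          omega
        have hbot : k⟮θ⟯ = ⊥ := IntermediateField.finrank_eq_one_iff.mp h1
        have hmem : θ ∈ (⊥ : IntermediateField k k₁) := by
          rw [← hbot]; exact mem_adjoin_simple_self k θ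
        rw [IntermediateField.mem_bot] at hmem
        exact hθ hmem
      have hpos : 0 < Module.finrank k⟮θ⟯ k₁ := Module.finrank_pos
      have hle : Module.finrank k⟮θ⟯ k₁ ≤ n := by
        by_contra hlt
        push Not at hlt
        have : 2 * (n + 1) ≤ Module.finrank k k⟮θ⟯ * Module.finrank k⟮θ⟯ k₁ :=
          Nat.mul_le_mul h2 hlt
        omega
      haveI : IsPurelyInseparable k⟮θ⟯ k₁ := IsPurelyInseparable.tower_top k k⟮θ⟯ k₁
      have hfield := @ih k⟮θ⟯ (k⟮θ⟯ ⊗[k] K) _ hf₂.toField _ hsv₂ k₁ _ _ _ _ hle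
      exact isField_of_tower hf₂ hfield

/-- a function field with a separating variable is geometric -/
theorem isGeometric_of_hasSepVar {k : Type u} {K : Type v} [Field k] [Field K] [Algebra k K]
    (hK : IsFunctionField k K) (hsv : HasSepVar k K) : IsGeometric k K := by
  intro k'' _ _ hfin
  have hfs : IsField (separableClosure k k'' ⊗[k] K) :=
    isField_tensor_of_isSeparable hK (separableClosure k k'')
  have hsvs := hasSepVar_tensor (k₁ := separableClosure k k'') hfs hsv
  have : IsPurelyInseparable (separableClosure k k'') k'' :=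
    separableClosure.isPurelyInseparable k k''
  have hfield := @isField_tensor_of_isPurelyInseparable.{u, v}
    (Module.finrank (separableClosure k k'') k'') (separableClosure k k'')
    (separableClosure k k'' ⊗[k] K) _ hfs.toField _ hsvs k'' _ _ _ _ le_rfl
  exact isField_of_tower hfs hfield

/-- the constant field of a finite extension is algebraic over the base constant field -/
theorem isAlgebraic_constants {k k' : Type u} {K K' : Type v} [Field k] [Field k'] [Field K]
    [Field K'] [Algebra k k'] [Algebra k K] [Algebra K K'] [Algebra k' K'] [Algebra k K']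
    [IsScalarTower k k' K'] [IsScalarTower k K K'] [FiniteDimensional K K']
    (hK : IsFunctionField k K) (hK' : IsFunctionField k' K') : Algebra.IsAlgebraic k k' := by
  have h1 := lift_trdeg_add_eq k K K'
  have h2 := lift_trdeg_add_eq k k' K'
  have h3 : Algebra.trdeg K K' = 0 := trdeg_eq_zero
  have h4 : Algebra.trdeg k K ≤ 1 := trdeg_le_one_of_isFunctionField hK
  obtain ⟨⟨x', hx', -⟩, -⟩ := hK'
  have : Algebra.Transcendental k' K' := ⟨⟨x', hx'⟩⟩
  have h5 : 0 < Algebra.trdeg k' K' := trdeg_pos k' K'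
  rw [← trdeg_eq_zero_iff]
  by_contra hne
  have h6 : 1 ≤ Algebra.trdeg k k' := Cardinal.one_le_iff_ne_zero.mpr hne
  have h7 : 1 ≤ Algebra.trdeg k' K' := Cardinal.one_le_iff_pos.mpr h5
  rw [h3, Cardinal.lift_zero, add_zero] at h1
  rw [Cardinal.lift_id, Cardinal.lift_id] at h1
  have h8 : Algebra.trdeg k K' ≤ 1 := h1 ▸ h4
  have h9 : Cardinal.lift.{u} (Algebra.trdeg k K') ≤ 1 := by
    calc Cardinal.lift.{u} (Algebra.trdeg k K') ≤ Cardinal.lift.{u} 1 := Cardinal.lift_le.mpr h8
      _ = 1 := Cardinal.lift_one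
  have h10 : (1 : Cardinal) + 1 ≤ Cardinal.lift.{v} (Algebra.trdeg k k') +
      Cardinal.lift.{u} (Algebra.trdeg k' K') := by
    apply add_le_add
    · rw [← Cardinal.lift_one.{u, v}]; exact Cardinal.lift_le.mpr h6
    · rw [← Cardinal.lift_one.{v, u}]; exact Cardinal.lift_le.mpr h7
  rw [h2] at h10
  have h11 : (1 : Cardinal.{max u v}) + 1 ≤ 1 := h10.trans h9
  have h12 : (2 : Cardinal.{max u v}) ≤ 1 := by
    rw [← one_add_one_eq_two]
    exact h11
  norm_num at h12

end induction

end Groth.Agent.FF
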