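import Groth.Agent.FunFld.HypGenus
import Groth.Agent.FunFld.AS2Diff
import Groth.Agent.FunFld.SepGeom

/-!
# Regular differentials of a hyperelliptic function field `y² = f(x)` in characteristic `≠ 2`
-/

set_option autoImplicit false
set_option linter.unusedSectionVars false

open FunFld IntermediateField WithZero Polynomial

namespace Groth.Agent.FF.Hyp

open Groth.Agent.FF.Ext Groth.Agent.FF.AS2 Groth.Agent.H57

universe u v w

section General

variable {k : Type u} {K : Type v} [Field k] [Field K] [Algebra k K]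

/-- differentiating a polynomial expression (coefficients in `k`) through an expansion -/
lemma D_exp_aeval {F : Type w} [Field F] [Algebra k F] (ψ : K →ₐ[k] LaurentSeries F) (x : K)
    (q : k[X]) :
    LocRes.D F (ψ (aeval x q)) = ψ (aeval x (derivative q)) * LocRes.D F (ψ x) := by
  let _i := ψ.toRingHom.toAlgebra
  exact (LocRes.dExp ψ).map_aeval q x

/-- a nonnegative divisor of degree zero is zero -/
lemma eq_zero_of_nonneg_of_deg_eq_zero (hK : IsFunctionField k K) {E : Divisor k K} (hE : 0 ≤ E)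
    (hdeg : E.deg = 0) : E = 0 := by
  unfold Divisor.deg Finsupp.sum at hdeg
  have hnn : ∀ P ∈ E.support, 0 ≤ E P * (P.deg : ℤ) := fun P _ =>
    mul_nonneg (hE P) (by positivity)
  have h0 := (Finset.sum_eq_zero_iff_of_nonneg hnn).mp hdeg
  ext P
  by_cases hP : P ∈ E.support
  · have h1 := h0 P hP
    have h2 : (0 : ℤ) < P.deg := by exact_mod_cast deg_pos hK P
    rcases mul_eq_zero.mp h1 with h | h
    · rw [h]; rfl
    · omega
  · rw [Finsupp.notMem_support_iff.mp hP]; rfl

end General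

section ConstTerm

variable {k : Type u} {K : Type v} [Field k] [Field K] [Algebra k K]
  {F : Type w} [Field F] [Algebra k F]

lemma val_coe_lt_one_iff (W : PowerSeries F) :
    Valued.v (W : LaurentSeries F) < (1 : ℤᵐ⁰) ↔ PowerSeries.constantCoeff W = 0 := by
  have h1 : Valued.v (W : LaurentSeries F) ≤ (exp (-(1 : ℤ)) : ℤᵐ⁰) ↔
      PowerSeries.constantCoeff W = 0 := by
    rw [LaurentSeries.valuation_le_iff_coeff_lt_eq_zero]
    constructor
    · intro h
      have := h 0 (by norm_num)
      rwa [PowerSeries.coeff_coe, if_neg (by norm_num), Int.natAbs_zero,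
        PowerSeries.coeff_zero_eq_constantCoeff] at this
    · intro h n hn
      rw [PowerSeries.coeff_coe]
      split_ifs with hneg
      · rfl
      · have : n = 0 := by omega
        subst this
        rw [Int.natAbs_zero, PowerSeries.coeff_zero_eq_constantCoeff]
        exact h
  rw [← h1]
  constructor
  · intro h
    by_cases h0 : Valued.v (W : LaurentSeries F) = 0
    · rw [h0]
      exact zero_le
    · obtain ⟨n, hn⟩ : ∃ n : ℤ, Valued.v (W : LaurentSeries F) = (exp n : ℤᵐ⁰) :=
        ⟨log _, (exp_log h0).symm⟩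
      rw [hn, ← exp_zero, exp_lt_exp] at h
      rw [hn, exp_le_exp]
      omega
  · intro h
    refine lt_of_le_of_lt h ?_
    rw [← exp_zero, exp_lt_exp]
    norm_num

/-- reduction of polynomial expressions in an integral element modulo a place, read in the
coefficient field of an expansion -/
lemma exists_constTerm (P : Place k K) (ψ : K →ₐ[k] LaurentSeries F)
    (hψ : ∀ z : K, Valued.v (ψ z) = P.1 z) {x : K} (hx : P.1 x ≤ 1) :
    ∃ ξ : F, ∀ q : k[X], P.1 (aeval x q) < 1 ↔ aeval ξ q = 0 := by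
  have h1 : Valued.v (ψ x) ≤ (1 : ℤᵐ⁰) := by rw [hψ]; exact hx
  obtain ⟨U, hU⟩ := (LaurentSeries.val_le_one_iff_eq_coe F (ψ x)).mp h1
  refine ⟨PowerSeries.constantCoeff U, fun q => ?_⟩
  have e1 : ψ (aeval x q) = ((aeval U q : PowerSeries F) : LaurentSeries F) := by
    rw [← aeval_algHom_apply, ← hU, aeval_def, aeval_def]
    have h := hom_eval₂ q (algebraMap k (PowerSeries F)) (HahnSeries.ofPowerSeries ℤ F) U
    rw [h]
    congr 1
  have e2 : PowerSeries.constantCoeff (aeval U q) = aeval (PowerSeries.constantCoeff U) q := by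
    rw [aeval_def, aeval_def, hom_eval₂]
    congr 1
  rw [← hψ, e1, val_coe_lt_one_iff, e2]

end ConstTerm

section Sep

variable {k : Type u} {K : Type v} [Field k] [Field K] [Algebra k K]
  [Algebra (RatFunc k) K] [IsScalarTower k (RatFunc k) K]

local notation "ι" => algebraMap (Polynomial k) (RatFunc k)
local notation "j" => algebraMap (RatFunc k) K

namespace Setup

variable {y : K} {f : k[X]} (S : Setup K y f)
include S

/-- `K/k(x)` is separable -/
lemma isSeparable : Algebra.IsSeparable (RatFunc k) K := by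
  have hfd := S.fd
  have hfne : ι f ≠ 0 := ratFunc_algebraMap_ne_zero S.hf.ne_zero
  have h2F : ((2 : ℕ) : RatFunc k) ≠ 0 := by
    have h : ((2 : ℕ) : RatFunc k) = algebraMap k (RatFunc k) 2 := by
      rw [map_ofNat]; norm_num
    rw [h]
    exact (map_ne_zero_iff _ (algebraMap k (RatFunc k)).injective).mpr S.two_ne_zero_k
  have hsep : (X ^ 2 - C (ι f) : (RatFunc k)[X]).Separable :=
    separable_X_pow_sub_C (ι f) h2F hfne
  have hroot : aeval y (X ^ 2 - C (ι f) : (RatFunc k)[X]) = 0 := by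
    rw [map_sub, map_pow, aeval_X, aeval_C, S.heq, sub_self]
  have hysep : IsSeparable (RatFunc k) y := hsep.of_dvd (minpoly.dvd _ _ hroot)
  have hint : IsIntegral (RatFunc k) y := IsIntegral.of_finite _ _
  have htop : (RatFunc k)⟮y⟯ = ⊤ := by
    rw [Field.primitive_element_iff_minpoly_natDegree_eq, S.hdeg]
    have h1 : (minpoly (RatFunc k) y).natDegree ≤ 2 := by
      have := minpoly.natDegree_le (A := RatFunc k) y
      rwa [S.hdeg] at this
    have h2 : (minpoly (RatFunc k) y).natDegree ≠ 1 := by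
      intro h
      rw [minpoly.natDegree_eq_one_iff] at h
      exact S.hy h
    have h3 := minpoly.natDegree_pos hint
    omega
  have : Algebra.IsSeparable (RatFunc k) (RatFunc k)⟮y⟯ :=
    (isSeparable_adjoin_simple_iff_isSeparable (RatFunc k) K).mpr hysep
  rw [Algebra.isSeparable_def]
  intro z
  have hz : z ∈ (RatFunc k)⟮y⟯ := by rw [htop]; trivial
  exact isSeparable_of_mem_isSeparable (RatFunc k) K hz

lemma isGeometric : IsGeometric k K := by
  have := S.isSeparable
  exact isGeometric_of_hasSepVar S.hK ⟨j RatFunc.X, S.trans_x, isSeparable_adjoin⟩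

lemma D_x_ne_zero : KaehlerDifferential.D k K (j RatFunc.X) ≠ 0 := by
  have := S.isSeparable
  exact D_jX_ne_zero

end Setup

end Sep

section Local

variable {k : Type u} {K : Type v} [Field k] [Field K] [Algebra k K]
  [Algebra (RatFunc k) K] [IsScalarTower k (RatFunc k) K]

local notation "ι" => algebraMap (Polynomial k) (RatFunc k)
local notation "j" => algebraMap (RatFunc k) K

/-- a squarefree polynomial has nonvanishing derivative at a separable root -/
lemma aeval_derivative_ne_zero_of_squarefree {F : Type w} [Field F] [Algebra k F] {f : k[X]}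
    (hf : Squarefree f) {ξ : F} (hsep : IsSeparable k ξ) (hξ : aeval ξ f = 0) :
    aeval ξ (derivative f) ≠ 0 := by
  obtain ⟨h, hh⟩ := minpoly.dvd k ξ hξ
  have hm0 : aeval ξ (derivative (minpoly k ξ)) ≠ 0 :=
    hsep.aeval_derivative_ne_zero (minpoly.aeval k ξ)
  have hh0 : aeval ξ h ≠ 0 := by
    intro h0
    obtain ⟨h', hh'⟩ := minpoly.dvd k ξ h0
    have hsq : minpoly k ξ * minpoly k ξ ∣ f := ⟨h', by rw [hh, hh']; ring⟩
    exact (minpoly.irreducible hsep.isIntegral).not_isUnit (hf _ hsq)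
  rw [hh, derivative_mul, map_add, map_mul, map_mul, minpoly.aeval, zero_mul, add_zero]
  exact mul_ne_zero hm0 hh0

namespace Setup

variable {y : K} {f : k[X]} (S : Setup K y f)
include S

lemma y_ne_zero : y ≠ 0 := by
  intro h
  have := S.heq
  rw [h, zero_pow two_ne_zero] at this
  exact ratFunc_algebraMap_ne_zero S.hf.ne_zero ((map_eq_zero _).mp this.symm)

lemma sq_eq_aeval : y ^ 2 = aeval (j RatFunc.X) f := by rw [S.heq, S.jpoly]

/-- the basic inequality at a finite place -/
lemma val_D_x_le_of_finite {F : Type w} [Field F] [Algebra k F] [FiniteDimensional k F]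
    (P : Place k K) (ψ : K →ₐ[k] LaurentSeries F) (hψ : LocRes.IsExpansionAt P.1 ψ)
    (hP : P.1 (j RatFunc.X) ≤ 1) :
    Valued.v (LocRes.D F (ψ (j RatFunc.X))) ≤ P.1 y := by
  have hy1 : P.1 y ≤ 1 := by
    have h1 : P.1 y ^ 2 ≤ 1 := by
      rw [← map_pow, S.sq_eq_aeval]
      exact gval_aeval_le_one P.1 P.2.1 hP f
    exact (pow_le_one_iff_of_nonneg zero_le two_ne_zero).mp h1
  have hDy : Valued.v (LocRes.D F (ψ y)) ≤ (1 : ℤᵐ⁰) :=
    val_D_le_one (by rw [hψ.1]; exact hy1)
  rcases hy1.lt_or_eq with hlt | heq1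
  · -- `y` vanishes at `P`
    have hfx : P.1 (aeval (j RatFunc.X) f) < 1 := by
      rw [← S.sq_eq_aeval, map_pow]
      exact pow_lt_one₀ zero_le hlt two_ne_zero
    obtain ⟨ξ, hξ⟩ := exists_constTerm P ψ hψ.1 hP
    have hsepF : Algebra.IsSeparable k F := ResW.isSeparable_coeffField S.hK S.isGeometric P.1 ψ hψ
    have hξf : aeval ξ f = 0 := (hξ f).mp hfx
    have hne := aeval_derivative_ne_zero_of_squarefree S.hf (Algebra.IsSeparable.isSeparable k ξ) hξf
    have hval1 : P.1 (aeval (j RatFunc.X) (derivative f)) = 1 := by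
      apply le_antisymm (gval_aeval_le_one P.1 P.2.1 hP _)
      by_contra hnot
      rw [not_le] at hnot
      exact hne ((hξ _).mp hnot)
    have hrel : ψ (aeval (j RatFunc.X) (derivative f)) * LocRes.D F (ψ (j RatFunc.X)) =
        ψ y * LocRes.D F (ψ y) + ψ y * LocRes.D F (ψ y) := by
      rw [← D_exp_aeval, ← S.sq_eq_aeval, pow_two, map_mul, Derivation.leibniz, smul_eq_mul]
    have h1 : Valued.v (LocRes.D F (ψ (j RatFunc.X))) =
        Valued.v (ψ y * LocRes.D F (ψ y) + ψ y * LocRes.D F (ψ y)) := by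
      rw [← hrel, map_mul, hψ.1, hval1, one_mul]
    rw [h1]
    refine (Valuation.map_add _ _ _).trans ?_
    rw [max_self, map_mul, hψ.1]
    calc P.1 y * Valued.v (LocRes.D F (ψ y)) ≤ P.1 y * 1 := mul_le_mul' le_rfl hDy
      _ = P.1 y := mul_one _
  · rw [heq1]
    exact val_D_le_one (by rw [hψ.1]; exact hP)

/-- the basic inequality at an infinite place -/
lemma val_D_x_le_of_infinite {F : Type w} [Field F] [Algebra k F]
    (P : Place k K) (ψ : K →ₐ[k] LaurentSeries F) (hψ : LocRes.IsExpansionAt P.1 ψ)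
    (hP : 1 < P.1 (j RatFunc.X)) :
    Valued.v (LocRes.D F (ψ (j RatFunc.X))) ≤
      P.1 y * exp (-(((genus k K : ℤ) - 1) * poleDiv k (j RatFunc.X) P)) := by
  obtain ⟨h1, h2⟩ := S.poleDiv_of_one_lt P hP
  obtain ⟨e, he⟩ : ∃ e : ℤ, e = poleDiv k (j RatFunc.X) P := ⟨_, rfl⟩
  rw [← he] at h1 h2 ⊢
  have hvx : Valued.v (ψ (j RatFunc.X)) = exp (-(-e)) := by rw [hψ.1, h1, neg_neg]
  have hD := val_D_le hvx
  have hy0 := S.y_ne_zero
  have hym := val_eq_exp_neg_ord P hy0
  have hsq : P.1 y ^ 2 = P.1 (j RatFunc.X) ^ f.natDegree := by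
    rw [← map_pow, S.sq_eq_aeval, val_aeval_of_one_lt P hP S.hf.ne_zero]
  rw [hym, h1, ← exp_nsmul, ← exp_nsmul, exp_inj, nsmul_eq_mul, nsmul_eq_mul] at hsq
  refine hD.trans ?_
  rw [hym, ← exp_add, exp_le_exp]
  have hg := S.genus_eq
  have hd := S.hd
  obtain ⟨g, hg'⟩ : ∃ g : ℕ, g = genus k K := ⟨_, rfl⟩
  rw [← hg'] at hg ⊢
  obtain ⟨p, hp⟩ : ∃ p : ℤ, p = (g : ℤ) * e := ⟨_, rfl⟩
  have hcases : f.natDegree = 2 * g + 1 ∨ f.natDegree = 2 * g + 2 := by omega
  have hexp : ((g : ℤ) - 1) * e = p - e := by rw [hp]; ring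
  rw [hexp]
  rcases hcases with hc | hc
  · have : (f.natDegree : ℤ) * e = 2 * p + e := by rw [hc, hp]; push_cast; ring
    push_cast at hsq
    omega
  · have : (f.natDegree : ℤ) * e = 2 * p + 2 * e := by rw [hc, hp]; push_cast; ring
    push_cast at hsq
    omega

/-- the basic inequality at every place -/
lemma val_D_x_le {F : Type w} [Field F] [Algebra k F] [FiniteDimensional k F]
    (P : Place k K) (ψ : K →ₐ[k] LaurentSeries F) (hψ : LocRes.IsExpansionAt P.1 ψ) :
    Valued.v (LocRes.D F (ψ (j RatFunc.X))) ≤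
      P.1 y * exp (-(((genus k K : ℤ) - 1) * poleDiv k (j RatFunc.X) P)) := by
  by_cases hP : P.1 (j RatFunc.X) ≤ 1
  · rw [S.poleDiv_of_le_one P hP, mul_zero, neg_zero, exp_zero, mul_one]
    exact S.val_D_x_le_of_finite P ψ hψ hP
  · exact S.val_D_x_le_of_infinite P ψ hψ (not_le.mp hP)

end Setup

end Local

section Final

variable {k : Type u} {K : Type v} [Field k] [Field K] [Algebra k K]
  [Algebra (RatFunc k) K] [IsScalarTower k (RatFunc k) K]

local notation "ι" => algebraMap (Polynomial k) (RatFunc k)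
local notation "j" => algebraMap (RatFunc k) K

namespace Setup

variable {y : K} {f : k[X]} (S : Setup K y f)
  (F : Place k K → Type w) [∀ P, Field (F P)] [∀ P, Algebra k (F P)]
  [∀ P, FiniteDimensional k (F P)]
  (φ : ∀ P, K →ₐ[k] LaurentSeries (F P)) (hφ : ∀ P, LocRes.IsExpansionAt P.1 (φ P))
include S hφ

/-- the divisor of `dx` is `div y + (g - 1) (x)_∞` -/
theorem ordDiff_x (P : Place k K) :
    LocRes.ordDiff (φ P) 1 (j RatFunc.X) =
      P.ord y + ((genus k K : ℤ) - 1) * poleDiv k (j RatFunc.X) P := by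
  have hD := S.D_x_ne_zero
  obtain ⟨C, hC, hcan, -, -⟩ :=
    ResW.exists_divisor_dv S.hK S.isGeometric F φ hφ (j RatFunc.X) hD
  obtain ⟨E, hE⟩ : ∃ E : Divisor k K, E = C - FunFld.div k y -
      ((genus k K : ℤ) - 1) • poleDiv k (j RatFunc.X) := ⟨_, rfl⟩
  have hEdeg : E.deg = 0 := by
    rw [hE, deg_sub, deg_sub, deg_zsmul, deg_div_eq_zero S.hK, S.deg_poleDiv,
      deg_canonical S.hK hcan]
    ring
  have hEP : ∀ Q, E Q = C Q - Q.ord y - ((genus k K : ℤ) - 1) * poleDiv k (j RatFunc.X) Q := by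
    intro Q
    rw [hE, Finsupp.sub_apply, Finsupp.sub_apply, Finsupp.smul_apply, div_apply S.hK, smul_eq_mul]
  have hnn : 0 ≤ E := by
    intro Q
    rw [hEP, Finsupp.zero_apply]
    have h := S.val_D_x_le Q (φ Q) (hφ Q)
    have hne : LocRes.D (F Q) (φ Q (j RatFunc.X)) ≠ 0 :=
      ResW.D_expansion_ne_zero_of_D_ne_zero S.hK S.isGeometric hD Q.1 (φ Q) (hφ Q)
    have hv : Valued.v (LocRes.D (F Q) (φ Q (j RatFunc.X))) = exp (-(C Q)) := by
      rw [hC]
      unfold LocRes.ordDiff LocRes.vDiff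
      rw [map_one, one_mul, neg_neg, exp_log ((Valuation.ne_zero_iff _).2 hne)]
    rw [hv, val_eq_exp_neg_ord Q S.y_ne_zero, ← exp_add, exp_le_exp] at h
    linarith
  have hE0 := eq_zero_of_nonneg_of_deg_eq_zero S.hK hnn hEdeg
  have h := hEP P
  rw [hE0, Finsupp.zero_apply, hC] at h
  linarith

/-- the forms `x^i dx / y`, `i < g`, are regular -/
theorem regular_of_lt {i : ℕ} (hi : i < genus k K) (P : Place k K) :
    LocRes.vDiff (φ P) (j RatFunc.X ^ i / y) (j RatFunc.X) ≤ 1 := by
  have hD := S.D_x_ne_zero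
  have h := (ResW.vDiff_le_iff S.hK S.isGeometric F φ hφ (j RatFunc.X) hD
    (j RatFunc.X ^ i / y) P 0)
  rw [neg_zero, exp_zero, sub_zero] at h
  rw [h, S.ordDiff_x F φ hφ P, map_div₀, val_eq_exp_neg_ord P S.y_ne_zero,
    div_le_iff₀ (zero_lt_iff.mpr exp_ne_zero), ← exp_add]
  have e1 : P.ord y + ((genus k K : ℤ) - 1) * poleDiv k (j RatFunc.X) P + -P.ord y =
      ((genus k K - 1 : ℕ) : ℤ) * poleDiv k (j RatFunc.X) P := by
    rw [Nat.cast_sub (by omega)]
    push_cast
    ring
  rw [e1]
  have h2 := S.val_poly_le P (q := X ^ i) (m := genus k K - 1) (by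
    rw [natDegree_X_pow]; omega)
  rwa [map_pow, aeval_X] at h2

/-- every regular form is `a(x) dx / y` with `deg a < g` -/
theorem exists_of_regular {z : K}
    (hz : ∀ P, LocRes.vDiff (φ P) z (j RatFunc.X) ≤ 1) :
    ∃ a : k[X], a.degree < (genus k K : WithBot ℕ) ∧ z = j (ι a) / y := by
  have hD := S.D_x_ne_zero
  have hy0 := S.y_ne_zero
  have hzP : ∀ P, P.1 (z * y) ≤ exp (((genus k K : ℤ) - 1) * poleDiv k (j RatFunc.X) P) := by
    intro P
    have h := (ResW.vDiff_le_iff S.hK S.isGeometric F φ hφ (j RatFunc.X) hD z P 0)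
    rw [neg_zero, exp_zero, sub_zero] at h
    have h1 := h.mp (hz P)
    rw [S.ordDiff_x F φ hφ P] at h1
    rw [map_mul, val_eq_exp_neg_ord P hy0]
    calc P.1 z * exp (-P.ord y) ≤
        exp (P.ord y + ((genus k K : ℤ) - 1) * poleDiv k (j RatFunc.X) P) * exp (-P.ord y) :=
          mul_le_mul' h1 le_rfl
      _ = exp (((genus k K : ℤ) - 1) * poleDiv k (j RatFunc.X) P) := by
          rw [← exp_add]
          congr 1
          ring
  by_cases hg0 : genus k K = 0
  · -- no regular forms
    have hmem : z * y ∈ L ((-1 : ℤ) • poleDiv k (j RatFunc.X)) := by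
      intro P
      have h := hzP P
      rw [hg0] at h
      rw [Finsupp.smul_apply, smul_eq_mul]
      simpa using h
    have hdeg : ((-1 : ℤ) • poleDiv k (j RatFunc.X)).deg < 0 := by
      rw [deg_zsmul, S.deg_poleDiv]
      norm_num
    rw [L_eq_bot_of_deg_neg S.hK _ hdeg, Submodule.mem_bot] at hmem
    have hz0 : z = 0 := by
      rcases mul_eq_zero.mp hmem with h | h
      · exact h
      · exact absurd h hy0
    refine ⟨0, ?_, ?_⟩
    · rw [degree_zero]
      exact WithBot.bot_lt_coe _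
    · rw [hz0, map_zero, map_zero, zero_div]
  · have hmem : z * y ∈ L (nD k K (genus k K - 1)) := by
      intro P
      rw [nD_apply, Nat.cast_sub (by omega)]
      push_cast
      exact hzP P
    obtain ⟨a, b, ha, hb, hab⟩ := S.exists_of_mem_L hmem
    have hg := S.genus_eq
    have hb0 : b = 0 := by
      rcases hb with hb | hb
      · exact hb
      · exfalso
        omega
    rw [hb0, map_zero, zero_mul, add_zero] at hab
    refine ⟨a, ?_, ?_⟩
    · refine lt_of_le_of_lt degree_le_natDegree ?_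
      have : a.natDegree < genus k K := by omega
      exact_mod_cast this
    · rw [S.jpoly, ← hab, mul_div_assoc, div_self hy0, mul_one]

end Setup

end Final

end Groth.Agent.FF.Hyp
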