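import Groth.Agent.FunFld.ASPGenus
import Groth.Agent.FunFld.HypOmega

/-!
# Regular differentials of `y² + y = f(x)` in characteristic `2` over a perfect constant field
-/

set_option autoImplicit false
set_option linter.unusedSectionVars false

open FunFld IntermediateField WithZero Polynomial

namespace Groth.Agent.FF.ASP

open Groth.Agent.FF.Ext Groth.Agent.FF.AS2 Groth.Agent.FF.Hyp Groth.Agent.H57

universe u v w

section Poly

variable {k : Type u} [Field k]

/-- the "Wronskian" `a' b - a b'` of a fraction whose denominator is exactly divisible by `π^m`,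
`m` prime to the characteristic, is not divisible by `π^m` -/
lemma not_pow_dvd_wronskian {π a b₁ : k[X]} {m : ℕ} (hm : 1 ≤ m) (hmk : (m : k) ≠ 0)
    (hπ : Irreducible π) (hsep : ¬ π ∣ derivative π) (ha : ¬ π ∣ a) (hb₁ : ¬ π ∣ b₁) :
    ¬ π ^ m ∣ (derivative a * (π ^ m * b₁) - a * derivative (π ^ m * b₁)) := by
  obtain ⟨n, rfl⟩ : ∃ n, m = n + 1 := ⟨m - 1, by omega⟩
  have hprime : Prime π := hπ.prime
  have hW : derivative a * (π ^ (n + 1) * b₁) - a * derivative (π ^ (n + 1) * b₁) =
      π ^ n * (π * (derivative a * b₁ - a * derivative b₁) -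
        C ((n + 1 : ℕ) : k) * (a * derivative π * b₁)) := by
    rw [derivative_mul, derivative_pow]
    simp only [Nat.add_sub_cancel]
    ring
  rw [hW, pow_succ]
  intro hdvd
  have h1 : π ∣ π * (derivative a * b₁ - a * derivative b₁) -
      C ((n + 1 : ℕ) : k) * (a * derivative π * b₁) :=
    (mul_dvd_mul_iff_left (pow_ne_zero n hπ.ne_zero)).mp hdvd
  have h2 : π ∣ C ((n + 1 : ℕ) : k) * (a * derivative π * b₁) := by
    have := dvd_sub (dvd_mul_right π (derivative a * b₁ - a * derivative b₁)) h1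
    rwa [sub_sub_cancel] at this
  rcases hprime.dvd_or_dvd h2 with h | h
  · exact hπ.not_isUnit (isUnit_of_dvd_unit h (isUnit_C.mpr (isUnit_iff_ne_zero.mpr hmk)))
  · rcases hprime.dvd_or_dvd h with h | h
    · rcases hprime.dvd_or_dvd h with h | h
      · exact ha h
      · exact hsep h
    · exact hb₁ h

/-- the degree of the "Wronskian" `a' b - a b'` -/
lemma wronskian_coeff_ne_zero {a b : k[X]} (hdeg : 1 ≤ a.natDegree)
    (hne : (a.natDegree : k) - (b.natDegree : k) ≠ 0) (hb : b ≠ 0) :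
    (derivative a * b - a * derivative b).coeff (a.natDegree + b.natDegree - 1) ≠ 0 := by
  have ha : a ≠ 0 := by
    rintro rfl
    rw [natDegree_zero] at hdeg
    omega
  rw [coeff_sub]
  have h1 : (derivative a * b).coeff (a.natDegree + b.natDegree - 1) =
      a.leadingCoeff * (a.natDegree : k) * b.leadingCoeff := by
    have e : a.natDegree + b.natDegree - 1 = (a.natDegree - 1) + b.natDegree := by omega
    rw [e, coeff_mul_add_eq_of_natDegree_le (natDegree_derivative_le a) le_rfl, coeff_derivative]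
    have e2 : a.natDegree - 1 + 1 = a.natDegree := by omega
    rw [e2]
    have e3 : ((a.natDegree - 1 : ℕ) : k) + 1 = (a.natDegree : k) := by
      rw [← Nat.cast_one (R := k), ← Nat.cast_add, e2]
    rw [e3]
    rfl
  have h2 : (a * derivative b).coeff (a.natDegree + b.natDegree - 1) =
      a.leadingCoeff * (b.leadingCoeff * (b.natDegree : k)) := by
    by_cases hb0 : b.natDegree = 0
    · rw [derivative_of_natDegree_zero hb0, mul_zero, coeff_zero, hb0, Nat.cast_zero, mul_zero,
        mul_zero]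
    · have e : a.natDegree + b.natDegree - 1 = a.natDegree + (b.natDegree - 1) := by omega
      rw [e, coeff_mul_add_eq_of_natDegree_le le_rfl (natDegree_derivative_le b), coeff_derivative]
      have e2 : b.natDegree - 1 + 1 = b.natDegree := by omega
      rw [e2]
      have e3 : ((b.natDegree - 1 : ℕ) : k) + 1 = (b.natDegree : k) := by
        rw [← Nat.cast_one (R := k), ← Nat.cast_add, e2]
      rw [e3]
      rfl
  rw [h1, h2]
  have : a.leadingCoeff * (a.natDegree : k) * b.leadingCoeff -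
      a.leadingCoeff * (b.leadingCoeff * (b.natDegree : k)) =
      a.leadingCoeff * b.leadingCoeff * ((a.natDegree : k) - (b.natDegree : k)) := by ring
  rw [this]
  exact mul_ne_zero (mul_ne_zero (leadingCoeff_ne_zero.mpr ha) (leadingCoeff_ne_zero.mpr hb)) hne

lemma natDegree_wronskian_ge {a b : k[X]} (hdeg : 1 ≤ a.natDegree)
    (hne : (a.natDegree : k) - (b.natDegree : k) ≠ 0) (hb : b ≠ 0) :
    derivative a * b - a * derivative b ≠ 0 ∧
      a.natDegree + b.natDegree - 1 ≤ (derivative a * b - a * derivative b).natDegree := by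
  have h := wronskian_coeff_ne_zero hdeg hne hb
  refine ⟨?_, le_natDegree_of_ne_zero h⟩
  intro h0
  rw [h0, coeff_zero] at h
  exact h rfl

end Poly

section Local

variable {k : Type u} {K : Type v} [Field k] [Field K] [Algebra k K]

/-- the differentiated Artin–Schreier equation, cleared of denominators -/
lemma D_relation [CharP k 2] {F : Type w} [Field F] [Algebra k F] (ψ : K →ₐ[k] LaurentSeries F)
    {x y : K} {a b : k[X]} (h : aeval x b * (y ^ 2 + y) = aeval x a) :
    ψ (aeval x b) ^ 2 * LocRes.D F (ψ y) =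
      LocRes.D F (ψ x) * ψ (aeval x (derivative a * b - a * derivative b)) := by
  have h2 : (2 : LaurentSeries F) = 0 := by
    have : (2 : LaurentSeries F) = algebraMap k (LaurentSeries F) 2 := (map_ofNat _ 2).symm
    rw [this, CharTwo.two_eq_zero, map_zero]
  have e2 := congrArg ψ h
  rw [map_mul] at e2
  have e1 := congrArg (LocRes.D F) e2
  have hsq : LocRes.D F (ψ (y ^ 2 + y)) = LocRes.D F (ψ y) := by
    rw [map_add, map_add, map_pow, sq, Derivation.leibniz, smul_eq_mul, ← two_mul, h2, zero_mul,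
      zero_add]
  rw [Derivation.leibniz, D_exp_aeval, D_exp_aeval, hsq, smul_eq_mul, smul_eq_mul] at e1
  rw [map_sub, map_mul, map_mul, map_sub, map_mul, map_mul]
  linear_combination (ψ (aeval x b)) * e1 - ψ (aeval x (derivative b)) * LocRes.D F (ψ x) * e2

/-- a multiplicative bookkeeping lemma -/
lemma key_bound {vx vy : ℤᵐ⁰} {β ω c t : ℤ} (hrel : exp β ^ 2 * vy = vx * exp ω)
    (hvy : vy ≤ exp c) (ht : 2 * β + c - ω ≤ t) : vx ≤ exp t := by
  have h1 : vx = exp β ^ 2 * vy * exp (-ω) := by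
    rw [hrel, mul_assoc, ← exp_add, add_neg_cancel, exp_zero, mul_one]
  rw [h1]
  calc exp β ^ 2 * vy * exp (-ω) ≤ exp β ^ 2 * exp c * exp (-ω) :=
        mul_le_mul' (mul_le_mul' le_rfl hvy) le_rfl
    _ = exp (2 * β + c - ω) := by
        rw [← exp_nsmul, ← exp_add, ← exp_add, nsmul_eq_mul]
        congr 1
    _ ≤ exp t := exp_le_exp.mpr ht

end Local

section RatFuncFacts

variable {k : Type u} [Field k]

local notation "ι" => algebraMap (Polynomial k) (RatFunc k)

/-- numerator and denominator at a finite pole -/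
lemma denom_factor {p : Place k (RatFunc k)} {π : k[X]} (hπ : Irreducible π)
    (hp : p.1 (ι π) < 1) {f : RatFunc k} {m : ℕ} (hm : 1 ≤ m) (hord : p.ord f = -(m : ℤ)) :
    ¬ π ∣ f.num ∧ ∃ b₁ : k[X], ¬ π ∣ b₁ ∧ f.denom = π ^ m * b₁ := by
  have hf0 : f ≠ 0 := by
    rintro rfl
    rw [ord_zero] at hord
    omega
  have hnum0 : f.num ≠ 0 := RatFunc.num_ne_zero hf0
  have hden0 : f.denom ≠ 0 := RatFunc.denom_ne_zero f
  obtain ⟨t, b₁, hb₁, hden⟩ := WfDvdMonoid.max_power_factor hden0 hπ
  obtain ⟨s, a₁, ha₁, hnum⟩ := WfDvdMonoid.max_power_factor hnum0 hπ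
  have h1 : p.ord f = (s : ℤ) - t := by
    conv_lhs => rw [← RatFunc.num_div_denom f]
    rw [ord_div p (ratFunc_algebraMap_ne_zero hnum0) (ratFunc_algebraMap_ne_zero hden0)]
    conv_lhs => rw [hnum, hden]
    rw [ord_poly_of_factor p hπ hp ha₁, ord_poly_of_factor p hπ hp hb₁]
  have hcop : IsCoprime f.num f.denom := RatFunc.isCoprime_num_denom f
  have hs : s = 0 := by
    by_contra hs0
    have ht0 : t ≠ 0 := by omega
    have hdn : π ∣ f.num := by
      rw [hnum]
      exact Dvd.dvd.mul_right (dvd_pow_self π hs0) _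
    have hdd : π ∣ f.denom := by
      rw [hden]
      exact Dvd.dvd.mul_right (dvd_pow_self π ht0) _
    exact hπ.not_isUnit (hcop.isUnit_of_dvd' hdn hdd)
  have ht : t = m := by omega
  subst hs
  rw [pow_zero, one_mul] at hnum
  refine ⟨by rw [hnum]; exact ha₁, b₁, hb₁, by rw [← ht]; exact hden⟩

/-- the order of a rational function at infinity -/
lemma ord_inf_eq {p : Place k (RatFunc k)} (hp : 1 < p.1 RatFunc.X) {f : RatFunc k} (hf0 : f ≠ 0) :
    p.ord f = (f.denom.natDegree : ℤ) - f.num.natDegree := by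
  have hnum0 : f.num ≠ 0 := RatFunc.num_ne_zero hf0
  have hden0 : f.denom ≠ 0 := RatFunc.denom_ne_zero f
  conv_lhs => rw [← RatFunc.num_div_denom f]
  rw [ord_div p (ratFunc_algebraMap_ne_zero hnum0) (ratFunc_algebraMap_ne_zero hden0),
    ratFunc_ord_poly_of_one_lt p hp hnum0, ratFunc_ord_poly_of_one_lt p hp hden0,
    ratFunc_ord_X_of_one_lt p hp]
  ring

/-- the order at a finite place of a polynomial not divisible by `π^m` is less than `m` -/
lemma ord_lt_of_not_pow_dvd {p : Place k (RatFunc k)} {π : k[X]} (hπ : Irreducible π)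
    (hp : p.1 (ι π) < 1) {W : k[X]} {m : ℕ} (hW : ¬ π ^ m ∣ W) :
    W ≠ 0 ∧ p.ord (ι W) < m := by
  have hW0 : W ≠ 0 := by
    rintro rfl
    exact hW (dvd_zero _)
  refine ⟨hW0, ?_⟩
  obtain ⟨s, W₁, hW₁, hWeq⟩ := WfDvdMonoid.max_power_factor hW0 hπ
  have hs : s < m := by
    by_contra hle
    rw [not_lt] at hle
    apply hW
    rw [hWeq]
    exact Dvd.dvd.mul_right (pow_dvd_pow π hle) _
  rw [hWeq, ord_poly_of_factor p hπ hp hW₁]
  exact_mod_cast hs

end RatFuncFacts

section Ineq

variable {k : Type u} {K : Type v} [Field k] [Field K] [Algebra k K]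
  [Algebra (RatFunc k) K] [IsScalarTower k (RatFunc k) K]

local notation "ι" => algebraMap (Polynomial k) (RatFunc k)
local notation "j" => algebraMap (RatFunc k) K

namespace Setup

variable {y : K} {f : RatFunc k} {q : k[X]} {dinf : ℕ} (S : Setup K y f q dinf)
include S

lemma f_ne_zero : f ≠ 0 := by
  rintro rfl
  have h := S.heq
  rw [map_zero] at h
  have h1 : y * (y + 1) = 0 := by rw [← h]; ring
  rcases mul_eq_zero.mp h1 with h2 | h2
  · exact S.y_ne_zero h2
  · apply S.hy
    refine ⟨-1, ?_⟩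
    rw [map_neg, map_one]
    linear_combination -h2

/-- the equation cleared of denominators -/
lemma cleared : aeval (j RatFunc.X) f.denom * (y ^ 2 + y) = aeval (j RatFunc.X) f.num := by
  have hden0 : ι f.denom ≠ 0 := ratFunc_algebraMap_ne_zero (RatFunc.denom_ne_zero f)
  have h1 : f * ι f.denom = ι f.num := (eq_div_iff hden0).mp (RatFunc.num_div_denom f).symm
  rw [S.heq, ← Quad.Data.jpoly, ← Quad.Data.jpoly, ← map_mul, mul_comm, h1]

/-- odd natural numbers are nonzero in `k` -/
lemma odd_cast_ne_zero {n : ℕ} (hn : Odd n) : (n : k) ≠ 0 := by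
  haveI := S.hchar
  rw [Ne, CharP.cast_eq_zero_iff k 2]
  exact fun h => (Nat.not_even_iff_odd.mpr hn) (even_iff_two_dvd.mpr h)

/-- the order of `dx` at a place above a finite pole of `f` -/
lemma val_D_x_le_of_finite_pole [PerfectField k] {F : Type w} [Field F] [Algebra k F]
    (P : Place k K) (ψ : K →ₐ[k] LaurentSeries F) (hψ : LocRes.IsExpansionAt P.1 ψ)
    {p : Place k (RatFunc k)} {e : ℕ} (he : IsOverWith P p e) (hpX : p.1 RatFunc.X ≤ 1)
    (hp : 1 < p.1 f) :
    Valued.v (LocRes.D F (ψ (j RatFunc.X))) ≤ P.1 (j (ι q)) := by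
  haveI := S.hchar
  obtain ⟨d, hd1, hd2, hd3⟩ := S.pole_data hp
  obtain ⟨he2, hy⟩ := S.above_pole he hd1 hd2
  obtain ⟨π, hπ, hπp⟩ := exists_irreducible_of_finite p hpX
  have hm1 : 1 ≤ 2 * d - 1 := by omega
  have hordm : p.ord f = -((2 * d - 1 : ℕ) : ℤ) := by
    rw [hd2]
    omega
  obtain ⟨hnum, b₁, hb₁, hden⟩ := denom_factor hπ hπp hm1 hordm
  have hsep : ¬ π ∣ derivative π := by
    intro h
    have hs : π.Separable := PerfectField.separable_of_irreducible hπ
    exact hπ.not_isUnit (hs.isUnit_of_dvd' (dvd_refl π) h)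
  have hodd : Odd (2 * d - 1) := ⟨d - 1, by omega⟩
  have hW := not_pow_dvd_wronskian hm1 (S.odd_cast_ne_zero hodd) hπ hsep hnum hb₁
  rw [← hden] at hW
  obtain ⟨hW0, hWord⟩ := ord_lt_of_not_pow_dvd hπ hπp hW
  have hrel := D_relation ψ S.cleared
  have hv := congrArg Valued.v hrel
  rw [map_mul, map_pow, map_mul, hψ.1, hψ.1] at hv
  have hden0 : f.denom ≠ 0 := RatFunc.denom_ne_zero f
  have hordB : p.ord (ι f.denom) = ((2 * d - 1 : ℕ) : ℤ) := by
    conv_lhs => rw [hden]
    exact ord_poly_of_factor p hπ hπp hb₁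
  have hB : P.1 (aeval (j RatFunc.X) f.denom) = exp (-(2 * ((2 * d - 1 : ℕ) : ℤ))) := by
    rw [← Quad.Data.jpoly, val_eq_exp_neg_ord P (j_ne_zero (ratFunc_algebraMap_ne_zero hden0)),
      ord_eq he, he2, hordB]
    push_cast
    rfl
  have hWx : P.1 (aeval (j RatFunc.X) (derivative f.num * f.denom - f.num * derivative f.denom)) =
      exp (-(2 * p.ord (ι (derivative f.num * f.denom - f.num * derivative f.denom)))) := by
    rw [← Quad.Data.jpoly, val_eq_exp_neg_ord P (j_ne_zero (ratFunc_algebraMap_ne_zero hW0)),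
      ord_eq he, he2]
    push_cast
    rfl
  have hvy : Valued.v (LocRes.D F (ψ y)) ≤ exp (-((1 - 2 * (d : ℤ)) - 1)) :=
    val_D_le (by rw [hψ.1, val_eq_exp_neg_ord P S.y_ne_zero, hy])
  have hq : P.1 (j (ι q)) = exp (-(2 * (d : ℤ))) := by
    rw [val_eq_exp_neg_ord P S.qx_ne_zero, ord_eq he, he2, S.hq p hpX, if_pos hp, hd3]
    push_cast
    rfl
  rw [hq]
  rw [hB, hWx] at hv
  exact key_bound hv hvy (by omega)

/-- the order of `dx` at a place above the pole of `f` at infinity -/
lemma val_D_x_le_of_infinite_pole {F : Type w} [Field F] [Algebra k F]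
    (P : Place k K) (ψ : K →ₐ[k] LaurentSeries F) (hψ : LocRes.IsExpansionAt P.1 ψ)
    {p : Place k (RatFunc k)} {e : ℕ} (he : IsOverWith P p e) (hpX : 1 < p.1 RatFunc.X)
    (hp : 1 < p.1 f) :
    Valued.v (LocRes.D F (ψ (j RatFunc.X))) ≤ exp (4 - 2 * (dinf : ℤ)) := by
  haveI := S.hchar
  obtain ⟨d, hd1, hd2, hd3⟩ := S.pole_data hp
  obtain ⟨he2, hy⟩ := S.above_pole he hd1 hd2
  have hinf := S.hinf p hpX
  rw [if_pos hp, hd3] at hinf
  have hordf := ord_inf_eq hpX S.f_ne_zero
  rw [hd2] at hordf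
  have hden0 : f.denom ≠ 0 := RatFunc.denom_ne_zero f
  have hdeg1 : 1 ≤ f.num.natDegree := by omega
  have hle : f.denom.natDegree ≤ f.num.natDegree := by omega
  have hodd : Odd (f.num.natDegree - f.denom.natDegree) := ⟨d - 1, by omega⟩
  have hne : (f.num.natDegree : k) - (f.denom.natDegree : k) ≠ 0 := by
    rw [← Nat.cast_sub hle]
    exact S.odd_cast_ne_zero hodd
  obtain ⟨hW0, hWdeg⟩ := natDegree_wronskian_ge hdeg1 hne hden0
  have hrel := D_relation ψ S.cleared
  have hv := congrArg Valued.v hrel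
  rw [map_mul, map_pow, map_mul, hψ.1, hψ.1] at hv
  have hord : ∀ b : k[X], b ≠ 0 →
      P.1 (aeval (j RatFunc.X) b) = exp (2 * (b.natDegree : ℤ)) := by
    intro b hb
    rw [← Quad.Data.jpoly, val_eq_exp_neg_ord P (j_ne_zero (ratFunc_algebraMap_ne_zero hb)),
      ord_eq he, ratFunc_ord_poly_of_one_lt p hpX hb, ratFunc_ord_X_of_one_lt p hpX, he2]
    congr 1
    push_cast
    ring
  have hvy : Valued.v (LocRes.D F (ψ y)) ≤ exp (-((1 - 2 * (d : ℤ)) - 1)) :=
    val_D_le (by rw [hψ.1, val_eq_exp_neg_ord P S.y_ne_zero, hy])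
  rw [hord _ hden0, hord _ hW0] at hv
  refine key_bound hv hvy ?_
  have : (f.num.natDegree : ℤ) + f.denom.natDegree - 1 ≤
      ((derivative f.num * f.denom - f.num * derivative f.denom).natDegree : ℤ) := by
    have h1 : ((f.num.natDegree + f.denom.natDegree - 1 : ℕ) : ℤ) ≤
        ((derivative f.num * f.denom - f.num * derivative f.denom).natDegree : ℤ) := by
      exact_mod_cast hWdeg
    omega
  omega

/-- the basic inequality at every place -/
lemma val_D_x_le [PerfectField k] {F : Type w} [Field F] [Algebra k F]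
    (P : Place k K) (ψ : K →ₐ[k] LaurentSeries F) (hψ : LocRes.IsExpansionAt P.1 ψ) :
    Valued.v (LocRes.D F (ψ (j RatFunc.X))) ≤
      P.1 (j (ι q)) * exp (-(((genus k K : ℤ) - 1) * poleDiv k (j RatFunc.X) P)) := by
  haveI := S.hchar
  have hfd := S.data.fd
  have halg : Algebra.IsAlgebraic (RatFunc k) K := Algebra.IsAlgebraic.of_finite _ _
  rw [S.genus_eq]
  by_cases hP : P.1 (j RatFunc.X) ≤ 1
  · rw [S.data.poleDiv_of_le_one P hP, mul_zero, neg_zero, exp_zero, mul_one]
    obtain ⟨p, e, he⟩ := exists_isOverWith_below (K := RatFunc k) P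
    have hpX : p.1 RatFunc.X ≤ 1 := (le_one_iff he _).mp hP
    by_cases hp : 1 < p.1 f
    · exact S.val_D_x_le_of_finite_pole P ψ hψ he hpX hp
    · have hqo := S.hq p hpX
      rw [if_neg hp] at hqo
      have hq1 : P.1 (j (ι q)) = 1 := by
        rw [val_eq_one_iff P S.qx_ne_zero, ord_eq he, hqo, mul_zero]
      rw [hq1]
      exact val_D_le_one (by rw [hψ.1]; exact hP)
  · rw [not_le] at hP
    obtain ⟨p, e, he, hpX, hpd, hord⟩ := S.inf_data P hP
    have hqv : P.1 (j (ι q)) = exp ((e : ℤ) * q.natDegree) := by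
      rw [Quad.Data.jpoly, val_eq_exp_neg_ord P (by
        rw [← Quad.Data.jpoly]; exact S.qx_ne_zero), hord q S.hq0, neg_neg]
    rw [hqv, hpd, ← exp_add]
    by_cases hp : 1 < p.1 f
    · obtain ⟨d, hd1, hd2, hd3⟩ := S.pole_data hp
      obtain ⟨he2, -⟩ := S.above_pole he hd1 hd2
      refine (S.val_D_x_le_of_infinite_pole P ψ hψ he hpX hp).trans ?_
      rw [exp_le_exp, he2]
      push_cast
      linarith
    · have hinf := S.hinf p hpX
      rw [if_neg hp] at hinf
      rw [not_lt] at hp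
      have he1 : e = 1 := unramified_of_val_le_one S.hdeg S.hy S.heq he hp
      have hx0 : j (RatFunc.X : RatFunc k) ≠ 0 := j_ne_zero RatFunc.X_ne_zero
      have hvx : Valued.v (ψ (j RatFunc.X)) = exp (-(-1 : ℤ)) := by
        rw [hψ.1, val_eq_exp_neg_ord P hx0, ord_eq he, ratFunc_ord_X_of_one_lt p hpX, he1]
        norm_num
      refine (val_D_le hvx).trans ?_
      rw [exp_le_exp, he1, hinf]
      push_cast
      linarith

end Setup

end Ineq

section Final

variable {k : Type u} {K : Type v} [Field k] [Field K] [Algebra k K]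
  [Algebra (RatFunc k) K] [IsScalarTower k (RatFunc k) K]

local notation "ι" => algebraMap (Polynomial k) (RatFunc k)
local notation "j" => algebraMap (RatFunc k) K

namespace Setup

variable {y : K} {f : RatFunc k} {q : k[X]} {dinf : ℕ} (S : Setup K y f q dinf)

include S in
/-- the description of `L(n (x)_∞)` -/
lemma exists_of_mem_L {n : ℕ} {z : K} (hz : z ∈ L (nD k K n)) :
    ∃ a' b' : k[X], a'.natDegree ≤ n ∧ (b' = 0 ∨ b'.natDegree + (q.natDegree + dinf) ≤ n) ∧
      z = aeval (j RatFunc.X) a' + aeval (j RatFunc.X) b' * (j (ι q) * y) := by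
  obtain ⟨a, b, hab⟩ := S.data.exists_decomp S.hy z
  have hint : ∀ P : Place k K, P.1 (j RatFunc.X) ≤ 1 → P.1 (j a + j b * y) ≤ 1 := by
    intro P hP
    have := hz P
    rwa [Hyp.Setup.nD_apply, S.data.poleDiv_of_le_one P hP, mul_zero, exp_zero, hab] at this
  obtain ⟨a', b', rfl, rfl⟩ := S.integral_coords hint
  have hzeq : z = aeval (j RatFunc.X) a' + aeval (j RatFunc.X) b' * (j (ι q) * y) := by
    rw [hab, map_mul, Quad.Data.jpoly a', Quad.Data.jpoly b', Quad.Data.jpoly q]
    ring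
  rw [hzeq] at hz
  obtain ⟨h1, h2⟩ := S.deg_of_mem_L hz
  exact ⟨a', b', h1, h2, hzeq⟩

variable [PerfectField k] [Algebra.IsSeparable (RatFunc k) K]
  (F : Place k K → Type w) [∀ P, Field (F P)] [∀ P, Algebra k (F P)]
  [∀ P, FiniteDimensional k (F P)]
  (φ : ∀ P, K →ₐ[k] LaurentSeries (F P)) (hφ : ∀ P, LocRes.IsExpansionAt P.1 (φ P))

include S in
lemma isGeometric : IsGeometric k K :=
  isGeometric_of_hasSepVar S.hK ⟨j RatFunc.X, Quad.Data.trans_x, isSeparable_adjoin⟩

include S hφ

/-- the divisor of `dx` is `div q(x) + (g - 1) (x)_∞` -/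
theorem ordDiff_x (P : Place k K) :
    LocRes.ordDiff (φ P) 1 (j RatFunc.X) =
      P.ord (j (ι q)) + ((genus k K : ℤ) - 1) * poleDiv k (j RatFunc.X) P := by
  have hD : KaehlerDifferential.D k K (j RatFunc.X) ≠ 0 := D_jX_ne_zero
  have hg := S.isGeometric
  obtain ⟨C, hC, hcan, -, -⟩ :=
    ResW.exists_divisor_dv S.hK hg F φ hφ (j RatFunc.X) hD
  obtain ⟨E, hE⟩ : ∃ E : Divisor k K, E = C - FunFld.div k (j (ι q)) -
      ((genus k K : ℤ) - 1) • poleDiv k (j RatFunc.X) := ⟨_, rfl⟩
  have hEdeg : E.deg = 0 := by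
    rw [hE, deg_sub, deg_sub, deg_zsmul, deg_div_eq_zero S.hK, S.data.deg_poleDiv,
      deg_canonical S.hK hcan]
    ring
  have hEP : ∀ Q, E Q = C Q - Q.ord (j (ι q)) -
      ((genus k K : ℤ) - 1) * poleDiv k (j RatFunc.X) Q := by
    intro Q
    rw [hE, Finsupp.sub_apply, Finsupp.sub_apply, Finsupp.smul_apply, div_apply S.hK, smul_eq_mul]
  have hnn : 0 ≤ E := by
    intro Q
    rw [hEP, Finsupp.zero_apply]
    have h := S.val_D_x_le Q (φ Q) (hφ Q)
    have hne : LocRes.D (F Q) (φ Q (j RatFunc.X)) ≠ 0 :=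
      ResW.D_expansion_ne_zero_of_D_ne_zero S.hK hg hD Q.1 (φ Q) (hφ Q)
    have hv : Valued.v (LocRes.D (F Q) (φ Q (j RatFunc.X))) = exp (-(C Q)) := by
      rw [hC]
      unfold LocRes.ordDiff LocRes.vDiff
      rw [map_one, one_mul, neg_neg, exp_log ((Valuation.ne_zero_iff _).2 hne)]
    rw [hv, val_eq_exp_neg_ord Q S.qx_ne_zero, ← exp_add, exp_le_exp] at h
    linarith
  have hE0 := eq_zero_of_nonneg_of_deg_eq_zero S.hK hnn hEdeg
  have h := hEP P
  rw [hE0, Finsupp.zero_apply, hC] at h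
  linarith

/-- the forms `x^i dx / q(x)`, `i < g`, are regular -/
theorem regular_of_lt {i : ℕ} (hi : i < genus k K) (P : Place k K) :
    LocRes.vDiff (φ P) (j (RatFunc.X ^ i / ι q)) (j RatFunc.X) ≤ 1 := by
  have hD : KaehlerDifferential.D k K (j RatFunc.X) ≠ 0 := D_jX_ne_zero
  have hg := S.isGeometric
  have h := (ResW.vDiff_le_iff S.hK hg F φ hφ (j RatFunc.X) hD
    (j (RatFunc.X ^ i / ι q)) P 0)
  rw [neg_zero, exp_zero, sub_zero] at h
  rw [h, S.ordDiff_x F φ hφ P, map_div₀, map_div₀, val_eq_exp_neg_ord P S.qx_ne_zero,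
    div_le_iff₀ (zero_lt_iff.mpr exp_ne_zero), ← exp_add]
  have e1 : P.ord (j (ι q)) + ((genus k K : ℤ) - 1) * poleDiv k (j RatFunc.X) P +
      -P.ord (j (ι q)) = ((genus k K - 1 : ℕ) : ℤ) * poleDiv k (j RatFunc.X) P := by
    rw [Nat.cast_sub (by omega)]
    push_cast
    ring
  rw [e1]
  have h2 := S.data.val_poly_le P (q := X ^ i) (m := genus k K - 1) (by
    rw [natDegree_X_pow]; omega)
  rwa [map_pow, aeval_X, ← map_pow] at h2

/-- every regular form is `a(x) dx / q(x)` with `deg a < g` -/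
theorem exists_of_regular {z : K}
    (hz : ∀ P, LocRes.vDiff (φ P) z (j RatFunc.X) ≤ 1) :
    ∃ a : k[X], a.degree < (genus k K : WithBot ℕ) ∧ z = j (ι a / ι q) := by
  have hD : KaehlerDifferential.D k K (j RatFunc.X) ≠ 0 := D_jX_ne_zero
  have hg := S.isGeometric
  have hq0 := S.qx_ne_zero
  have hzP : ∀ P, P.1 (z * j (ι q)) ≤
      exp (((genus k K : ℤ) - 1) * poleDiv k (j RatFunc.X) P) := by
    intro P
    have h := (ResW.vDiff_le_iff S.hK hg F φ hφ (j RatFunc.X) hD z P 0)
    rw [neg_zero, exp_zero, sub_zero] at h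
    have h1 := h.mp (hz P)
    rw [S.ordDiff_x F φ hφ P] at h1
    rw [map_mul, val_eq_exp_neg_ord P hq0]
    calc P.1 z * exp (-P.ord (j (ι q))) ≤
        exp (P.ord (j (ι q)) + ((genus k K : ℤ) - 1) * poleDiv k (j RatFunc.X) P) *
          exp (-P.ord (j (ι q))) := mul_le_mul' h1 le_rfl
      _ = exp (((genus k K : ℤ) - 1) * poleDiv k (j RatFunc.X) P) := by
          rw [← exp_add]
          congr 1
          ring
  by_cases hg0 : genus k K = 0
  · have hmem : z * j (ι q) ∈ L ((-1 : ℤ) • poleDiv k (j RatFunc.X)) := by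
      intro P
      have h := hzP P
      rw [hg0] at h
      rw [Finsupp.smul_apply, smul_eq_mul]
      simpa using h
    have hdeg : ((-1 : ℤ) • poleDiv k (j RatFunc.X)).deg < 0 := by
      rw [deg_zsmul, S.data.deg_poleDiv]
      norm_num
    rw [L_eq_bot_of_deg_neg S.hK _ hdeg, Submodule.mem_bot] at hmem
    have hz0 : z = 0 := by
      rcases mul_eq_zero.mp hmem with h | h
      · exact h
      · exact absurd h hq0
    refine ⟨0, ?_, ?_⟩
    · rw [degree_zero]
      exact WithBot.bot_lt_coe _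
    · rw [hz0, map_zero, zero_div, map_zero]
  · have hmem : z * j (ι q) ∈ L (nD k K (genus k K - 1)) := by
      intro P
      rw [Hyp.Setup.nD_apply, Nat.cast_sub (by omega)]
      push_cast
      exact hzP P
    obtain ⟨a, b, ha, hb, hab⟩ := S.exists_of_mem_L hmem
    have hgen := S.genus_eq
    have hb0 : b = 0 := by
      rcases hb with hb | hb
      · exact hb
      · exfalso
        have : ((b.natDegree + (q.natDegree + dinf) : ℕ) : ℤ) ≤ ((genus k K - 1 : ℕ) : ℤ) := by
          exact_mod_cast hb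
        rw [Nat.cast_sub (by omega)] at this
        push_cast at this
        omega
    rw [hb0, map_zero, zero_mul, add_zero] at hab
    refine ⟨a, ?_, ?_⟩
    · refine lt_of_le_of_lt degree_le_natDegree ?_
      have : a.natDegree < genus k K := by omega
      exact_mod_cast this
    · rw [map_div₀, Quad.Data.jpoly a, ← hab, mul_div_assoc, div_self hq0, mul_one]

end Setup

/-- the number `dinf` exists -/
theorem exists_dinf (hK : IsFunctionField k K) (hdeg : Module.finrank (RatFunc k) K = 2)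
    (hchar : CharP k 2) {y : K} (hy : y ∉ Set.range j) {f : RatFunc k} (heq : y ^ 2 + y = j f)
    (hodd : ∀ p : Place k (RatFunc k), 1 < p.1 f → Odd (p.ord f))
    {q : k[X]} (hq0 : q ≠ 0)
    (hq : ∀ p : Place k (RatFunc k), p.1 RatFunc.X ≤ 1 →
      p.ord (ι q) = if 1 < p.1 f then (1 - p.ord f) / 2 else 0) :
    ∃ dinf : ℕ, Setup K y f q dinf := by
  have hKr := isFunctionField_ratFunc k
  have hXtr : Transcendental k (RatFunc.X : RatFunc k) := RatFunc.transcendental_X (K := k)
  obtain ⟨pinf, hpinf'⟩ := exists_pole_of_transcendental hKr hXtr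
  have hpinf : 1 < pinf.1 (RatFunc.X : RatFunc k) := (one_lt_val_iff pinf _).mpr hpinf'
  refine ⟨if 1 < pinf.1 f then ((1 - pinf.ord f) / 2).toNat else 0,
    hK, hdeg, hchar, hy, heq, hodd, hq0, hq, ?_⟩
  intro p hp
  have hpp : p = pinf := place_unique_of_one_lt hp hpinf
  subst hpp
  by_cases hpole : 1 < p.1 f
  · have h1 := (one_lt_val_iff p f).mp hpole
    rw [if_pos hpole, if_pos hpole]
    exact Int.toNat_of_nonneg (by omega)
  · rw [if_neg hpole, if_neg hpole]
    rfl

end Final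

end Groth.Agent.FF.ASP
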