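import Groth.Agent.FunFld.ComplApprox

/-!
# Strong approximation in the adele ring
-/

set_option autoImplicit false

open FunFld WithZero

namespace Groth.Agent.FF

universe u
variable {k K : Type u} [Field k] [Field K] [Algebra k K]

theorem adeleRing_strong_approx (hK : IsFunctionField k K) [AdFn.HasFinitePoles k K]
    (S : Set (Place k K)) (hS : S.Nonempty) (a : AdFn.AdeleRing k K) :
    ∃ f : K, ∀ v : Place k K, v ∉ S →
      AdFn.AdeleRing.proj v (a - AdFn.AdeleRing.diag f) ∈ AdFn.Ov v := by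
  classical
  obtain ⟨Pinf, hPinf⟩ := hS
  have hfinT : {v : Place k K | ¬ a.1 v ∈ AdFn.Ov v}.Finite := by
    have := a.2
    rw [Filter.eventually_cofinite] at this
    exact this
  have hfin : ({v : Place k K | ¬ a.1 v ∈ AdFn.Ov v} \ S).Finite := hfinT.subset Set.sdiff_subset
  set T₀ := hfin.toFinset with hT₀
  have hmem : ∀ v, v ∈ T₀ ↔ (¬ a.1 v ∈ AdFn.Ov v ∧ v ∉ S) := by
    intro v
    rw [hT₀, Set.Finite.mem_toFinset]
    rfl
  clear_value T₀
  let P : Fin T₀.card → Place k K := fun i => ((T₀.equivFin).symm i : Place k K)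
  have hP : Function.Injective P := Subtype.val_injective.comp (T₀.equivFin).symm.injective
  have hrange : ∀ v, v ∈ Set.range P ↔ (¬ a.1 v ∈ AdFn.Ov v ∧ v ∉ S) := by
    intro v
    constructor
    · rintro ⟨i, rfl⟩
      exact (hmem _).mp ((T₀.equivFin).symm i).2
    · intro hv
      have hv' : v ∈ T₀ := (hmem v).mpr hv
      exact ⟨T₀.equivFin ⟨v, hv'⟩, by simp [P]⟩
  have hinf : Pinf ∉ Set.range P := by
    intro h
    exact ((hrange Pinf).mp h).2 hPinf
  have hx : ∀ i, ∃ x : K, a.1 (P i) - AdFn.toKv (P i) x ∈ AdFn.Ov (P i) :=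
    fun i => exists_sub_mem_Ov (P i) (a.1 (P i))
  choose x hx using hx
  obtain ⟨z, hz1, hz2⟩ := strong_approx_le hK Pinf P hP hinf x (fun _ => 0)
  refine ⟨z, ?_⟩
  intro v hv
  rw [map_sub, AdFn.AdeleRing.proj_diag, AdFn.AdeleRing.proj_apply]
  by_cases hvT : a.1 v ∈ AdFn.Ov v
  · apply sub_mem hvT
    rw [AdFn.toKv_mem_Ov]
    apply hz2 v
    · rintro rfl
      exact hv hPinf
    · intro h
      exact ((hrange v).mp h).1 hvT
  · obtain ⟨i, rfl⟩ := (hrange v).mpr ⟨hvT, hv⟩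
    have h1 : a.1 (P i) - AdFn.toKv (P i) z =
        (a.1 (P i) - AdFn.toKv (P i) (x i)) - AdFn.toKv (P i) (z - x i) := by
      rw [map_sub]; ring
    rw [h1]
    apply sub_mem (hx i)
    rw [AdFn.toKv_mem_Ov]
    simpa using hz1 i

theorem adeleRing_supported_iff [AdFn.HasFinitePoles k K]
    (S : Set (Place k K)) (b : AdFn.AdeleRing k K)
    (hb : ∀ v : Place k K, v ∉ S → AdFn.AdeleRing.proj v b = 0) :
    (∃ f : K, ∀ v : Place k K, AdFn.AdeleRing.proj v (b - AdFn.AdeleRing.diag f) ∈ AdFn.Ov v) ↔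
      ∃ f ∈ AdFn.SInt S, ∀ v ∈ S, AdFn.AdeleRing.proj v b - AdFn.toKv v f ∈ AdFn.Ov v := by
  constructor
  · rintro ⟨f, hf⟩
    refine ⟨f, ?_, ?_⟩
    · rw [AdFn.mem_SInt]
      intro v hv
      have := hf v
      rw [map_sub, AdFn.AdeleRing.proj_diag, hb v hv, zero_sub] at this
      rw [← AdFn.toKv_mem_Ov]
      simpa using neg_mem this
    · intro v _
      have := hf v
      rwa [map_sub, AdFn.AdeleRing.proj_diag] at this
  · rintro ⟨f, hfS, hf⟩
    refine ⟨f, ?_⟩
    intro v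
    rw [map_sub, AdFn.AdeleRing.proj_diag]
    by_cases hv : v ∈ S
    · exact hf v hv
    · rw [hb v hv, zero_sub]
      apply neg_mem
      rw [AdFn.toKv_mem_Ov]
      exact hfS v hv

end Groth.Agent.FF
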