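import Groth.Agent.FunFld.PlaceExt

/-!
# Weak approximation for places
-/

set_option autoImplicit false

open FunFld IntermediateField Polynomial WithZero

namespace Groth.Agent.FF

universe u v
variable {k : Type u} {K : Type v} [Field k] [Field K] [Algebra k K]

/-- The real absolute value `2 ^ (-ord_P)` attached to a place. -/
noncomputable def abv (P : Place k K) : AbsoluteValue K ℝ where
  toFun x := ((WithZeroMulInt.toNNReal (e := 2) two_ne_zero (P.1 x) : NNReal) : ℝ)
  map_mul' x y := by simp
  nonneg' x := NNReal.coe_nonneg _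
  eq_zero' x := by simp
  add_le' x y := by
    have h := P.1.map_add x y
    have hmono := (WithZeroMulInt.toNNReal_strictMono (e := 2) one_lt_two).monotone
    have h2 := hmono h
    rw [hmono.map_max] at h2
    have h3 : (WithZeroMulInt.toNNReal (e := 2) two_ne_zero (P.1 (x + y)) : NNReal) ≤
        WithZeroMulInt.toNNReal (e := 2) two_ne_zero (P.1 x) +
        WithZeroMulInt.toNNReal (e := 2) two_ne_zero (P.1 y) :=
      h2.trans (max_le_add_of_nonneg zero_le zero_le)
    exact_mod_cast h3

lemma abv_apply (P : Place k K) (x : K) :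
    abv P x = ((WithZeroMulInt.toNNReal (e := 2) two_ne_zero (P.1 x) : NNReal) : ℝ) := rfl

lemma abv_lt_iff (P : Place k K) (x : K) (γ : ℤᵐ⁰) :
    abv P x < ((WithZeroMulInt.toNNReal (e := 2) two_ne_zero γ : NNReal) : ℝ) ↔ P.1 x < γ := by
  rw [abv_apply, NNReal.coe_lt_coe]
  exact (WithZeroMulInt.toNNReal_strictMono (e := 2) one_lt_two).lt_iff_lt

lemma abv_le_iff (P : Place k K) (x y : K) : abv P x ≤ abv P y ↔ P.1 x ≤ P.1 y := by
  rw [abv_apply, abv_apply, NNReal.coe_le_coe]
  exact (WithZeroMulInt.toNNReal_strictMono (e := 2) one_lt_two).le_iff_le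

lemma abv_isNontrivial (P : Place k K) : (abv P).IsNontrivial := by
  obtain ⟨t, ht0, ht⟩ := exists_ord_eq P 1
  refine ⟨t, ht0, ?_⟩
  have h1 : P.1 t < 1 := by rw [val_lt_one_iff P ht0, ht]; exact one_pos
  have h2 : abv P t < abv P 1 := by
    rw [← not_le, abv_le_iff, map_one, not_le]; exact h1
  rw [map_one] at h2
  exact ne_of_lt h2

lemma abv_not_isEquiv {P Q : Place k K} (h : P ≠ Q) : ¬ (abv P).IsEquiv (abv Q) := by
  intro heq
  apply h
  apply place_ext_of_le_one_iff
  intro x
  have := heq x 1
  rw [abv_le_iff, abv_le_iff, map_one, map_one] at this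
  exact this

/-- Weak approximation: simultaneous approximation at finitely many distinct places. -/
theorem weak_approx {ι : Type*} [Finite ι] (P : ι → Place k K) (hP : Function.Injective P)
    (z : ι → K) (m : ℤ) : ∃ y : K, ∀ i, (P i).1 (y - z i) < exp m := by
  classical
  have := Fintype.ofFinite ι
  have hdense := AbsoluteValue.denseRange_algebraMap_pi (v := fun i => abv (P i))
    (fun i => abv_isNontrivial (P i))
    (fun i j hij => abv_not_isEquiv (fun h => hij (hP h)))
  set ε : ℝ := ((WithZeroMulInt.toNNReal (e := 2) two_ne_zero (exp m) : NNReal) : ℝ) with hε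
  have hεpos : 0 < ε := by
    rw [hε]
    exact_mod_cast WithZeroMulInt.toNNReal_pos (e := 2) two_ne_zero (exp_ne_zero)
  obtain ⟨y, hy⟩ := Metric.denseRange_iff.mp hdense
    (fun i => WithAbs.toAbs (abv (P i)) (z i)) ε hεpos
  refine ⟨y, fun i => ?_⟩
  rw [dist_pi_lt_iff hεpos] at hy
  have hi := hy i
  rw [dist_eq_norm] at hi
  have : ‖WithAbs.toAbs (abv (P i)) (z i) - algebraMap K ((i : ι) → WithAbs (abv (P i))) y i‖ =
      abv (P i) (z i - y) := rfl
  rw [this, hε, abv_lt_iff] at hi
  rwa [← Valuation.map_neg, neg_sub] at hi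

end Groth.Agent.FF
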