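import Groth.Agent.FunFld.GaloisTrans
import Groth.Agent.FunFld.Genus0Cusp

/-!
# Automorphisms fixing many places
-/

set_option autoImplicit false

open FunFld IntermediateField Polynomial WithZero

namespace Groth.Agent.FF

universe u v
variable {k : Type u} {K : Type v} [Field k] [Field K] [Algebra k K]

/-- a place whose maximal ideal is contained in that of another place equals it -/
lemma place_eq_of_lt_one_imp (P P' : Place k K) (h : ∀ x : K, P.1 x < 1 → P'.1 x < 1) :
    P = P' := by
  by_contra hne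
  let Pl : Fin 2 → Place k K := ![P, P']
  have hinj : Function.Injective Pl := by
    intro i j hij
    fin_cases i <;> fin_cases j <;> simp_all [Pl]
  obtain ⟨y, hy⟩ := weak_approx Pl hinj ![0, 1] 0
  have h0 := hy 0
  have h1 := hy 1
  simp only [Pl, Matrix.cons_val_zero, Matrix.cons_val_one, sub_zero, exp_zero] at h0 h1
  have h2 := h y h0
  have e : y = 1 + (y - 1) := by ring
  have h3 : P'.1 y = 1 := by
    rw [e, P'.1.map_add_eq_of_lt_left (by rw [map_one]; exact h1), map_one]
  rw [h3] at h2
  exact lt_irrefl _ h2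

/-- transport of a place along a `k`-automorphism of `K` -/
def twist (P : Place k K) (σ : K ≃ₐ[k] K) : Place k K :=
  Place.comapEquiv (k := k) (K := k) (K' := K) P σ

lemma twist_apply (P : Place k K) (σ : K ≃ₐ[k] K) (x : K) :
    (twist P σ).1 x = P.1 (σ x) := rfl

lemma twist_twist_symm (P : Place k K) (σ : K ≃ₐ[k] K) :
    twist (twist P σ) σ.symm = P := by
  apply Subtype.ext
  ext x
  change P.1 (σ (σ.symm x)) = P.1 x
  rw [σ.apply_symm_apply]

lemma twist_symm_twist (P : Place k K) (σ : K ≃ₐ[k] K) :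
    twist (twist P σ.symm) σ = P := by
  apply Subtype.ext
  ext x
  change P.1 (σ.symm (σ x)) = P.1 x
  rw [σ.symm_apply_apply]

lemma twist_eq_of_fixed (P : Place k K) (σ : K ≃ₐ[k] K)
    (h : ∀ x : K, P.1 x < 1 → P.1 (σ x) < 1) : twist P σ = P :=
  (place_eq_of_lt_one_imp P (twist P σ) h).symm

/-- at a fixed place, `z - σ z` vanishes for every `z` regular there -/
lemma val_sub_apply_lt_one [IsAlgClosed k] (hK : IsFunctionField k K) (P : Place k K)
    (σ : K ≃ₐ[k] K) (hP : twist P σ = P) {z : K} (hz : P.1 z ≤ 1) : P.1 (z - σ z) < 1 := by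
  obtain ⟨ξ, hξ⟩ := exists_const_approx hK P hz
  have h1 : P.1 (σ z - algebraMap k K ξ) < 1 := by
    have : σ z - algebraMap k K ξ = σ (z - algebraMap k K ξ) := by
      rw [map_sub, σ.commutes]
    rw [this, ← twist_apply, hP]
    exact hξ
  have e : z - σ z = (z - algebraMap k K ξ) - (σ z - algebraMap k K ξ) := by ring
  rw [e]
  exact lt_of_le_of_lt (P.1.map_sub _ _) (max_lt hξ h1)

/-- a function field over an infinite constant field has infinitely many places -/
lemma infinite_places [Infinite k] (hK : IsFunctionField k K) : Infinite (Place k K) := by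
  obtain ⟨⟨x₀, hx₀, -⟩, -⟩ := id hK
  have htr : ∀ c : k, Transcendental k (x₀ - algebraMap k K c) := by
    intro c halg
    apply hx₀
    have : x₀ = (x₀ - algebraMap k K c) + algebraMap k K c := by ring
    rw [this]
    exact halg.add (isAlgebraic_algebraMap c)
  choose f hf using fun c : k => exists_zero_of_transcendental hK (htr c)
  apply Infinite.of_injective f
  intro c c' hcc
  by_contra hne
  have hc := hf c
  have hc' := hf c'
  rw [← hcc] at hc'
  have hx0 : ∀ c : k, x₀ - algebraMap k K c ≠ 0 := by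
    intro c h0
    exact htr c (by rw [h0]; exact isAlgebraic_zero)
  have h1 : (f c).1 (x₀ - algebraMap k K c) < 1 := (val_lt_one_iff _ (hx0 c)).mpr hc
  have h2 : (f c).1 (x₀ - algebraMap k K c') < 1 := (val_lt_one_iff _ (hx0 c')).mpr hc'
  have e : algebraMap k K (c' - c) = (x₀ - algebraMap k K c) - (x₀ - algebraMap k K c') := by
    rw [map_sub]; ring
  have h3 : (f c).1 (algebraMap k K (c' - c)) < 1 := by
    rw [e]
    exact lt_of_le_of_lt ((f c).1.map_sub _ _) (max_lt h1 h2)
  rw [val_algebraMap (f c) (sub_ne_zero.mpr (Ne.symm hne))] at h3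
  exact lt_irrefl _ h3

end Groth.Agent.FF

namespace Groth.Agent.FF

universe u v
variable {k : Type u} {K : Type v} [Field k] [Field K] [Algebra k K]

/-- a nontrivial automorphism moves some place -/
lemma exists_twist_ne [IsAlgClosed k] (hK : IsFunctionField k K) (σ : K ≃ₐ[k] K) (hσ : σ ≠ 1) :
    ∃ P : Place k K, twist P σ ≠ P := by
  by_contra hall
  push Not at hall
  obtain ⟨x, hx⟩ : ∃ x, σ x ≠ x := by
    by_contra h
    push Not at h
    exact hσ (AlgEquiv.ext h)
  have hxk : x ∉ Set.range (algebraMap k K) := by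
    rintro ⟨c, rfl⟩
    exact hx (σ.commutes c)
  have hxtr := transcendental_of_not_mem_range hK hxk
  have hx0 : x ≠ 0 := by
    rintro rfl
    exact hx (map_zero σ)
  have hw0 : x - σ x ≠ 0 := sub_ne_zero.mpr (Ne.symm hx)
  have hwtr : Transcendental k (x - σ x) := by
    apply transcendental_of_not_mem_range hK
    rintro ⟨c, hc⟩
    obtain ⟨P, hP⟩ := exists_zero_of_transcendental hK hxtr
    have h1 := val_sub_apply_lt_one hK P σ (hall P) (z := x) ((val_lt_one_iff P hx0).mpr hP).le
    have hc0 : c ≠ 0 := by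
      rintro rfl
      rw [map_zero] at hc
      exact hw0 hc.symm
    rw [← hc, val_algebraMap P hc0] at h1
    exact lt_irrefl _ h1
  have hfin1 := finite_zeros hK hwtr
  have hfin2 := finite_poles hK hxtr
  have huniv : (Set.univ : Set (Place k K)) ⊆
      {P | 0 < P.ord (x - σ x)} ∪ {P | P.ord x < 0} := by
    intro P _
    by_cases hP : P.ord x < 0
    · right; exact hP
    · left
      push Not at hP
      have := val_sub_apply_lt_one hK P σ (hall P) ((val_le_one_iff P hx0).mpr hP)
      exact (val_lt_one_iff P hw0).mp this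
  have := infinite_places hK
  exact Set.infinite_univ ((hfin1.union hfin2).subset huniv)

/-- an automorphism fixing more than `2g + 2` places is the identity -/
theorem algEquiv_eq_one_of_fixed [IsAlgClosed k] (hK : IsFunctionField k K) (σ : K ≃ₐ[k] K)
    (T : Finset (Place k K)) (hT : ∀ P ∈ T, twist P σ = P)
    (hcard : 2 * genus k K + 2 < T.card) : σ = 1 := by
  classical
  by_contra hσ
  obtain ⟨P₀, hP₀⟩ := exists_twist_ne hK σ hσ
  set g := genus k K with hg
  set D : Divisor k K := Finsupp.single P₀ ((g : ℤ) + 1) with hD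
  have hP₀1 := deg_eq_one_of_isAlgClosed hK P₀
  have hdegD : D.deg = g + 1 := by
    rw [hD, deg_single, hP₀1]; simp
  have hell : 2 ≤ ell D := by
    have := delta_le_genus hK D
    unfold delta at this
    rw [hdegD] at this
    omega
  have hD0 : (0 : Divisor k K) ≤ D := by
    intro Q
    rw [hD, Finsupp.zero_apply, Finsupp.single_apply]
    split_ifs
    · positivity
    · exact le_rfl
  have hlt : L (0 : Divisor k K) < L D := by
    refine lt_of_le_of_ne (L_mono hD0) fun h => ?_
    have h0 := ell_zero hK (k := k) (K := K)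
    unfold ell at h0 hell
    rw [h] at h0
    omega
  obtain ⟨z, hzD, hz0⟩ := SetLike.exists_of_lt hlt
  have hzQ : ∀ Q : Place k K, Q ≠ P₀ → Q.1 z ≤ 1 := by
    intro Q hQ
    have := hzD Q
    rw [hD, Finsupp.single_apply, if_neg (Ne.symm hQ), exp_zero] at this
    exact this
  have hzP₀ : 1 < P₀.1 z := by
    by_contra hle
    push Not at hle
    apply hz0
    intro Q
    rw [Finsupp.zero_apply, exp_zero]
    by_cases hQ : Q = P₀
    · rw [hQ]; exact hle
    · exact hzQ Q hQ
  have hzP₀' : P₀.1 z ≤ exp ((g : ℤ) + 1) := by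
    have := hzD P₀
    rw [hD, Finsupp.single_apply, if_pos rfl] at this
    exact this
  have hσz : P₀.1 (σ z) ≤ 1 := by
    rw [← twist_apply]; exact hzQ _ hP₀
  have hwP₀ : P₀.1 (z - σ z) = P₀.1 z :=
    Valuation.map_sub_eq_of_lt_left _ (lt_of_le_of_lt hσz hzP₀)
  have hw0 : z - σ z ≠ 0 := by
    intro h0
    rw [h0, map_zero] at hwP₀
    rw [← hwP₀] at hzP₀
    exact not_lt.mpr zero_le hzP₀
  have hwtr : Transcendental k (z - σ z) := by
    apply transcendental_of_ord_neg hK (P := P₀)
    have : 1 < P₀.1 (z - σ z) := by rw [hwP₀]; exact hzP₀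
    by_contra hge
    push Not at hge
    exact not_lt.mpr ((val_le_one_iff P₀ hw0).mpr hge) this
  set Q₀ := twist P₀ σ.symm with hQ₀
  set D' : Divisor k K := Finsupp.single Q₀ ((g : ℤ) + 1) with hD'
  have hDD' : ∀ Q : Place k K, D (twist Q σ) = D' Q := by
    intro Q
    rw [hD, hD', Finsupp.single_apply, Finsupp.single_apply]
    by_cases hQ : Q₀ = Q
    · rw [if_pos hQ, if_pos]
      rw [← hQ, hQ₀, twist_symm_twist]
    · rw [if_neg hQ, if_neg]
      intro h
      apply hQ
      rw [hQ₀, h, twist_twist_symm]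
  have hD'0 : ∀ Q : Place k K, 0 ≤ D' Q := by
    intro Q
    rw [hD', Finsupp.single_apply]
    split_ifs
    · positivity
    · exact le_rfl
  have hpole : poleDiv k (z - σ z) ≤ D + D' := by
    intro Q
    rw [poleDiv_apply hK, Finsupp.add_apply]
    have h1 : Q.1 z ≤ exp (D Q + D' Q) :=
      (hzD Q).trans (exp_le_exp.mpr (by have := hD'0 Q; linarith))
    have h2 : Q.1 (σ z) ≤ exp (D Q + D' Q) := by
      rw [← twist_apply]
      refine (hzD (twist Q σ)).trans (exp_le_exp.mpr ?_)
      rw [hDD' Q]
      have := hD0 Q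
      rw [Finsupp.zero_apply] at this
      linarith
    have h3 : Q.1 (z - σ z) ≤ exp (D Q + D' Q) := (Q.1.map_sub _ _).trans (max_le h1 h2)
    rw [val_le_exp_iff Q hw0] at h3
    have h4 : 0 ≤ D Q + D' Q := by
      have := hD0 Q
      rw [Finsupp.zero_apply] at this
      have := hD'0 Q
      linarith
    exact max_le (by linarith) h4
  have hdegpole : (poleDiv k (z - σ z)).deg ≤ 2 * (g : ℤ) + 2 := by
    refine (deg_mono hpole).trans ?_
    rw [deg_add, hdegD, hD', deg_single, deg_eq_one_of_isAlgClosed hK Q₀]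
    push_cast
    linarith
  have hzero : (∑ Q ∈ T, (Finsupp.single Q 1 : Divisor k K)) ≤ zeroDiv k (z - σ z) := by
    intro Q
    rw [zeroDiv_apply hK, Finsupp.finsetSum_apply]
    simp only [Finsupp.single_apply]
    rw [Finset.sum_ite_eq' T Q]
    split_ifs with hQT
    · have hQP₀ : Q ≠ P₀ := by
        rintro rfl
        exact hP₀ (hT _ hQT)
      have h1 := val_sub_apply_lt_one hK Q σ (hT Q hQT) (hzQ Q hQP₀)
      have h2 := (val_lt_one_iff Q hw0).mp h1
      exact le_max_of_le_left (by omega)
    · exact le_max_right _ _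
  have hdegzero : (T.card : ℤ) ≤ (zeroDiv k (z - σ z)).deg := by
    refine le_trans ?_ (deg_mono hzero)
    rw [deg_sum]
    have : ∀ Q ∈ T, Divisor.deg (Finsupp.single Q 1 : Divisor k K) = 1 := by
      intro Q _
      rw [deg_single, deg_eq_one_of_isAlgClosed hK Q]; simp
    rw [Finset.sum_congr rfl this]
    simp
  have h1 := deg_poleDiv_eq hK hwtr
  have h2 := deg_zeroDiv_eq hK hwtr
  have : (T.card : ℤ) ≤ 2 * (g : ℤ) + 2 := by
    rw [h2, ← h1] at hdegzero
    exact hdegzero.trans hdegpole
  omega

end Groth.Agent.FF
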