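import Groth.Agent.FunFld.CuspUnique

/-!
# Chains of rational components with cusps (the backbone of a flag curve)
-/

set_option autoImplicit false

open FunFld IntermediateField Polynomial WithZero

namespace Groth.Agent.FF

universe u v

lemma exists_ne_place {k : Type u} {K : Type v} [Field k] [Field K] [Algebra k K]
    (hK : IsFunctionField k K) (P : Place k K) : ∃ R : Place k K, R ≠ P := by
  obtain ⟨⟨x, hx, -⟩, -⟩ := id hK
  obtain ⟨P₁, h₁⟩ := exists_zero_of_transcendental hK hx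
  obtain ⟨P₂, h₂⟩ := exists_pole_of_transcendental hK hx
  by_cases h : P₁ = P
  · refine ⟨P₂, ?_⟩
    rintro rfl
    rw [h] at h₁
    linarith
  · exact ⟨P₁, h⟩

/-- upper bound `W(P) + r (r+1) / 2 ≤ (r+1) d`. -/
lemma Wt_le {k : Type u} {K : Type v} [Field k] [Field K] [Algebra k K] [IsAlgClosed k]
    {V : Submodule k K} {D : Divisor k K} {r d : ℕ}
    (hK : IsFunctionField k K) (h : IsGrd V D r d) (P : Place k K) :
    Wt V D P d + r * (r + 1) / 2 ≤ (r + 1) * d := by
  obtain ⟨R, hR⟩ := exists_ne_place hK P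
  have h1 := Wt_add_le hK h hR
  have h2 := Wt_ge hK h R
  omega

/-- abstract forward induction along a chain -/
lemma chain_forward (N r M t : ℕ) (wA wB τ c : ℕ → ℕ)
    (hc0 : c 0 = 0) (hcs : ∀ j, j < N → c (j + 1) = c j + τ j)
    (hcompat : ∀ j, j < N → wB j + wA (j + 1) = M)
    (hinner : ∀ j, 0 < j → j < N → wA j + wB j + r * τ j ≤ M)
    (hfirst : 0 < N → wB 0 + t + r * τ 0 ≤ M) :
    ∀ j, 0 < j → j ≤ N → t + r * c j ≤ wA j := by
  intro j
  induction j with
  | zero => intro h; exact absurd h (lt_irrefl 0)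
  | succ j ih =>
    intro _ hj
    have hc := hcompat j (by omega)
    have hcs' := hcs j (by omega)
    rw [hcs', mul_add]
    rcases Nat.eq_zero_or_pos j with rfl | hpos
    · have := hfirst (by omega)
      rw [hc0]
      omega
    · have := ih hpos (by omega)
      have := hinner j hpos (by omega)
      omega

end Groth.Agent.FF

namespace Groth.Agent.FF

universe u v

/-- counting elements of `T` below `j` -/
lemma card_filter_lt_succ {N : ℕ} (T : Finset (Fin (N + 1))) (j : ℕ) (hj : j < N + 1) :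
    (T.filter (fun x : Fin (N + 1) => (x : ℕ) < j + 1)).card =
      (T.filter (fun x : Fin (N + 1) => (x : ℕ) < j)).card +
        (if (⟨j, hj⟩ : Fin (N + 1)) ∈ T then 1 else 0) := by
  classical
  have hite : (if (⟨j, hj⟩ : Fin (N + 1)) ∈ T then 1 else 0) =
      ∑ x ∈ T, (if x = (⟨j, hj⟩ : Fin (N + 1)) then 1 else 0) := by
    rw [Finset.sum_ite_eq']
  rw [Finset.card_filter, Finset.card_filter, hite, ← Finset.sum_add_distrib]
  apply Finset.sum_congr rfl
  intro x _
  by_cases h1 : (x : ℕ) < j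
  · have h2 : (x : ℕ) < j + 1 := by omega
    have h3 : x ≠ ⟨j, hj⟩ := by
      intro h; rw [h] at h1; exact lt_irrefl _ h1
    simp [h1, h2, h3]
  · by_cases h2 : (x : ℕ) = j
    · have h3 : x = ⟨j, hj⟩ := Fin.ext h2
      have h4 : (x : ℕ) < j + 1 := by omega
      simp [h3]
    · have h3 : x ≠ ⟨j, hj⟩ := fun h => h2 (congrArg Fin.val h)
      have h4 : ¬ (x : ℕ) < j + 1 := by omega
      simp [h1, h3, h4]

end Groth.Agent.FF

namespace Groth.Agent.FF

/-- abstract backward induction along a chain -/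
lemma chain_backward (N r M t : ℕ) (wA wB τ c : ℕ → ℕ)
    (hcN : c N = 0) (hcs : ∀ j, j < N → c j = c (j + 1) + τ (j + 1))
    (hcompat : ∀ j, j < N → wB j + wA (j + 1) = M)
    (hinner : ∀ j, 0 < j → j < N → wA j + wB j + r * τ j ≤ M)
    (hlast : 0 < N → wA N + t + r * τ N ≤ M) :
    ∀ j, j < N → t + r * c j ≤ wB j := by
  intro j₀ hj₀
  have key := chain_forward N r M t (fun j => wB (N - j)) (fun j => wA (N - j))
    (fun j => τ (N - j)) (fun j => c (N - j))
    (by simpa using hcN)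
    (by
      intro j hj
      have h1 := hcs (N - (j + 1)) (by omega)
      have e : N - (j + 1) + 1 = N - j := by omega
      rw [e] at h1
      exact h1)
    (by
      intro j hj
      have h1 := hcompat (N - (j + 1)) (by omega)
      have e : N - (j + 1) + 1 = N - j := by omega
      rw [e] at h1
      show wA (N - j) + wB (N - (j + 1)) = M
      omega)
    (by
      intro j hj0 hjN
      have h1 := hinner (N - j) (by omega) (by omega)
      show wB (N - j) + wA (N - j) + r * τ (N - j) ≤ M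
      omega)
    (by
      intro hN
      have h1 := hlast hN
      simpa using h1)
    (N - j₀) (by omega) (by omega)
  have e : N - (N - j₀) = j₀ := by omega
  simp only [e] at key
  exact key

lemma card_filter_gt_pred {N : ℕ} (T : Finset (Fin (N + 1))) (j : ℕ) (hj : j + 1 < N + 1) :
    (T.filter (fun x : Fin (N + 1) => j < (x : ℕ))).card =
      (T.filter (fun x : Fin (N + 1) => j + 1 < (x : ℕ))).card +
        (if (⟨j + 1, hj⟩ : Fin (N + 1)) ∈ T then 1 else 0) := by
  classical
  have hite : (if (⟨j + 1, hj⟩ : Fin (N + 1)) ∈ T then 1 else 0) =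
      ∑ x ∈ T, (if x = (⟨j + 1, hj⟩ : Fin (N + 1)) then 1 else 0) := by
    rw [Finset.sum_ite_eq']
  rw [Finset.card_filter, Finset.card_filter, hite, ← Finset.sum_add_distrib]
  apply Finset.sum_congr rfl
  intro x _
  by_cases h1 : j + 1 < (x : ℕ)
  · have h2 : j < (x : ℕ) := by omega
    have h3 : x ≠ ⟨j + 1, hj⟩ := by
      intro h; rw [h] at h1; exact lt_irrefl _ h1
    simp [h1, h2, h3]
  · by_cases h2 : (x : ℕ) = j + 1
    · have h3 : x = ⟨j + 1, hj⟩ := Fin.ext h2
      simp [h3]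
    · have h3 : x ≠ ⟨j + 1, hj⟩ := fun h => h2 (congrArg Fin.val h)
      have h4 : ¬ j < (x : ℕ) := by omega
      simp [h1, h3, h4]

end Groth.Agent.FF

namespace Groth.Agent.FF

universe u v

section
variable {k : Type u} [Field k] [IsAlgClosed k] [CharZero k]
  {N : ℕ} {Z : Fin (N + 1) → Type v} [∀ i, Field (Z i)] [∀ i, Algebra k (Z i)]

/-- weights at the nodes of a backbone of rational components with cusps -/
theorem backbone_bounds
    (hZ : ∀ i, IsFunctionField k (Z i)) (hrat : ∀ i, genus k (Z i) = 0)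
    {d r : ℕ} {D : ∀ i, Divisor k (Z i)} {V : ∀ i, Submodule k (Z i)}
    (hG : ∀ i, IsGrd (V i) (D i) r d)
    {A B : ∀ i, Place k (Z i)}
    (hAB : ∀ i : Fin (N + 1), 0 < (i : ℕ) → (i : ℕ) < N → A i ≠ B i)
    (hcomp : ∀ (l : Fin N), Wt (V l.castSucc) (D l.castSucc) (B l.castSucc) d +
        Wt (V l.succ) (D l.succ) (A l.succ) d = (r + 1) * d)
    {T : Finset (Fin (N + 1))} {Q : ∀ i, Place k (Z i)}
    (hQA : ∀ i ∈ T, 0 < (i : ℕ) → Q i ≠ A i) (hQB : ∀ i ∈ T, (i : ℕ) < N → Q i ≠ B i)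
    (hcusp : ∀ i ∈ T, r ≤ vdim (V i) (D i) (Q i) 2) (i : Fin (N + 1)) :
    (0 < (i : ℕ) → r * (r + 1) / 2 +
        r * (T.filter (fun x : Fin (N + 1) => (x : ℕ) < (i : ℕ))).card ≤ Wt (V i) (D i) (A i) d) ∧
    ((i : ℕ) < N → r * (r + 1) / 2 +
        r * (T.filter (fun x : Fin (N + 1) => (i : ℕ) < (x : ℕ))).card ≤ Wt (V i) (D i) (B i) d) := by
  classical
  let wA : ℕ → ℕ := fun j => if hj : j < N + 1 then
    Wt (V ⟨j, hj⟩) (D ⟨j, hj⟩) (A ⟨j, hj⟩) d else 0
  let wB : ℕ → ℕ := fun j => if hj : j < N + 1 then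
    Wt (V ⟨j, hj⟩) (D ⟨j, hj⟩) (B ⟨j, hj⟩) d else 0
  let τ : ℕ → ℕ := fun j => if hj : j < N + 1 then
    (if (⟨j, hj⟩ : Fin (N + 1)) ∈ T then 1 else 0) else 0
  have hwA : ∀ j (hj : j < N + 1), wA j = Wt (V ⟨j, hj⟩) (D ⟨j, hj⟩) (A ⟨j, hj⟩) d :=
    fun j hj => dif_pos hj
  have hwB : ∀ j (hj : j < N + 1), wB j = Wt (V ⟨j, hj⟩) (D ⟨j, hj⟩) (B ⟨j, hj⟩) d :=
    fun j hj => dif_pos hj
  have hτ : ∀ j (hj : j < N + 1), τ j = if (⟨j, hj⟩ : Fin (N + 1)) ∈ T then 1 else 0 :=
    fun j hj => dif_pos hj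
  have hcompat : ∀ j, j < N → wB j + wA (j + 1) = (r + 1) * d := by
    intro j hj
    rw [hwB j (by omega), hwA (j + 1) (by omega)]
    exact hcomp ⟨j, hj⟩
  have hinner : ∀ j, 0 < j → j < N → wA j + wB j + r * τ j ≤ (r + 1) * d := by
    intro j hj0 hjN
    have hj : j < N + 1 := by omega
    rw [hwA j hj, hwB j hj, hτ j hj]
    by_cases hT : (⟨j, hj⟩ : Fin (N + 1)) ∈ T
    · rw [if_pos hT, mul_one]
      exact Wt_add_le_of_cusp (hZ _) (hrat _) (hG _) (hAB ⟨j, hj⟩ hj0 hjN)
        (hQA _ hT hj0).symm (hQB _ hT hjN).symm (hcusp _ hT)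
    · rw [if_neg hT, mul_zero, add_zero]
      exact Wt_add_le (hZ _) (hG _) (hAB ⟨j, hj⟩ hj0 hjN)
  have hfirst : 0 < N → wB 0 + r * (r + 1) / 2 + r * τ 0 ≤ (r + 1) * d := by
    intro hN
    have hj : 0 < N + 1 := by omega
    rw [hwB 0 hj, hτ 0 hj]
    by_cases hT : (⟨0, hj⟩ : Fin (N + 1)) ∈ T
    · rw [if_pos hT, mul_one]
      have h1 := Wt_add_le (hZ _) (hG _) (hQB _ hT hN).symm
      have h2 := Wt_ge_of_cusp (hZ _) (hG _) _ (hcusp _ hT)
      omega
    · rw [if_neg hT, mul_zero, add_zero]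
      exact Wt_le (hZ _) (hG _) _
  have hlast : 0 < N → wA N + r * (r + 1) / 2 + r * τ N ≤ (r + 1) * d := by
    intro hN
    have hj : N < N + 1 := by omega
    rw [hwA N hj, hτ N hj]
    by_cases hT : (⟨N, hj⟩ : Fin (N + 1)) ∈ T
    · rw [if_pos hT, mul_one]
      have h1 := Wt_add_le (hZ _) (hG _) (hQA _ hT hN).symm
      have h2 := Wt_ge_of_cusp (hZ _) (hG _) _ (hcusp _ hT)
      omega
    · rw [if_neg hT, mul_zero, add_zero]
      exact Wt_le (hZ _) (hG _) _
  constructor
  · intro hi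
    have key := chain_forward N r ((r + 1) * d) (r * (r + 1) / 2) wA wB τ
      (fun j => (T.filter (fun x : Fin (N + 1) => (x : ℕ) < j)).card)
      (by simp)
      (by
        intro j hj
        show (T.filter (fun x : Fin (N + 1) => (x : ℕ) < j + 1)).card = _
        rw [card_filter_lt_succ T j (by omega), hτ j (by omega)])
      hcompat hinner hfirst (i : ℕ) hi (by have := i.2; omega)
    rw [hwA (i : ℕ) i.2] at key
    exact key
  · intro hi
    have key := chain_backward N r ((r + 1) * d) (r * (r + 1) / 2) wA wB τ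
      (fun j => (T.filter (fun x : Fin (N + 1) => j < (x : ℕ))).card)
      (by
        show (T.filter (fun x : Fin (N + 1) => N < (x : ℕ))).card = 0
        rw [Finset.card_eq_zero, Finset.filter_eq_empty_iff]
        intro x _
        have := x.2
        omega)
      (by
        intro j hj
        show (T.filter (fun x : Fin (N + 1) => j < (x : ℕ))).card = _
        rw [card_filter_gt_pred T j (by omega), hτ (j + 1) (by omega)])
      hcompat hinner hlast (i : ℕ) hi
    rw [hwB (i : ℕ) i.2] at key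
    exact key

end

end Groth.Agent.FF

namespace Groth.Agent.FF

lemma card_erase_eq_add {N : ℕ} (T : Finset (Fin (N + 1))) (i : Fin (N + 1)) :
    (T.erase i).card = (T.filter (fun x : Fin (N + 1) => (x : ℕ) < (i : ℕ))).card +
      (T.filter (fun x : Fin (N + 1) => (i : ℕ) < (x : ℕ))).card := by
  classical
  rw [← Finset.filter_ne' T i, Finset.card_filter, Finset.card_filter, Finset.card_filter,
    ← Finset.sum_add_distrib]
  apply Finset.sum_congr rfl
  intro x _
  rcases lt_trichotomy (x : ℕ) (i : ℕ) with h | h | h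
  · have h1 : x ≠ i := fun e => by rw [e] at h; exact lt_irrefl _ h
    have h2 : ¬ (i : ℕ) < (x : ℕ) := by omega
    simp [h, h1, h2]
  · have h1 : x = i := Fin.ext h
    simp [h1]
  · have h1 : x ≠ i := fun e => by rw [e] at h; exact lt_irrefl _ h
    have h2 : ¬ (x : ℕ) < (i : ℕ) := by omega
    simp [h, h1, h2]

lemma card_eq_filter_lt_last_add {N : ℕ} (T : Finset (Fin (N + 1))) :
    T.card = (T.filter (fun x : Fin (N + 1) => (x : ℕ) < N)).card +
      (if Fin.last N ∈ T then 1 else 0) := by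
  classical
  have h := card_filter_lt_succ T N (by omega)
  have e : T.filter (fun x : Fin (N + 1) => (x : ℕ) < N + 1) = T := by
    apply Finset.filter_true_of_mem
    intro x _
    exact x.2
  rw [e] at h
  exact h

end Groth.Agent.FF
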