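import Mathlib

/-!
# Relative length (dimension) of nested subspaces, valued in `ℕ∞`
-/

set_option autoImplicit false

namespace Groth.Agent.FF

variable {k V : Type*} [Field k] [AddCommGroup V] [Module k V]

/-- The dimension of `B / (A ∩ B)` as an element of `ℕ∞`. -/
noncomputable def relLen (A B : Submodule k V) : ℕ∞ :=
  Module.length k (B ⧸ A.submoduleOf B)

lemma relLen_def (A B : Submodule k V) :
    relLen A B = Module.length k (B ⧸ Submodule.comap B.subtype A) := rfl

/-- additivity of relative length along `A ≤ B ≤ C`. -/
theorem relLen_add {A B C : Submodule k V} (hAB : A ≤ B) (hBC : B ≤ C) :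
    relLen A C = relLen A B + relLen B C := by
  unfold relLen
  have h1 : A.submoduleOf B ≤ Submodule.comap (Submodule.inclusion hBC) (A.submoduleOf C) := by
    intro x hx
    exact hx
  have h2 : A.submoduleOf C ≤ Submodule.comap LinearMap.id (B.submoduleOf C) := by
    intro x hx
    exact hAB hx
  let f := Submodule.mapQ (A.submoduleOf B) (A.submoduleOf C) (Submodule.inclusion hBC) h1
  let g := Submodule.mapQ (A.submoduleOf C) (B.submoduleOf C) LinearMap.id h2
  apply Module.length_eq_add_of_exact f g
  · -- injective
    rw [← LinearMap.ker_eq_bot, LinearMap.ker_eq_bot']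
    intro x
    induction x using Submodule.Quotient.induction_on with
    | _ x =>
      intro hx
      rw [Submodule.mapQ_apply, Submodule.Quotient.mk_eq_zero] at hx
      rw [Submodule.Quotient.mk_eq_zero]
      exact hx
  · -- surjective
    intro y
    induction y using Submodule.Quotient.induction_on with
    | _ y => exact ⟨Submodule.Quotient.mk y, rfl⟩
  · -- exact
    rw [LinearMap.exact_iff]
    ext y
    induction y using Submodule.Quotient.induction_on with
    | _ y =>
      rw [LinearMap.mem_ker, Submodule.mapQ_apply, Submodule.Quotient.mk_eq_zero]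
      constructor
      · intro hy
        have hyB : (y : V) ∈ B := hy
        refine ⟨Submodule.Quotient.mk ⟨(y : V), hyB⟩, ?_⟩
        rw [Submodule.mapQ_apply]
        rfl
      · rintro ⟨x, hx⟩
        induction x using Submodule.Quotient.induction_on with
        | _ x =>
          rw [Submodule.mapQ_apply, Submodule.Quotient.eq] at hx
          have hx' : ((Submodule.inclusion hBC x : C) : V) - (y : V) ∈ A := hx
          have : (y : V) ∈ B := by
            have h3 : (y : V) = (x : V) - (((Submodule.inclusion hBC x : C) : V) - (y : V)) := by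
              simp
            rw [h3]
            exact B.sub_mem x.2 (hAB hx')
          exact this

lemma relLen_bot (B : Submodule k V) : relLen ⊥ B = Module.length k B := by
  unfold relLen
  have : (⊥ : Submodule k V).submoduleOf B = ⊥ := by
    ext x
    simp [Submodule.submoduleOf]
  exact (Submodule.quotEquivOfEqBot _ this).length_eq

lemma relLen_self (A : Submodule k V) : relLen A A = 0 := by
  unfold relLen
  rw [Module.length_eq_zero_iff]
  have : A.submoduleOf A = ⊤ := by
    ext x; simp [Submodule.submoduleOf]
  rw [this]
  infer_instance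

/-- `length B = length A + relLen A B` for `A ≤ B`. -/
theorem length_eq_add_relLen {A B : Submodule k V} (hAB : A ≤ B) :
    Module.length k B = Module.length k A + relLen A B := by
  rw [← relLen_bot, ← relLen_bot, relLen_add bot_le hAB]

/-- If a linear map `g` defined on `B` has kernel `A ∩ B` then `relLen A B` is the length of its
range. -/
theorem relLen_eq_of_ker {W : Type*} [AddCommGroup W] [Module k W] {A B : Submodule k V}
    (g : B →ₗ[k] W) (hker : ∀ x : B, g x = 0 ↔ (x : V) ∈ A) :
    relLen A B = Module.length k (LinearMap.range g) := by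
  unfold relLen
  have hk : LinearMap.ker g = A.submoduleOf B := by
    ext x
    rw [LinearMap.mem_ker, hker]
    rfl
  exact ((Submodule.quotEquivOfEq _ _ hk.symm).trans g.quotKerEquivRange).length_eq

theorem relLen_eq_of_ker_of_surjective {W : Type*} [AddCommGroup W] [Module k W]
    {A B : Submodule k V} (g : B →ₗ[k] W) (hker : ∀ x : B, g x = 0 ↔ (x : V) ∈ A)
    (hsurj : Function.Surjective g) : relLen A B = Module.length k W := by
  rw [relLen_eq_of_ker g hker, LinearMap.range_eq_top.mpr hsurj]
  exact Module.length_top

theorem relLen_le_of_ker {W : Type*} [AddCommGroup W] [Module k W] {A B : Submodule k V}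
    (g : B →ₗ[k] W) (hker : ∀ x : B, g x = 0 ↔ (x : V) ∈ A) :
    relLen A B ≤ Module.length k W := by
  rw [relLen_eq_of_ker g hker]
  exact Module.length_le_of_injective (LinearMap.range g).subtype (Submodule.subtype_injective _)

/-- Comparison of relative lengths along a linear map. -/
theorem relLen_le_relLen {V' : Type*} [AddCommGroup V'] [Module k V'] {A B : Submodule k V}
    {A' B' : Submodule k V'} (φ : V →ₗ[k] V') (hB : ∀ x ∈ B, φ x ∈ B')
    (hA : ∀ x ∈ B, φ x ∈ A' ↔ x ∈ A) : relLen A B ≤ relLen A' B' := by
  let g : B →ₗ[k] (B' ⧸ A'.submoduleOf B') :=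
    (A'.submoduleOf B').mkQ.comp ((φ.comp B.subtype).codRestrict B' (fun x => hB x x.2))
  have hker : ∀ x : B, g x = 0 ↔ (x : V) ∈ A := by
    intro x
    simp only [g, LinearMap.comp_apply, Submodule.mkQ_apply, Submodule.Quotient.mk_eq_zero]
    rw [← hA x x.2]
    rfl
  exact relLen_le_of_ker g hker

lemma length_ne_top_iff_finite {W : Type*} [AddCommGroup W] [Module k W] :
    Module.length k W ≠ ⊤ ↔ FiniteDimensional k W := by
  rw [Module.length_ne_top_iff, isFiniteLength_iff_isNoetherian_isArtinian]
  constructor
  · rintro ⟨h, -⟩
    exact IsNoetherian.iff_fg.mp h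
  · intro h
    exact ⟨IsNoetherian.iff_fg.mpr h, inferInstance⟩

lemma length_eq_natCast_iff {W : Type*} [AddCommGroup W] [Module k W] (n : ℕ) :
    Module.length k W = n ↔ FiniteDimensional k W ∧ Module.finrank k W = n := by
  constructor
  · intro h
    have hfin : FiniteDimensional k W := by
      rw [← length_ne_top_iff_finite, h]; exact ENat.natCast_ne_top n
    refine ⟨hfin, ?_⟩
    rw [Module.length_eq_finrank] at h
    exact_mod_cast h
  · rintro ⟨hfin, h⟩
    rw [Module.length_eq_finrank, h]

end Groth.Agent.FF
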