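import Groth.Agent.FunFld.Residue
import Groth.Agent.FunFld.RelLen

/-!
# Balls at a place and the residue map on them
-/

set_option autoImplicit false

open FunFld IntermediateField Polynomial WithZero

namespace Groth.Agent.FF

universe u v
variable {k : Type u} {K : Type v} [Field k] [Field K] [Algebra k K]

lemma lt_exp_iff_le_exp_sub_one (a : ℤᵐ⁰) (n : ℤ) : a < exp n ↔ a ≤ exp (n - 1) := by
  have h : exp n = exp (n - 1) * exp 1 := by rw [← exp_add]; congr 1; ring
  rw [h, lt_mul_exp_iff_le exp_ne_zero]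

/-- the ball `{x | v_P x ≤ exp n}` as a `k`-subspace of `K` -/
def ball (P : Place k K) (n : ℤ) : Submodule k K where
  carrier := {x | P.1 x ≤ exp n}
  add_mem' {a b} ha hb := P.1.map_add_le ha hb
  zero_mem' := by simp
  smul_mem' c a ha := (val_smul_le P c a).trans ha

lemma mem_ball (P : Place k K) (n : ℤ) (x : K) : x ∈ ball P n ↔ P.1 x ≤ exp n := Iff.rfl

lemma ball_mono (P : Place k K) {n m : ℤ} (h : n ≤ m) : ball P n ≤ ball P m := by
  intro x hx
  exact hx.trans (exp_le_exp.mpr h)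

lemma val_zpow_mul (P : Place k K) {t : K} (ht : P.1 t = exp (-1 : ℤ)) (n : ℤ) (x : K) :
    P.1 (t ^ n * x) = exp (-n) * P.1 x := by
  rw [map_mul, map_zpow₀, ht, ← exp_zsmul]
  congr 2
  simp

lemma exp_neg_mul_exp (n : ℤ) : (exp (-n) * exp n : ℤᵐ⁰) = 1 := by
  rw [← exp_add, ← exp_zero]; congr 1; simp

lemma zpow_mul_mem_O (P : Place k K) {t : K} (ht : P.1 t = exp (-1 : ℤ)) (n : ℤ) {x : K}
    (hx : x ∈ ball P n) : t ^ n * x ∈ P.O := by
  rw [mem_ball] at hx
  rw [mem_O_iff, val_zpow_mul P ht]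
  calc exp (-n) * P.1 x ≤ exp (-n) * exp n := by gcongr
    _ = 1 := exp_neg_mul_exp n

/-- multiplication by `t ^ n` followed by the residue map, on the ball of radius `exp n` -/
noncomputable def ballRes (P : Place k K) {t : K} (ht : P.1 t = exp (-1 : ℤ)) (n : ℤ) :
    ball P n →ₗ[k] IsLocalRing.ResidueField P.O where
  toFun x := res P ⟨t ^ n * (x : K), zpow_mul_mem_O P ht n x.2⟩
  map_add' x y := by
    have : (⟨t ^ n * ((x + y : ball P n) : K), zpow_mul_mem_O P ht n (x + y).2⟩ : P.O) =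
        ⟨t ^ n * (x : K), zpow_mul_mem_O P ht n x.2⟩ +
        ⟨t ^ n * (y : K), zpow_mul_mem_O P ht n y.2⟩ := Subtype.ext (by simp [mul_add])
    rw [this, map_add]
  map_smul' c x := by
    have : (⟨t ^ n * ((c • x : ball P n) : K), zpow_mul_mem_O P ht n (c • x).2⟩ : P.O) =
        algebraMap k P.O c * ⟨t ^ n * (x : K), zpow_mul_mem_O P ht n x.2⟩ := Subtype.ext (by
          simp only [Submodule.coe_smul, MulMemClass.coe_mul, coe_algebraMap_O]
          rw [Algebra.smul_def]; ring)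
    rw [this, map_mul, RingHom.id_apply]
    exact (Algebra.smul_def c _).symm

lemma ballRes_apply (P : Place k K) {t : K} (ht : P.1 t = exp (-1 : ℤ)) (n : ℤ) (x : ball P n) :
    ballRes P ht n x = res P ⟨t ^ n * (x : K), zpow_mul_mem_O P ht n x.2⟩ := rfl

lemma ballRes_eq_zero_iff (P : Place k K) {t : K} (ht : P.1 t = exp (-1 : ℤ)) (n : ℤ)
    (x : ball P n) : ballRes P ht n x = 0 ↔ (x : K) ∈ ball P (n - 1) := by
  rw [ballRes_apply, res_eq_zero_iff, mem_ball, ← lt_exp_iff_le_exp_sub_one]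
  change P.1 (t ^ n * (x : K)) < 1 ↔ _
  rw [val_zpow_mul P ht]
  have hpos : (0 : ℤᵐ⁰) < exp (-n) := exp_pos
  have key : exp (-n) * P.1 (x : K) < exp (-n) * exp n ↔ P.1 (x : K) < exp n :=
    mul_lt_mul_iff_right₀ hpos
  rw [exp_neg_mul_exp] at key
  exact key

lemma ballRes_surjective (P : Place k K) {t : K} (ht : P.1 t = exp (-1 : ℤ)) (n : ℤ) :
    Function.Surjective (ballRes P ht n) := by
  intro r
  obtain ⟨s, rfl⟩ := IsLocalRing.residue_surjective r
  have ht0 : t ≠ 0 := by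
    rw [← P.1.ne_zero_iff, ht]; exact exp_ne_zero
  have hmem : t ^ (-n) * (s : K) ∈ ball P n := by
    rw [mem_ball, val_zpow_mul P ht, neg_neg]
    have hs : P.1 (s : K) ≤ 1 := s.2
    calc exp n * P.1 (s : K) ≤ exp n * 1 := by gcongr
      _ = exp n := mul_one _
  refine ⟨⟨_, hmem⟩, ?_⟩
  rw [ballRes_apply]
  congr 1
  apply Subtype.ext
  change t ^ n * (t ^ (-n) * (s : K)) = s
  rw [← mul_assoc, ← zpow_add₀ ht0]
  simp

end Groth.Agent.FF
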