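import Groth.Prelude.Def_W4bk4goldsch23FF
import Mathlib

/-!
# Function fields of one variable: basic API for places

Helper library for the `FunFld` statements (Def_W4bk4goldsch23FF).
-/

set_option autoImplicit false

open FunFld WithZero

namespace Groth.Agent.FF

variable {k K : Type*} [Field k] [Field K] [Algebra k K]

/-! ### Valuation of constants -/

lemma val_algebraMap_le (P : Place k K) (c : k) : P.1 (algebraMap k K c) ≤ 1 := P.2.1 c

lemma val_algebraMap (P : Place k K) {c : k} (hc : c ≠ 0) : P.1 (algebraMap k K c) = 1 := by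
  apply le_antisymm (P.2.1 c)
  have h1 : P.1 (algebraMap k K c⁻¹) ≤ 1 := P.2.1 c⁻¹
  have h2 : P.1 (algebraMap k K c) * P.1 (algebraMap k K c⁻¹) = 1 := by
    rw [← map_mul, ← map_mul, mul_inv_cancel₀ hc, map_one, map_one]
  have hne : P.1 (algebraMap k K c) ≠ 0 := by
    intro h; rw [h, zero_mul] at h2; exact zero_ne_one h2
  calc (1 : ℤᵐ⁰) = P.1 (algebraMap k K c) * P.1 (algebraMap k K c⁻¹) := h2.symm
    _ ≤ P.1 (algebraMap k K c) * 1 := by gcongr
    _ = _ := mul_one _

lemma val_smul (P : Place k K) {c : k} (hc : c ≠ 0) (x : K) : P.1 (c • x) = P.1 x := by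
  rw [Algebra.smul_def, map_mul, val_algebraMap P hc, one_mul]

lemma val_smul_le (P : Place k K) (c : k) (x : K) : P.1 (c • x) ≤ P.1 x := by
  rw [Algebra.smul_def, map_mul]
  exact (mul_le_mul' (P.2.1 c) le_rfl).trans_eq (one_mul _)

/-! ### The order function -/

lemma val_eq_exp_neg_ord (P : Place k K) {x : K} (hx : x ≠ 0) : P.1 x = exp (-P.ord x) := by
  unfold Place.ord
  rw [neg_neg, exp_log]
  exact (P.1.ne_zero_iff).mpr hx

lemma ord_zero (P : Place k K) : P.ord (0 : K) = 0 := by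
  simp [Place.ord]

lemma ord_one (P : Place k K) : P.ord (1 : K) = 0 := by
  simp [Place.ord]

lemma ord_mul (P : Place k K) {x y : K} (hx : x ≠ 0) (hy : y ≠ 0) :
    P.ord (x * y) = P.ord x + P.ord y := by
  unfold Place.ord
  rw [map_mul, log_mul ((P.1.ne_zero_iff).mpr hx) ((P.1.ne_zero_iff).mpr hy)]
  ring

lemma ord_inv (P : Place k K) (x : K) : P.ord x⁻¹ = -P.ord x := by
  unfold Place.ord
  rw [map_inv₀, log_inv]

lemma ord_div (P : Place k K) {x y : K} (hx : x ≠ 0) (hy : y ≠ 0) :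
    P.ord (x / y) = P.ord x - P.ord y := by
  rw [div_eq_mul_inv, ord_mul P hx (inv_ne_zero hy), ord_inv]; ring

lemma ord_pow (P : Place k K) (x : K) (n : ℕ) : P.ord (x ^ n) = n * P.ord x := by
  unfold Place.ord
  rw [map_pow, log_pow]; simp

lemma ord_zpow (P : Place k K) (x : K) (n : ℤ) : P.ord (x ^ n) = n * P.ord x := by
  unfold Place.ord
  rw [map_zpow₀, log_zpow]; simp

lemma ord_algebraMap (P : Place k K) (c : k) : P.ord (algebraMap k K c) = 0 := by
  by_cases hc : c = 0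
  · simp [hc, ord_zero]
  · simp [Place.ord, val_algebraMap P hc]

lemma ord_smul (P : Place k K) {c : k} (hc : c ≠ 0) (x : K) : P.ord (c • x) = P.ord x := by
  simp [Place.ord, val_smul P hc]

lemma ord_neg (P : Place k K) (x : K) : P.ord (-x) = P.ord x := by
  simp [Place.ord]

lemma val_le_exp_iff (P : Place k K) {x : K} (hx : x ≠ 0) (n : ℤ) :
    P.1 x ≤ exp n ↔ -n ≤ P.ord x := by
  rw [val_eq_exp_neg_ord P hx, exp_le_exp]
  constructor <;> intro h <;> linarith

lemma val_lt_exp_iff (P : Place k K) {x : K} (hx : x ≠ 0) (n : ℤ) :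
    P.1 x < exp n ↔ -n < P.ord x := by
  rw [val_eq_exp_neg_ord P hx, exp_lt_exp]
  constructor <;> intro h <;> linarith

lemma val_le_one_iff (P : Place k K) {x : K} (hx : x ≠ 0) : P.1 x ≤ 1 ↔ 0 ≤ P.ord x := by
  have := val_le_exp_iff P hx 0
  simpa using this

lemma val_lt_one_iff (P : Place k K) {x : K} (hx : x ≠ 0) : P.1 x < 1 ↔ 0 < P.ord x := by
  have := val_lt_exp_iff P hx 0
  simpa using this

lemma val_eq_one_iff (P : Place k K) {x : K} (hx : x ≠ 0) : P.1 x = 1 ↔ P.ord x = 0 := by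
  rw [val_eq_exp_neg_ord P hx, exp_eq_one, neg_eq_zero]

lemma ord_add_ge (P : Place k K) {x y : K} (hxy : x + y ≠ 0) :
    min (P.ord x) (P.ord y) ≤ P.ord (x + y) := by
  by_cases hx : x = 0
  · subst hx; simp
  by_cases hy : y = 0
  · subst hy; simp
  have h := P.1.map_add x y
  rw [val_eq_exp_neg_ord P hx, val_eq_exp_neg_ord P hy, val_eq_exp_neg_ord P hxy] at h
  rcases le_max_iff.mp h with h | h
  · rw [exp_le_exp] at h
    exact (min_le_left _ _).trans (by linarith)
  · rw [exp_le_exp] at h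
    exact (min_le_right _ _).trans (by linarith)

lemma exists_uniformizer (P : Place k K) : ∃ t : K, P.1 t = exp (-1 : ℤ) := P.2.2 _

lemma exists_ord_eq (P : Place k K) (n : ℤ) : ∃ t : K, t ≠ 0 ∧ P.ord t = n := by
  obtain ⟨t, ht⟩ := P.2.2 (exp (-n))
  have ht0 : t ≠ 0 := by
    rw [← P.1.ne_zero_iff, ht]; exact exp_ne_zero
  refine ⟨t, ht0, ?_⟩
  simp [Place.ord, ht]

lemma mem_O_iff (P : Place k K) (x : K) : x ∈ P.O ↔ P.1 x ≤ 1 := Iff.rfl

lemma algebraMap_mem_O (P : Place k K) (c : k) : algebraMap k K c ∈ P.O := P.2.1 c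

end Groth.Agent.FF
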