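import Groth.Agent.FunFld.Transc

/-!
# The chain lemma: elements with distinct values in `[v x, 1)` are independent over `k(x)`
-/

set_option autoImplicit false

open FunFld IntermediateField Polynomial

namespace Groth.Agent.FF

universe u v
variable {k : Type u} {K : Type v} [Field k] [Field K] [Algebra k K]
variable {Γ₀ : Type*} [LinearOrderedCommGroupWithZero Γ₀]

section general
variable (w : Valuation K Γ₀) (hw : ∀ c : k, w (algebraMap k K c) ≤ 1)
include hw

lemma gval_algebraMap {c : k} (hc : c ≠ 0) : w (algebraMap k K c) = 1 := by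
  apply le_antisymm (hw c)
  have h1 : w (algebraMap k K c⁻¹) ≤ 1 := hw c⁻¹
  have h2 : w (algebraMap k K c) * w (algebraMap k K c⁻¹) = 1 := by
    rw [← map_mul, ← map_mul, mul_inv_cancel₀ hc, map_one, map_one]
  calc (1 : Γ₀) = w (algebraMap k K c) * w (algebraMap k K c⁻¹) := h2.symm
    _ ≤ w (algebraMap k K c) * 1 := by gcongr
    _ = _ := mul_one _

lemma gval_aeval_le_one {x : K} (hx : w x ≤ 1) (p : k[X]) : w (aeval x p) ≤ 1 := by
  rw [aeval_eq_sum_range]
  apply w.map_sum_le
  intro i _
  rw [Algebra.smul_def, map_mul, map_pow]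
  calc w (algebraMap k K (p.coeff i)) * w x ^ i ≤ 1 * 1 := by
        gcongr
        · exact hw _
        · exact pow_le_one' hx i
    _ = 1 := one_mul _

lemma gval_aeval_le_of_coeff_zero {x : K} (hx : w x ≤ 1) {p : k[X]} (hp : p.coeff 0 = 0) :
    w (aeval x p) ≤ w x := by
  have h := X_mul_divX_add p
  rw [hp, map_zero, add_zero] at h
  rw [← h, map_mul, aeval_X, map_mul]
  calc w x * w (aeval x (divX p)) ≤ w x * 1 := by
        gcongr
        exact gval_aeval_le_one w hw hx _
    _ = w x := mul_one _

lemma gval_aeval_eq_one {x : K} (hx : w x < 1) {p : k[X]} (hp : p.coeff 0 ≠ 0) :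
    w (aeval x p) = 1 := by
  have h := X_mul_divX_add p
  have h1 : w (aeval x (X * divX p)) < 1 := by
    rw [map_mul, aeval_X, map_mul]
    calc w x * w (aeval x (divX p)) ≤ w x * 1 := by
          gcongr
          exact gval_aeval_le_one w hw hx.le _
      _ = w x := mul_one _
      _ < 1 := hx
  have h2 : w (aeval x (C (p.coeff 0))) = 1 := by
    rw [aeval_C]; exact gval_algebraMap w hw hp
  rw [← h, map_add, add_comm, w.map_add_eq_of_lt_left (by rw [h2]; exact h1), h2]

/-- The chain lemma (Stichtenoth 1.1.7, slightly generalised). -/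
theorem chain_lemma {x : K} (hx0 : x ≠ 0) (hx : w x < 1) {n : ℕ} (y : Fin n → K)
    (hmono : StrictMono fun i => w (y i)) (hlow : ∀ i, w x ≤ w (y i)) (hup : ∀ i, w (y i) < 1)
    (φ : Fin n → k[X]) (hrel : ∑ i, aeval x (φ i) * y i = 0) : ∀ i, φ i = 0 := by
  have hwx0 : w x ≠ 0 := (w.ne_zero_iff).mpr hx0
  -- induction on a bound for the degrees
  suffices H : ∀ N : ℕ, ∀ φ : Fin n → k[X], (∀ i m, N ≤ m → (φ i).coeff m = 0) →
      ∑ i, aeval x (φ i) * y i = 0 → ∀ i, φ i = 0 by
    obtain ⟨N, hN⟩ : ∃ N : ℕ, ∀ i, (φ i).natDegree < N := by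
      refine ⟨(Finset.univ.sup fun i => (φ i).natDegree) + 1, fun i => ?_⟩
      exact Nat.lt_succ_of_le (Finset.le_sup (f := fun i => (φ i).natDegree) (Finset.mem_univ i))
    exact H N φ (fun i m hm => coeff_eq_zero_of_natDegree_lt ((hN i).trans_le hm)) hrel
  intro N
  induction N with
  | zero =>
    intro φ hφ _ i
    ext m
    simpa using hφ i m (Nat.zero_le _)
  | succ N ih =>
    intro φ hφ hrel
    by_cases hall : ∀ i, (φ i).coeff 0 = 0
    · -- divide everything by `X`
      have hdiv : ∀ i, φ i = X * divX (φ i) := by
        intro i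
        have h := X_mul_divX_add (φ i)
        rw [hall i, map_zero, add_zero] at h
        exact h.symm
      have hrel' : ∑ i, aeval x (divX (φ i)) * y i = 0 := by
        have : x * ∑ i, aeval x (divX (φ i)) * y i = 0 := by
          rw [Finset.mul_sum, ← hrel]
          apply Finset.sum_congr rfl
          intro i _
          conv_rhs => rw [hdiv i, map_mul, aeval_X]
          ring
        exact (mul_eq_zero.mp this).resolve_left hx0
      have h0 := ih (fun i => divX (φ i)) (fun i m hm => by
        rw [coeff_divX]; exact hφ i (m + 1) (by omega)) hrel'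
      intro i
      rw [hdiv i, h0 i, mul_zero]
    · -- some constant coefficient is nonzero: contradiction
      exfalso
      push Not at hall
      obtain ⟨j, hj, hjmax⟩ : ∃ j, (φ j).coeff 0 ≠ 0 ∧ ∀ i, j < i → (φ i).coeff 0 = 0 := by
        classical
        have hne : (Finset.univ.filter fun i => (φ i).coeff 0 ≠ 0).Nonempty := by
          obtain ⟨i, hi⟩ := hall
          exact ⟨i, by simp [hi]⟩
        refine ⟨(Finset.univ.filter fun i => (φ i).coeff 0 ≠ 0).max' hne, ?_, ?_⟩
        · have := Finset.max'_mem _ hne
          simpa using this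
        · intro i hi
          by_contra hne'
          have : i ∈ Finset.univ.filter fun i => (φ i).coeff 0 ≠ 0 := by simp [hne']
          exact absurd (Finset.le_max' _ i this) (not_le.mpr hi)
      have hyj0 : w (y j) ≠ 0 := fun h => hwx0 (le_antisymm (h ▸ hlow j) zero_le)
      have hsum : aeval x (φ j) * y j = -∑ i ∈ Finset.univ.erase j, aeval x (φ i) * y i := by
        rw [eq_neg_iff_add_eq_zero,
          Finset.add_sum_erase _ (fun i => aeval x (φ i) * y i) (Finset.mem_univ j)]
        exact hrel
      have hlt : w (∑ i ∈ Finset.univ.erase j, aeval x (φ i) * y i) < w (y j) := by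
        apply w.map_sum_lt hyj0
        intro i hi
        have hij : i ≠ j := Finset.ne_of_mem_erase hi
        rw [map_mul]
        rcases lt_or_gt_of_ne hij with h | h
        · calc w (aeval x (φ i)) * w (y i) ≤ 1 * w (y i) := by
                gcongr
                exact gval_aeval_le_one w hw hx.le _
            _ = w (y i) := one_mul _
            _ < w (y j) := hmono h
        · calc w (aeval x (φ i)) * w (y i) ≤ w x * w (y i) := by
                gcongr
                exact gval_aeval_le_of_coeff_zero w hw hx.le (hjmax i h)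
            _ < w x * 1 := by
                apply mul_lt_mul_of_pos_left (hup i)
                exact zero_lt_iff.mpr hwx0
            _ = w x := mul_one _
            _ ≤ w (y j) := hlow j
      have heq : w (aeval x (φ j) * y j) = w (y j) := by
        rw [map_mul, gval_aeval_eq_one w hw hx hj, one_mul]
      rw [hsum, Valuation.map_neg] at heq
      exact absurd heq (ne_of_lt hlt)

end general

end Groth.Agent.FF
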