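import Groth.Agent.FunFld.KaehlerFF
import Mathlib.FieldTheory.PurelyInseparable.PerfectClosure
import Mathlib.FieldTheory.KummerPolynomial

/-!
# Geometric function fields in characteristic `p`: the subfield `k K^p`
-/

set_option autoImplicit false

open FunFld IntermediateField KaehlerDifferential

namespace Groth.Agent.FF

universe u v
variable {k : Type u} {K : Type v} [Field k] [Field K] [Algebra k K]

/-- the field of constants of the universal derivation -/
noncomputable def kerD (k : Type u) (K : Type v) [Field k] [Field K] [Algebra k K] :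
    IntermediateField k K where
  carrier := {z | D k K z = 0}
  mul_mem' {a b} ha hb := by
    change D k K (a * b) = 0
    rw [Derivation.leibniz, show D k K a = 0 from ha, show D k K b = 0 from hb, smul_zero,
      smul_zero, add_zero]
  one_mem' := (D k K).map_one_eq_zero
  add_mem' {a b} ha hb := by
    change D k K (a + b) = 0
    rw [map_add, show D k K a = 0 from ha, show D k K b = 0 from hb, add_zero]
  zero_mem' := map_zero _
  algebraMap_mem' c := (D k K).map_algebraMap c
  inv_mem' a ha := by
    change D k K a⁻¹ = 0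
    by_cases h0 : a = 0
    · rw [h0, inv_zero, map_zero]
    · have h1 : D k K (a * a⁻¹) = 0 := by
        rw [mul_inv_cancel₀ h0]; exact (D k K).map_one_eq_zero
      rw [Derivation.leibniz, show D k K a = 0 from ha, smul_zero, add_zero] at h1
      exact (smul_eq_zero.mp h1).resolve_left h0

lemma mem_kerD {z : K} : z ∈ kerD k K ↔ D k K z = 0 := Iff.rfl

/-- `k K^p` consists of constants of the universal derivation -/
lemma adjoin_pow_le_kerD (p : ℕ) [CharP K p] :
    adjoin k (Set.range fun y : K => y ^ p) ≤ kerD k K := by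
  rw [adjoin_le_iff]
  rintro _ ⟨y, rfl⟩
  change D k K (y ^ p) = 0
  rw [Derivation.leibniz_pow, ← Nat.cast_smul_eq_nsmul K, CharP.cast_eq_zero, zero_smul]

/-- if the universal derivation vanishes identically then `Ω = 0` -/
lemma finrank_kaehler_eq_zero_of_kerD_eq_top (h : kerD k K = ⊤) :
    Module.finrank K Ω[K⁄k] = 0 := by
  have hspan := KaehlerDifferential.span_range_derivation k K
  have hzero : Set.range (D k K) ⊆ {0} := by
    rintro _ ⟨z, rfl⟩
    have : z ∈ kerD k K := by rw [h]; trivial
    exact this
  have hbot : (⊤ : Submodule K Ω[K⁄k]) = ⊥ := by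
    rw [← hspan, Submodule.span_eq_bot]
    intro w hw
    exact hzero hw
  have : Subsingleton Ω[K⁄k] := by
    refine ⟨fun a b => ?_⟩
    have ha : a ∈ (⊤ : Submodule K Ω[K⁄k]) := trivial
    have hb : b ∈ (⊤ : Submodule K Ω[K⁄k]) := trivial
    rw [hbot, Submodule.mem_bot] at ha hb
    rw [ha, hb]
  exact Module.finrank_zero_of_subsingleton

end Groth.Agent.FF

namespace Groth.Agent.FF

universe u v
variable {k : Type u} {K : Type v} [Field k] [Field K] [Algebra k K]

/-- `K = (k K^p)(x)` for a separating variable `x` -/
lemma adjoin_kKp_simple_eq_top (p : ℕ) [hp : Fact p.Prime] [CharP K p] {x : K}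
    [Algebra.IsSeparable (adjoin k ({x} : Set K)) K] :
    adjoin (adjoin k (Set.range fun y : K => y ^ p)) ({x} : Set K) = ⊤ := by
  set F := adjoin k (Set.range fun y : K => y ^ p) with hF
  set M := adjoin F ({x} : Set K) with hM
  have hxM : x ∈ M := mem_adjoin_simple_self F x
  have hle : adjoin k ({x} : Set K) ≤ M.restrictScalars k := by
    rw [adjoin_le_iff]
    rintro _ rfl
    exact hxM
  have hchar : CharP (adjoin k ({x} : Set K)) p :=
    (RingHom.charP_iff (algebraMap (adjoin k ({x} : Set K)) K)
      (algebraMap (adjoin k ({x} : Set K)) K).injective p).mpr inferInstance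
  have hexp : ExpChar (adjoin k ({x} : Set K)) p := ExpChar.prime hp.out
  have h1 := adjoin_eq_adjoin_pow_expChar_of_isSeparable' (adjoin k ({x} : Set K)) K
    (Set.univ : Set K) p
  rw [adjoin_univ] at h1
  have h2 : adjoin (adjoin k ({x} : Set K)) ((· ^ p) '' (Set.univ : Set K)) ≤
      extendScalars hle := by
    rw [adjoin_le_iff]
    rintro _ ⟨y, -, rfl⟩
    change y ^ p ∈ M
    have : y ^ p ∈ F := subset_adjoin k _ ⟨y, rfl⟩
    exact IntermediateField.algebraMap_mem M (⟨y ^ p, this⟩ : F)
  rw [← h1] at h2
  rw [eq_top_iff]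
  intro y _
  have : y ∈ extendScalars hle := h2 trivial
  exact this

end Groth.Agent.FF

namespace Groth.Agent.FF

universe u v
variable {k : Type u} {K : Type v} [Field k] [Field K] [Algebra k K]

open Polynomial in
/-- for a separating variable `x`: `x ∉ k K^p` and `[K : k K^p] = p` -/
theorem not_mem_and_finrank_kKp (p : ℕ) [hp : Fact p.Prime] [CharP K p] {x : K}
    (hx : Transcendental k x) [Algebra.IsSeparable (adjoin k ({x} : Set K)) K] :
    x ∉ adjoin k (Set.range fun y : K => y ^ p) ∧
      Module.finrank (adjoin k (Set.range fun y : K => y ^ p)) K = p := by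
  set F := adjoin k (Set.range fun y : K => y ^ p) with hF
  have htop := adjoin_kKp_simple_eq_top (k := k) p (x := x)
  have hΩ := finrank_kaehler_eq_one_of_separating hx
  have hxF : x ∉ F := by
    intro hxF
    have hFtop : F = ⊤ := by
      rw [eq_top_iff]
      intro y _
      have hy : y ∈ adjoin F ({x} : Set K) := by rw [htop]; trivial
      have hbot : adjoin F ({x} : Set K) = ⊥ := by
        rw [adjoin_simple_eq_bot_iff, mem_bot]
        exact ⟨⟨x, hxF⟩, rfl⟩
      rw [hbot, mem_bot] at hy
      obtain ⟨z, rfl⟩ := hy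
      exact z.2
    have hker : kerD k K = ⊤ := by
      have := adjoin_pow_le_kerD (k := k) (K := K) p
      rw [← hF, hFtop] at this
      exact top_le_iff.mp this
    have := finrank_kaehler_eq_zero_of_kerD_eq_top hker
    omega
  refine ⟨hxF, ?_⟩
  let a : F := ⟨x ^ p, subset_adjoin k _ ⟨x, rfl⟩⟩
  have hirr : Irreducible (X ^ p - C a : F[X]) := by
    apply X_pow_sub_C_irreducible_of_prime hp.out
    intro b hb
    have hb' : (b : K) ^ p = x ^ p := congrArg Subtype.val hb
    have h1 : ((b : K) - x) ^ p = 0 := by rw [sub_pow_char, hb', sub_self]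
    have h2 : (b : K) = x := sub_eq_zero.mp (pow_eq_zero_iff hp.out.ne_zero |>.mp h1)
    exact hxF (h2 ▸ b.2)
  have hroot : aeval x (X ^ p - C a : F[X]) = 0 := by
    simp only [map_sub, map_pow, aeval_X, aeval_C]
    exact sub_self _
  have hmonic : (X ^ p - C a : F[X]).Monic := monic_X_pow_sub_C a hp.out.ne_zero
  have hmin := minpoly.eq_of_irreducible_of_monic hirr hroot hmonic
  have hint : IsIntegral F x := ⟨_, hmonic, hroot⟩
  have h3 := adjoin.finrank hint
  rw [← hmin, natDegree_X_pow_sub_C, htop, finrank_top'] at h3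
  exact h3

/-- `[K : k K^p] = p` for a geometric function field of characteristic `p` -/
theorem finrank_kKp (p : ℕ) [hp : Fact p.Prime] [CharP K p] (hK : IsFunctionField k K)
    (hg : IsGeometric k K) :
    Module.finrank (adjoin k (Set.range fun y : K => y ^ p)) K = p := by
  obtain ⟨x, hx, hsep⟩ := exists_separating hK hg
  exact (not_mem_and_finrank_kKp p hx).2

end Groth.Agent.FF
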