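import Groth.Agent.FunFld.CharPFF

/-!
# Geometric function fields in characteristic `p`: uniqueness of `k K^p`
-/

set_option autoImplicit false

open FunFld IntermediateField KaehlerDifferential

namespace Groth.Agent.FF

universe u v
variable {k : Type u} {K : Type v} [Field k] [Field K] [Algebra k K]

open Polynomial in
/-- in a purely inseparable extension of degree `p`, `p`-th powers lie in the base -/
lemma pow_mem_of_isPurelyInseparable_of_finrank (p : ℕ) [hp : Fact p.Prime] [CharP K p]
    (K₀ : IntermediateField k K) [IsPurelyInseparable K₀ K] (h : Module.finrank K₀ K = p)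
    (y : K) : y ^ p ∈ K₀ := by
  have hchar : CharP K₀ p :=
    (RingHom.charP_iff (algebraMap K₀ K) (algebraMap K₀ K).injective p).mpr inferInstance
  have hexp : ExpChar K₀ p := ExpChar.prime hp.out
  have hfin : FiniteDimensional K₀ K :=
    Module.finite_of_finrank_pos (by rw [h]; exact hp.out.pos)
  obtain ⟨n, a, hmin⟩ := IsPurelyInseparable.minpoly_eq_X_pow_sub_C K₀ p y
  have hdeg : (minpoly K₀ y).natDegree ≤ p := h ▸ minpoly.natDegree_le y
  rw [hmin, natDegree_X_pow_sub_C] at hdeg
  have hroot : aeval y (minpoly K₀ y) = 0 := minpoly.aeval K₀ y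
  rw [hmin] at hroot
  simp only [map_sub, map_pow, aeval_X, aeval_C] at hroot
  have hya : y ^ p ^ n = (a : K) := sub_eq_zero.mp hroot
  have hn : n ≤ 1 := by
    by_contra hn
    rw [not_le] at hn
    have : p ^ 2 ≤ p ^ n := Nat.pow_le_pow_right hp.out.pos hn
    have h2 : 2 ≤ p := hp.out.two_le
    nlinarith
  interval_cases n
  · rw [pow_zero, pow_one] at hya
    rw [hya]
    exact pow_mem a.2 p
  · rw [pow_one] at hya
    rw [hya]
    exact a.2

/-- `k K^p` is the only intermediate field over which `K` is purely inseparable of degree `p` -/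
theorem purelyInsep_finrank_iff_eq_kKp (p : ℕ) [hp : Fact p.Prime] [CharP K p]
    (hK : IsFunctionField k K) (hg : IsGeometric k K) (K₀ : IntermediateField k K) :
    (IsPurelyInseparable K₀ K ∧ Module.finrank K₀ K = p) ↔
      K₀ = adjoin k (Set.range fun y : K => y ^ p) := by
  have hF := finrank_kKp p hK hg
  constructor
  · rintro ⟨hpi, hfr⟩
    have hle : adjoin k (Set.range fun y : K => y ^ p) ≤ K₀ := by
      rw [adjoin_le_iff]
      rintro _ ⟨y, rfl⟩
      exact pow_mem_of_isPurelyInseparable_of_finrank p K₀ hfr y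
    have hfin : FiniteDimensional (adjoin k (Set.range fun y : K => y ^ p)) K :=
      Module.finite_of_finrank_pos (by rw [hF]; exact hp.out.pos)
    exact (eq_of_le_of_finrank_eq' hle (by rw [hF, hfr])).symm
  · rintro rfl
    refine ⟨?_, hF⟩
    have hchar : CharP (adjoin k (Set.range fun y : K => y ^ p)) p :=
      (RingHom.charP_iff (algebraMap (adjoin k (Set.range fun y : K => y ^ p)) K)
        (algebraMap (adjoin k (Set.range fun y : K => y ^ p)) K).injective p).mpr inferInstance
    have hexp : ExpChar (adjoin k (Set.range fun y : K => y ^ p)) p := ExpChar.prime hp.out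
    rw [isPurelyInseparable_iff_pow_mem _ p]
    intro y
    refine ⟨1, ?_⟩
    rw [pow_one]
    exact ⟨⟨y ^ p, subset_adjoin k _ ⟨y, rfl⟩⟩, rfl⟩

end Groth.Agent.FF
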