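import Groth.Agent.FunFld.GapSpace

/-!
# Completions at a place: density and the gap space
-/

set_option autoImplicit false

open FunFld WithZero

namespace Groth.Agent.FF

universe u
variable {k K : Type u} [Field k] [Field K] [Algebra k K]

/-- every element of the completion is an element of `K` plus an integral element -/
lemma exists_sub_mem_Ov (v : Place k K) (z : AdFn.Kv v) :
    ∃ x : K, z - AdFn.toKv v x ∈ AdFn.Ov v := by
  have hopen : IsOpen {w : AdFn.Kv v | z - w ∈ AdFn.Ov v} :=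
    (AdFn.isOpen_Ov v).preimage (continuous_const.sub continuous_id)
  have hne : ({w : AdFn.Kv v | z - w ∈ AdFn.Ov v}).Nonempty :=
    ⟨z, by show z - z ∈ AdFn.Ov v; rw [sub_self]; exact (AdFn.Ov v).zero_mem⟩
  obtain ⟨a, ha⟩ := (UniformSpace.Completion.denseRange_coe (α := WithVal v.1)).exists_mem_open
    hopen hne
  refine ⟨WithVal.ofVal a, ?_⟩
  rw [AdFn.toKv_apply, WithVal.toVal_ofVal]
  exact ha

/-- `O_v` is stable under multiplication by constants -/
lemma smul_mem_Ov (v : Place k K) (c : k) {z : AdFn.Kv v} (hz : z ∈ AdFn.Ov v) :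
    c • z ∈ AdFn.Ov v := by
  rw [Algebra.smul_def]
  refine mul_mem ?_ hz
  rw [IsScalarTower.algebraMap_apply k K (AdFn.Kv v)]
  exact (AdFn.toKv_mem_Ov v _).mpr (v.2.1 c)

/-- `O_v` as a `k`-submodule of `K_v` -/
noncomputable def OvSub (v : Place k K) : Submodule k (AdFn.Kv v) where
  carrier := (AdFn.Ov v : Set (AdFn.Kv v))
  add_mem' := fun ha hb => add_mem ha hb
  zero_mem' := (AdFn.Ov v).zero_mem
  smul_mem' c _ hz := smul_mem_Ov v c hz

lemma mem_OvSub (v : Place k K) (z : AdFn.Kv v) : z ∈ OvSub v ↔ z ∈ AdFn.Ov v := Iff.rfl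

lemma span_Ov (v : Place k K) : Submodule.span k (AdFn.Ov v : Set (AdFn.Kv v)) = OvSub v := by
  change Submodule.span k ((OvSub v : Submodule k (AdFn.Kv v)) : Set (AdFn.Kv v)) = OvSub v
  exact Submodule.span_eq _

theorem gap_quotient_completion (hK : IsFunctionField k K) (P : Place k K) :
    FiniteDimensional k (AdFn.Kv P ⧸
        (Subalgebra.toSubmodule ((AdFn.SInt ({P} : Set (FunFld.Place k K))).map
            (IsScalarTower.toAlgHom k K (AdFn.Kv P))) ⊔
          Submodule.span k (AdFn.Ov P : Set (AdFn.Kv P)))) ∧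
    Module.finrank k (AdFn.Kv P ⧸
        (Subalgebra.toSubmodule ((AdFn.SInt ({P} : Set (FunFld.Place k K))).map
            (IsScalarTower.toAlgHom k K (AdFn.Kv P))) ⊔
          Submodule.span k (AdFn.Ov P : Set (AdFn.Kv P)))) = FunFld.genus k K := by
  set M := (Subalgebra.toSubmodule ((AdFn.SInt ({P} : Set (FunFld.Place k K))).map
            (IsScalarTower.toAlgHom k K (AdFn.Kv P))) ⊔
          Submodule.span k (AdFn.Ov P : Set (AdFn.Kv P))) with hM
  set N := (Subalgebra.toSubmodule (AdFn.SInt ({P} : Set (Place k K))) ⊔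
        Subalgebra.toSubmodule (AdFn.SInt (({P} : Set (Place k K))ᶜ))) with hN
  set ψ : K →ₗ[k] (AdFn.Kv P ⧸ M) :=
    M.mkQ ∘ₗ (IsScalarTower.toAlgHom k K (AdFn.Kv P)).toLinearMap with hψ
  have hψ_apply : ∀ x : K, ψ x = Submodule.Quotient.mk (AdFn.toKv P x) := fun x => rfl
  have hsurj : Function.Surjective ψ := by
    intro c
    obtain ⟨z, rfl⟩ := Submodule.Quotient.mk_surjective _ c
    obtain ⟨x, hx⟩ := exists_sub_mem_Ov P z
    refine ⟨x, ?_⟩
    rw [hψ_apply, Submodule.Quotient.eq]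
    apply Submodule.mem_sup_right
    rw [span_Ov]
    have : AdFn.toKv P x - z = -(z - AdFn.toKv P x) := by ring
    rw [this]
    exact (OvSub P).neg_mem ((mem_OvSub P _).mpr hx)
  have hker : LinearMap.ker ψ = N := by
    ext x
    rw [LinearMap.mem_ker, hψ_apply, Submodule.Quotient.mk_eq_zero, hM, Submodule.mem_sup, hN,
      Submodule.mem_sup]
    constructor
    · rintro ⟨_, ⟨y, hy, rfl⟩, o, ho, hyo⟩
      rw [span_Ov] at ho
      refine ⟨y, hy, x - y, ?_, by ring⟩
      rw [Subalgebra.mem_toSubmodule, AdFn.mem_SInt]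
      intro Q hQ
      have hQP : Q = P := by
        by_contra hne
        exact hQ hne
      subst hQP
      rw [← AdFn.toKv_mem_Ov, map_sub]
      have h1 : AdFn.toKv Q x - AdFn.toKv Q y = o := by
        have h0 := hyo
        change AdFn.toKv Q y + o = _ at h0
        rw [← h0]
        ring
      rw [h1]
      exact (mem_OvSub Q o).mp ho
    · rintro ⟨y, hy, b, hb, hyb⟩
      refine ⟨AdFn.toKv P y, ⟨y, hy, rfl⟩, AdFn.toKv P b, ?_, ?_⟩
      · rw [span_Ov, mem_OvSub]
        rw [Subalgebra.mem_toSubmodule, AdFn.mem_SInt] at hb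
        exact (AdFn.toKv_mem_Ov P b).mpr (hb P (fun h => h rfl))
      · rw [← map_add, hyb]
  obtain ⟨hfin, hrank⟩ := gap_quotient hK P
  let e : (K ⧸ N) ≃ₗ[k] (AdFn.Kv P ⧸ M) :=
    (Submodule.quotEquivOfEq _ _ hker.symm).trans (LinearMap.quotKerEquivOfSurjective ψ hsurj)
  refine ⟨Module.Finite.equiv e, ?_⟩
  rw [← e.finrank_eq]
  exact hrank

end Groth.Agent.FF
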