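import Groth.Agent.FunFld.ConstField

/-!
# Degree over `k(x)` versus degree over `k'(x)`
-/

set_option autoImplicit false
set_option linter.unusedSectionVars false

open FunFld WithZero IntermediateField

namespace Groth.Agent.FF.Ext

open Groth.Agent.FF

variable {k K' : Type*} [Field k] [Field K'] [Algebra k K']

/-- `[K' : k(x)] ≤ [k' : k] [K' : k'(x)]` -/
theorem finrank_adjoin_le (k₁ : IntermediateField k K') [FiniteDimensional k k₁] (x : K')
    [FiniteDimensional (adjoin k₁ ({x} : Set K')) K'] :
    Module.finrank (adjoin k ({x} : Set K')) K' ≤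
      Module.finrank k k₁ * Module.finrank (adjoin k₁ ({x} : Set K')) K' := by
  classical
  set F₁ := adjoin k ({x} : Set K') with hF₁
  set F₂ := adjoin k₁ ({x} : Set K') with hF₂
  let b := Module.finBasis k k₁
  let c := Module.finBasis F₂ K'
  let b' : Fin (Module.finrank k k₁) → K' := fun i => ((b i : k₁) : K')
  -- the `F₁`-span of `k₁`
  let W : Subalgebra F₁ K' := Algebra.adjoin F₁ (k₁ : Set K')
  have hk₁W : ∀ y : K', y ∈ k₁ → y ∈ Submodule.span F₁ (Set.range b') := by
    intro y hy
    have h1 := b.sum_repr ⟨y, hy⟩
    have h2 : y = ∑ i, (algebraMap k F₁ (b.repr ⟨y, hy⟩ i)) • b' i := by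
      have h3 := congrArg (fun z : k₁ => (z : K')) h1
      simp only [AddSubmonoidClass.coe_finsetSum] at h3
      refine h3.symm.trans ?_
      apply Finset.sum_congr rfl
      intro i _
      rw [Algebra.smul_def, Algebra.smul_def]
      rfl
    rw [h2]
    exact Submodule.sum_mem _ (fun i _ => Submodule.smul_mem _ _ (Submodule.subset_span ⟨i, rfl⟩))
  have hW : Subalgebra.toSubmodule W = Submodule.span F₁ (Set.range b') := by
    apply le_antisymm
    · have h1 : Subalgebra.toSubmodule W = Submodule.span F₁ (Submonoid.closure (k₁ : Set K')) :=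
        Algebra.adjoin_eq_span F₁ (k₁ : Set K')
      have h2 : (Submonoid.closure (k₁ : Set K') : Set K') = (k₁ : Set K') := by
        have h3 : (k₁ : Set K') = (k₁.toSubfield.toSubring.toSubmonoid : Set K') := rfl
        rw [h3, Submonoid.closure_eq]
      rw [h1, h2, Submodule.span_le]
      intro y hy
      exact hk₁W y hy
    · rw [Submodule.span_le]
      rintro _ ⟨i, rfl⟩
      exact Algebra.subset_adjoin (b i).2
  -- `W` is a field
  have hWfin : Module.Finite F₁ W := by
    have : Module.Finite F₁ (Subalgebra.toSubmodule W) := by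
      rw [hW]
      exact FiniteDimensional.span_of_finite F₁ (Set.finite_range b')
    exact this
  have hWfield : IsField W := by
    have : Algebra.IsIntegral F₁ W := Algebra.IsIntegral.of_finite F₁ W
    exact isField_of_isIntegral_of_isField' (Field.toIsField F₁)
  -- `F₂ ⊆ W`
  let W₁ : Subalgebra k₁ K' :=
    { W.toSubsemiring with
      algebraMap_mem' := fun y => Algebra.subset_adjoin y.2 }
  have hW₁field : IsField W₁ := hWfield
  have hF₂W : ∀ y : K', y ∈ F₂ → y ∈ W := by
    intro y hy
    have hle : F₂ ≤ Subalgebra.toIntermediateField' W₁ hW₁field := by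
      rw [hF₂, adjoin_simple_le_iff]
      change x ∈ W
      have : x = algebraMap F₁ K' ⟨x, mem_adjoin_simple_self k x⟩ := rfl
      rw [this]
      exact W.algebraMap_mem _
    exact hle hy
  -- spanning
  have hspan : Submodule.span F₁ (Set.range fun p : Fin (Module.finrank k k₁) ×
      Fin (Module.finrank F₂ K') => b' p.1 * c p.2) = ⊤ := by
    rw [eq_top_iff]
    rintro y -
    have h1 := c.sum_repr y
    rw [← h1]
    apply Submodule.sum_mem
    intro j _
    have h2 : ((c.repr y j : F₂) : K') ∈ Submodule.span F₁ (Set.range b') := by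
      rw [← hW]
      exact hF₂W _ (c.repr y j).2
    rw [IntermediateField.smul_def, smul_eq_mul]
    have h3 : ∀ z : K', z ∈ Submodule.span F₁ (Set.range b') →
        z * c j ∈ Submodule.span F₁ (Set.range fun p : Fin (Module.finrank k k₁) ×
          Fin (Module.finrank F₂ K') => b' p.1 * c p.2) := by
      intro z hz
      induction hz using Submodule.span_induction with
      | mem w hw =>
        obtain ⟨i, rfl⟩ := hw
        exact Submodule.subset_span ⟨(i, j), rfl⟩
      | zero => rw [zero_mul]; exact Submodule.zero_mem _
      | add u v _ _ hu hv => rw [add_mul]; exact Submodule.add_mem _ hu hv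
      | smul a u _ hu => rw [smul_mul_assoc]; exact Submodule.smul_mem _ _ hu
    exact h3 _ h2
  have hfin : Module.Finite F₁ K' := by
    rw [Module.finite_def, ← hspan]
    exact Submodule.fg_span (Set.finite_range _)
  calc Module.finrank F₁ K' = Module.finrank F₁ (⊤ : Submodule F₁ K') := (finrank_top F₁ K').symm
    _ = Module.finrank F₁ (Submodule.span F₁ (Set.range fun p : Fin (Module.finrank k k₁) ×
          Fin (Module.finrank F₂ K') => b' p.1 * c p.2)) := by rw [hspan]
    _ ≤ Fintype.card (Fin (Module.finrank k k₁) × Fin (Module.finrank F₂ K')) :=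
        finrank_range_le_card _
    _ = Module.finrank k k₁ * Module.finrank F₂ K' := by
        rw [Fintype.card_prod, Fintype.card_fin, Fintype.card_fin]

end Groth.Agent.FF.Ext
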