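import Groth.Agent.FunFld.IntClosure
import Mathlib.RingTheory.Valuation.Extension
import Mathlib.RingTheory.TensorProduct.Finite

/-!
# Residue fields at nonsingular places under constant field extension
-/

set_option autoImplicit false
set_option linter.unusedSectionVars false

open FunFld WithZero IntermediateField TensorProduct

namespace Groth.Agent.FF.Ext

open Groth.Agent.FF

section Fin
variable {k k' K K' : Type*} [Field k] [Field k'] [Field K] [Field K']
  [Algebra k k'] [Algebra k K] [Algebra K K'] [Algebra k' K'] [Algebra k K']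
  [IsScalarTower k k' K'] [IsScalarTower k K K']

/-- `k' ⊗ K` is finite over `K` -/
theorem finiteDimensional_of_productMap_surjective [FiniteDimensional k k']
    (h : Function.Surjective (Algebra.TensorProduct.productMap
      (IsScalarTower.toAlgHom k k' K') (IsScalarTower.toAlgHom k K K'))) :
    FiniteDimensional K K' := by
  let φ : K ⊗[k] k' →ₐ[K] K' :=
    Algebra.TensorProduct.productLeftAlgHom (Algebra.ofId K K') (IsScalarTower.toAlgHom k k' K')
  have hφ : ∀ t : k' ⊗[k] K, φ (TensorProduct.comm k k' K t) =
      Algebra.TensorProduct.productMap (IsScalarTower.toAlgHom k k' K')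
        (IsScalarTower.toAlgHom k K K') t := by
    intro t
    induction t using TensorProduct.induction_on with
    | zero => simp
    | tmul a c =>
      rw [TensorProduct.comm_tmul, Algebra.TensorProduct.productMap_apply_tmul]
      show (Algebra.ofId K K') c * (IsScalarTower.toAlgHom k k' K') a = _
      rw [mul_comm]
      rfl
    | add s t hs ht => rw [map_add, map_add, map_add, hs, ht]
  have hsurj : Function.Surjective φ.toLinearMap := by
    intro y
    obtain ⟨t, rfl⟩ := h y
    exact ⟨TensorProduct.comm k k' K t, hφ t⟩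
  exact Module.Finite.of_surjective φ.toLinearMap hsurj

end Fin

section Res
variable {k k' K K' : Type*} [Field k] [Field k'] [Field K] [Field K']
  [Algebra k K] [Algebra K K'] [Algebra k' K'] [Algebra k K'] [IsScalarTower k K K']

lemma isOver_of_hasExtension [Algebra.IsAlgebraic K K'] (P : Place k K) (Q : Place k K')
    [P.1.HasExtension Q.1] : IsOver Q P := by
  obtain ⟨P', e, he⟩ := exists_isOverWith_below (K := K) Q
  have hPP : P' = P := by
    apply place_ext_of_le_one_iff
    intro x
    rw [← le_one_iff he, Valuation.HasExtension.val_map_le_one_iff P.1 Q.1]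
  subst hPP
  exact ⟨e, he⟩

theorem residue_adjoin_eq_top [FiniteDimensional K K'] (hK : IsFunctionField k K)
    (P : Place k K) [Algebra P.O K'] [IsScalarTower P.O K K']
    (hns : (integralClosure P.O K').toSubring =
      (Algebra.adjoin P.O (Set.range (algebraMap k' K'))).toSubring)
    (Q : Place k K') [P.1.HasExtension Q.1] (hk' : ∀ c : k', Q.1 (algebraMap k' K' c) ≤ 1) :
    Algebra.adjoin (IsLocalRing.ResidueField P.O)
      (Set.range fun c : k' => IsLocalRing.residue Q.O ⟨algebraMap k' K' c, hk' c⟩) = ⊤ := by
  classical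
  set R := Algebra.adjoin (IsLocalRing.ResidueField P.O)
      (Set.range fun c : k' => IsLocalRing.residue Q.O ⟨algebraMap k' K' c, hk' c⟩) with hR
  have hQP : IsOver Q P := isOver_of_hasExtension P Q
  obtain ⟨e, he⟩ := hQP
  -- the subalgebra of elements whose residue lies in `R`
  let S : Subalgebra P.O K' :=
    { carrier := {w | ∃ hw : Q.1 w ≤ 1, IsLocalRing.residue Q.O ⟨w, hw⟩ ∈ R}
      mul_mem' := by
        rintro a b ⟨ha, ha'⟩ ⟨hb, hb'⟩
        refine ⟨by rw [map_mul]; exact mul_le_one' ha hb, ?_⟩
        have : (⟨a * b, Q.O.mul_mem _ _ ha hb⟩ : Q.O) =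
            (⟨a, ha⟩ : Q.O) * ⟨b, hb⟩ := rfl
        rw [this, map_mul]
        exact R.mul_mem ha' hb'
      one_mem' := by
        refine ⟨by rw [map_one], ?_⟩
        have : (⟨1, Q.O.one_mem⟩ : Q.O) = 1 := rfl
        rw [this, map_one]
        exact R.one_mem
      add_mem' := by
        rintro a b ⟨ha, ha'⟩ ⟨hb, hb'⟩
        refine ⟨Q.1.map_add_le ha hb, ?_⟩
        have : (⟨a + b, Q.1.map_add_le ha hb⟩ : Q.O) = (⟨a, ha⟩ : Q.O) + ⟨b, hb⟩ := rfl
        rw [this, map_add]
        exact R.add_mem ha' hb'
      zero_mem' := by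
        refine ⟨by rw [map_zero]; exact zero_le, ?_⟩
        have : (⟨0, Q.O.zero_mem⟩ : Q.O) = 0 := rfl
        rw [this, map_zero]
        exact R.zero_mem
      algebraMap_mem' := by
        intro x
        have hx1 : Q.1 (algebraMap P.O K' x) ≤ 1 := by
          rw [IsScalarTower.algebraMap_apply P.O K K', le_one_iff he]
          exact x.2
        refine ⟨hx1, ?_⟩
        have : (⟨algebraMap P.O K' x, hx1⟩ : Q.O) = algebraMap P.O Q.O x := by
          apply Subtype.ext
          show algebraMap P.O K' x = algebraMap K K' (x : K)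
          rw [IsScalarTower.algebraMap_apply P.O K K']
          rfl
        rw [this]
        have h2 : IsLocalRing.residue Q.O (algebraMap P.O Q.O x) =
            algebraMap (IsLocalRing.ResidueField P.O) (IsLocalRing.ResidueField Q.O)
              (IsLocalRing.residue P.O x) := rfl
        rw [h2]
        exact R.algebraMap_mem _ }
  have hadj : Algebra.adjoin P.O (Set.range (algebraMap k' K')) ≤ S := by
    apply Algebra.adjoin_le
    rintro _ ⟨c, rfl⟩
    exact ⟨hk' c, Algebra.subset_adjoin ⟨c, rfl⟩⟩
  rw [eq_top_iff]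
  rintro ξ -
  obtain ⟨z, rfl⟩ := IsLocalRing.residue_surjective ξ
  -- approximate `z` by an element integral at all places above `P`
  have hfin : {Q' : Place k K' | IsOver Q' P}.Finite := finite_isOver P
  have hQmem : Q ∈ hfin.toFinset := by
    rw [Set.Finite.mem_toFinset]
    exact ⟨e, he⟩
  obtain ⟨w, hw⟩ := weak_approx (fun i : ↥hfin.toFinset => (i : Place k K'))
    Subtype.val_injective (fun i => if (i : Place k K') = Q then (z : K') else 0) 0
  have hwQ : Q.1 (w - z) < 1 := by
    have := hw ⟨Q, hQmem⟩
    rw [if_pos rfl, exp_zero] at this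
    exact this
  have hwint : w ∈ integralClosure P.O K' := by
    rw [mem_integralClosure_iff hK P]
    intro Q' hQ'
    have hQ'mem : Q' ∈ hfin.toFinset := by
      rw [Set.Finite.mem_toFinset]
      exact hQ'
    have := hw ⟨Q', hQ'mem⟩
    rw [exp_zero] at this
    by_cases hQQ : Q' = Q
    · subst hQQ
      rw [if_pos rfl] at this
      have hwz : w = (w - z) + z := by ring
      rw [hwz]
      exact Q'.1.map_add_le this.le z.2
    · rw [if_neg hQQ, sub_zero] at this
      exact this.le
  have hwadj : w ∈ Algebra.adjoin P.O (Set.range (algebraMap k' K')) := by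
    have h1 : w ∈ (integralClosure P.O K').toSubring := hwint
    rw [hns] at h1
    exact h1
  obtain ⟨hw1, hwR⟩ := hadj hwadj
  have heq : IsLocalRing.residue Q.O z = IsLocalRing.residue Q.O ⟨w, hw1⟩ := by
    rw [← sub_eq_zero, ← map_sub]
    have : IsLocalRing.residue Q.O (z - ⟨w, hw1⟩) = res Q (z - ⟨w, hw1⟩) := rfl
    rw [this, res_eq_zero_iff]
    have h3 : ((z - ⟨w, hw1⟩ : Q.O) : K') = -(w - z) := by
      push_cast
      ring
    rw [h3, Valuation.map_neg]
    exact hwQ
  rw [heq]
  exact hwR

end Res

end Groth.Agent.FF.Ext
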