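import Groth.Agent.FunFld.Unramified
import Groth.Agent.FunFld.NonsingRes
import Mathlib.RingTheory.Discriminant
import Mathlib.FieldTheory.SeparableClosure

/-!
# Separable constant field extensions are unramified and nonsingular
-/

set_option autoImplicit false
set_option linter.unusedSectionVars false

open FunFld WithZero IntermediateField Polynomial TensorProduct

namespace Groth.Agent.FF.Ext

open Groth.Agent.FF

variable {k k' K K' : Type*} [Field k] [Field k'] [Field K] [Field K']
  [Algebra k k'] [Algebra k K] [Algebra K K'] [Algebra k' K'] [Algebra k K']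
  [IsScalarTower k k' K'] [IsScalarTower k K K']

/-- the image of a generator of `k'/k` generates `k' K` over `K` -/
lemma adjoin_eq_top_of_productMap_surjective
    (hsurj : Function.Surjective (Algebra.TensorProduct.productMap
      (IsScalarTower.toAlgHom k k' K') (IsScalarTower.toAlgHom k K K')))
    {α : k'} (hα : Algebra.adjoin k ({α} : Set k') = ⊤) :
    Algebra.adjoin K ({algebraMap k' K' α} : Set K') = ⊤ := by
  set y := algebraMap k' K' α with hy
  have h1 : ∀ a : k', algebraMap k' K' a ∈ Algebra.adjoin K ({y} : Set K') := by
    intro a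
    have ha : a ∈ Algebra.adjoin k ({α} : Set k') := by rw [hα]; trivial
    rw [Algebra.adjoin_singleton_eq_range_aeval] at ha
    obtain ⟨p, rfl⟩ := ha
    show algebraMap k' K' (aeval α p) ∈ _
    have h2 : algebraMap k' K' (aeval α p) = aeval y p :=
      (Polynomial.aeval_algHom_apply (IsScalarTower.toAlgHom k k' K') α p).symm
    rw [h2, ← Polynomial.aeval_map_algebraMap K y p]
    exact Polynomial.aeval_mem_adjoin_singleton K y
  rw [eq_top_iff]
  rintro z -
  obtain ⟨t, rfl⟩ := hsurj z
  induction t using TensorProduct.induction_on with
  | zero => rw [map_zero]; exact Subalgebra.zero_mem _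
  | tmul a c =>
    rw [Algebra.TensorProduct.productMap_apply_tmul]
    exact Subalgebra.mul_mem _ (h1 a) (Subalgebra.algebraMap_mem _ c)
  | add s t hs ht => rw [map_add]; exact Subalgebra.add_mem _ hs ht

/-- nonzero constants of `k'` are units at every place -/
lemma val_algebraMap_const [Algebra.IsAlgebraic k k'] (Q : Place k K') {a : k'} (ha : a ≠ 0) :
    Q.1 (algebraMap k' K' a) = 1 := by
  have halg : ∀ b : k', IsAlgebraic k (algebraMap k' K' b) := by
    intro b
    have hb : IsAlgebraic k b := Algebra.IsAlgebraic.isAlgebraic b
    exact hb.algebraMap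
  apply le_antisymm (val_le_one_of_isAlgebraic Q (halg a))
  have h1 := val_le_one_of_isAlgebraic Q (halg a⁻¹)
  rw [map_inv₀, map_inv₀] at h1
  by_contra hlt
  push Not at hlt
  have hne : algebraMap k' K' a ≠ 0 := (map_ne_zero_iff _ (algebraMap k' K').injective).mpr ha
  have hpos : 0 < Q.1 (algebraMap k' K' a) := by
    rw [zero_lt_iff]
    exact (Valuation.ne_zero_iff Q.1).mpr hne
  have := one_lt_inv_iff₀.mpr ⟨hpos, hlt⟩
  exact absurd h1 (not_le.mpr this)

/-- a finite separable constant field extension is unramified -/
theorem constSep_unramified [FiniteDimensional k k'] [Algebra.IsSeparable k k']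
    (hsurj : Function.Surjective (Algebra.TensorProduct.productMap
      (IsScalarTower.toAlgHom k k' K') (IsScalarTower.toAlgHom k K K')))
    {P : Place k K} {Q : Place k K'} {e : ℕ} (he : IsOverWith Q P e) : e = 1 := by
  have : FiniteDimensional K K' := finiteDimensional_of_productMap_surjective hsurj
  obtain ⟨α, hα⟩ := Field.exists_primitive_element k k'
  have hint : IsIntegral k α := IsIntegral.of_finite k α
  have hα' : Algebra.adjoin k ({α} : Set k') = ⊤ := by
    rw [← IntermediateField.adjoin_simple_toSubalgebra_of_isAlgebraic hint.isAlgebraic, hα]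
    rfl
  set y := algebraMap k' K' α with hy
  have hgen := adjoin_eq_top_of_productMap_surjective hsurj hα'
  set g : K[X] := (minpoly k α).map (algebraMap k K) with hg
  have hsep : (minpoly k α).Separable := Algebra.IsSeparable.isSeparable k α
  have haev : ∀ p : k[X], aeval y (p.map (algebraMap k K)) = algebraMap k' K' (aeval α p) := by
    intro p
    rw [Polynomial.aeval_map_algebraMap]
    exact Polynomial.aeval_algHom_apply (IsScalarTower.toAlgHom k k' K') α p
  have hroot : aeval y g = 0 := by
    rw [hg, haev, minpoly.aeval, map_zero]
  have hd0 : aeval α (derivative (minpoly k α)) ≠ 0 :=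
    hsep.aeval_derivative_ne_zero (minpoly.aeval k α)
  have hsimple : Q.1 (aeval y (derivative g)) = 1 := by
    rw [hg, Polynomial.derivative_map, haev]
    exact val_algebraMap_const Q hd0
  have hy1 : Q.1 y ≤ 1 := by
    by_cases h0 : α = 0
    · rw [hy, h0, map_zero, map_zero]
      exact zero_le
    · exact (val_algebraMap_const Q h0).le
  refine unramified_of_simple_root' he y hy1 hgen g ?_ hroot hsimple
  intro i
  rw [hg, Polynomial.coeff_map]
  exact P.2.1 _

/-- under a finite separable constant field extension the integral closure of `O_P` is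
generated by the constants -/
theorem constSep_integralClosure [FiniteDimensional k k'] [Algebra.IsSeparable k k']
    (hsurj : Function.Surjective (Algebra.TensorProduct.productMap
      (IsScalarTower.toAlgHom k k' K') (IsScalarTower.toAlgHom k K K')))
    (hK : IsFunctionField k K) (P : Place k K) [Algebra P.O K'] [IsScalarTower P.O K K'] :
    integralClosure P.O K' = Algebra.adjoin P.O (Set.range (algebraMap k' K')) := by
  have : FiniteDimensional K K' := finiteDimensional_of_productMap_surjective hsurj
  obtain ⟨α, hα⟩ := Field.exists_primitive_element k k'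
  have hint : IsIntegral k α := IsIntegral.of_finite k α
  have hα' : Algebra.adjoin k ({α} : Set k') = ⊤ := by
    rw [← IntermediateField.adjoin_simple_toSubalgebra_of_isAlgebraic hint.isAlgebraic, hα]
    rfl
  set y := algebraMap k' K' α with hy
  have hgen := adjoin_eq_top_of_productMap_surjective hsurj hα'
  have hintK : IsIntegral K y := IsIntegral.of_finite K y
  have htower : IsScalarTower k P.O K' := IsScalarTower.of_algebraMap_eq (fun c => by
    rw [IsScalarTower.algebraMap_apply k K K', IsScalarTower.algebraMap_apply P.O K K']
    rfl)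
  have hsep : (minpoly k α).Separable := Algebra.IsSeparable.isSeparable k α
  have hroot : aeval y ((minpoly k α).map (algebraMap k K)) = 0 := by
    rw [Polynomial.aeval_map_algebraMap]
    have := Polynomial.aeval_algHom_apply (IsScalarTower.toAlgHom k k' K') α (minpoly k α)
    rw [minpoly.aeval, map_zero] at this
    exact this
  have hysep : IsSeparable K y := (hsep.map).of_dvd (minpoly.dvd K y hroot)
  have hsepK : Algebra.IsSeparable K K' := by
    rw [← separableClosure.eq_top_iff, eq_top_iff]
    have htop : K⟮y⟯ = ⊤ := by
      apply IntermediateField.toSubalgebra_injective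
      rw [IntermediateField.adjoin_simple_toSubalgebra_of_isAlgebraic hintK.isAlgebraic, hgen]
      rfl
    rw [← htop, adjoin_le_iff, Set.singleton_subset_iff]
    exact mem_separableClosure_iff.mpr hysep
  let B : PowerBasis K K' := PowerBasis.ofAdjoinEqTop hintK hgen
  have hBgen : B.gen = y := rfl
  have hyintk : IsIntegral k y := hint.map (IsScalarTower.toAlgHom k k' K')
  have hyint : IsIntegral P.O y := hyintk.tower_top
  have hd0 : Algebra.discr K B.basis ≠ 0 := Algebra.discr_not_zero_of_basis K B.basis
  have hdint : IsIntegral k (Algebra.discr K B.basis) :=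
    Algebra.discr_isIntegral K (fun i => by
      rw [B.coe_basis]
      exact hyintk.pow _)
  obtain ⟨c, hc⟩ := hK.2 _ hdint.isAlgebraic
  have hc0 : c ≠ 0 := by
    rintro rfl
    rw [map_zero] at hc
    exact hd0 hc.symm
  apply le_antisymm
  · intro z hz
    have h1 := Algebra.discr_mul_isIntegral_mem_adjoin K (B := B) hyint hz
    have hle : Algebra.adjoin P.O ({B.gen} : Set K') ≤
        Algebra.adjoin P.O (Set.range (algebraMap k' K')) := by
      apply Algebra.adjoin_mono
      rw [Set.singleton_subset_iff]
      exact ⟨α, rfl⟩
    have h2 := hle h1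
    have hz' : z = (⟨algebraMap k K c⁻¹, P.2.1 _⟩ : P.O) • (Algebra.discr K B.basis • z) := by
      rw [Algebra.smul_def, Algebra.smul_def, IsScalarTower.algebraMap_apply P.O K K', ← hc,
        ← mul_assoc, ← map_mul]
      have : (algebraMap P.O K) ⟨algebraMap k K c⁻¹, P.2.1 _⟩ * algebraMap k K c = 1 := by
        show algebraMap k K c⁻¹ * algebraMap k K c = 1
        rw [← map_mul, inv_mul_cancel₀ hc0, map_one]
      rw [this, map_one, one_mul]
    rw [hz']
    exact Subalgebra.smul_mem _ h2 _
  · apply Algebra.adjoin_le
    rintro _ ⟨a, rfl⟩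
    have h1 : IsIntegral k (algebraMap k' K' a) :=
      (IsIntegral.of_finite k a).map (IsScalarTower.toAlgHom k k' K')
    exact h1.tower_top

end Groth.Agent.FF.Ext
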