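import Groth.Agent.FunFld.Genus0Cusp

/-!
# Genus zero with a cusp: at most one section supported on two given places
-/

set_option autoImplicit false

open FunFld IntermediateField Polynomial WithZero

namespace Groth.Agent.FF

universe u v
variable {k : Type u} {K : Type v} [Field k] [Field K] [Algebra k K]
variable {V : Submodule k K} {D : Divisor k K} {r d : ℕ}

/-- a two-dimensional subspace meets a hyperplane-like subspace nontrivially -/
lemma exists_comb_mem_of_finrank_ge {W : Submodule k K} [FiniteDimensional k W]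
    {V2 : Submodule k K} (hV2 : V2 ≤ W) {r : ℕ} (hW : Module.finrank k W = r + 1)
    (hr : r ≤ Module.finrank k V2) {f g : K} (hf : f ∈ W) (hg : g ∈ W)
    (hli : ∀ s t : k, s • f + t • g = 0 → s = 0 ∧ t = 0) :
    ∃ α β : k, (α ≠ 0 ∨ β ≠ 0) ∧ α • f + β • g ∈ V2 := by
  have hli' : LinearIndependent k ![f, g] := LinearIndependent.pair_iff.mpr hli
  set S : Submodule k K := Submodule.span k (Set.range ![f, g]) with hS
  have hSW : S ≤ W := by
    rw [hS, Submodule.span_le]
    rintro _ ⟨i, rfl⟩
    fin_cases i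
    · exact hf
    · exact hg
  have hSrank : Module.finrank k S = 2 := by
    rw [hS, finrank_span_eq_card hli']; simp
  have hfS : FiniteDimensional k S := Submodule.finiteDimensional_of_le hSW
  have hfV2 : FiniteDimensional k V2 := Submodule.finiteDimensional_of_le hV2
  have h1 := Submodule.finrank_sup_add_finrank_inf_eq S V2
  have h2 : Module.finrank k ↥(S ⊔ V2) ≤ r + 1 := by
    rw [← hW]; exact Submodule.finrank_mono (sup_le hSW hV2)
  have h3 : 0 < Module.finrank k ↥(S ⊓ V2) := by omega
  have hnt : Nontrivial ↥(S ⊓ V2) := Module.nontrivial_of_finrank_pos h3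
  obtain ⟨⟨u, hu⟩, hu0⟩ := exists_ne (0 : ↥(S ⊓ V2))
  have huS : u ∈ S := hu.1
  rw [hS, Submodule.mem_span_range_iff_exists_fun] at huS
  obtain ⟨c, hc⟩ := huS
  rw [Fin.sum_univ_two] at hc
  simp only [Matrix.cons_val_zero, Matrix.cons_val_one] at hc
  refine ⟨c 0, c 1, ?_, by rw [hc]; exact hu.2⟩
  by_contra hcon
  push Not at hcon
  apply hu0
  apply Subtype.ext
  show u = 0
  rw [← hc, hcon.1, hcon.2]; simp

theorem cusp_unique [IsAlgClosed k] [CharZero k] (hK : IsFunctionField k K)
    (hg0 : genus k K = 0) (h : IsGrd V D r d) (Q : Place k K) (hcusp : r ≤ vdim V D Q 2)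
    (P P' : Place k K) (hP : P ≠ Q) (hP' : P' ≠ Q) {f g : K} (hf : f ∈ V) (hg : g ∈ V)
    (hf0 : f ≠ 0) (hg0' : g ≠ 0)
    (hfs : ∀ R : Place k K, R ≠ P → R ≠ P' → (FunFld.div k f + D) R = 0)
    (hgs : ∀ R : Place k K, R ≠ P → R ≠ P' → (FunFld.div k g + D) R = 0) :
    ∃ c : k, g = c • f := by
  classical
  by_contra hnc
  push Not at hnc
  have hfin := h.finite hK
  set hh := g * f⁻¹ with hhdef
  have hh0 : hh ≠ 0 := mul_ne_zero hg0' (inv_ne_zero hf0)
  have hdivh : FunFld.div k hh = FunFld.div k g - FunFld.div k f := by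
    rw [hhdef, div_mul hK hg0' (inv_ne_zero hf0), div_inv hK]; abel
  have hsupp : ∀ R : Place k K, R ≠ P → R ≠ P' → (FunFld.div k hh) R = 0 := by
    intro R h1 h2
    have a := hfs R h1 h2
    have b := hgs R h1 h2
    rw [hdivh]
    simp only [Finsupp.sub_apply, Finsupp.add_apply] at a b ⊢
    linarith
  have hhnc : ∀ c : k, hh ≠ algebraMap k K c := by
    intro c hc
    apply hnc c
    rw [Algebra.smul_def, ← hc, hhdef, mul_assoc, inv_mul_cancel₀ hf0, mul_one]
  have hdivne : FunFld.div k hh ≠ 0 := by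
    intro h0
    obtain ⟨c, -, hc⟩ := exists_const_of_div_eq_zero hK hh0 h0
    exact hhnc c hc
  have hdeg := deg_div_eq_zero hK hh
  -- the cusp gives a combination vanishing doubly at `Q`
  have hli : ∀ s t : k, s • f + t • g = 0 → s = 0 ∧ t = 0 := by
    intro s t hst
    have ht : t = 0 := by
      by_contra ht
      apply hnc (-(s / t))
      have : t • g = -(s • f) := eq_neg_of_add_eq_zero_right hst
      have h2 : g = t⁻¹ • (t • g) := by rw [smul_smul, inv_mul_cancel₀ ht, one_smul]
      rw [h2, this, smul_neg, smul_smul, neg_smul]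
      congr 2
      field_simp
    refine ⟨?_, ht⟩
    rw [ht, zero_smul, add_zero] at hst
    exact (smul_eq_zero.mp hst).resolve_right hf0
  obtain ⟨α, β, hαβ, hu⟩ := exists_comb_mem_of_finrank_ge
    (inf_le_left : V ⊓ L (D - Finsupp.single Q 2) ≤ V) h.rank hcusp hf hg hli
  set u := α • f + β • g with hudef
  have hu0 : u ≠ 0 := by
    intro h0
    have := hli α β h0
    rcases hαβ with h1 | h1
    · exact h1 this.1
    · exact h1 this.2
  set w := algebraMap k K α + algebraMap k K β * hh with hwdef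
  have huw : u = f * w := by
    rw [hudef, hwdef, hhdef, Algebra.smul_def, Algebra.smul_def]
    field_simp
  have hw0 : w ≠ 0 := by
    intro h0; rw [huw, h0, mul_zero] at hu0; exact hu0 rfl
  have hQf : Q.ord f = -D Q := by
    have := hfs Q (Ne.symm hP) (Ne.symm hP')
    rw [Finsupp.add_apply, div_apply hK] at this
    linarith
  have hQu : 2 - D Q ≤ Q.ord u := by
    have := hu.2 Q
    rw [val_le_exp_iff Q hu0, Finsupp.sub_apply, Finsupp.single_apply, if_pos rfl] at this
    linarith
  have hQw : 2 ≤ Q.ord w := by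
    rw [huw, ord_mul Q hf0 hw0] at hQu
    linarith
  have hβ : β ≠ 0 := by
    rintro rfl
    rw [hwdef, map_zero, zero_mul, add_zero, ord_algebraMap] at hQw
    norm_num at hQw
  set c : k := -(α / β) with hcdef
  have hwc : w = algebraMap k K β * (hh - algebraMap k K c) := by
    rw [hwdef, hcdef, map_neg, map_div₀]
    have : algebraMap k K β ≠ 0 := by
      rw [Ne, map_eq_zero_iff _ (algebraMap k K).injective]; exact hβ
    field_simp
    ring
  have hhc0 : hh - algebraMap k K c ≠ 0 := sub_ne_zero.mpr (hhnc c)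
  have hQhc : 2 ≤ Q.ord (hh - algebraMap k K c) := by
    have hβ' : algebraMap k K β ≠ 0 := by
      rw [Ne, map_eq_zero_iff _ (algebraMap k K).injective]; exact hβ
    rw [hwc, ord_mul Q hβ' hhc0, ord_algebraMap] at hQw
    linarith
  have hPdeg := deg_eq_one_of_isAlgClosed hK P
  have hP'deg := deg_eq_one_of_isAlgClosed hK P'
  by_cases hPP' : P = P'
  · subst hPP'
    have e : FunFld.div k hh = Finsupp.single P ((FunFld.div k hh) P) := by
      ext R
      rw [Finsupp.single_apply]
      split_ifs with hR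
      · rw [hR]
      · exact hsupp R (Ne.symm hR) (Ne.symm hR)
    rw [e, deg_single, hPdeg] at hdeg
    apply hdivne
    rw [e]
    have : (FunFld.div k hh) P = 0 := by simpa using hdeg
    rw [this, Finsupp.single_zero]
  · set a := (FunFld.div k hh) P with hadef
    set b := (FunFld.div k hh) P' with hbdef
    have e : FunFld.div k hh = Finsupp.single P a + Finsupp.single P' b := by
      ext R
      rw [Finsupp.add_apply, Finsupp.single_apply, Finsupp.single_apply]
      by_cases hR : P = R
      · subst hR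
        rw [if_pos rfl, if_neg (Ne.symm hPP'), add_zero]
      · by_cases hR' : P' = R
        · subst hR'
          rw [if_neg hR, if_pos rfl, zero_add]
        · rw [if_neg hR, if_neg hR', add_zero]
          exact hsupp R (Ne.symm hR) (Ne.symm hR')
    have hab : a + b = 0 := by
      have := hdeg
      rw [e, deg_add, deg_single, deg_single, hPdeg, hP'deg] at this
      simpa using this
    have e' : FunFld.div k hh = a • (Finsupp.single P 1 - Finsupp.single P' 1) := by
      rw [e, smul_sub, Finsupp.smul_single, Finsupp.smul_single, smul_eq_mul, mul_one]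
      have : b = -a := by linarith
      rw [this, Finsupp.single_neg]; abel
    have ha : a ≠ 0 := by
      intro ha
      apply hdivne
      rw [e', ha, zero_smul]
    have := ord_sub_const_le_one hK hg0 hPP' (Ne.symm hP) (Ne.symm hP') hh0 ha e' c (hhnc c)
    linarith

end Groth.Agent.FF

namespace Groth.Agent.FF

universe u v
variable {k : Type u} {K : Type v} [Field k] [Field K] [Algebra k K]
variable {V : Submodule k K} {D : Divisor k K} {r d : ℕ}

/-- in genus zero with a cusp at `Q`, at most one `n` admits a section with divisor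
`n A + (d - n) B`. -/
lemma sum_vdim2_le_one_of_cusp [IsAlgClosed k] [CharZero k] (hK : IsFunctionField k K)
    (hg0 : genus k K = 0) (h : IsGrd V D r d) {A B Q : Place k K} (hAB : A ≠ B) (hAQ : A ≠ Q)
    (hBQ : B ≠ Q) (hcusp : r ≤ vdim V D Q 2) :
    ∑ n ∈ Finset.range (d + 1), vdim2 V D A B (n : ℤ) ((d : ℤ) - n) ≤ 1 := by
  classical
  by_contra hlt
  push Not at hlt
  obtain ⟨n₁, hn₁, n₂, hn₂, hlt12, hp₁, hp₂⟩ := exists_two_of_sum_ge_two _ _ hlt
    (fun n _ => vdim2_le_one hK h A B (by ring))
  obtain ⟨f₁, hf₁0, hf₁V, hf₁⟩ := exists_mem_of_vdim2_pos hp₁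
  obtain ⟨f₂, hf₂0, hf₂V, hf₂⟩ := exists_mem_of_vdim2_pos hp₂
  have hd₁ := div_eq_of_mem_L_deg_zero hK h (by ring) hf₁0 hf₁
  have hd₂ := div_eq_of_mem_L_deg_zero hK h (by ring) hf₂0 hf₂
  have hs : ∀ (n : ℕ) (f : K), FunFld.div k f + D =
      Finsupp.single A (n : ℤ) + Finsupp.single B ((d : ℤ) - n) →
      ∀ R : Place k K, R ≠ A → R ≠ B → (FunFld.div k f + D) R = 0 := by
    intro n f hf R hRA hRB
    rw [hf, Finsupp.add_apply, Finsupp.single_apply, Finsupp.single_apply,
      if_neg (Ne.symm hRA), if_neg (Ne.symm hRB), add_zero]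
  obtain ⟨c, hc⟩ := cusp_unique hK hg0 h Q hcusp A B hAQ hBQ hf₁V hf₂V hf₁0 hf₂0
    (hs n₁ f₁ hd₁) (hs n₂ f₂ hd₂)
  have hc0 : c ≠ 0 := by
    rintro rfl
    rw [zero_smul] at hc
    exact hf₂0 hc
  have hdiv : FunFld.div k f₂ = FunFld.div k f₁ := by
    rw [hc, Algebra.smul_def, div_mul hK ?_ hf₁0, div_algebraMap hK, zero_add]
    rw [Ne, map_eq_zero_iff _ (algebraMap k K).injective]; exact hc0
  rw [hdiv, hd₁] at hd₂
  have := DFunLike.congr_fun hd₂ A
  rw [Finsupp.add_apply, Finsupp.add_apply, Finsupp.single_apply, Finsupp.single_apply,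
    Finsupp.single_apply, Finsupp.single_apply, if_pos rfl, if_neg (Ne.symm hAB), if_pos rfl,
    if_neg (Ne.symm hAB)] at this
  have : (n₁ : ℤ) = n₂ := by linarith
  omega

/-- three distinct places on a rational curve, with a cusp at the third one -/
theorem Wt_add_le_of_cusp [IsAlgClosed k] [CharZero k] (hK : IsFunctionField k K)
    (hg0 : genus k K = 0) (h : IsGrd V D r d) {A B Q : Place k K} (hAB : A ≠ B) (hAQ : A ≠ Q)
    (hBQ : B ≠ Q) (hcusp : r ≤ vdim V D Q 2) :
    Wt V D A d + Wt V D B d + r ≤ (r + 1) * d := by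
  have h1 := Wt_add_le_sum_vdim2 hK h hAB
  have h2 := sum_vdim2_le_one_of_cusp hK hg0 h hAB hAQ hBQ hcusp
  omega

end Groth.Agent.FF
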