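import Mathlib

/-!
# `H¹` of a finite cyclic group via `ker N / im (σ - 1)` (helper56)

Low-degree, hands-on version: for a finite group `G` generated by `g` of order `p` and
`A : Rep k G`, with `σ = A.ρ g` and `N = ∑_{i<p} σ^i`, we build a surjective linear map
`Ψ : ker N → H¹(G, A)` whose kernel is `ker N ∩ range (σ - 1)`, natural in `A`.
-/

set_option autoImplicit false
set_option linter.unusedSectionVars false

namespace Groth.Agent.FunFld.CycH1

open groupCohomology CategoryTheory

universe u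

variable {k G : Type u} [Field k] [Group G] [Finite G]

section basic

variable (A : Rep k G) (g : G)

/-- partial norm operators `∑_{j<i} σ^j` -/
noncomputable def S (i : ℕ) : A.V →ₗ[k] A.V := ∑ j ∈ Finset.range i, (A.ρ g) ^ j

theorem S_zero : S A g 0 = 0 := by simp [S]

theorem S_one : S A g 1 = 1 := by simp [S]

theorem S_succ (i : ℕ) : S A g (i + 1) = S A g i + (A.ρ g) ^ i := by
  simp [S, Finset.sum_range_succ]

theorem S_add (a b : ℕ) : S A g (a + b) = S A g a + (A.ρ g) ^ a * S A g b := by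
  unfold S
  rw [Finset.sum_range_add, Finset.mul_sum]
  congr 1
  apply Finset.sum_congr rfl
  intro x _
  rw [pow_add]

theorem rho_pow (i : ℕ) : (A.ρ g) ^ i = A.ρ (g ^ i) := (map_pow A.ρ g i).symm

theorem S_mul_sub (i : ℕ) (w : A.V) : S A g i (A.ρ g w - w) = ((A.ρ g) ^ i) w - w := by
  have h := geom_sum_mul (A.ρ g) i
  have h2 := congrArg (fun f : Module.End k A.V => f w) h
  simp only [Module.End.mul_apply, LinearMap.sub_apply, Module.End.one_apply] at h2
  unfold S
  exact h2

variable {A g}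

theorem S_add_period (p : ℕ) (z : A.V) (hz : S A g p z = 0) (i : ℕ) :
    S A g (i + p) z = S A g i z := by
  rw [S_add, LinearMap.add_apply, Module.End.mul_apply, hz, map_zero, add_zero]

theorem S_add_mul_period (p : ℕ) (z : A.V) (hz : S A g p z = 0) (r q : ℕ) :
    S A g (r + p * q) z = S A g r z := by
  induction q with
  | zero => simp
  | succ q ih =>
    rw [Nat.mul_succ, ← add_assoc, S_add_period p z hz, ih]

theorem S_mod (p : ℕ) (z : A.V) (hz : S A g p z = 0) (i : ℕ) :
    S A g i z = S A g (i % p) z := by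
  conv_lhs => rw [← Nat.mod_add_div i p]
  exact S_add_mul_period p z hz _ _

theorem S_congr (p : ℕ) (hp : orderOf g = p) (z : A.V) (hz : S A g p z = 0) (i j : ℕ)
    (hij : g ^ i = g ^ j) : S A g i z = S A g j z := by
  have h := pow_eq_pow_iff_modEq.mp hij
  rw [hp] at h
  rw [S_mod p z hz i, S_mod p z hz j]
  exact congrArg (fun m => S A g m z) h

end basic

section coc

variable (A : Rep k G) (g : G) (hg : ∀ x : G, x ∈ Subgroup.zpowers g)

include hg in
theorem exists_pow (x : G) : ∃ i : ℕ, g ^ i = x := by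
  have h := (mem_powers_iff_mem_zpowers (x := g) (y := x)).mpr (hg x)
  exact (Submonoid.mem_powers_iff x g).mp h

/-- a chosen exponent -/
noncomputable def idx (x : G) : ℕ := (exists_pow g hg x).choose

theorem pow_idx (x : G) : g ^ idx g hg x = x := (exists_pow g hg x).choose_spec

/-- the function `G → A` attached to `z`, a cocycle when `N z = 0` -/
noncomputable def cocFun : A.V →ₗ[k] (G → A.V) where
  toFun z := fun x => S A g (idx g hg x) z
  map_add' z z' := by
    funext x
    simp
  map_smul' c z := by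
    funext x
    simp

theorem cocFun_apply (z : A.V) (x : G) : cocFun A g hg z x = S A g (idx g hg x) z := rfl

variable {A g}

theorem cocFun_pow (p : ℕ) (hp : orderOf g = p) (z : A.V) (hz : S A g p z = 0) (i : ℕ) :
    cocFun A g hg z (g ^ i) = S A g i z := by
  rw [cocFun_apply]
  exact S_congr p hp z hz _ _ (pow_idx g hg (g ^ i))

theorem cocFun_mem (p : ℕ) (hp : orderOf g = p) (z : A.V) (hz : S A g p z = 0) :
    cocFun A g hg z ∈ cocycles₁ A := by
  rw [mem_cocycles₁_iff]
  intro x y
  obtain ⟨i, rfl⟩ := exists_pow g hg x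
  obtain ⟨j, rfl⟩ := exists_pow g hg y
  rw [← pow_add, cocFun_pow hg p hp z hz, cocFun_pow hg p hp z hz, cocFun_pow hg p hp z hz,
    S_add, LinearMap.add_apply, Module.End.mul_apply, rho_pow, add_comm]

/-- values of a cocycle on powers of `g` -/
theorem cocycle_pow (f : cocycles₁ A) (i : ℕ) : f (g ^ i) = S A g i (f g) := by
  induction i with
  | zero => simp [S_zero]
  | succ i ih =>
    rw [pow_succ, (mem_cocycles₁_iff f).1 f.2, ih, S_succ, LinearMap.add_apply, rho_pow, add_comm]

theorem cocycle_norm (p : ℕ) (hp : orderOf g = p) (f : cocycles₁ A) : S A g p (f g) = 0 := by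
  rw [← cocycle_pow, ← hp, pow_orderOf_eq_one, cocycles₁_map_one]

variable (A g)

/-- the kernel of the norm -/
noncomputable def kerN (p : ℕ) : Submodule k A.V := LinearMap.ker (S A g p)

theorem mem_kerN (p : ℕ) (z : A.V) : z ∈ kerN A g p ↔ S A g p z = 0 := LinearMap.mem_ker

/-- the cocycle attached to an element of `ker N` -/
noncomputable def cocL (p : ℕ) (hp : orderOf g = p) : kerN A g p →ₗ[k] cocycles₁ A :=
  LinearMap.codRestrict (cocycles₁ A) ((cocFun A g hg).comp (kerN A g p).subtype)
    (fun z => cocFun_mem hg p hp z.1 ((mem_kerN A g p z.1).mp z.2))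

theorem cocL_apply (p : ℕ) (hp : orderOf g = p) (z : kerN A g p) (x : G) :
    cocL A g hg p hp z x = cocFun A g hg z.1 x := rfl

/-- the map `ker N → H¹` -/
noncomputable def Psi (p : ℕ) (hp : orderOf g = p) : kerN A g p →ₗ[k] H1 A :=
  (H1π A).hom.comp (cocL A g hg p hp)

theorem Psi_apply (p : ℕ) (hp : orderOf g = p) (z : kerN A g p) :
    Psi A g hg p hp z = H1π A (cocL A g hg p hp z) := rfl

theorem Psi_surjective (p : ℕ) (hp : orderOf g = p) :
    Function.Surjective (Psi A g hg p hp) := by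
  intro y
  induction y using H1_induction_on with
  | h f =>
    refine ⟨⟨f g, (mem_kerN A g p _).mpr (cocycle_norm p hp f)⟩, ?_⟩
    rw [Psi_apply]
    congr 1
    apply cocycles₁_ext
    intro x
    obtain ⟨i, rfl⟩ := exists_pow g hg x
    rw [cocL_apply, cocFun_pow hg p hp _ (cocycle_norm p hp f), cocycle_pow]

theorem Psi_eq_zero_iff (p : ℕ) (hp : orderOf g = p) (z : kerN A g p) :
    Psi A g hg p hp z = 0 ↔ ∃ w : A.V, A.ρ g w - w = z.1 := by
  have hz : S A g p z.1 = 0 := (mem_kerN A g p z.1).mp z.2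
  rw [Psi_apply, H1π_eq_zero_iff]
  constructor
  · rintro ⟨w, hw⟩
    refine ⟨w, ?_⟩
    have h1 := congrFun hw g
    rw [d₀₁_hom_apply] at h1
    rw [h1]
    change cocFun A g hg z.1 g = z.1
    have h2 := cocFun_pow hg p hp z.1 hz 1
    rw [pow_one, S_one, Module.End.one_apply] at h2
    exact h2
  · rintro ⟨w, hw⟩
    refine ⟨w, ?_⟩
    funext x
    obtain ⟨i, rfl⟩ := exists_pow g hg x
    rw [d₀₁_hom_apply]
    change _ = cocFun A g hg z.1 (g ^ i)
    rw [cocFun_pow hg p hp z.1 hz, ← hw, S_mul_sub, rho_pow]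

end coc

section nat

variable {A B : Rep k G} (φ : A ⟶ B) (g : G) (hg : ∀ x : G, x ∈ Subgroup.zpowers g)

theorem hom_S (i : ℕ) (z : A.V) : φ.hom (S A g i z) = S B g i (φ.hom z) := by
  unfold S
  rw [LinearMap.sum_apply, LinearMap.sum_apply, map_sum]
  apply Finset.sum_congr rfl
  intro j _
  rw [rho_pow, rho_pow, Rep.hom_comm_apply]

theorem hom_mem_kerN (p : ℕ) (z : A.V) (hz : z ∈ kerN A g p) : φ.hom z ∈ kerN B g p := by
  rw [mem_kerN] at hz ⊢
  rw [← hom_S, hz, map_zero]

theorem map_Psi (p : ℕ) (hp : orderOf g = p) (z : kerN A g p) :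
    (groupCohomology.map (MonoidHom.id G) φ 1).hom (Psi A g hg p hp z) =
      Psi B g hg p hp ⟨φ.hom z.1, hom_mem_kerN φ g p z.1 z.2⟩ := by
  rw [Psi_apply, Psi_apply]
  have h := H1π_comp_map_apply (MonoidHom.id G) φ (cocL A g hg p hp z)
  refine h.trans ?_
  congr 1
  apply cocycles₁_ext
  intro x
  rw [cocL_apply, cocFun_apply]
  change φ.hom (cocFun A g hg z.1 x) = _
  rw [cocFun_apply, hom_S]

end nat

section main

variable {ι : Type*} [Fintype ι]

/-- the family of classes attached to a family in `ker N` -/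
noncomputable def classMap (A : Rep k G) (g : G) (hg : ∀ x : G, x ∈ Subgroup.zpowers g)
    (p : ℕ) (hp : orderOf g = p) (c : ι → A.V) (hcN : ∀ i, S A g p (c i) = 0) :
    (ι → k) →ₗ[k] H1 A :=
  (Psi A g hg p hp).comp
    (Fintype.linearCombination k (fun i => (⟨c i, (mem_kerN A g p _).mpr (hcN i)⟩ : kerN A g p)))

theorem classMap_apply (A : Rep k G) (g : G) (hg : ∀ x : G, x ∈ Subgroup.zpowers g)
    (p : ℕ) (hp : orderOf g = p) (c : ι → A.V) (hcN : ∀ i, S A g p (c i) = 0) (coef : ι → k) :
    classMap A g hg p hp c hcN coef = Psi A g hg p hp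
      (∑ i, coef i • (⟨c i, (mem_kerN A g p _).mpr (hcN i)⟩ : kerN A g p)) := by
  unfold classMap
  rw [LinearMap.comp_apply, Fintype.linearCombination_apply]

theorem coe_sum_kerN (A : Rep k G) (g : G) (p : ℕ) (c : ι → A.V)
    (hcN : ∀ i, S A g p (c i) = 0) (coef : ι → k) :
    ((∑ i, coef i • (⟨c i, (mem_kerN A g p _).mpr (hcN i)⟩ : kerN A g p) : kerN A g p) : A.V) =
      ∑ i, coef i • c i := by
  rw [Submodule.coe_sum]
  rfl

theorem classMap_injective (A : Rep k G) (g : G) (hg : ∀ x : G, x ∈ Subgroup.zpowers g)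
    (p : ℕ) (hp : orderOf g = p) (c : ι → A.V) (hcN : ∀ i, S A g p (c i) = 0)
    (hind : ∀ (coef : ι → k) (h : A.V), A.ρ g h - h = ∑ i, coef i • c i → ∀ i, coef i = 0) :
    Function.Injective (classMap A g hg p hp c hcN) := by
  rw [injective_iff_map_eq_zero]
  intro coef h0
  rw [classMap_apply, Psi_eq_zero_iff] at h0
  obtain ⟨w, hw⟩ := h0
  rw [coe_sum_kerN A g p c hcN coef] at hw
  funext i
  exact hind coef w hw i

/-- if `z = ∑ coef i • c i + (σ h - h)` then the class of `z` is the class of the combination -/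
theorem Psi_eq_classMap (A : Rep k G) (g : G) (hg : ∀ x : G, x ∈ Subgroup.zpowers g)
    (p : ℕ) (hp : orderOf g = p) (c : ι → A.V) (hcN : ∀ i, S A g p (c i) = 0)
    (z : kerN A g p) (coef : ι → k) (h : A.V)
    (hz : z.1 = ∑ i, coef i • c i + (A.ρ g h - h)) :
    Psi A g hg p hp z = classMap A g hg p hp c hcN coef := by
  rw [classMap_apply, ← sub_eq_zero, ← map_sub, Psi_eq_zero_iff]
  refine ⟨h, ?_⟩
  rw [Submodule.coe_sub, coe_sum_kerN A g p c hcN coef, hz]
  abel

/-- **`H¹` of a cyclic group from a basis of `ker N / im (σ - 1)`.** -/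
theorem finrank_H1 (A : Rep k G) (g : G) (hg : ∀ x : G, x ∈ Subgroup.zpowers g)
    (p : ℕ) (hp : orderOf g = p) (c : ι → A.V) (hcN : ∀ i, S A g p (c i) = 0)
    (hind : ∀ (coef : ι → k) (h : A.V), A.ρ g h - h = ∑ i, coef i • c i → ∀ i, coef i = 0)
    (hspan : ∀ z : A.V, S A g p z = 0 →
      ∃ (coef : ι → k) (h : A.V), z = ∑ i, coef i • c i + (A.ρ g h - h)) :
    Module.Finite k (H1 A) ∧ Module.finrank k (H1 A) = Fintype.card ι := by
  have hinj := classMap_injective A g hg p hp c hcN hind
  have hsurj : Function.Surjective (classMap A g hg p hp c hcN) := by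
    intro y
    obtain ⟨z, rfl⟩ := Psi_surjective A g hg p hp y
    obtain ⟨coef, h, hz⟩ := hspan z.1 ((mem_kerN A g p z.1).mp z.2)
    exact ⟨coef, (Psi_eq_classMap A g hg p hp c hcN z coef h hz).symm⟩
  let e : (ι → k) ≃ₗ[k] H1 A := LinearEquiv.ofBijective _ ⟨hinj, hsurj⟩
  refine ⟨Module.Finite.equiv e, ?_⟩
  rw [← e.finrank_eq, Module.finrank_fintype_fun_eq_card]

/-- **Image of the map on `H¹` of a cyclic group.** -/
theorem finrank_range_map {A B : Rep k G} (φ : A ⟶ B) (g : G)
    (hg : ∀ x : G, x ∈ Subgroup.zpowers g)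
    (p : ℕ) (hp : orderOf g = p) (c : ι → B.V) (hcN : ∀ i, S B g p (c i) = 0)
    (hind : ∀ (coef : ι → k) (h : B.V), B.ρ g h - h = ∑ i, coef i • c i → ∀ i, coef i = 0)
    (hspan : ∀ z : A.V, S A g p z = 0 →
      ∃ (coef : ι → k) (h : B.V), φ.hom z = ∑ i, coef i • c i + (B.ρ g h - h))
    (hhit : ∀ i, ∃ z : A.V, S A g p z = 0 ∧ ∃ h : B.V, φ.hom z = c i + (B.ρ g h - h)) :
    Module.Finite k (LinearMap.range (groupCohomology.map (MonoidHom.id G) φ 1).hom) ∧
      Module.finrank k (LinearMap.range (groupCohomology.map (MonoidHom.id G) φ 1).hom) =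
        Fintype.card ι := by
  classical
  have hinj := classMap_injective B g hg p hp c hcN hind
  have hrange : LinearMap.range (groupCohomology.map (MonoidHom.id G) φ 1).hom =
      LinearMap.range (classMap B g hg p hp c hcN) := by
    apply le_antisymm
    · rintro y ⟨x, rfl⟩
      obtain ⟨z, rfl⟩ := Psi_surjective A g hg p hp x
      rw [map_Psi φ g hg p hp z]
      obtain ⟨coef, h, hz⟩ := hspan z.1 ((mem_kerN A g p z.1).mp z.2)
      exact ⟨coef, (Psi_eq_classMap B g hg p hp c hcN _ coef h hz).symm⟩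
    · rintro y ⟨coef, rfl⟩
      have hsingle : ∀ i, classMap B g hg p hp c hcN (Pi.single i 1) ∈
          LinearMap.range (groupCohomology.map (MonoidHom.id G) φ 1).hom := by
        intro i
        obtain ⟨z, hz, h, hzh⟩ := hhit i
        refine ⟨Psi A g hg p hp ⟨z, (mem_kerN A g p z).mpr hz⟩, ?_⟩
        rw [map_Psi φ g hg p hp]
        apply Psi_eq_classMap B g hg p hp c hcN _ (Pi.single i 1) h
        change φ.hom z = _
        rw [hzh]
        congr 1
        rw [Finset.sum_eq_single i]
        · simp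
        · intro j _ hji
          simp [Pi.single_eq_of_ne hji]
        · intro hi
          exact absurd (Finset.mem_univ i) hi
      have hcoef : coef = ∑ i, coef i • (Pi.single i 1 : ι → k) := by
        funext j
        simp [Finset.sum_apply, Pi.single_apply]
      rw [hcoef, map_sum]
      apply Submodule.sum_mem
      intro i _
      rw [map_smul]
      exact Submodule.smul_mem _ _ (hsingle i)
  rw [hrange]
  refine ⟨inferInstance, ?_⟩
  rw [LinearMap.finrank_range_of_inj hinj, Module.finrank_fintype_fun_eq_card]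

end main

end Groth.Agent.FunFld.CycH1
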