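import Groth.Agent.FunFld.DegUpper

/-!
# `[K : k(x)] ≤ deg (x)_∞`, hence equality; principal divisors have degree zero
-/

set_option autoImplicit false

open FunFld IntermediateField Polynomial WithZero

namespace Groth.Agent.FF

universe u v
variable {k : Type u} {K : Type v} [Field k] [Field K] [Algebra k K]

lemma mul_mem_L {D E : Divisor k K} {a b : K} (ha : a ∈ L D) (hb : b ∈ L E) :
    a * b ∈ L (D + E) := by
  intro P
  rw [map_mul, Finsupp.add_apply, exp_add]
  exact mul_le_mul' (ha P) (hb P)

lemma one_mem_L_zero : (1 : K) ∈ L (0 : Divisor k K) := by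
  intro P; simp

lemma pow_mem_L {D : Divisor k K} {a : K} (ha : a ∈ L D) (j : ℕ) : a ^ j ∈ L (j • D) := by
  induction j with
  | zero => simpa using one_mem_L_zero
  | succ j ih =>
    rw [pow_succ, succ_nsmul]
    exact mul_mem_L ih ha

lemma linearIndependent_pow_of_transcendental {x : K} (hx : Transcendental k x) (l : ℕ) :
    LinearIndependent k (fun j : Fin (l + 1) => x ^ (j : ℕ)) := by
  rw [Fintype.linearIndependent_iff]
  intro c hc j
  let p : k[X] := ∑ i : Fin (l + 1), Polynomial.monomial (i : ℕ) (c i)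
  have hp : aeval x p = 0 := by
    rw [← hc]
    simp only [p, map_sum, aeval_monomial]
    apply Finset.sum_congr rfl
    intro i _
    rw [Algebra.smul_def]
  have hp0 : p = 0 := by
    by_contra h
    exact hx ⟨p, h, hp⟩
  have hcoeff : p.coeff (j : ℕ) = c j := by
    simp only [p, Polynomial.finsetSum_coeff, Polynomial.coeff_monomial]
    rw [Finset.sum_eq_single j]
    · simp
    · intro i _ hij
      rw [if_neg]
      exact fun h => hij (Fin.ext h)
    · intro h; exact absurd (Finset.mem_univ j) h
  rw [← hcoeff, hp0, Polynomial.coeff_zero]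

lemma linearIndependent_pow_gen {x : K} (hx : Transcendental k x) (l : ℕ) :
    LinearIndependent k (fun j : Fin (l + 1) => (AdjoinSimple.gen k x) ^ (j : ℕ)) := by
  have h := linearIndependent_pow_of_transcendental hx l
  rw [Fintype.linearIndependent_iff] at h ⊢
  intro c hc
  apply h c
  have h2 := congrArg (fun y : adjoin k ({x} : Set K) => (y : K)) hc
  simp only [AddSubmonoidClass.coe_finsetSum, ZeroMemClass.coe_zero] at h2
  rw [← h2]
  apply Finset.sum_congr rfl
  intro j _
  simp [Algebra.smul_def]

/-- `[K : k(x)] ≤ deg (x)_∞`. -/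
theorem finrank_le_deg_poleDiv (hK : IsFunctionField k K) {x : K} (hx : Transcendental k x) :
    (Module.finrank (adjoin k ({x} : Set K)) K : ℤ) ≤ (poleDiv k x).deg := by
  classical
  have := finite_adjoin_of_transcendental hK hx
  set n := Module.finrank (adjoin k ({x} : Set K)) K with hn
  let b := Module.finBasis (adjoin k ({x} : Set K)) K
  set B := poleDiv k x with hB
  let C : Divisor k K := ∑ i, poleDiv k (b i)
  have hC0 : 0 ≤ C := Finset.sum_nonneg (fun i _ => poleDiv_nonneg _)
  have hBC : ∀ i, poleDiv k (b i) ≤ C := fun i =>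
    Finset.single_le_sum (f := fun i => poleDiv k (b i)) (fun i _ => poleDiv_nonneg _)
      (Finset.mem_univ i)
  have hB0 : 0 ≤ B := poleDiv_nonneg _
  -- key estimate for every `l`
  have key : ∀ l : ℕ, (n * (l + 1) : ℤ) ≤ 1 + l * B.deg + C.deg := by
    intro l
    have hLI : LinearIndependent k
        (fun p : Fin (l + 1) × Fin n => (AdjoinSimple.gen k x) ^ (p.1 : ℕ) • b p.2) :=
      linearIndependent_smul (linearIndependent_pow_gen hx l) b.linearIndependent
    have hmem : ∀ p : Fin (l + 1) × Fin n,
        (AdjoinSimple.gen k x) ^ (p.1 : ℕ) • b p.2 ∈ L (l • B + C) := by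
      intro p
      have h1 : (AdjoinSimple.gen k x) ^ (p.1 : ℕ) • b p.2 = x ^ (p.1 : ℕ) * b p.2 := by
        rw [IntermediateField.smul_def]
        simp
      rw [h1]
      apply mul_mem_L
      · have h2 : x ^ (p.1 : ℕ) ∈ L ((p.1 : ℕ) • B) := pow_mem_L (mem_L_poleDiv hK x) _
        refine L_mono ?_ h2
        have hle : (p.1 : ℕ) ≤ l := Nat.lt_succ_iff.mp p.1.2
        exact nsmul_le_nsmul_left hB0 hle
      · exact L_mono (hBC p.2) (mem_L_poleDiv hK _)
    let f : Fin (l + 1) × Fin n → L (l • B + C) := fun p => ⟨_, hmem p⟩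
    have hLI' : LinearIndependent k f := by
      apply LinearIndependent.of_comp (L (l • B + C)).subtype
      exact hLI
    have := finite_L hK (l • B + C)
    have hcard := hLI'.fintype_card_le_finrank
    rw [Fintype.card_prod, Fintype.card_fin, Fintype.card_fin] at hcard
    have hnn : (0 : Divisor k K) ≤ l • B + C := add_nonneg (nsmul_nonneg hB0 l) hC0
    have hell := ell_le_add hK hnn
    have hell0 : ell (0 : Divisor k K) = 1 := by
      have := length_L_zero hK
      rw [length_L_eq_ell hK] at this
      exact_mod_cast this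
    rw [hell0, deg_zero, deg_add, sub_zero] at hell
    have hdegl : (l • B).deg = l * B.deg := by
      rw [← degHom_apply, map_nsmul, degHom_apply]; simp
    rw [hdegl] at hell
    have hcard' : ((l + 1) * n : ℤ) ≤ (ell (l • B + C) : ℤ) := by
      have : ((l + 1) * n : ℕ) ≤ ell (l • B + C) := hcard
      exact_mod_cast this
    push_cast at hell
    linarith
  -- conclude
  by_contra hlt
  push Not at hlt
  have hCdeg : 0 ≤ C.deg := by
    obtain ⟨E, hE⟩ := exists_toDiv_eq hC0
    rw [← hE, deg_toDiv]; positivity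
  have hBdeg : 0 ≤ B.deg := by
    obtain ⟨E, hE⟩ := exists_toDiv_eq hB0
    rw [← hE, deg_toDiv]; positivity
  have h1 : B.deg + 1 ≤ n := hlt
  have := key (C.deg.toNat + 1)
  have hcast : ((C.deg.toNat : ℕ) : ℤ) = C.deg := Int.toNat_of_nonneg hCdeg
  push_cast at this
  rw [hcast] at this
  nlinarith [mul_le_mul_of_nonneg_right h1 (by linarith : (0 : ℤ) ≤ C.deg + 1 + 1)]

end Groth.Agent.FF
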