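import Groth.Agent.FunFld.LFinite

/-!
# Positive and negative parts of principal divisors; `deg (x)₀ ≤ [K : k(x)]`
-/

set_option autoImplicit false

open FunFld IntermediateField Polynomial WithZero

namespace Groth.Agent.FF

universe u v
variable {k : Type u} {K : Type v} [Field k] [Field K] [Algebra k K]

/-- degree of the positive part through any finite set containing the positive support -/
lemma deg_sup_zero_eq_sum (D : Divisor k K) (S : Finset (Place k K))
    (hS : ∀ P, 0 < D P → P ∈ S) :
    (D ⊔ 0).deg = ∑ P ∈ S, ((D P).toNat : ℤ) * P.deg := by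
  unfold Divisor.deg
  rw [Finsupp.sum_of_support_subset (s := S)]
  · apply Finset.sum_congr rfl
    intro P _
    rw [Finsupp.sup_apply, Finsupp.zero_apply]
    congr 1
    rcases le_total (D P) 0 with h | h
    · rw [sup_eq_right.mpr h, Int.toNat_of_nonpos h]; rfl
    · rw [sup_eq_left.mpr h, Int.toNat_of_nonneg h]
  · intro P hP
    apply hS
    rw [Finsupp.mem_support_iff, Finsupp.sup_apply, Finsupp.zero_apply] at hP
    by_contra hle
    push Not at hle
    exact hP (sup_eq_right.mpr hle)
  · intro P _; simp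

/-- zero divisor and pole divisor of `x` -/
noncomputable def zeroDiv (k : Type u) {K : Type v} [Field k] [Field K] [Algebra k K] (x : K) :
    Divisor k K := FunFld.div k x ⊔ 0

noncomputable def poleDiv (k : Type u) {K : Type v} [Field k] [Field K] [Algebra k K] (x : K) :
    Divisor k K := (-FunFld.div k x) ⊔ 0

lemma zeroDiv_apply (hK : IsFunctionField k K) (x : K) (P : Place k K) :
    zeroDiv k x P = max (P.ord x) 0 := by
  rw [zeroDiv, Finsupp.sup_apply, div_apply hK]; rfl

lemma poleDiv_apply (hK : IsFunctionField k K) (x : K) (P : Place k K) :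
    poleDiv k x P = max (-P.ord x) 0 := by
  rw [poleDiv, Finsupp.sup_apply, Finsupp.neg_apply, div_apply hK]; rfl

lemma div_eq_zeroDiv_sub_poleDiv (x : K) : FunFld.div k x = zeroDiv k x - poleDiv k x := by
  ext P
  simp only [zeroDiv, poleDiv, Finsupp.coe_sub, Pi.sub_apply, Finsupp.sup_apply,
    Finsupp.neg_apply, Finsupp.coe_zero, Pi.zero_apply]
  rcases le_total (FunFld.div k x P) 0 with h | h
  · rw [sup_eq_right.mpr h, sup_eq_left.mpr (by linarith)]; ring
  · rw [sup_eq_left.mpr h, sup_eq_right.mpr (by linarith)]; ring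

lemma zeroDiv_nonneg (x : K) : 0 ≤ zeroDiv k x := le_sup_right
lemma poleDiv_nonneg (x : K) : 0 ≤ poleDiv k x := le_sup_right

lemma div_inv (hK : IsFunctionField k K) (x : K) : FunFld.div k x⁻¹ = -FunFld.div k x := by
  ext P
  rw [Finsupp.neg_apply, div_apply hK, div_apply hK, ord_inv]

lemma poleDiv_eq_zeroDiv_inv (hK : IsFunctionField k K) (x : K) :
    poleDiv k x = zeroDiv k x⁻¹ := by
  rw [poleDiv, zeroDiv, div_inv hK]

lemma mem_L_poleDiv (hK : IsFunctionField k K) (x : K) : x ∈ L (poleDiv k x) := by
  intro P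
  by_cases hx : x = 0
  · rw [hx]; simp
  rw [val_le_exp_iff P hx, poleDiv_apply hK]
  rcases le_total (-P.ord x) 0 with h | h
  · rw [max_eq_right h]; linarith
  · rw [max_eq_left h]; linarith

/-- The degree of the zero divisor is at most `[K : k(x)]`. -/
theorem deg_zeroDiv_le (hK : IsFunctionField k K) {x : K} (hx : Transcendental k x) :
    (zeroDiv k x).deg ≤ Module.finrank (adjoin k ({x} : Set K)) K := by
  classical
  have hx0 : x ≠ 0 := by rintro rfl; exact hx isAlgebraic_zero
  set S := (finite_zeros hK hx).toFinset with hS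
  have hmemS : ∀ P, P ∈ S ↔ 0 < P.ord x := by
    intro P; rw [hS, Set.Finite.mem_toFinset]; rfl
  have hres : ∀ P : Place k K, ∃ s : Fin P.deg → K, ResIndep P s := exists_resIndep_deg hK
  choose s hs using hres
  have := sum_mul_le_finrank hK (ι := S) (fun i => (i : Place k K)) Subtype.val_injective hx
    (fun i => ((i : Place k K).ord x).toNat) (fun i => by
      have hi : 0 < (i : Place k K).ord x := (hmemS _).mp i.2
      rw [val_le_exp_iff _ hx0, neg_neg, Int.toNat_of_nonneg hi.le])
    (fun i => (i : Place k K).deg) (fun i => s i) (fun i => hs i)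
  rw [zeroDiv, deg_sup_zero_eq_sum (FunFld.div k x) S (fun P hP => by
    rw [hmemS, ← div_apply hK]; exact hP)]
  rw [Finset.sum_coe_sort S (fun P => (P.ord x).toNat * P.deg)] at this
  have h2 : ∑ P ∈ S, (((FunFld.div k x) P).toNat : ℤ) * P.deg =
      ((∑ P ∈ S, (P.ord x).toNat * P.deg : ℕ) : ℤ) := by
    push_cast
    apply Finset.sum_congr rfl
    intro P _
    rw [div_apply hK]
  rw [h2]
  exact_mod_cast this

theorem deg_poleDiv_le (hK : IsFunctionField k K) {x : K} (hx : Transcendental k x) :
    (poleDiv k x).deg ≤ Module.finrank (adjoin k ({x} : Set K)) K := by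
  have hx' : Transcendental k x⁻¹ := by
    intro h; exact hx (by simpa using h.inv)
  have h := deg_zeroDiv_le hK hx'
  rw [← poleDiv_eq_zeroDiv_inv hK] at h
  have hadj : adjoin k ({x⁻¹} : Set K) = adjoin k ({x} : Set K) := by
    apply le_antisymm
    · rw [adjoin_le_iff, Set.singleton_subset_iff]
      exact inv_mem (mem_adjoin_simple_self k x)
    · rw [adjoin_le_iff, Set.singleton_subset_iff]
      have h1 : (x⁻¹)⁻¹ ∈ adjoin k ({x⁻¹} : Set K) := inv_mem (mem_adjoin_simple_self k x⁻¹)
      rwa [inv_inv] at h1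
  rwa [hadj] at h

end Groth.Agent.FF
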