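import Groth.Agent.FunFld.LocResFF
import Groth.Agent.FunFld.SepVar
import Groth.Agent.FunFld.KaehlerFF
import Groth.Agent.S12571

/-!
# Different exponents through Laurent expansions
-/

set_option autoImplicit false
set_option linter.unusedSectionVars false

open FunFld IntermediateField WithZero

namespace Groth.Agent.FF

section Val

variable {R : Type*} [Ring R] {Γ₀ : Type*} [LinearOrderedCommGroupWithZero Γ₀]
  (v : Valuation R Γ₀)

/-- a sum of terms with pairwise distinct (nonzero) valuations has the maximal valuation -/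
lemma exists_max_of_distinct {ι : Type*} {s : Finset ι} (hs : s.Nonempty) {f : ι → R}
    (hd : ∀ i ∈ s, ∀ j ∈ s, i ≠ j → v (f i) ≠ 0 → v (f i) ≠ v (f j)) :
    ∃ j ∈ s, v (∑ i ∈ s, f i) = v (f j) ∧ (∀ i ∈ s, v (f i) ≤ v (f j)) ∧
      ∀ i ∈ s, i ≠ j → v (f j) ≠ 0 → v (f i) < v (f j) := by
  classical
  obtain ⟨j, hj, hmax⟩ := Finset.exists_max_image s (fun i => v (f i)) hs
  have hlt : ∀ i ∈ s, i ≠ j → v (f j) ≠ 0 → v (f i) < v (f j) := by
    intro i hi hij h0
    apply lt_of_le_of_ne (hmax i hi)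
    intro heq
    exact hd j hj i hi (Ne.symm hij) h0 heq.symm
  refine ⟨j, hj, ?_, hmax, hlt⟩
  by_cases h0 : v (f j) = 0
  · rw [h0]
    apply le_antisymm _ zero_le
    apply v.map_sum_le
    intro i hi
    rw [← h0]
    exact hmax i hi
  · apply v.map_sum_eq_of_lt hj
    intro i hi
    rw [Finset.mem_sdiff, Finset.mem_singleton] at hi
    exact hlt i hi.1 hi.2 h0

/-- a vanishing sum of terms with pairwise distinct (nonzero) valuations has only
terms of valuation zero -/
lemma val_eq_zero_of_sum_eq_zero_of_distinct {ι : Type*} {s : Finset ι} {f : ι → R}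
    (hd : ∀ i ∈ s, ∀ j ∈ s, i ≠ j → v (f i) ≠ 0 → v (f i) ≠ v (f j))
    (hsum : ∑ i ∈ s, f i = 0) : ∀ i ∈ s, v (f i) = 0 := by
  intro i hi
  obtain ⟨j, hj, h1, h2, -⟩ := exists_max_of_distinct v ⟨i, hi⟩ hd
  rw [hsum, map_zero] at h1
  apply le_antisymm _ zero_le
  rw [h1]
  exact h2 i hi

end Val

section Ext

universe u v
variable {k : Type u} {K K' : Type v} [Field k] [Field K] [Field K'] [Algebra k K]
  [Algebra K K'] [Algebra k K'] [IsScalarTower k K K']

lemma isOverWith_pos {P : Place k K} {Q : Place k K'} {e : ℕ} (he : IsOverWith Q P e) :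
    0 < e := by
  rcases Nat.eq_zero_or_pos e with rfl | h
  · have h0 := he 0
    rw [map_zero, map_zero, pow_zero] at h0
    exact absurd h0 zero_ne_one
  · exact h

/-- the valuation of a term `c s^i` above a place -/
lemma val_term {P : Place k K} {Q : Place k K'} {e : ℕ} (he : IsOverWith Q P e) {s : K'}
    (hs : Q.1 s = exp (-1 : ℤ)) {c : K} (hc : c ≠ 0) (i : ℕ) :
    Q.1 (algebraMap K K' c * s ^ i) = exp ((e : ℤ) * log (P.1 c) - i) := by
  have hc' : P.1 c ≠ 0 := (Valuation.ne_zero_iff P.1).mpr hc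
  rw [map_mul, he c, map_pow, hs]
  conv_lhs => rw [← exp_log hc']
  rw [← exp_nsmul, ← exp_nsmul, ← exp_add]
  congr 1
  simp only [nsmul_eq_mul]
  ring

lemma val_term_zero {Q : Place k K'} {s : K'} (i : ℕ) :
    Q.1 (algebraMap K K' 0 * s ^ i) = 0 := by
  rw [map_zero, zero_mul, map_zero]

/-- terms `c_i s^i`, `i < e`, have pairwise distinct valuations -/
lemma val_term_distinct {P : Place k K} {Q : Place k K'} {e : ℕ} (he : IsOverWith Q P e) {s : K'}
    (hs : Q.1 s = exp (-1 : ℤ)) (c : ℕ → K) {i j : ℕ} (hi : i < e) (hj : j < e) (hij : i ≠ j)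
    (h0 : Q.1 (algebraMap K K' (c i) * s ^ i) ≠ 0) :
    Q.1 (algebraMap K K' (c i) * s ^ i) ≠ Q.1 (algebraMap K K' (c j) * s ^ j) := by
  have hci : c i ≠ 0 := by
    rintro h
    rw [h] at h0
    exact h0 (val_term_zero i)
  by_cases hcj : c j = 0
  · rw [hcj, val_term_zero]
    exact h0
  · rw [val_term he hs hci, val_term he hs hcj]
    intro heq
    rw [exp_inj] at heq
    have hdvd : (e : ℤ) ∣ (i : ℤ) - j := ⟨log (P.1 (c i)) - log (P.1 (c j)), by linarith⟩
    have habs : |(i : ℤ) - j| < e := by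
      rw [abs_lt]
      constructor <;> omega
    have := Int.eq_zero_of_abs_lt_dvd hdvd habs
    omega

/-- a vanishing polynomial expression of degree `< e` in a uniformizer above has zero
coefficients -/
lemma coeff_eq_zero_of_sum_eq_zero {P : Place k K} {Q : Place k K'} {e : ℕ}
    (he : IsOverWith Q P e) {s : K'} (hs : Q.1 s = exp (-1 : ℤ)) (c : ℕ → K) {d : ℕ} (hd : d ≤ e)
    (hsum : ∑ i ∈ Finset.range d, algebraMap K K' (c i) * s ^ i = 0) :
    ∀ i < d, c i = 0 := by
  intro i hi
  have h := val_eq_zero_of_sum_eq_zero_of_distinct Q.1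
    (f := fun i => algebraMap K K' (c i) * s ^ i) (s := Finset.range d)
    (fun i hi j hj hij h0 => val_term_distinct he hs c
      (lt_of_lt_of_le (Finset.mem_range.mp hi) hd) (lt_of_lt_of_le (Finset.mem_range.mp hj) hd)
      hij h0) hsum i (Finset.mem_range.mpr hi)
  by_contra hne
  rw [val_term he hs hne] at h
  exact exp_ne_zero h

/-- the minimal polynomial of a uniformizer at a totally ramified place is Eisenstein -/
theorem eisenstein_of_totally_ramified [FiniteDimensional K K'] {P : Place k K}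
    {Q : Place k K'} {e : ℕ} (he : IsOverWith Q P e) (hn : e = Module.finrank K K') {s : K'}
    (hs : Q.1 s = exp (-1 : ℤ)) :
    (minpoly K s).natDegree = e ∧ P.1 ((minpoly K s).coeff 0) = exp (-1 : ℤ) ∧
      ∀ i < e, P.1 ((minpoly K s).coeff i) ≤ exp (-1 : ℤ) := by
  have hepos := isOverWith_pos he
  have hint : IsIntegral K s := Algebra.IsIntegral.isIntegral s
  have hmonic := minpoly.monic hint
  set f := minpoly K s with hf
  have haeval : ∑ i ∈ Finset.range (f.natDegree + 1), algebraMap K K' (f.coeff i) * s ^ i = 0 := by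
    have h := minpoly.aeval K s
    rw [← hf, Polynomial.aeval_eq_sum_range] at h
    rw [← h]
    apply Finset.sum_congr rfl
    intro i _
    rw [Algebra.smul_def]
  -- the degree
  have hdeg : f.natDegree = e := by
    apply le_antisymm
    · rw [hn]; exact minpoly.natDegree_le s
    · by_contra hlt
      rw [not_le] at hlt
      have h := coeff_eq_zero_of_sum_eq_zero he hs (fun i => f.coeff i) (d := f.natDegree + 1)
        (by omega) haeval f.natDegree (by omega)
      have h1 : f.coeff f.natDegree = 1 := hmonic.coeff_natDegree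
      rw [h1] at h
      exact one_ne_zero h
  refine ⟨hdeg, ?_⟩
  -- split off the top term
  rw [hdeg, Finset.sum_range_succ] at haeval
  have hlead : f.coeff e = 1 := by rw [← hdeg]; exact hmonic.coeff_natDegree
  rw [hlead, map_one, one_mul] at haeval
  have hsum : ∑ i ∈ Finset.range e, algebraMap K K' (f.coeff i) * s ^ i = - s ^ e :=
    eq_neg_of_add_eq_zero_left haeval
  obtain ⟨j, hj, h1, -, h3⟩ := exists_max_of_distinct Q.1 (s := Finset.range e)
    (f := fun i => algebraMap K K' (f.coeff i) * s ^ i) ⟨0, Finset.mem_range.mpr hepos⟩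
    (fun i hi j hj hij h0 => val_term_distinct he hs (fun i => f.coeff i)
      (Finset.mem_range.mp hi) (Finset.mem_range.mp hj) hij h0)
  rw [hsum, Valuation.map_neg, map_pow, hs, ← exp_nsmul] at h1
  have hj' := Finset.mem_range.mp hj
  have hcj : f.coeff j ≠ 0 := by
    intro h0
    simp only [h0, map_zero, zero_mul] at h1
    exact exp_ne_zero h1
  have h1' := h1
  beta_reduce at h1'
  rw [val_term he hs hcj, exp_inj] at h1'
  simp only [nsmul_eq_mul, mul_neg, mul_one] at h1'
  -- `j = 0`
  have hj0 : j = 0 := by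
    have hdvd : (e : ℤ) ∣ (j : ℤ) := ⟨log (P.1 (f.coeff j)) + 1, by linarith⟩
    have habs : |(j : ℤ)| < e := by
      rw [abs_lt]
      constructor <;> omega
    have := Int.eq_zero_of_abs_lt_dvd hdvd habs
    omega
  subst hj0
  have hlog : log (P.1 (f.coeff 0)) = -1 := by
    have h5 : (e : ℤ) * (log (P.1 (f.coeff 0)) + 1) = 0 := by
      push_cast at h1'
      linarith
    rcases mul_eq_zero.mp h5 with h6 | h6
    · omega
    · omega
  have hc0 : P.1 (f.coeff 0) = exp (-1 : ℤ) := by
    rw [← hlog, exp_log ((Valuation.ne_zero_iff P.1).mpr hcj)]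
  refine ⟨hc0, ?_⟩
  intro i hi
  by_cases hi0 : i = 0
  · rw [hi0, hc0]
  by_cases hci : f.coeff i = 0
  · rw [hci, map_zero]; exact zero_le
  have h4 := h3 i (Finset.mem_range.mpr hi) hi0 (by rw [← h1]; exact exp_ne_zero)
  beta_reduce at h4
  rw [← h1, val_term he hs hci, exp_lt_exp] at h4
  simp only [nsmul_eq_mul, mul_neg, mul_one] at h4
  have hneg : log (P.1 (f.coeff i)) < 0 := by
    by_contra hge
    rw [not_lt] at hge
    have : 0 ≤ (e : ℤ) * log (P.1 (f.coeff i)) := mul_nonneg (by omega) hge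
    omega
  rw [← exp_log ((Valuation.ne_zero_iff P.1).mpr hci), exp_le_exp]
  omega

end Ext

section Red

universe u v w
variable {k : Type u} {K K' : Type v} [Field k] [Field K] [Field K'] [Algebra k K]
  [Algebra K K'] [Algebra k K'] [IsScalarTower k K K']

/-- the derivative of a power series is a power series -/
lemma val_D_le_one {F : Type w} [Field F] {f : LaurentSeries F}
    (h : Valued.v f ≤ (1 : WithZero (Multiplicative ℤ))) :
    Valued.v (LocRes.D F f) ≤ (1 : WithZero (Multiplicative ℤ)) := by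
  obtain ⟨U, hU⟩ := (LaurentSeries.val_le_one_iff_eq_coe F f).mp h
  rw [← hU, LocRes.D_coe, LaurentSeries.val_le_one_iff_eq_coe]
  exact ⟨_, rfl⟩

/-- the derivative of a series of order one is a unit -/
lemma val_D_eq_one {F : Type w} [Field F] {f : LaurentSeries F}
    (h : Valued.v f = (exp (-1 : ℤ) : WithZero (Multiplicative ℤ))) :
    Valued.v (LocRes.D F f) = (1 : WithZero (Multiplicative ℤ)) := by
  have h1 := val_D_eq_of_cast_ne_zero (e := 1) h (by simp)
  rw [h1]
  simp

/-- reduction of the different exponent to the derivative of a uniformizer below -/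
theorem diffExp_uniformizer [FiniteDimensional K K'] [Algebra.IsSeparable K K']
    (hK : IsFunctionField k K) (hg : IsGeometric k K)
    {F F' : Type w} [Field F] [Algebra k F] [Field F'] [Algebra k F']
    {P : Place k K} {Q : Place k K'} {e : ℕ} (he : IsOverWith Q P e)
    (φ : K →ₐ[k] LaurentSeries F) (hφ : LocRes.IsExpansionAt P.1 φ)
    (ψ : K' →ₐ[k] LaurentSeries F') (hψ : LocRes.IsExpansionAt Q.1 ψ)
    {x : K} (hx : LocRes.vDiff φ 1 x ≠ 0) (hx' : LocRes.vDiff ψ 1 (algebraMap K K' x) ≠ 0)
    {t : K} (ht : P.1 t = exp (-1 : ℤ)) :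
    Module.finrank K Ω[K⁄k] = 1 ∧ KaehlerDifferential.D k K t ≠ 0 ∧
      Valued.v (LocRes.D F (φ t)) = (1 : WithZero (Multiplicative ℤ)) ∧
      LocRes.D F' (ψ (algebraMap K K' t)) ≠ 0 ∧
      LocRes.diffExp φ ψ e x = - log (Valued.v (LocRes.D F' (ψ (algebraMap K K' t)))) := by
  classical
  have hφt : Valued.v (φ t) = (exp (-(1 : ℤ)) : WithZero (Multiplicative ℤ)) := by
    rw [hφ.1 t, ht]
  have hvφ := val_D_eq_one hφt
  have hvt : LocRes.vDiff φ 1 t = 1 := by
    unfold LocRes.vDiff
    rw [map_one, one_mul, hvφ]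
  have hot : LocRes.ordDiff φ 1 t = 0 := by
    unfold LocRes.ordDiff
    rw [hvt]
    simp
  have hvt0 : LocRes.vDiff φ 1 t ≠ 0 := by rw [hvt]; exact one_ne_zero
  obtain ⟨x₀, hx₀, hsep₀⟩ := exists_separating hK hg
  have hrank := finrank_kaehler_eq_one_of_separating hx₀
  have hDt : KaehlerDifferential.D k K t ≠ 0 := by
    intro h0
    apply hvt0
    unfold LocRes.vDiff
    have h1 := D_exp_of_D_eq_smul φ (x := t) (x' := t) (u := 0) (by rw [h0, smul_zero])
    rw [h1, map_zero, zero_mul, mul_zero, map_zero]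
  obtain ⟨c, hc⟩ := (finrank_eq_one_iff_of_nonzero' (KaehlerDifferential.D k K t) hDt).mp hrank
    (KaehlerDifferential.D k K x)
  let ψ' : K →ₐ[k] LaurentSeries F' := ψ.comp (IsScalarTower.toAlgHom k K K')
  have hψt0 : LocRes.vDiff ψ 1 (algebraMap K K' t) ≠ 0 := by
    intro h0
    apply hx'
    unfold LocRes.vDiff at h0 ⊢
    rw [map_one, one_mul] at h0 ⊢
    have h1 := D_exp_of_D_eq_smul ψ' hc.symm
    have h2 : LocRes.D F' (ψ (algebraMap K K' x)) =
        ψ' c * LocRes.D F' (ψ (algebraMap K K' t)) := h1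
    rw [h2, map_mul, h0, mul_zero]
  have hind := Groth.Agent.S12571.result k K K' hK hg F F' P Q e he φ hφ ψ hψ x hx hx' t hvt0 hψt0
  refine ⟨hrank, hDt, hvφ, ?_, ?_⟩
  · intro h0
    apply hψt0
    unfold LocRes.vDiff
    rw [h0, mul_zero, map_zero]
  · rw [hind]
    unfold LocRes.diffExp
    rw [hot, mul_zero, sub_zero]
    unfold LocRes.ordDiff LocRes.vDiff
    rw [map_one, one_mul]

/-- differentiating a polynomial expression through an expansion -/
lemma D_aeval {F' : Type w} [Field F'] [Algebra k F'] (ψ : K' →ₐ[k] LaurentSeries F') (s : K')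
    (g : Polynomial K) :
    LocRes.D F' (ψ (Polynomial.aeval s g)) =
      ψ (Polynomial.aeval s (Polynomial.derivative g)) * LocRes.D F' (ψ s) +
      g.sum (fun i a => LocRes.D F' (ψ (algebraMap K K' a)) * ψ s ^ i) := by
  induction g using Polynomial.induction_on' with
  | add p q hp hq =>
    rw [map_add, map_add, map_add, hp, hq, Polynomial.derivative_add, map_add, map_add,
      Polynomial.sum_add_index]
    · ring
    · intro i
      simp
    · intro i a b
      simp [add_mul]
  | monomial n a =>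
    rw [Polynomial.sum_monomial_index _ _ (by simp), Polynomial.aeval_monomial,
      Polynomial.derivative_monomial, Polynomial.aeval_monomial, map_mul, map_pow,
      Derivation.leibniz, Derivation.leibniz_pow]
    simp only [map_mul, map_pow, map_natCast, smul_eq_mul, nsmul_eq_mul]
    ring

/-- the different exponent at a totally ramified place is the order of `f'(s)` for a
uniformizer `s` above with minimal polynomial `f` -/
theorem ord_derivative_minpoly_eq_diffExp [FiniteDimensional K K'] [Algebra.IsSeparable K K']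
    (hK : IsFunctionField k K) (hg : IsGeometric k K)
    {F F' : Type w} [Field F] [Algebra k F] [Field F'] [Algebra k F']
    {P : Place k K} {Q : Place k K'} {e : ℕ} (he : IsOverWith Q P e)
    (φ : K →ₐ[k] LaurentSeries F) (hφ : LocRes.IsExpansionAt P.1 φ)
    (ψ : K' →ₐ[k] LaurentSeries F') (hψ : LocRes.IsExpansionAt Q.1 ψ)
    {x : K} (hx : LocRes.vDiff φ 1 x ≠ 0) (hx' : LocRes.vDiff ψ 1 (algebraMap K K' x) ≠ 0)
    (hn : e = Module.finrank K K') {s : K'} (hs : Q.1 s = exp (-1 : ℤ)) :
    Q.ord (Polynomial.aeval s (Polynomial.derivative (minpoly K s))) =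
      LocRes.diffExp φ ψ e x := by
  classical
  obtain ⟨t, ht⟩ := hφ.2.2
  obtain ⟨hrank, hDt, hvφ, hψt0, hdiff⟩ := diffExp_uniformizer hK hg he φ hφ ψ hψ hx hx' ht
  obtain ⟨hdeg, hc0, hci⟩ := eisenstein_of_totally_ramified he hn hs
  have hepos := isOverWith_pos he
  have hint : IsIntegral K s := Algebra.IsIntegral.isIntegral s
  have hmonic := minpoly.monic hint
  set f := minpoly K s with hf
  have hcoeff : ∀ i, P.1 (f.coeff i) ≤ 1 := by
    intro i
    rcases lt_trichotomy i e with h | h | h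
    · apply (hci i h).trans
      rw [← exp_zero, exp_le_exp]
      norm_num
    · rw [h, ← hdeg, hmonic.coeff_natDegree, map_one]
    · rw [Polynomial.coeff_eq_zero_of_natDegree_lt (by omega), map_zero]
      exact zero_le
  -- derivative coefficients
  have hb : ∀ a : K, ∃ b : K, b • KaehlerDifferential.D k K t = KaehlerDifferential.D k K a :=
    fun a => (finrank_eq_one_iff_of_nonzero' _ hDt).mp hrank _
  choose b hb using hb
  let ψ' : K →ₐ[k] LaurentSeries F' := ψ.comp (IsScalarTower.toAlgHom k K K')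
  have hψ'b : ∀ a, LocRes.D F' (ψ (algebraMap K K' a)) =
      ψ (algebraMap K K' (b a)) * LocRes.D F' (ψ (algebraMap K K' t)) :=
    fun a => D_exp_of_D_eq_smul ψ' (hb a).symm
  have hφb : ∀ a, LocRes.D F (φ a) = φ (b a) * LocRes.D F (φ t) :=
    fun a => D_exp_of_D_eq_smul φ (hb a).symm
  have hPb : ∀ a, P.1 (b a) = Valued.v (LocRes.D F (φ a)) := by
    intro a
    rw [hφb a, map_mul, hvφ, mul_one, hφ.1]
  have hPb1 : ∀ a, P.1 a ≤ 1 → P.1 (b a) ≤ 1 := by
    intro a ha
    rw [hPb]
    apply val_D_le_one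
    rw [hφ.1]
    exact ha
  have hPb0 : P.1 (b (f.coeff 0)) = 1 := by
    rw [hPb]
    apply val_D_eq_one
    rw [hφ.1]
    exact hc0
  -- the identity
  have hid := D_aeval ψ s f
  rw [minpoly.aeval, map_zero, map_zero, Polynomial.sum_over_range _ (by intro i; simp)] at hid
  set G : K' := ∑ i ∈ Finset.range (f.natDegree + 1), algebraMap K K' (b (f.coeff i)) * s ^ i
    with hG
  have hsumG : ∑ i ∈ Finset.range (f.natDegree + 1),
      LocRes.D F' (ψ (algebraMap K K' (f.coeff i))) * ψ s ^ i =
      LocRes.D F' (ψ (algebraMap K K' t)) * ψ G := by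
    rw [hG, map_sum, Finset.mul_sum]
    apply Finset.sum_congr rfl
    intro i _
    rw [hψ'b, map_mul, map_pow]
    ring
  rw [hsumG] at hid
  -- valuations
  have hvs : Valued.v (LocRes.D F' (ψ s)) = (1 : WithZero (Multiplicative ℤ)) :=
    val_D_eq_one (by rw [hψ.1, hs])
  have hQG : Q.1 G = 1 := by
    rw [hG, Finset.sum_range_succ']
    have h0 : Q.1 (algebraMap K K' (b (f.coeff 0)) * s ^ 0) = 1 := by
      rw [pow_zero, mul_one, he, hPb0, one_pow]
    rw [Valuation.map_add_eq_of_lt_right, h0]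
    rw [h0]
    apply Valuation.map_sum_lt _ one_ne_zero
    intro i _
    rw [map_mul, he, map_pow, hs]
    have h1 : P.1 (b (f.coeff (i + 1))) ^ e ≤ 1 := pow_le_one' (hPb1 _ (hcoeff _)) e
    have h2 : (exp (-1 : ℤ) : WithZero (Multiplicative ℤ)) ^ (i + 1) < 1 := by
      rw [← exp_nsmul, ← exp_zero, exp_lt_exp]
      simp only [nsmul_eq_mul]
      push_cast
      omega
    calc P.1 (b (f.coeff (i + 1))) ^ e * exp (-1 : ℤ) ^ (i + 1)
        ≤ 1 * exp (-1 : ℤ) ^ (i + 1) := mul_le_mul_left h1 _
      _ < 1 := by rw [one_mul]; exact h2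
  have hval : Q.1 (Polynomial.aeval s (Polynomial.derivative f)) =
      Valued.v (LocRes.D F' (ψ (algebraMap K K' t))) := by
    have h1 : ψ (Polynomial.aeval s (Polynomial.derivative f)) * LocRes.D F' (ψ s) =
        -(LocRes.D F' (ψ (algebraMap K K' t)) * ψ G) := eq_neg_of_add_eq_zero_left hid.symm
    have h2 := congrArg (Valued.v : LaurentSeries F' → WithZero (Multiplicative ℤ)) h1
    rw [map_mul, hvs, mul_one, Valuation.map_neg, map_mul, hψ.1, hψ.1, hQG, mul_one] at h2
    exact h2
  unfold Place.ord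
  rw [hval, hdiff]

end Red

end Groth.Agent.FF
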