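import Groth.Agent.FunFld.DiffExp

/-!
# Different exponents through Laurent expansions: universe-polymorphic versions
-/

set_option autoImplicit false
set_option linter.unusedSectionVars false

open FunFld IntermediateField WithZero

namespace Groth.Agent.FF.U

open Groth.Agent.FF

universe u v v' w
variable {k : Type u} {K : Type v} {K' : Type v'} [Field k] [Field K] [Field K'] [Algebra k K]
  [Algebra K K'] [Algebra k K'] [IsScalarTower k K K']

lemma isOverWith_pos {P : Place k K} {Q : Place k K'} {e : ℕ} (he : IsOverWith Q P e) :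
    0 < e := by
  rcases Nat.eq_zero_or_pos e with rfl | h
  · have h0 := he 0
    rw [map_zero, map_zero, pow_zero] at h0
    exact absurd h0 zero_ne_one
  · exact h

/-- the valuation of a term `c s^i` above a place -/
lemma val_term {P : Place k K} {Q : Place k K'} {e : ℕ} (he : IsOverWith Q P e) {s : K'}
    (hs : Q.1 s = exp (-1 : ℤ)) {c : K} (hc : c ≠ 0) (i : ℕ) :
    Q.1 (algebraMap K K' c * s ^ i) = exp ((e : ℤ) * log (P.1 c) - i) := by
  have hc' : P.1 c ≠ 0 := (Valuation.ne_zero_iff P.1).mpr hc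
  rw [map_mul, he c, map_pow, hs]
  conv_lhs => rw [← exp_log hc']
  rw [← exp_nsmul, ← exp_nsmul, ← exp_add]
  congr 1
  simp only [nsmul_eq_mul]
  ring

lemma val_term_zero {Q : Place k K'} {s : K'} (i : ℕ) :
    Q.1 (algebraMap K K' 0 * s ^ i) = 0 := by
  rw [map_zero, zero_mul, map_zero]

/-- terms `c_i s^i`, `i < e`, have pairwise distinct valuations -/
lemma val_term_distinct {P : Place k K} {Q : Place k K'} {e : ℕ} (he : IsOverWith Q P e) {s : K'}
    (hs : Q.1 s = exp (-1 : ℤ)) (c : ℕ → K) {i j : ℕ} (hi : i < e) (hj : j < e) (hij : i ≠ j)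
    (h0 : Q.1 (algebraMap K K' (c i) * s ^ i) ≠ 0) :
    Q.1 (algebraMap K K' (c i) * s ^ i) ≠ Q.1 (algebraMap K K' (c j) * s ^ j) := by
  have hci : c i ≠ 0 := by
    rintro h
    rw [h] at h0
    exact h0 (val_term_zero i)
  by_cases hcj : c j = 0
  · rw [hcj, val_term_zero]
    exact h0
  · rw [val_term he hs hci, val_term he hs hcj]
    intro heq
    rw [exp_inj] at heq
    have hdvd : (e : ℤ) ∣ (i : ℤ) - j := ⟨log (P.1 (c i)) - log (P.1 (c j)), by linarith⟩
    have habs : |(i : ℤ) - j| < e := by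
      rw [abs_lt]
      constructor <;> omega
    have := Int.eq_zero_of_abs_lt_dvd hdvd habs
    omega

/-- a vanishing polynomial expression of degree `< e` in a uniformizer above has zero
coefficients -/
lemma coeff_eq_zero_of_sum_eq_zero {P : Place k K} {Q : Place k K'} {e : ℕ}
    (he : IsOverWith Q P e) {s : K'} (hs : Q.1 s = exp (-1 : ℤ)) (c : ℕ → K) {d : ℕ} (hd : d ≤ e)
    (hsum : ∑ i ∈ Finset.range d, algebraMap K K' (c i) * s ^ i = 0) :
    ∀ i < d, c i = 0 := by
  intro i hi
  have h := val_eq_zero_of_sum_eq_zero_of_distinct Q.1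
    (f := fun i => algebraMap K K' (c i) * s ^ i) (s := Finset.range d)
    (fun i hi j hj hij h0 => val_term_distinct he hs c
      (lt_of_lt_of_le (Finset.mem_range.mp hi) hd) (lt_of_lt_of_le (Finset.mem_range.mp hj) hd)
      hij h0) hsum i (Finset.mem_range.mpr hi)
  by_contra hne
  rw [val_term he hs hne] at h
  exact exp_ne_zero h


/-- the ramification index is at most the degree -/
theorem isOverWith_le_finrank [FiniteDimensional K K'] {P : Place k K} {Q : Place k K'} {e : ℕ}
    (he : IsOverWith Q P e) : e ≤ Module.finrank K K' := by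
  obtain ⟨s, hs⟩ := Q.2.2 (exp (-1 : ℤ))
  have hli : LinearIndependent K (fun i : Fin e => s ^ (i : ℕ)) := by
    rw [Fintype.linearIndependent_iff]
    intro g hsum i
    let c : ℕ → K := fun j => if h : j < e then g ⟨j, h⟩ else 0
    have hsum' : ∑ j ∈ Finset.range e, algebraMap K K' (c j) * s ^ j = 0 := by
      rw [Finset.sum_range, ← hsum]
      apply Finset.sum_congr rfl
      intro j _
      simp only [c, dif_pos j.2, Fin.eta, Algebra.smul_def]
    have h := coeff_eq_zero_of_sum_eq_zero he hs c le_rfl hsum' i i.2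
    simpa [c, dif_pos i.2] using h
  have h := hli.fintype_card_le_finrank
  simpa using h

/-- the different exponent does not depend on the differential used -/
theorem diffExp_indep (hK : IsFunctionField k K) (hg : IsGeometric k K)
    {F F' : Type w} [Field F] [Algebra k F] [Field F'] [Algebra k F']
    {P : Place k K} {Q : Place k K'} {e : ℕ} (he : IsOverWith Q P e)
    (φ : K →ₐ[k] LaurentSeries F) (hφ : LocRes.IsExpansionAt P.1 φ)
    (ψ : K' →ₐ[k] LaurentSeries F') (hψ : LocRes.IsExpansionAt Q.1 ψ)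
    (x : K) (hx : LocRes.vDiff φ 1 x ≠ 0) (hx' : LocRes.vDiff ψ 1 (algebraMap K K' x) ≠ 0)
    (x' : K) (hx2 : LocRes.vDiff φ 1 x' ≠ 0) :
    LocRes.diffExp φ ψ e x = LocRes.diffExp φ ψ e x' := by
  classical
  obtain ⟨x₀, hx₀, hsep₀⟩ := exists_separating hK hg
  have hrank := finrank_kaehler_eq_one_of_separating hx₀
  have hDx : KaehlerDifferential.D k K x ≠ 0 := by
    intro h0
    apply hx
    unfold LocRes.vDiff
    have h1 := D_exp_of_D_eq_smul φ (x := x) (x' := x) (u := 0) (by rw [h0, smul_zero])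
    rw [h1, map_zero, zero_mul, mul_zero, map_zero]
  obtain ⟨c, hc⟩ := (finrank_eq_one_iff_of_nonzero' (KaehlerDifferential.D k K x) hDx).mp hrank
    (KaehlerDifferential.D k K x')
  have hcne : c ≠ 0 := by
    rintro rfl
    apply hx2
    unfold LocRes.vDiff
    rw [D_exp_of_D_eq_smul φ hc.symm, map_zero, zero_mul, mul_zero, map_zero]
  let ψ' : K →ₐ[k] LaurentSeries F' := ψ.comp (IsScalarTower.toAlgHom k K K')
  have hψ' : ∀ f : K, Valued.v (ψ' f) = (Q.1.comap (algebraMap K K')) f := fun f => hψ.1 _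
  have e1 : ∀ y : K, LocRes.vDiff ψ 1 (algebraMap K K' y) = LocRes.vDiff ψ' 1 y := by
    intro y
    unfold LocRes.vDiff
    rw [map_one, map_one]
    rfl
  have e2 : ∀ y : K, LocRes.ordDiff ψ 1 (algebraMap K K' y) = LocRes.ordDiff ψ' 1 y := by
    intro y
    unfold LocRes.ordDiff
    rw [e1]
  have o1 := ordDiff_of_D_eq_smul P.1 φ hφ.1 hc.symm hcne hx
  have o2 := ordDiff_of_D_eq_smul (Q.1.comap (algebraMap K K')) ψ' hψ' hc.symm hcne
    (by rw [← e1]; exact hx')
  unfold LocRes.diffExp
  rw [e2, e2, o1, o2, Valuation.comap_apply, he c, WithZero.log_pow]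
  simp only [nsmul_eq_mul]
  ring

/-- reduction of the different exponent to the derivative of a uniformizer below -/
theorem diffExp_uniformizer
    (hK : IsFunctionField k K) (hg : IsGeometric k K)
    {F F' : Type w} [Field F] [Algebra k F] [Field F'] [Algebra k F']
    {P : Place k K} {Q : Place k K'} {e : ℕ} (he : IsOverWith Q P e)
    (φ : K →ₐ[k] LaurentSeries F) (hφ : LocRes.IsExpansionAt P.1 φ)
    (ψ : K' →ₐ[k] LaurentSeries F') (hψ : LocRes.IsExpansionAt Q.1 ψ)
    {x : K} (hx : LocRes.vDiff φ 1 x ≠ 0) (hx' : LocRes.vDiff ψ 1 (algebraMap K K' x) ≠ 0)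
    {t : K} (ht : P.1 t = exp (-1 : ℤ)) :
    Module.finrank K Ω[K⁄k] = 1 ∧ KaehlerDifferential.D k K t ≠ 0 ∧
      Valued.v (LocRes.D F (φ t)) = (1 : WithZero (Multiplicative ℤ)) ∧
      LocRes.D F' (ψ (algebraMap K K' t)) ≠ 0 ∧
      LocRes.diffExp φ ψ e x = - log (Valued.v (LocRes.D F' (ψ (algebraMap K K' t)))) := by
  classical
  have hφt : Valued.v (φ t) = (exp (-(1 : ℤ)) : WithZero (Multiplicative ℤ)) := by
    rw [hφ.1 t, ht]
  have hvφ := val_D_eq_one hφt
  have hvt : LocRes.vDiff φ 1 t = 1 := by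
    unfold LocRes.vDiff
    rw [map_one, one_mul, hvφ]
  have hot : LocRes.ordDiff φ 1 t = 0 := by
    unfold LocRes.ordDiff
    rw [hvt]
    simp
  have hvt0 : LocRes.vDiff φ 1 t ≠ 0 := by rw [hvt]; exact one_ne_zero
  obtain ⟨x₀, hx₀, hsep₀⟩ := exists_separating hK hg
  have hrank := finrank_kaehler_eq_one_of_separating hx₀
  have hDt : KaehlerDifferential.D k K t ≠ 0 := by
    intro h0
    apply hvt0
    unfold LocRes.vDiff
    have h1 := D_exp_of_D_eq_smul φ (x := t) (x' := t) (u := 0) (by rw [h0, smul_zero])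
    rw [h1, map_zero, zero_mul, mul_zero, map_zero]
  obtain ⟨c, hc⟩ := (finrank_eq_one_iff_of_nonzero' (KaehlerDifferential.D k K t) hDt).mp hrank
    (KaehlerDifferential.D k K x)
  let ψ' : K →ₐ[k] LaurentSeries F' := ψ.comp (IsScalarTower.toAlgHom k K K')
  have hψt0 : LocRes.vDiff ψ 1 (algebraMap K K' t) ≠ 0 := by
    intro h0
    apply hx'
    unfold LocRes.vDiff at h0 ⊢
    rw [map_one, one_mul] at h0 ⊢
    have h1 := D_exp_of_D_eq_smul ψ' hc.symm
    have h2 : LocRes.D F' (ψ (algebraMap K K' x)) =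
        ψ' c * LocRes.D F' (ψ (algebraMap K K' t)) := h1
    rw [h2, map_mul, h0, mul_zero]
  have hind := diffExp_indep hK hg he φ hφ ψ hψ x hx hx' t hvt0
  refine ⟨hrank, hDt, hvφ, ?_, ?_⟩
  · intro h0
    apply hψt0
    unfold LocRes.vDiff
    rw [h0, mul_zero, map_zero]
  · rw [hind]
    unfold LocRes.diffExp
    rw [hot, mul_zero, sub_zero]
    unfold LocRes.ordDiff LocRes.vDiff
    rw [map_one, one_mul]


end Groth.Agent.FF.U
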