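import Groth.Agent.FunFld.Ball

/-!
# Divisors: degree API, effective parts
-/

set_option autoImplicit false

open FunFld IntermediateField Polynomial WithZero

namespace Groth.Agent.FF

universe u v
variable {k : Type u} {K : Type v} [Field k] [Field K] [Algebra k K]

lemma deg_zero : (0 : Divisor k K).deg = 0 := by
  simp [Divisor.deg]

lemma deg_add (D E : Divisor k K) : (D + E).deg = D.deg + E.deg := by
  unfold Divisor.deg
  rw [Finsupp.sum_add_index']
  · intro P; simp
  · intro P a b; ring

lemma deg_single (P : Place k K) (n : ℤ) :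
    Divisor.deg (Finsupp.single P n : Divisor k K) = n * P.deg := by
  unfold Divisor.deg
  rw [Finsupp.sum_single_index]
  simp

lemma deg_neg (D : Divisor k K) : (-D).deg = -D.deg := by
  have h := deg_add D (-D)
  rw [add_neg_cancel, deg_zero] at h
  linarith

lemma deg_sub (D E : Divisor k K) : (D - E).deg = D.deg - E.deg := by
  rw [sub_eq_add_neg, deg_add, deg_neg]; ring

/-- the degree as an additive monoid hom -/
noncomputable def degHom : Divisor k K →+ ℤ where
  toFun := Divisor.deg
  map_zero' := deg_zero
  map_add' := deg_add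

lemma degHom_apply (D : Divisor k K) : degHom D = D.deg := rfl

lemma deg_sum {ι : Type*} (s : Finset ι) (f : ι → Divisor k K) :
    (∑ i ∈ s, f i).deg = ∑ i ∈ s, (f i).deg := by
  rw [← degHom_apply, map_sum]; rfl

/-- an effective divisor with natural number coefficients, as a divisor -/
noncomputable def toDiv : (Place k K →₀ ℕ) →+ Divisor k K :=
  Finsupp.mapRange.addMonoidHom (Nat.castAddMonoidHom ℤ)

lemma toDiv_apply (E : Place k K →₀ ℕ) (P : Place k K) : toDiv E P = (E P : ℤ) := by
  simp [toDiv]

lemma toDiv_single (P : Place k K) (n : ℕ) :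
    toDiv (Finsupp.single P n) = Finsupp.single P (n : ℤ) := by
  simp [toDiv]

lemma toDiv_nonneg (E : Place k K →₀ ℕ) : 0 ≤ toDiv E := by
  intro P
  rw [toDiv_apply]
  simp

/-- the degree of an effective divisor, as a natural number -/
noncomputable def degN (E : Place k K →₀ ℕ) : ℕ := E.sum fun P n => n * P.deg

lemma degN_zero : degN (0 : Place k K →₀ ℕ) = 0 := by simp [degN]

lemma degN_add (E F : Place k K →₀ ℕ) : degN (E + F) = degN E + degN F := by
  unfold degN
  rw [Finsupp.sum_add_index']
  · intro P; simp
  · intro P a b; ring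

lemma degN_single (P : Place k K) (n : ℕ) : degN (Finsupp.single P n) = n * P.deg := by
  unfold degN
  rw [Finsupp.sum_single_index]
  simp

lemma deg_toDiv (E : Place k K →₀ ℕ) : (toDiv E).deg = (degN E : ℤ) := by
  induction E using Finsupp.induction_linear with
  | zero => simp [deg_zero, degN_zero]
  | add E F hE hF => rw [map_add, deg_add, degN_add, hE, hF]; push_cast; ring
  | single P n => rw [toDiv_single, deg_single, degN_single]; push_cast; ring

/-- every divisor `≥ 0` comes from a natural-valued one -/
lemma exists_toDiv_eq {D : Divisor k K} (hD : 0 ≤ D) : ∃ E : Place k K →₀ ℕ, toDiv E = D := by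
  refine ⟨D.mapRange Int.toNat rfl, ?_⟩
  ext P
  rw [toDiv_apply, Finsupp.mapRange_apply]
  exact Int.toNat_of_nonneg (hD P)

lemma exists_toDiv_of_le {D₁ D₂ : Divisor k K} (h : D₁ ≤ D₂) :
    ∃ E : Place k K →₀ ℕ, D₂ = D₁ + toDiv E := by
  have h0 : (0 : Divisor k K) ≤ D₂ - D₁ := by
    intro P; simpa using h P
  obtain ⟨E, hE⟩ := exists_toDiv_eq h0
  exact ⟨E, by rw [hE]; abel⟩

end Groth.Agent.FF
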