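import Groth.Agent.FunFld.OrdIndep
import Groth.Agent.FunFld.GaloisTrans
import Groth.Agent.FunFld.Rational
import Groth.Agent.FunFld.SepPlaces
import Mathlib.Algebra.Polynomial.Bivariate

/-!
# Automorphisms of an elliptic function field fixing the point at infinity
-/

set_option autoImplicit false
set_option linter.unusedSectionVars false

open FunFld IntermediateField WithZero Polynomial

namespace Groth.Agent.FF.EllAut

open Groth.Agent.FF.Ext

universe u v

variable {k : Type u} {K : Type v} [Field k] [Field K] [Algebra k K]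

/-- the standing hypotheses -/
structure Setup (P : Place k K) (a b : k) (x y : K) : Prop where
  hK : IsFunctionField k K
  hgen : genus k K = 1
  hPdeg : P.deg = 1
  h2 : (2 : k) ≠ 0
  h3 : (3 : k) ≠ 0
  heq : y ^ 2 = x ^ 3 + algebraMap k K a * x + algebraMap k K b
  hxy : adjoin k ({x, y} : Set K) = ⊤
  hx : x ∈ L (Finsupp.single P 2 : Divisor k K)
  hx2 : P.ord x = -2
  hy : y ∈ L (Finsupp.single P 3 : Divisor k K)
  hy3 : P.ord y = -3

namespace Setup

variable {P : Place k K} {a b : k} {x y : K} (S : Setup P a b x y)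
include S

lemma x_ne_zero : x ≠ 0 := by
  rintro rfl
  have := S.hx2
  rw [ord_zero] at this
  omega

lemma y_ne_zero : y ≠ 0 := by
  rintro rfl
  have := S.hy3
  rw [ord_zero] at this
  omega

/-- linear independence of `1, x, x², x³, y, xy` -/
lemma indep6 {c₀ c₁ c₂ c₃ d₀ d₁ : k}
    (h : algebraMap k K c₀ + algebraMap k K c₁ * x + algebraMap k K c₂ * x ^ 2 +
      algebraMap k K c₃ * x ^ 3 + algebraMap k K d₀ * y + algebraMap k K d₁ * (x * y) = 0) :
    c₀ = 0 ∧ c₁ = 0 ∧ c₂ = 0 ∧ c₃ = 0 ∧ d₀ = 0 ∧ d₁ = 0 := by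
  have hli := (basis_L_genus_one S.hK S.hgen P S.hPdeg x y S.hx S.hx2 S.hy S.hy3 6
    (by norm_num)).1
  rw [Fintype.linearIndependent_iff] at hli
  have := hli (Sum.elim ![c₀, c₁, c₂, c₃] ![d₀, d₁]) (by
    rw [Fintype.sum_sum_type]
    simp only [Sum.elim_inl, Sum.elim_inr]
    rw [Fin.sum_univ_four, Fin.sum_univ_two]
    simp only [Algebra.smul_def, Matrix.cons_val_zero, Matrix.cons_val_one, Matrix.cons_val_two,
      Matrix.cons_val_three, Fin.val_zero, Fin.val_one, Fin.val_two, pow_zero, pow_one, mul_one]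
    rw [← h]
    simp
    ring)
  refine ⟨this (Sum.inl 0), this (Sum.inl 1), this (Sum.inl 2), this (Sum.inl 3),
    this (Sum.inr 0), this (Sum.inr 1)⟩

/-- `L(2P) = ⟨1, x⟩` -/
lemma mem_L2 {z : K} (hz : z ∈ L (Finsupp.single P 2 : Divisor k K)) :
    ∃ α β : k, z = algebraMap k K α * x + algebraMap k K β := by
  have hsp := (basis_L_genus_one S.hK S.hgen P S.hPdeg x y S.hx S.hx2 S.hy S.hy3 2
    (by norm_num)).2
  have hz' : z ∈ L (Finsupp.single P ((2 : ℕ) : ℤ) : Divisor k K) := by exact_mod_cast hz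
  rw [← hsp, Submodule.mem_span_range_iff_exists_fun] at hz'
  obtain ⟨c, hc⟩ := hz'
  rw [Fintype.sum_sum_type] at hc
  simp only [Sum.elim_inl, Sum.elim_inr] at hc
  rw [Fin.sum_univ_two] at hc
  simp only [Algebra.smul_def, Fin.val_zero, Fin.val_one, pow_zero, pow_one, mul_one] at hc
  refine ⟨c (Sum.inl 1), c (Sum.inl 0), ?_⟩
  rw [← hc]
  simp
  ring

/-- `L(3P) = ⟨1, x, y⟩` -/
lemma mem_L3 {z : K} (hz : z ∈ L (Finsupp.single P 3 : Divisor k K)) :
    ∃ γ δ ε : k, z = algebraMap k K γ * y + algebraMap k K δ * x + algebraMap k K ε := by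
  have hsp := (basis_L_genus_one S.hK S.hgen P S.hPdeg x y S.hx S.hx2 S.hy S.hy3 3
    (by norm_num)).2
  have hz' : z ∈ L (Finsupp.single P ((3 : ℕ) : ℤ) : Divisor k K) := by exact_mod_cast hz
  rw [← hsp, Submodule.mem_span_range_iff_exists_fun] at hz'
  obtain ⟨c, hc⟩ := hz'
  rw [Fintype.sum_sum_type] at hc
  simp only [Sum.elim_inl, Sum.elim_inr] at hc
  rw [Fin.sum_univ_two, Fin.sum_univ_one] at hc
  simp only [Algebra.smul_def, Fin.val_zero, Fin.val_one, pow_zero, pow_one, mul_one,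
    one_mul] at hc
  refine ⟨c (Sum.inr 0), c (Sum.inl 1), c (Sum.inl 0), ?_⟩
  rw [← hc]
  ring

end Setup

section Stable

/-- an automorphism preserving the valuation of `P` preserves `L(nP)` -/
lemma map_mem_L {P : Place k K} (σ : K ≃ₐ[k] K) (hσ : ∀ z : K, P.1 (σ z) = P.1 z) {n : ℤ} {z : K}
    (hz : z ∈ L (Finsupp.single P n : Divisor k K)) :
    σ z ∈ L (Finsupp.single P n : Divisor k K) := by
  classical
  intro Q
  have hP : Place.comapEquiv (k := k) (K := k) P σ = P := Subtype.ext (by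
    ext w
    exact hσ w)
  have h := hz (Place.comapEquiv (k := k) (K := k) Q σ)
  rw [Place.comapEquiv_apply] at h
  refine h.trans_eq ?_
  congr 1
  rw [Finsupp.single_apply, Finsupp.single_apply]
  by_cases hQ : P = Q
  · subst hQ
    rw [if_pos rfl, if_pos hP.symm]
  · rw [if_neg hQ, if_neg]
    intro h1
    apply hQ
    -- `Q ∘ σ = P = P ∘ σ` forces `Q = P`
    apply Subtype.ext
    ext w
    have h2 : (Place.comapEquiv (k := k) (K := k) Q σ).1 (σ.symm w) =
        (Place.comapEquiv (k := k) (K := k) P σ).1 (σ.symm w) := by rw [← h1, hP]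
    rw [Place.comapEquiv_apply, Place.comapEquiv_apply, σ.apply_symm_apply] at h2
    exact h2.symm

end Stable

namespace Setup

variable {P : Place k K} {a b : k} {x y : K} (S : Setup P a b x y)
include S

lemma val_x : P.1 x = exp (2 : ℤ) := by
  rw [val_eq_exp_neg_ord P S.x_ne_zero, S.hx2]
  norm_num

lemma val_y : P.1 y = exp (3 : ℤ) := by
  rw [val_eq_exp_neg_ord P S.y_ne_zero, S.hy3]
  norm_num

/-- the shape of an automorphism fixing `P` -/
theorem exists_u (σ : K ≃ₐ[k] K) (hσ : ∀ z : K, P.1 (σ z) = P.1 z) :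
    ∃ u : k, u ≠ 0 ∧ σ x = algebraMap k K (u ^ 2) * x ∧ σ y = algebraMap k K (u ^ 3) * y ∧
      a * (u ^ 4 - 1) = 0 ∧ b * (u ^ 6 - 1) = 0 := by
  obtain ⟨α, β, hαβ⟩ := S.mem_L2 (map_mem_L σ hσ S.hx)
  obtain ⟨γ, δ, ε, hγ⟩ := S.mem_L3 (map_mem_L σ hσ S.hy)
  have hα : α ≠ 0 := by
    rintro rfl
    have h1 := hσ x
    rw [hαβ, map_zero, zero_mul, zero_add, S.val_x] at h1
    have h2 := P.2.1 β
    rw [h1, ← exp_zero, exp_le_exp] at h2
    omega
  have hγ0 : γ ≠ 0 := by
    rintro rfl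
    have h1 := hσ y
    rw [hγ, map_zero, zero_mul, zero_add, S.val_y] at h1
    have h2 : P.1 (algebraMap k K δ * x + algebraMap k K ε) ≤ exp (2 : ℤ) := by
      refine (P.1.map_add _ _).trans (max_le ?_ ?_)
      · rw [map_mul, S.val_x]
        exact (mul_le_mul' (P.2.1 δ) le_rfl).trans_eq (one_mul _)
      · refine (P.2.1 ε).trans ?_
        rw [← exp_zero, exp_le_exp]
        norm_num
    rw [h1, exp_le_exp] at h2
    omega
  have hσeq := congrArg σ S.heq
  rw [map_pow, map_add, map_add, map_pow, map_mul, σ.commutes, σ.commutes, hαβ, hγ] at hσeq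
  have key : algebraMap k K (γ ^ 2 * b + ε ^ 2 - β ^ 3 - a * β - b) +
      algebraMap k K (γ ^ 2 * a + 2 * δ * ε - 3 * α * β ^ 2 - a * α) * x +
      algebraMap k K (δ ^ 2 - 3 * α ^ 2 * β) * x ^ 2 +
      algebraMap k K (γ ^ 2 - α ^ 3) * x ^ 3 + algebraMap k K (2 * γ * ε) * y +
      algebraMap k K (2 * γ * δ) * (x * y) = 0 := by
    simp only [map_sub, map_add, map_mul, map_pow, map_ofNat]
    linear_combination hσeq - (algebraMap k K γ) ^ 2 * S.heq
  obtain ⟨e0, e1, e2, e3, e4, e5⟩ := S.indep6 key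
  have h2 := S.h2
  have h3 := S.h3
  have hδ : δ = 0 := by
    rcases mul_eq_zero.mp e5 with h | h
    · rcases mul_eq_zero.mp h with h | h
      · exact absurd h h2
      · exact absurd h hγ0
    · exact h
  have hε : ε = 0 := by
    rcases mul_eq_zero.mp e4 with h | h
    · rcases mul_eq_zero.mp h with h | h
      · exact absurd h h2
      · exact absurd h hγ0
    · exact h
  have hβ : β = 0 := by
    rw [hδ] at e2
    have : 3 * α ^ 2 * β = 0 := by linear_combination -e2
    rcases mul_eq_zero.mp this with h | h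
    · rcases mul_eq_zero.mp h with h | h
      · exact absurd h h3
      · exact absurd (pow_eq_zero_iff (by norm_num) |>.mp h) hα
    · exact h
  subst hδ hε hβ
  have hγα : γ ^ 2 = α ^ 3 := by linear_combination e3
  refine ⟨γ / α, div_ne_zero hγ0 hα, ?_, ?_, ?_, ?_⟩
  · rw [hαβ, map_zero, add_zero]
    congr 2
    field_simp
    linear_combination -hγα
  · rw [hγ, map_zero, zero_mul, add_zero, add_zero]
    congr 2
    field_simp
    linear_combination -hγα
  · have h1 : a * (α ^ 2 - 1) = 0 := by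
      have : α * (a * (α ^ 2 - 1)) = 0 := by linear_combination e1 - a * e3
      rcases mul_eq_zero.mp this with h | h
      · exact absurd h hα
      · exact h
    have h4 : (γ / α) ^ 4 = α ^ 2 := by
      field_simp
      linear_combination (γ ^ 2 + α ^ 3) * hγα
    rw [h4, h1]
  · have h6 : (γ / α) ^ 6 = γ ^ 2 := by
      field_simp
      linear_combination (γ ^ 2 + α ^ 3) * hγα
    rw [h6]
    linear_combination e0

end Setup

section Kernel

open Polynomial.Bivariate

/-- the Weierstrass polynomial `Y² - (X³ + aX + b)` -/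
noncomputable def gpoly (a b : k) : k[X][Y] := Y ^ 2 - C (X ^ 3 + C a * X + C b)

lemma gpoly_monic (a b : k) : (gpoly a b).Monic := monic_X_pow_sub_C _ (by norm_num)

lemma aevalAeval_gpoly (a b : k) (x' y' : K) :
    aevalAeval x' y' (gpoly a b) = y' ^ 2 - (x' ^ 3 + algebraMap k K a * x' + algebraMap k K b) := by
  unfold gpoly
  simp

/-- the order of a polynomial in a function with a double pole -/
lemma ord_aeval_of_ord_neg_two {P : Place k K} {x' : K} (hx' : P.ord x' = -2) {q : k[X]}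
    (hq : q ≠ 0) : aeval x' q ≠ 0 ∧ P.ord (aeval x' q) = -(2 * (q.natDegree : ℤ)) := by
  have hx0 : x' ≠ 0 := by
    rintro rfl
    rw [ord_zero] at hx'
    omega
  have h1 : 1 < P.1 x' := by
    rw [val_eq_exp_neg_ord P hx0, hx', ← exp_zero, exp_lt_exp]
    norm_num
  have hv := val_aeval_of_one_lt P h1 hq
  have hne : aeval x' q ≠ 0 := by
    intro h0
    rw [h0, map_zero] at hv
    exact (pow_ne_zero _ (ne_of_gt (lt_trans zero_lt_one h1))) hv.symm
  refine ⟨hne, ?_⟩
  unfold Place.ord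
  rw [hv, log_pow]
  unfold Place.ord at hx'
  have hl : (P.1 x').log = 2 := by linarith
  simp only [nsmul_eq_mul]
  rw [hl]
  ring

/-- the relation ideal of a Weierstrass pair is generated by the Weierstrass polynomial -/
theorem gpoly_dvd_of_aevalAeval_eq_zero {P : Place k K} {a b : k} {x' y' : K}
    (hx' : P.ord x' = -2) (hy' : P.ord y' = -3)
    (heq' : y' ^ 2 = x' ^ 3 + algebraMap k K a * x' + algebraMap k K b) (G : k[X][Y])
    (hG : aevalAeval x' y' G = 0) : gpoly a b ∣ G := by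
  have hm := gpoly_monic a b
  rw [← modByMonic_eq_zero_iff_dvd hm]
  set r := G %ₘ gpoly a b with hr
  have hy0 : y' ≠ 0 := by
    rintro rfl
    rw [ord_zero] at hy'
    omega
  have hdeg : r.natDegree ≤ 1 := by
    have h1 : r.degree < (gpoly a b).degree := degree_modByMonic_lt G hm
    have h2 : (gpoly a b).natDegree = 2 := natDegree_X_pow_sub_C
    by_cases hr0 : r = 0
    · rw [hr0, natDegree_zero]
      exact Nat.zero_le _
    rw [degree_eq_natDegree hr0, degree_eq_natDegree hm.ne_zero, h2] at h1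
    have : r.natDegree < 2 := by exact_mod_cast h1
    omega
  have hrG : aevalAeval x' y' r = 0 := by
    have h := modByMonic_add_div G (gpoly a b)
    have h2 := congrArg (aevalAeval x' y') h
    rw [map_add, map_mul, aevalAeval_gpoly, heq', sub_self, zero_mul, add_zero, hG] at h2
    exact h2
  have hreq := eq_X_add_C_of_natDegree_le_one hdeg
  rw [hreq, map_add, map_mul, aevalAeval_C, aevalAeval_C, aevalAeval_Y] at hrG
  have h1 : r.coeff 1 = 0 := by
    by_contra hne
    obtain ⟨hn1, ho1⟩ := ord_aeval_of_ord_neg_two hx' hne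
    by_cases h0 : r.coeff 0 = 0
    · rw [h0, map_zero, add_zero] at hrG
      rcases mul_eq_zero.mp hrG with h | h
      · exact hn1 h
      · exact hy0 h
    · obtain ⟨hn0, ho0⟩ := ord_aeval_of_ord_neg_two hx' h0
      have h3 : aeval x' (r.coeff 0) = -(aeval x' (r.coeff 1) * y') := by
        linear_combination hrG
      have h4 := congrArg P.ord h3
      rw [ord_neg, ord_mul P hn1 hy0, ho0, ho1, hy'] at h4
      omega
  have h0 : r.coeff 0 = 0 := by
    rw [h1, map_zero, zero_mul, zero_add] at hrG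
    by_contra hne
    exact (ord_aeval_of_ord_neg_two hx' hne).1 hrG
  rw [hreq, h1, h0, map_zero, zero_mul, zero_add]

end Kernel

section Construct

open Polynomial.Bivariate

lemma aevalAeval_eq_eval₂ (x' y' : K) (G : k[X][Y]) :
    aevalAeval x' y' G = eval₂ ((aeval x' : k[X] →ₐ[k] K) : k[X] →+* K) y' G := by
  induction G using Polynomial.induction_on' with
  | add p q hp hq => rw [map_add, eval₂_add, hp, hq]
  | monomial n c =>
    rw [eval₂_monomial, ← C_mul_X_pow_eq_monomial, map_mul, map_pow, aevalAeval_C, aevalAeval_Y]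
    rfl

/-- the evaluation `k[X][Y]/(g) → K` at a Weierstrass pair -/
noncomputable def evalRoot (a b : k) (x' y' : K)
    (heq' : y' ^ 2 = x' ^ 3 + algebraMap k K a * x' + algebraMap k K b) :
    AdjoinRoot (gpoly a b) →+* K :=
  AdjoinRoot.lift ((aeval x' : k[X] →ₐ[k] K) : k[X] →+* K) y' (by
    have h := aevalAeval_gpoly a b x' y'
    rw [heq', sub_self, aevalAeval_eq_eval₂] at h
    exact h)

lemma evalRoot_mk (a b : k) (x' y' : K)
    (heq' : y' ^ 2 = x' ^ 3 + algebraMap k K a * x' + algebraMap k K b) (G : k[X][Y]) :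
    evalRoot a b x' y' heq' (AdjoinRoot.mk (gpoly a b) G) = aevalAeval x' y' G := by
  rw [aevalAeval_eq_eval₂]
  exact AdjoinRoot.lift_mk _ _

lemma evalRoot_injective {P : Place k K} {a b : k} {x' y' : K}
    (hx' : P.ord x' = -2) (hy' : P.ord y' = -3)
    (heq' : y' ^ 2 = x' ^ 3 + algebraMap k K a * x' + algebraMap k K b) :
    Function.Injective (evalRoot a b x' y' heq') := by
  rw [injective_iff_map_eq_zero]
  intro t ht
  obtain ⟨G, rfl⟩ := AdjoinRoot.mk_surjective t
  rw [evalRoot_mk] at ht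
  exact AdjoinRoot.mk_eq_zero.mpr (gpoly_dvd_of_aevalAeval_eq_zero hx' hy' heq' G ht)

namespace Setup

variable {P : Place k K} {a b : k} {x y : K} (S : Setup P a b x y)
include S

/-- the twisted pair `(u² x, u³ y)` is again a Weierstrass pair -/
lemma heq_twist {u : k} (ha : a * (u ^ 4 - 1) = 0) (hb : b * (u ^ 6 - 1) = 0) :
    (algebraMap k K (u ^ 3) * y) ^ 2 = (algebraMap k K (u ^ 2) * x) ^ 3 +
      algebraMap k K a * (algebraMap k K (u ^ 2) * x) + algebraMap k K b := by
  have h4 : algebraMap k K (a * (u ^ 4 - 1)) = 0 := by rw [ha, map_zero]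
  have h6 : algebraMap k K (b * (u ^ 6 - 1)) = 0 := by rw [hb, map_zero]
  simp only [map_mul, map_sub, map_pow, map_one] at h4 h6 ⊢
  linear_combination (algebraMap k K u) ^ 6 * S.heq + (algebraMap k K u) ^ 2 * x * h4 + h6

/-- every element of `K` is a quotient of polynomial expressions in `x, y` -/
lemma exists_div (z : K) : ∃ G H : k[X][Y], z = aevalAeval x y G / aevalAeval x y H := by
  have hz : z ∈ adjoin k ({x, y} : Set K) := by rw [S.hxy]; trivial
  obtain ⟨r, hr, s, hs, rfl⟩ := mem_adjoin_iff_div.mp hz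
  have hle : Algebra.adjoin k ({x, y} : Set K) ≤ (aevalAeval x y : k[X][Y] →ₐ[k] K).range := by
    apply Algebra.adjoin_le
    intro w hw
    rcases hw with rfl | rfl
    · exact ⟨C X, aevalAeval_X _ _⟩
    · exact ⟨Y, aevalAeval_Y _ _⟩
  obtain ⟨G, rfl⟩ := hle hr
  obtain ⟨H, rfl⟩ := hle hs
  exact ⟨G, H, rfl⟩

/-- the automorphism `(x, y) ↦ (u² x, u³ y)` as an algebra endomorphism -/
theorem exists_algHom {u : k} (hu : u ≠ 0) (ha : a * (u ^ 4 - 1) = 0) (hb : b * (u ^ 6 - 1) = 0) :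
    ∃ σ : K →ₐ[k] K, σ x = algebraMap k K (u ^ 2) * x ∧ σ y = algebraMap k K (u ^ 3) * y := by
  have hu2 : u ^ 2 ≠ 0 := pow_ne_zero _ hu
  have hu3 : u ^ 3 ≠ 0 := pow_ne_zero _ hu
  have hx' : P.ord (algebraMap k K (u ^ 2) * x) = -2 := by
    rw [ord_mul P ((map_ne_zero_iff _ (algebraMap k K).injective).mpr hu2) S.x_ne_zero,
      ord_algebraMap, S.hx2, zero_add]
  have hy' : P.ord (algebraMap k K (u ^ 3) * y) = -3 := by
    rw [ord_mul P ((map_ne_zero_iff _ (algebraMap k K).injective).mpr hu3) S.y_ne_zero,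
      ord_algebraMap, S.hy3, zero_add]
  have heq' := S.heq_twist ha hb
  have hπinj := evalRoot_injective S.hx2 S.hy3 S.heq
  have hφinj := evalRoot_injective hx' hy' heq'
  letI : Algebra (AdjoinRoot (gpoly a b)) K := (evalRoot a b x y S.heq).toAlgebra
  haveI : FaithfulSMul (AdjoinRoot (gpoly a b)) K :=
    (faithfulSMul_iff_algebraMap_injective _ _).mpr hπinj
  haveI : IsDomain (AdjoinRoot (gpoly a b)) := Function.Injective.isDomain _ hπinj
  haveI : IsFractionRing (AdjoinRoot (gpoly a b)) K := by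
    apply IsFractionRing.of_field
    intro z
    obtain ⟨G, H, rfl⟩ := S.exists_div z
    refine ⟨AdjoinRoot.mk _ G, AdjoinRoot.mk _ H, ?_⟩
    show _ = evalRoot a b x y S.heq _ / evalRoot a b x y S.heq _
    rw [evalRoot_mk, evalRoot_mk]
  let σ₀ : K →+* K := IsFractionRing.lift hφinj
  have hσ₀ : ∀ G : k[X][Y], σ₀ (aevalAeval x y G) =
      aevalAeval (algebraMap k K (u ^ 2) * x) (algebraMap k K (u ^ 3) * y) G := by
    intro G
    have h1 : aevalAeval x y G =
        algebraMap (AdjoinRoot (gpoly a b)) K (AdjoinRoot.mk _ G) := (evalRoot_mk a b x y S.heq G).symm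
    rw [h1]
    show IsFractionRing.lift hφinj _ = _
    rw [IsFractionRing.lift_algebraMap, evalRoot_mk]
  refine ⟨{ σ₀ with commutes' := ?_ }, ?_, ?_⟩
  · intro c
    have h1 : algebraMap k K c = aevalAeval x y (C (C c) : k[X][Y]) := by simp
    show σ₀ (algebraMap k K c) = algebraMap k K c
    rw [h1, hσ₀]
    simp
  · show σ₀ x = _
    have h1 : x = aevalAeval x y (C X : k[X][Y]) := (aevalAeval_X _ _).symm
    conv_lhs => rw [h1]
    rw [hσ₀, aevalAeval_X]
  · show σ₀ y = _
    have h1 : y = aevalAeval x y (Y : k[X][Y]) := (aevalAeval_Y _ _).symm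
    conv_lhs => rw [h1]
    rw [hσ₀, aevalAeval_Y]

/-- the automorphism `(x, y) ↦ (u² x, u³ y)`; it fixes `P` -/
theorem exists_algEquiv {u : k} (hu : u ≠ 0) (ha : a * (u ^ 4 - 1) = 0)
    (hb : b * (u ^ 6 - 1) = 0) :
    ∃ σ : K ≃ₐ[k] K, (∀ z : K, P.1 (σ z) = P.1 z) ∧ σ x = algebraMap k K (u ^ 2) * x ∧
      σ y = algebraMap k K (u ^ 3) * y := by
  classical
  obtain ⟨σ, hσx, hσy⟩ := S.exists_algHom hu ha hb
  have hu2 : u ^ 2 ≠ 0 := pow_ne_zero _ hu
  have hu3 : u ^ 3 ≠ 0 := pow_ne_zero _ hu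
  have hinj : Function.Injective σ := σ.toRingHom.injective
  have hsurj : Function.Surjective σ := by
    rw [← AlgHom.fieldRange_eq_top, eq_top_iff, ← S.hxy, adjoin_le_iff]
    intro w hw
    rcases hw with rfl | rfl
    · refine ⟨algebraMap k K (u ^ 2)⁻¹ * w, ?_⟩
      show σ (algebraMap k K (u ^ 2)⁻¹ * w) = w
      rw [map_mul, σ.commutes, hσx, ← mul_assoc, ← map_mul, inv_mul_cancel₀ hu2, map_one, one_mul]
    · refine ⟨algebraMap k K (u ^ 3)⁻¹ * w, ?_⟩
      show σ (algebraMap k K (u ^ 3)⁻¹ * w) = w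
      rw [map_mul, σ.commutes, hσy, ← mul_assoc, ← map_mul, inv_mul_cancel₀ hu3, map_one, one_mul]
  let e : K ≃ₐ[k] K := AlgEquiv.ofBijective σ ⟨hinj, hsurj⟩
  have hex : e x = algebraMap k K (u ^ 2) * x := hσx
  have hey : e y = algebraMap k K (u ^ 3) * y := hσy
  refine ⟨e, ?_, hex, hey⟩
  have hP : Place.comapEquiv (k := k) (K := k) P e = P := by
    by_contra hne
    have h1 := S.hx (Place.comapEquiv (k := k) (K := k) P e)
    rw [Place.comapEquiv_apply, hex, map_mul,
      val_algebraMap P hu2, one_mul, S.val_x, Finsupp.single_apply, if_neg (Ne.symm hne),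
      exp_le_exp] at h1
    omega
  intro z
  have := congrArg (fun Q : Place k K => Q.1 z) hP
  simpa [Place.comapEquiv_apply] using this

/-- two automorphisms agreeing on `x` and `y` are equal -/
lemma algEquiv_ext {σ τ : K ≃ₐ[k] K} (hx : σ x = τ x) (hy : σ y = τ y) : σ = τ := by
  let E : IntermediateField k K :=
    (AlgHom.equalizer (σ : K →ₐ[k] K) (τ : K →ₐ[k] K)).toIntermediateField (by
      intro z hz
      rw [AlgHom.mem_equalizer] at hz ⊢
      rw [map_inv₀, map_inv₀, hz])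
  have hle : adjoin k ({x, y} : Set K) ≤ E := by
    rw [adjoin_le_iff]
    intro w hw
    rcases hw with rfl | rfl
    · exact hx
    · exact hy
  rw [S.hxy] at hle
  ext z
  exact hle (show z ∈ (⊤ : IntermediateField k K) from trivial)

end Setup

end Construct

section Count

lemma card_pow_eq_one [IsAlgClosed k] {n : ℕ} (hn : (n : k) ≠ 0) :
    Nat.card {u : k // u ^ n = 1} = n := by
  classical
  have hn0 : n ≠ 0 := by
    rintro rfl
    exact hn (by simp)
  have hsep : (X ^ n - C (1 : k)).Separable := separable_X_pow_sub_C 1 hn one_ne_zero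
  have hcard := card_rootSet_eq_natDegree (K := k) hsep (IsAlgClosed.splits _)
  rw [natDegree_X_pow_sub_C] at hcard
  have hp0 : (X ^ n - C (1 : k)) ≠ 0 := hsep.ne_zero
  have hset : (X ^ n - C (1 : k)).rootSet k = {u : k | u ^ n = 1} := by
    ext u
    rw [mem_rootSet_of_ne hp0, Set.mem_ofPred_eq, map_sub, map_pow, aeval_X, aeval_C,
      Algebra.algebraMap_self_apply, sub_eq_zero]
  have h1 : Nat.card {u : k // u ^ n = 1} = Fintype.card ((X ^ n - C (1 : k)).rootSet k) := by
    rw [← Nat.card_eq_fintype_card, hset]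
    rfl
  rw [h1, hcard]

variable {P : Place k K} {a b : k} {x y : K}

/-- the number of automorphisms fixing `P` -/
theorem Setup.card_aut (S : Setup P a b x y) :
    Nat.card {σ : K ≃ₐ[k] K // ∀ z : K, P.1 (σ z) = P.1 z} =
      Nat.card {u : k // u ≠ 0 ∧ a * (u ^ 4 - 1) = 0 ∧ b * (u ^ 6 - 1) = 0} := by
  have hex := fun σ : {σ : K ≃ₐ[k] K // ∀ z : K, P.1 (σ z) = P.1 z} => S.exists_u σ.1 σ.2
  choose Φ hΦ using hex
  have hAinj := (algebraMap k K).injective
  have hx0 := S.x_ne_zero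
  have hy0 := S.y_ne_zero
  -- `u` is determined by `u²` and `u³`
  have huniq : ∀ u v : k, u ≠ 0 → algebraMap k K (u ^ 2) * x = algebraMap k K (v ^ 2) * x →
      algebraMap k K (u ^ 3) * y = algebraMap k K (v ^ 3) * y → u = v := by
    intro u v hu h2 h3
    have e2 : u ^ 2 = v ^ 2 := hAinj (mul_right_cancel₀ hx0 h2)
    have e3 : u ^ 3 = v ^ 3 := hAinj (mul_right_cancel₀ hy0 h3)
    have hu2 : u ^ 2 ≠ 0 := pow_ne_zero _ hu
    have : u ^ 2 * u = u ^ 2 * v := by
      calc u ^ 2 * u = u ^ 3 := by ring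
        _ = v ^ 3 := e3
        _ = v ^ 2 * v := by ring
        _ = u ^ 2 * v := by rw [e2]
    exact mul_left_cancel₀ hu2 this
  refine Nat.card_congr (Equiv.ofBijective
    (fun σ => ⟨Φ σ, (hΦ σ).1, (hΦ σ).2.2.2.1, (hΦ σ).2.2.2.2⟩) ⟨?_, ?_⟩)
  · intro σ τ h
    have hu : Φ σ = Φ τ := congrArg Subtype.val h
    apply Subtype.ext
    apply S.algEquiv_ext
    · rw [(hΦ σ).2.1, (hΦ τ).2.1, hu]
    · rw [(hΦ σ).2.2.1, (hΦ τ).2.2.1, hu]
  · rintro ⟨u, hu0, hua, hub⟩
    obtain ⟨σ, hσ, hσx, hσy⟩ := S.exists_algEquiv hu0 hua hub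
    refine ⟨⟨σ, hσ⟩, ?_⟩
    apply Subtype.ext
    show Φ ⟨σ, hσ⟩ = u
    apply huniq _ _ (hΦ ⟨σ, hσ⟩).1
    · rw [← (hΦ ⟨σ, hσ⟩).2.1, ← hσx]
    · rw [← (hΦ ⟨σ, hσ⟩).2.2.1, ← hσy]

omit [Field K] [Algebra k K] in
lemma card_mu_six [IsAlgClosed k] (h2 : (2 : k) ≠ 0) (h3 : (3 : k) ≠ 0) {a b : k} (ha : a = 0)
    (hb : b ≠ 0) :
    Nat.card {u : k // u ≠ 0 ∧ a * (u ^ 4 - 1) = 0 ∧ b * (u ^ 6 - 1) = 0} = 6 := by
  have h6 : ((6 : ℕ) : k) ≠ 0 := by
    have : ((6 : ℕ) : k) = 2 * 3 := by norm_num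
    rw [this]
    exact mul_ne_zero h2 h3
  refine (Nat.card_congr (Equiv.subtypeEquivRight fun u => ?_)).trans (card_pow_eq_one h6)
  constructor
  · rintro ⟨-, -, h⟩
    rcases mul_eq_zero.mp h with h | h
    · exact absurd h hb
    · exact sub_eq_zero.mp h
  · intro h
    refine ⟨?_, by rw [ha, zero_mul], by rw [h, sub_self, mul_zero]⟩
    rintro rfl
    rw [zero_pow (by norm_num)] at h
    exact zero_ne_one h

omit [Field K] [Algebra k K] in
lemma card_mu_four [IsAlgClosed k] (h2 : (2 : k) ≠ 0) {a b : k} (ha : a ≠ 0) (hb : b = 0) :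
    Nat.card {u : k // u ≠ 0 ∧ a * (u ^ 4 - 1) = 0 ∧ b * (u ^ 6 - 1) = 0} = 4 := by
  have h4 : ((4 : ℕ) : k) ≠ 0 := by
    have : ((4 : ℕ) : k) = 2 * 2 := by norm_num
    rw [this]
    exact mul_ne_zero h2 h2
  refine (Nat.card_congr (Equiv.subtypeEquivRight fun u => ?_)).trans (card_pow_eq_one h4)
  constructor
  · rintro ⟨-, h, -⟩
    rcases mul_eq_zero.mp h with h | h
    · exact absurd h ha
    · exact sub_eq_zero.mp h
  · intro h
    refine ⟨?_, by rw [h, sub_self, mul_zero], by rw [hb, zero_mul]⟩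
    rintro rfl
    rw [zero_pow (by norm_num)] at h
    exact zero_ne_one h

omit [Field K] [Algebra k K] in
lemma card_mu_two [IsAlgClosed k] (h2 : (2 : k) ≠ 0) {a b : k} (ha : a ≠ 0) (hb : b ≠ 0) :
    Nat.card {u : k // u ≠ 0 ∧ a * (u ^ 4 - 1) = 0 ∧ b * (u ^ 6 - 1) = 0} = 2 := by
  have h2' : ((2 : ℕ) : k) ≠ 0 := by
    have : ((2 : ℕ) : k) = 2 := by norm_num
    rw [this]
    exact h2
  refine (Nat.card_congr (Equiv.subtypeEquivRight fun u => ?_)).trans (card_pow_eq_one h2')
  constructor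
  · rintro ⟨-, h4, h6⟩
    have e4 : u ^ 4 = 1 := by
      rcases mul_eq_zero.mp h4 with h | h
      · exact absurd h ha
      · exact sub_eq_zero.mp h
    have e6 : u ^ 6 = 1 := by
      rcases mul_eq_zero.mp h6 with h | h
      · exact absurd h hb
      · exact sub_eq_zero.mp h
    calc u ^ 2 = u ^ 4 * u ^ 2 := by rw [e4, one_mul]
      _ = u ^ 6 := by ring
      _ = 1 := e6
  · intro h
    have e4 : u ^ 4 = 1 := by
      calc u ^ 4 = (u ^ 2) ^ 2 := by ring
        _ = 1 := by rw [h, one_pow]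
    have e6 : u ^ 6 = 1 := by
      calc u ^ 6 = (u ^ 2) ^ 3 := by ring
        _ = 1 := by rw [h, one_pow]
    refine ⟨?_, by rw [e4, sub_self, mul_zero], by rw [e6, sub_self, mul_zero]⟩
    rintro rfl
    rw [zero_pow (by norm_num)] at h
    exact zero_ne_one h

end Count

end Groth.Agent.FF.EllAut
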