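import Groth.Agent.FunFld.Weierstrass

/-!
# Linear series on function fields over algebraically closed fields: vanishing dimensions
-/

set_option autoImplicit false

open FunFld IntermediateField Polynomial WithZero

namespace Groth.Agent.FF

universe u v
variable {k : Type u} {K : Type v} [Field k] [Field K] [Algebra k K]

lemma deg_eq_one_of_isAlgClosed [IsAlgClosed k] (hK : IsFunctionField k K) (P : Place k K) :
    P.deg = 1 := by
  have hfin := finite_residueField hK P
  have hint : @Algebra.IsIntegral k (IsLocalRing.ResidueField P.O) _ _ (Place.algRes P) :=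
    @Algebra.IsIntegral.of_finite k (IsLocalRing.ResidueField P.O) _ _ (Place.algRes P) hfin
  have hsurj : Function.Surjective (@algebraMap k (IsLocalRing.ResidueField P.O) _ _ (Place.algRes P)) :=
    (@IsAlgClosed.algebraMap_bijective_of_isIntegral k (IsLocalRing.ResidueField P.O) _ _ _ _
      (Place.algRes P) hint).2
  unfold Place.deg
  rw [finrank_eq_one_iff']
  refine ⟨1, one_ne_zero, fun w => ?_⟩
  obtain ⟨c, hc⟩ := hsurj w
  refine ⟨c, ?_⟩
  rw [← hc]
  exact (@Algebra.algebraMap_eq_smul_one k (IsLocalRing.ResidueField P.O) _ _ (Place.algRes P) c).symm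

/-- `dim V(-nP)` -/
noncomputable def vdim (V : Submodule k K) (D : Divisor k K) (P : Place k K) (n : ℤ) : ℕ :=
  Module.finrank k ↥(V ⊓ L (D - Finsupp.single P n))

/-- `dim V(-mP-nQ)` -/
noncomputable def vdim2 (V : Submodule k K) (D : Divisor k K) (P Q : Place k K) (m n : ℤ) : ℕ :=
  Module.finrank k ↥(V ⊓ L (D - Finsupp.single P m - Finsupp.single Q n))

/-- a `g^r_d` -/
structure IsGrd (V : Submodule k K) (D : Divisor k K) (r d : ℕ) : Prop where
  le : V ≤ L D
  rank : Module.finrank k ↥V = r + 1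
  deg : D.deg = d

section
variable {V : Submodule k K} {D : Divisor k K} {r d : ℕ}

lemma IsGrd.finite (hK : IsFunctionField k K) (h : IsGrd V D r d) : FiniteDimensional k V := by
  have := finite_L hK D
  exact Submodule.finiteDimensional_of_le h.le

lemma sub_single_le (D : Divisor k K) (P : Place k K) {m n : ℤ} (h : m ≤ n) :
    D - Finsupp.single P n ≤ D - Finsupp.single P m :=
  sub_le_sub_left (single_le_single' h) D

lemma vdim_zero (h : IsGrd V D r d) (P : Place k K) : vdim V D P 0 = r + 1 := by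
  unfold vdim
  rw [Finsupp.single_zero, sub_zero, inf_eq_left.mpr h.le, h.rank]

lemma vdim_antitone (hK : IsFunctionField k K) (h : IsGrd V D r d) (P : Place k K) {m n : ℤ}
    (hmn : m ≤ n) : vdim V D P n ≤ vdim V D P m := by
  have := h.finite hK
  unfold vdim
  exact Submodule.finrank_mono (inf_le_inf_left V (L_mono (sub_single_le D P hmn)))

lemma vdim_le (hK : IsFunctionField k K) (h : IsGrd V D r d) (P : Place k K) (n : ℤ) :
    vdim V D P n ≤ r + 1 := by
  have := h.finite hK
  unfold vdim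
  rw [← h.rank]
  exact Submodule.finrank_mono inf_le_left

lemma vdim_eq_zero [IsAlgClosed k] (hK : IsFunctionField k K) (h : IsGrd V D r d) (P : Place k K)
    {n : ℤ} (hn : (d : ℤ) < n) : vdim V D P n = 0 := by
  unfold vdim
  have hdeg : (D - Finsupp.single P n).deg < 0 := by
    rw [deg_sub, deg_single, h.deg, deg_eq_one_of_isAlgClosed hK P]; push_cast; linarith
  rw [L_eq_bot_of_deg_neg hK _ hdeg, inf_bot_eq]
  simp

lemma vdim2_eq_zero [IsAlgClosed k] (hK : IsFunctionField k K) (h : IsGrd V D r d)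
    (P Q : Place k K) {m n : ℤ} (hn : (d : ℤ) < m + n) : vdim2 V D P Q m n = 0 := by
  unfold vdim2
  have hdeg : (D - Finsupp.single P m - Finsupp.single Q n).deg < 0 := by
    rw [deg_sub, deg_sub, deg_single, deg_single, h.deg, deg_eq_one_of_isAlgClosed hK P,
      deg_eq_one_of_isAlgClosed hK Q]; push_cast; linarith
  rw [L_eq_bot_of_deg_neg hK _ hdeg, inf_bot_eq]
  simp

/-- the dimension inequality `dim V(-mP) + dim V(-nQ) ≤ r + 1 + dim V(-mP-nQ)` -/
lemma vdim_add_le (hK : IsFunctionField k K) (h : IsGrd V D r d) {P Q : Place k K} (hPQ : P ≠ Q)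
    (m n : ℤ) :
    vdim V D P m + vdim V D Q n ≤ r + 1 + vdim2 V D P Q m n := by
  classical
  have hfin := h.finite hK
  unfold vdim vdim2
  set S := V ⊓ L (D - Finsupp.single P m) with hS
  set S' := V ⊓ L (D - Finsupp.single Q n) with hS'
  have hfS : FiniteDimensional k S := Submodule.finiteDimensional_of_le (inf_le_left : S ≤ V)
  have hfS' : FiniteDimensional k S' := Submodule.finiteDimensional_of_le (inf_le_left : S' ≤ V)
  have h1 := Submodule.finrank_sup_add_finrank_inf_eq S S'
  have h2 : Module.finrank k ↥(S ⊔ S') ≤ r + 1 := by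
    rw [← h.rank]
    exact Submodule.finrank_mono (sup_le inf_le_left inf_le_left)
  have hle : S ⊓ S' ≤ V ⊓ L (D - Finsupp.single P m - Finsupp.single Q n) := by
    intro x hx
    refine ⟨hx.1.1, fun R => ?_⟩
    have hxP := hx.1.2 R
    have hxQ := hx.2.2 R
    simp only [Finsupp.sub_apply, Finsupp.single_apply] at hxP hxQ ⊢
    by_cases hRP : P = R
    · have hRQ : ¬ Q = R := fun hq => hPQ (hRP.trans hq.symm)
      simpa [hRP, hRQ] using hxP
    · by_cases hRQ : Q = R
      · simpa [hRP, hRQ] using hxQ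
      · simpa [hRP, hRQ] using hxP
  have hfin2 : FiniteDimensional k ↥(V ⊓ L (D - Finsupp.single P m - Finsupp.single Q n)) :=
    Submodule.finiteDimensional_of_le inf_le_left
  have h3 := Submodule.finrank_mono hle
  omega

/-- two distinct places: `dim V(-mP) + dim V(-nQ) ≤ r + 1` if `m + n > d`. -/
lemma vdim_add_le_of_gt [IsAlgClosed k] (hK : IsFunctionField k K) (h : IsGrd V D r d)
    {P Q : Place k K} (hPQ : P ≠ Q) {m n : ℤ} (hmn : (d : ℤ) < m + n) :
    vdim V D P m + vdim V D Q n ≤ r + 1 := by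
  have := vdim_add_le hK h hPQ m n
  rw [vdim2_eq_zero hK h P Q hmn] at this
  simpa using this

/-- the sum `∑_{n=1}^{d} dim V(-nP)` -/
noncomputable def Wt (V : Submodule k K) (D : Divisor k K) (P : Place k K) (d : ℕ) : ℕ :=
  ∑ n ∈ Finset.range d, vdim V D P ((n : ℤ) + 1)

lemma Wt_reflect (V : Submodule k K) (D : Divisor k K) (P : Place k K) (d : ℕ) :
    Wt V D P d = ∑ n ∈ Finset.range d, vdim V D P ((d : ℤ) - n) := by
  unfold Wt
  rw [← Finset.sum_range_reflect]
  apply Finset.sum_congr rfl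
  intro j hj
  rw [Finset.mem_range] at hj
  congr 1
  omega

lemma sum_vdim_eq (h : IsGrd V D r d) (P : Place k K) :
    ∑ n ∈ Finset.range (d + 1), vdim V D P (n : ℤ) = r + 1 + Wt V D P d := by
  rw [Finset.sum_range_succ', Nat.cast_zero, vdim_zero h P, add_comm]
  congr 1

lemma sum_vdim_reflect_eq (h : IsGrd V D r d) (P : Place k K) :
    ∑ n ∈ Finset.range (d + 1), vdim V D P ((d : ℤ) - n) = r + 1 + Wt V D P d := by
  rw [← sum_vdim_eq h P, ← Finset.sum_range_reflect]
  apply Finset.sum_congr rfl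
  intro j hj
  rw [Finset.mem_range] at hj
  congr 1
  omega

/-- two distinct places: `W(P) + W(Q) ≤ (r+1) d` -/
lemma Wt_add_le [IsAlgClosed k] (hK : IsFunctionField k K) (h : IsGrd V D r d)
    {P Q : Place k K} (hPQ : P ≠ Q) : Wt V D P d + Wt V D Q d ≤ (r + 1) * d := by
  rw [Wt_reflect V D Q d]
  unfold Wt
  rw [← Finset.sum_add_distrib]
  calc ∑ n ∈ Finset.range d, (vdim V D P ((n : ℤ) + 1) + vdim V D Q ((d : ℤ) - n))
      ≤ ∑ _n ∈ Finset.range d, (r + 1) := by
        apply Finset.sum_le_sum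
        intro n _
        exact vdim_add_le_of_gt hK h hPQ (by linarith)
    _ = (r + 1) * d := by rw [Finset.sum_const, Finset.card_range, smul_eq_mul, mul_comm]

/-- refined two-place inequality with the spaces `V(-nP-(d-n)Q)` -/
lemma Wt_add_le_sum_vdim2 (hK : IsFunctionField k K) (h : IsGrd V D r d)
    {P Q : Place k K} (hPQ : P ≠ Q) :
    Wt V D P d + Wt V D Q d + (r + 1) ≤
      (r + 1) * d + ∑ n ∈ Finset.range (d + 1), vdim2 V D P Q (n : ℤ) ((d : ℤ) - n) := by
  have h1 := sum_vdim_eq h P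
  have h2 := sum_vdim_reflect_eq h Q
  have h3 : ∑ n ∈ Finset.range (d + 1), (vdim V D P (n : ℤ) + vdim V D Q ((d : ℤ) - n)) ≤
      ∑ n ∈ Finset.range (d + 1), (r + 1 + vdim2 V D P Q (n : ℤ) ((d : ℤ) - n)) :=
    Finset.sum_le_sum fun n _ => vdim_add_le hK h hPQ _ _
  rw [Finset.sum_add_distrib, Finset.sum_add_distrib, h1, h2, Finset.sum_const, Finset.card_range,
    smul_eq_mul] at h3
  have : (d + 1) * (r + 1) = (r + 1) * d + (r + 1) := by ring
  omega

end

end Groth.Agent.FF

namespace Groth.Agent.FF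

universe u v w
variable {k : Type u} [Field k]

/-- compatibility at a node gives `W_Y(P) + W_Z(Q) = (r+1) d`. -/
lemma Wt_add_eq_of_compat {KY : Type v} {KZ : Type w} [Field KY] [Field KZ] [Algebra k KY]
    [Algebra k KZ] (VY : Submodule k KY) (DY : Divisor k KY) (P : Place k KY)
    (VZ : Submodule k KZ) (DZ : Divisor k KZ) (Q : Place k KZ) (d r : ℕ)
    (hcomp : ∀ m : ℕ, m ≤ d + 1 →
      Module.finrank k ↥(VY ⊓ L (DY - Finsupp.single P ((m : ℤ)))) +
        Module.finrank k ↥(VZ ⊓ L (DZ - Finsupp.single Q ((d : ℤ) + 1 - m))) = r + 1) :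
    Wt VY DY P d + Wt VZ DZ Q d = (r + 1) * d := by
  rw [Wt_reflect VZ DZ Q d]
  unfold Wt
  rw [← Finset.sum_add_distrib]
  calc ∑ n ∈ Finset.range d, (vdim VY DY P ((n : ℤ) + 1) + vdim VZ DZ Q ((d : ℤ) - n))
      = ∑ _n ∈ Finset.range d, (r + 1) := by
        apply Finset.sum_congr rfl
        intro n hn
        rw [Finset.mem_range] at hn
        have := hcomp (n + 1) (by omega)
        have hcast : ((d : ℤ) + 1 - ((n + 1 : ℕ) : ℤ)) = (d : ℤ) - n := by push_cast; ring
        rw [hcast] at this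
        have hcast2 : (((n + 1 : ℕ) : ℤ)) = (n : ℤ) + 1 := by push_cast; ring
        rw [hcast2] at this
        exact this
    _ = (r + 1) * d := by rw [Finset.sum_const, Finset.card_range, smul_eq_mul, mul_comm]

/-- `r (r+1) / 2 * 2 = r (r+1)` -/
lemma tri_mul_two (r : ℕ) : r * (r + 1) / 2 * 2 = r * (r + 1) := by
  have : 2 ∣ r * (r + 1) := (Nat.even_mul_succ_self r).two_dvd
  exact Nat.div_mul_cancel this

end Groth.Agent.FF

namespace Groth.Agent.FF

/-- abstract chain argument: weights at the upper nodes stay at least `c`. -/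
lemma chain_wA_ge (n : ℕ) (wA wB : ℕ → ℕ) (M c : ℕ)
    (hcompat : ∀ j, j < n → wB j + wA (j + 1) = M)
    (htwo : ∀ j, 0 < j → j < n → wA j + wB j ≤ M)
    (h0 : wB 0 + c ≤ M) : ∀ j, 0 < j → j ≤ n → c ≤ wA j := by
  intro j
  induction j with
  | zero => intro h; exact absurd h (lt_irrefl 0)
  | succ j ih =>
    intro _ hj
    have hc := hcompat j (by omega)
    rcases Nat.eq_zero_or_pos j with rfl | hpos
    · omega
    · have := ih hpos (by omega)
      have := htwo j hpos (by omega)
      omega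

end Groth.Agent.FF
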