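import Groth.Agent.FunFld.Weierstrass
import Groth.Agent.FunFld.LinSeries

/-!
# Weights of hyperplanes of `L(gA)` on an elliptic function field
-/

set_option autoImplicit false

open FunFld IntermediateField Polynomial WithZero

namespace Groth.Agent.FF

universe u v
variable {k : Type u} {K : Type v} [Field k] [Field K] [Algebra k K]

section atA

variable [IsAlgClosed k] (hK : IsFunctionField k K) (hg1 : genus k K = 1) (A : Place k K)
  (t : ℕ) (V₁ : Submodule k K)
  (hlo : L (Finsupp.single A ((t : ℤ) + 1) : Divisor k K) ≤ V₁)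
  (hhi : V₁ ≤ L (Finsupp.single A ((t : ℤ) + 3) : Divisor k K))
  (hdim : Module.finrank k ↥V₁ = t + 2)

omit [IsAlgClosed k] in
include hhi in
lemma inf_eq_left_of_ge {m : ℕ} (hm : t + 3 ≤ m) :
    V₁ ⊓ L (Finsupp.single A (m : ℤ) : Divisor k K) = V₁ :=
  inf_eq_left.mpr (hhi.trans (L_mono (single_le_single' (by exact_mod_cast hm))))

omit [IsAlgClosed k] in
include hlo in
lemma inf_eq_right_of_le {m : ℕ} (hm : m ≤ t + 1) :
    V₁ ⊓ L (Finsupp.single A (m : ℤ) : Divisor k K) = L (Finsupp.single A (m : ℤ)) :=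
  inf_eq_right.mpr ((L_mono (single_le_single' (by exact_mod_cast hm))).trans hlo)

include hK hg1 hlo in
lemma finrank_inf_of_le {m : ℕ} (hm : m ≤ t + 1) :
    Module.finrank k ↥(V₁ ⊓ L (Finsupp.single A (m : ℤ) : Divisor k K)) =
      if m = 0 then 1 else m := by
  rw [inf_eq_right_of_le A t V₁ hlo hm]
  have hA := deg_eq_one_of_isAlgClosed hK A
  split_ifs with h0
  · subst h0
    have := ell_zero hK (k := k) (K := K)
    rw [Nat.cast_zero, Finsupp.single_zero]
    exact this
  · exact ell_single_of_genus_one hK hg1 hA (by omega)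

include hK hg1 hlo hhi hdim in
lemma finrank_inf_mid :
    t + 1 ≤ Module.finrank k ↥(V₁ ⊓ L (Finsupp.single A ((t + 2 : ℕ) : ℤ) : Divisor k K)) ∧
    Module.finrank k ↥(V₁ ⊓ L (Finsupp.single A ((t + 2 : ℕ) : ℤ) : Divisor k K)) ≤ t + 2 := by
  have hfinV : FiniteDimensional k V₁ := by
    have := finite_L hK (Finsupp.single A ((t : ℤ) + 3) : Divisor k K)
    exact Submodule.finiteDimensional_of_le hhi
  constructor
  · have hle : L (Finsupp.single A ((t : ℤ) + 1) : Divisor k K) ≤
        V₁ ⊓ L (Finsupp.single A ((t + 2 : ℕ) : ℤ) : Divisor k K) :=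
      le_inf hlo (L_mono (single_le_single' (by push_cast; omega)))
    have hfin2 : FiniteDimensional k ↥(V₁ ⊓ L (Finsupp.single A ((t + 2 : ℕ) : ℤ) : Divisor k K)) :=
      Submodule.finiteDimensional_of_le inf_le_left
    have h1 := Submodule.finrank_mono hle
    have hA := deg_eq_one_of_isAlgClosed hK A
    have h2 : Module.finrank k ↥(L (Finsupp.single A ((t : ℤ) + 1) : Divisor k K)) = t + 1 := by
      have := ell_single_of_genus_one hK hg1 hA (n := t + 1) (by omega)
      simpa [ell] using this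
    omega
  · have h1 := Submodule.finrank_mono (inf_le_left :
      V₁ ⊓ L (Finsupp.single A ((t + 2 : ℕ) : ℤ) : Divisor k K) ≤ V₁)
    omega

include hK hg1 hlo hhi hdim in
/-- the sum of the dimensions `dim (V₁ ∩ L(mA))`, `0 ≤ m < 2g - 2` -/
theorem sum_finrank_inf_atA :
    ∃ ε : ℕ, ε ≤ 1 ∧
      ∑ m ∈ Finset.range (2 * t + 4),
        Module.finrank k ↥(V₁ ⊓ L (Finsupp.single A (m : ℤ) : Divisor k K)) =
      (t + 2).choose 2 + (t + 2) ^ 2 + ε := by
  obtain ⟨hmid1, hmid2⟩ := finrank_inf_mid hK hg1 A t V₁ hlo hhi hdim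
  refine ⟨Module.finrank k ↥(V₁ ⊓ L (Finsupp.single A ((t + 2 : ℕ) : ℤ) : Divisor k K)) - (t + 1),
    by omega, ?_⟩
  have e : 2 * t + 4 = (t + 2 + 1) + (t + 1) := by ring
  rw [e, Finset.sum_range_add, Finset.sum_range_succ]
  have hS1 : ∑ m ∈ Finset.range (t + 2),
      Module.finrank k ↥(V₁ ⊓ L (Finsupp.single A (m : ℤ) : Divisor k K)) =
      (t + 2).choose 2 + 1 := by
    rw [Finset.sum_congr rfl (fun m hm =>
      finrank_inf_of_le hK hg1 A t V₁ hlo (by rw [Finset.mem_range] at hm; omega))]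
    rw [Finset.sum_range_succ', if_pos rfl]
    congr 1
    rw [Nat.choose_two_right, ← Finset.sum_range_id, Finset.sum_range_succ' (fun i => i)]
    simp
  have hS3 : ∑ j ∈ Finset.range (t + 1),
      Module.finrank k ↥(V₁ ⊓ L (Finsupp.single A ((t + 2 + 1 + j : ℕ) : ℤ) : Divisor k K)) =
      (t + 1) * (t + 2) := by
    rw [Finset.sum_congr rfl (fun j _ => by
      rw [inf_eq_left_of_ge A t V₁ hhi (by omega), hdim])]
    simp
  rw [hS1, hS3]
  have : (t + 2) ^ 2 = 1 + (t + 1) + (t + 1) * (t + 2) := by ring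
  omega

end atA

end Groth.Agent.FF
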