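import Groth.Agent.FunFld.StrongApprox

/-!
# Genus one function fields
-/

set_option autoImplicit false

open FunFld IntermediateField Polynomial WithZero

namespace Groth.Agent.FF

universe u v
variable {k : Type u} {K : Type v} [Field k] [Field K] [Algebra k K]

lemma div_mul (hK : IsFunctionField k K) {x y : K} (hx : x ≠ 0) (hy : y ≠ 0) :
    FunFld.div k (x * y) = FunFld.div k x + FunFld.div k y := by
  ext P
  rw [Finsupp.add_apply, div_apply hK, div_apply hK, div_apply hK, ord_mul P hx hy]

lemma div_one (hK : IsFunctionField k K) : FunFld.div k (1 : K) = 0 := by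
  have := div_algebraMap (k := k) (K := K) hK 1
  simpa using this

/-- an effective divisor of degree one is a place of degree one -/
lemma eq_single_of_nonneg_of_deg_eq_one (hK : IsFunctionField k K) {E : Divisor k K}
    (hE : 0 ≤ E) (hdeg : E.deg = 1) : ∃ P : Place k K, P.deg = 1 ∧ E = Finsupp.single P 1 := by
  classical
  have hE0 : E ≠ 0 := by
    rintro rfl
    rw [deg_zero] at hdeg
    exact zero_ne_one hdeg
  obtain ⟨P, hP⟩ : ∃ P, E P ≠ 0 := by
    by_contra hn
    push Not at hn
    exact hE0 (Finsupp.ext hn)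
  have hP1 : 1 ≤ E P := by
    have := hE P
    rw [Finsupp.zero_apply] at this
    omega
  have hle : (0 : Divisor k K) ≤ E - Finsupp.single P 1 := by
    intro Q
    rw [Finsupp.zero_apply, Finsupp.sub_apply, Finsupp.single_apply]
    split_ifs with h
    · subst h; linarith
    · have := hE Q
      rw [Finsupp.zero_apply] at this
      linarith
  have hdeg' : (E - Finsupp.single P 1).deg = 1 - (P.deg : ℤ) := by
    rw [deg_sub, deg_single, hdeg]; ring
  have h0 := deg_nonneg_of_nonneg hle
  have hpos : (1 : ℤ) ≤ P.deg := by exact_mod_cast deg_pos hK P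
  have hPdeg : (P.deg : ℤ) = 1 := by linarith
  refine ⟨P, by exact_mod_cast hPdeg, ?_⟩
  by_contra hne
  have hlt : (0 : Divisor k K) < E - Finsupp.single P 1 := by
    refine lt_of_le_of_ne hle ?_
    intro h
    apply hne
    have := sub_eq_zero.mp h.symm
    exact this
  have := deg_lt_of_lt hK hlt
  rw [deg_zero, hdeg', hPdeg] at this
  exact lt_irrefl (0 : ℤ) (by simpa using this)

/-- `ℓ(D) = deg D` in genus one for `deg D ≥ 1`. -/
lemma ell_eq_deg_of_genus_one (hK : IsFunctionField k K) (hg : genus k K = 1) (D : Divisor k K)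
    (h : 1 ≤ D.deg) : (ell D : ℤ) = D.deg := by
  rw [ell_eq_of_deg_ge hK D (by rw [hg]; simpa using h), hg]; simp

/-- elements of `L(D)` for `ℓ(D) = 1` containing `1` are constants -/
lemma mem_L_of_ell_eq_one (hK : IsFunctionField k K) {D : Divisor k K} (hell : ell D = 1)
    {z : K} (hz0 : z ≠ 0) (hz : z ∈ L D) {w : K} (hw : w ∈ L D) : ∃ c : k, w = c • z := by
  have := finite_L hK D
  have h1 : Module.finrank k (L D) = 1 := hell
  have hz' : (⟨z, hz⟩ : L D) ≠ 0 := by
    intro h
    apply hz0
    exact congrArg Subtype.val h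
  obtain ⟨c, hc⟩ := (finrank_eq_one_iff_of_nonzero' (⟨z, hz⟩ : L D) hz').mp h1 ⟨w, hw⟩
  exact ⟨c, by simpa using (congrArg Subtype.val hc).symm⟩

theorem existsUnique_place_of_deg_zero (hK : IsFunctionField k K) (hg : genus k K = 1)
    (P₀ : Place k K) (hP : P₀.deg = 1) (D : Divisor k K) (hD : D.deg = 0) :
    ∃! P : Place k K, P.deg = 1 ∧
      ∃ x : K, x ≠ 0 ∧ D = Finsupp.single P 1 - Finsupp.single P₀ 1 + FunFld.div k x := by
  classical
  have hdeg1 : (D + Finsupp.single P₀ 1).deg = 1 := by
    rw [deg_add, deg_single, hD, hP]; simp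
  have hell : (ell (D + Finsupp.single P₀ 1) : ℤ) = 1 := by
    rw [ell_eq_deg_of_genus_one hK hg _ (by rw [hdeg1]), hdeg1]
  obtain ⟨z, hz0, hz⟩ := exists_ne_zero_mem_L (D := D + Finsupp.single P₀ 1)
    (by have : ell (D + Finsupp.single P₀ 1) = 1 := by exact_mod_cast hell
        omega)
  have hE := (mem_L_iff_div hK _ hz0).mp hz
  have hEdeg : (D + Finsupp.single P₀ 1 + FunFld.div k z).deg = 1 := by
    rw [deg_add, deg_div_eq_zero hK, hdeg1]; simp
  obtain ⟨P, hPdeg, hPE⟩ := eq_single_of_nonneg_of_deg_eq_one hK hE hEdeg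
  refine ⟨P, ⟨hPdeg, z⁻¹, inv_ne_zero hz0, ?_⟩, ?_⟩
  · rw [div_inv hK, ← hPE]; abel
  · rintro P' ⟨hP'deg, x, hx0, hx⟩
    -- single P' 1 - single P 1 = div (z⁻¹ / x)
    have h1 : Finsupp.single P 1 = D + Finsupp.single P₀ 1 + FunFld.div k z := hPE.symm
    have h2 : (Finsupp.single P' 1 : Divisor k K) + FunFld.div k (x * z) = Finsupp.single P 1 := by
      rw [div_mul hK hx0 hz0, h1]
      conv_rhs => rw [hx]
      abel
    have hxz : x * z ≠ 0 := mul_ne_zero hx0 hz0
    have hmem : x * z ∈ L (Finsupp.single P' 1 : Divisor k K) := by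
      rw [mem_L_iff_div hK _ hxz, h2]
      intro Q
      rw [Finsupp.zero_apply, Finsupp.single_apply]
      split_ifs <;> simp
    have hone : (1 : K) ∈ L (Finsupp.single P' 1 : Divisor k K) := by
      rw [mem_L_iff_div hK _ one_ne_zero, div_one hK, add_zero]
      intro Q
      rw [Finsupp.zero_apply, Finsupp.single_apply]
      split_ifs <;> simp
    have hell' : ell (Finsupp.single P' 1 : Divisor k K) = 1 := by
      have hd : Divisor.deg (Finsupp.single P' 1 : Divisor k K) = 1 := by
        rw [deg_single, hP'deg]; simp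
      have := ell_eq_deg_of_genus_one hK hg _ (by rw [hd])
      rw [hd] at this
      exact_mod_cast this
    obtain ⟨c, hc⟩ := mem_L_of_ell_eq_one hK hell' one_ne_zero hone hmem
    have hc0 : c ≠ 0 := by
      rintro rfl
      rw [zero_smul] at hc
      exact hxz hc
    have hdiv0 : FunFld.div k (x * z) = 0 := by
      rw [hc, Algebra.smul_def, mul_one, div_algebraMap hK]
    rw [hdiv0, add_zero] at h2
    have := Finsupp.single_left_injective (one_ne_zero : (1 : ℤ) ≠ 0) h2
    exact this

end Groth.Agent.FF
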