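import Groth.Agent.FunFld.LinSeries2

/-!
# Linear series: sections with divisor supported on two places
-/

set_option autoImplicit false

open FunFld IntermediateField Polynomial WithZero

namespace Groth.Agent.FF

universe u v
variable {k : Type u} {K : Type v} [Field k] [Field K] [Algebra k K]
variable {V : Submodule k K} {D : Divisor k K} {r d : ℕ}

lemma ell_le_one_of_deg_zero (hK : IsFunctionField k K) {E : Divisor k K} (hE : E.deg = 0) :
    ell E ≤ 1 := by
  by_contra hlt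
  obtain ⟨z, hz0, hz⟩ := exists_ne_zero_mem_L (D := E) (by omega)
  have h1 := eq_neg_div_of_deg_zero hK hE hz0 hz
  have h2 := ell_add_div hK E hz0
  rw [h1, ell_zero hK] at h2
  omega

lemma deg_sub_single_single [IsAlgClosed k] (hK : IsFunctionField k K) (h : IsGrd V D r d)
    (P Q : Place k K) (m n : ℤ) :
    (D - Finsupp.single P m - Finsupp.single Q n).deg = (d : ℤ) - m - n := by
  rw [deg_sub, deg_sub, deg_single, deg_single, h.deg, deg_eq_one_of_isAlgClosed hK P,
    deg_eq_one_of_isAlgClosed hK Q]; push_cast; ring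

lemma vdim2_le_one [IsAlgClosed k] (hK : IsFunctionField k K) (h : IsGrd V D r d)
    (P Q : Place k K) {m n : ℤ} (hmn : m + n = d) : vdim2 V D P Q m n ≤ 1 := by
  unfold vdim2
  have hdeg : (D - Finsupp.single P m - Finsupp.single Q n).deg = 0 := by
    rw [deg_sub_single_single hK h]; linarith
  have h1 := ell_le_one_of_deg_zero hK hdeg
  have hfin := finite_L hK (D - Finsupp.single P m - Finsupp.single Q n)
  have h2 : Module.finrank k ↥(V ⊓ L (D - Finsupp.single P m - Finsupp.single Q n)) ≤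
      Module.finrank k ↥(L (D - Finsupp.single P m - Finsupp.single Q n)) :=
    Submodule.finrank_mono inf_le_right
  unfold ell at h1
  omega

lemma exists_mem_of_vdim2_pos {P Q : Place k K} {m n : ℤ} (h0 : 0 < vdim2 V D P Q m n) :
    ∃ f : K, f ≠ 0 ∧ f ∈ V ∧ f ∈ L (D - Finsupp.single P m - Finsupp.single Q n) := by
  unfold vdim2 at h0
  have hnt : Nontrivial ↥(V ⊓ L (D - Finsupp.single P m - Finsupp.single Q n)) :=
    Module.nontrivial_of_finrank_pos h0
  obtain ⟨⟨f, hf⟩, hf0⟩ := exists_ne (0 : ↥(V ⊓ L (D - Finsupp.single P m - Finsupp.single Q n)))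
  refine ⟨f, ?_, hf.1, hf.2⟩
  intro h
  apply hf0
  exact Subtype.ext h

lemma div_eq_of_mem_L_deg_zero [IsAlgClosed k] (hK : IsFunctionField k K) (h : IsGrd V D r d)
    {P Q : Place k K} {m n : ℤ} (hmn : m + n = d) {f : K} (hf0 : f ≠ 0)
    (hf : f ∈ L (D - Finsupp.single P m - Finsupp.single Q n)) :
    FunFld.div k f + D = Finsupp.single P m + Finsupp.single Q n := by
  have hdeg : (D - Finsupp.single P m - Finsupp.single Q n).deg = 0 := by
    rw [deg_sub_single_single hK h]; linarith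
  have h1 := eq_neg_div_of_deg_zero hK hdeg hf0 hf
  have : FunFld.div k f + D - (Finsupp.single P m + Finsupp.single Q n) = 0 := by
    rw [← h1]; abel
  exact sub_eq_zero.mp this

/-- conversely a section with divisor `mP + nQ` lies in `V(-mP-nQ)` -/
lemma vdim2_pos_of_div_eq (hK : IsFunctionField k K) {P Q : Place k K} {m n : ℤ} {f : K}
    (hf0 : f ≠ 0) (hfV : f ∈ V)
    (hdiv : FunFld.div k f + D = Finsupp.single P m + Finsupp.single Q n) :
    0 < vdim2 V D P Q m n := by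
  unfold vdim2
  have hmem : f ∈ V ⊓ L (D - Finsupp.single P m - Finsupp.single Q n) := by
    refine ⟨hfV, ?_⟩
    show f ∈ L (D - Finsupp.single P m - Finsupp.single Q n)
    rw [mem_L_iff_div hK _ hf0]
    have : D - Finsupp.single P m - Finsupp.single Q n + FunFld.div k f = 0 := by
      have : D - Finsupp.single P m - Finsupp.single Q n + FunFld.div k f =
        (FunFld.div k f + D) - (Finsupp.single P m + Finsupp.single Q n) := by abel
      rw [this, hdiv, sub_self]
    rw [this]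
  have hfin : FiniteDimensional k ↥(V ⊓ L (D - Finsupp.single P m - Finsupp.single Q n)) := by
    have := finite_L hK (D - Finsupp.single P m - Finsupp.single Q n)
    exact Submodule.finiteDimensional_of_le inf_le_right
  have hnt : Nontrivial ↥(V ⊓ L (D - Finsupp.single P m - Finsupp.single Q n)) :=
    ⟨⟨⟨f, hmem⟩, 0, fun h => hf0 (congrArg Subtype.val h)⟩⟩
  exact Module.finrank_pos

/-- combinatorial: a sum of `0/1` values at least two has two distinct nonzero terms -/
lemma exists_two_of_sum_ge_two (s : Finset ℕ) (f : ℕ → ℕ) (h2 : 2 ≤ ∑ n ∈ s, f n)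
    (h1 : ∀ n ∈ s, f n ≤ 1) : ∃ n₁ ∈ s, ∃ n₂ ∈ s, n₁ < n₂ ∧ 0 < f n₁ ∧ 0 < f n₂ := by
  classical
  obtain ⟨a, ha, hfa⟩ : ∃ a ∈ s, f a ≠ 0 := by
    apply Finset.exists_ne_zero_of_sum_ne_zero
    omega
  have hsum := Finset.add_sum_erase s f ha
  have hfa1 := h1 a ha
  obtain ⟨b, hb, hfb⟩ : ∃ b ∈ s.erase a, f b ≠ 0 := by
    apply Finset.exists_ne_zero_of_sum_ne_zero
    omega
  rw [Finset.mem_erase] at hb
  rcases lt_or_gt_of_ne hb.1 with hlt | hgt
  · exact ⟨b, hb.2, a, ha, hlt, by omega, by omega⟩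
  · exact ⟨a, ha, b, hb.2, hgt, by omega, by omega⟩

/-- large weights at two places force a torsion relation -/
theorem exists_div_eq_of_weights_large [IsAlgClosed k] (hK : IsFunctionField k K)
    (h : IsGrd V D r d) {P Q : Place k K} (hPQ : P ≠ Q)
    (hw : (r + 1) * d + 1 ≤ Wt V D P d + Wt V D Q d + r) :
    ∃ m : ℕ, 1 ≤ m ∧ m ≤ d ∧ ∃ x : K, x ≠ 0 ∧
      FunFld.div k x = Finsupp.single Q (m : ℤ) - Finsupp.single P (m : ℤ) := by
  have h1 := Wt_add_le_sum_vdim2 hK h hPQ
  have h2 : 2 ≤ ∑ n ∈ Finset.range (d + 1), vdim2 V D P Q (n : ℤ) ((d : ℤ) - n) := by omega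
  obtain ⟨n₁, hn₁, n₂, hn₂, hlt, hp₁, hp₂⟩ := exists_two_of_sum_ge_two _ _ h2
    (fun n _ => vdim2_le_one hK h P Q (by ring))
  rw [Finset.mem_range] at hn₁ hn₂
  obtain ⟨f₁, hf₁0, -, hf₁⟩ := exists_mem_of_vdim2_pos hp₁
  obtain ⟨f₂, hf₂0, -, hf₂⟩ := exists_mem_of_vdim2_pos hp₂
  have hd₁ := div_eq_of_mem_L_deg_zero hK h (by ring) hf₁0 hf₁
  have hd₂ := div_eq_of_mem_L_deg_zero hK h (by ring) hf₂0 hf₂
  refine ⟨n₂ - n₁, by omega, by omega, f₁ * f₂⁻¹, mul_ne_zero hf₁0 (inv_ne_zero hf₂0), ?_⟩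
  rw [div_mul hK hf₁0 (inv_ne_zero hf₂0), div_inv hK]
  have e1 : FunFld.div k f₁ = Finsupp.single P (n₁ : ℤ) + Finsupp.single Q ((d : ℤ) - n₁) - D := by
    rw [← hd₁]; abel
  have e2 : FunFld.div k f₂ = Finsupp.single P (n₂ : ℤ) + Finsupp.single Q ((d : ℤ) - n₂) - D := by
    rw [← hd₂]; abel
  rw [e1, e2]
  have hc : ((n₂ - n₁ : ℕ) : ℤ) = (n₂ : ℤ) - n₁ := by omega
  rw [hc, Finsupp.single_sub, Finsupp.single_sub, Finsupp.single_sub, Finsupp.single_sub]
  abel

end Groth.Agent.FF
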