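import Groth.Agent.FunFld.EllWeights
import Groth.Agent.FunFld.LinSeries3
import Groth.Agent.FunFld.Elliptic

/-!
# Weights of hyperplanes of `L(gA)` on an elliptic function field at a place `Q ≠ A`
-/

set_option autoImplicit false

open FunFld IntermediateField Polynomial WithZero

namespace Groth.Agent.FF

universe u v
variable {k : Type u} {K : Type v} [Field k] [Field K] [Algebra k K]

/-- the subgroup of principal divisors -/
noncomputable def prin (hK : IsFunctionField k K) : AddSubgroup (Divisor k K) where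
  carrier := {D | ∃ x : K, x ≠ 0 ∧ D = FunFld.div k x}
  zero_mem' := ⟨1, one_ne_zero, (div_one hK).symm⟩
  add_mem' := by
    rintro _ _ ⟨x, hx, rfl⟩ ⟨y, hy, rfl⟩
    exact ⟨x * y, mul_ne_zero hx hy, (div_mul hK hx hy).symm⟩
  neg_mem' := by
    rintro _ ⟨x, hx, rfl⟩
    exact ⟨x⁻¹, inv_ne_zero hx, (div_inv hK x).symm⟩

lemma mem_prin_of_ell_pos (hK : IsFunctionField k K) {D : Divisor k K} (hdeg : D.deg = 0)
    (hell : 0 < ell D) : D ∈ prin hK := by
  obtain ⟨z, hz0, hz⟩ := exists_ne_zero_mem_L hell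
  have h := eq_neg_div_of_deg_zero hK hdeg hz0 hz
  have hD : D = -FunFld.div k z := eq_neg_of_add_eq_zero_left h
  rw [hD]
  exact (prin hK).neg_mem ⟨z, hz0, rfl⟩

/-- on a curve of genus one distinct places of degree one are not linearly equivalent -/
lemma single_sub_single_notMem_prin (hK : IsFunctionField k K) (hg1 : genus k K = 1)
    {A Q : Place k K} (hQ1 : Q.deg = 1) (hQA : Q ≠ A) :
    (Finsupp.single A 1 - Finsupp.single Q 1 : Divisor k K) ∉ prin hK := by
  classical
  rintro ⟨h, hh0, hh⟩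
  have hmem : h ∈ L (Finsupp.single Q 1 : Divisor k K) := by
    rw [mem_L_iff_div hK _ hh0, ← hh]
    intro P
    simp only [Finsupp.coe_zero, Pi.zero_apply, Finsupp.coe_add, Finsupp.coe_sub, Pi.add_apply,
      Pi.sub_apply, Finsupp.single_apply]
    split_ifs <;> norm_num
  have hell : ell (Finsupp.single Q ((1 : ℕ) : ℤ) : Divisor k K) = 1 :=
    ell_single_of_genus_one hK hg1 hQ1 le_rfl
  rw [Nat.cast_one] at hell
  have h1mem : (1 : K) ∈ L (Finsupp.single Q 1 : Divisor k K) := by
    intro P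
    rw [map_one, ← exp_zero, exp_le_exp, Finsupp.single_apply]
    split_ifs <;> norm_num
  obtain ⟨c, hc⟩ := mem_L_of_ell_eq_one hK hell one_ne_zero h1mem hmem
  have hc' : h = algebraMap k K c := by rw [hc, Algebra.smul_def, mul_one]
  rw [hc', div_algebraMap hK] at hh
  have := DFunLike.congr_fun hh A
  simp only [Finsupp.coe_sub, Pi.sub_apply, Finsupp.single_eq_same, Finsupp.coe_zero,
    Pi.zero_apply, Finsupp.single_apply] at this
  rw [if_neg hQA] at this
  norm_num at this

/-- `(t+1)(A - Q)` and `(t+3)(A - Q)` are not both principal for `t` even -/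
lemma not_both_prin (hK : IsFunctionField k K) (hg1 : genus k K = 1)
    {A Q : Place k K} (hQ1 : Q.deg = 1) (hQA : Q ≠ A) {t : ℕ} (ht : Even t)
    (h1 : (Finsupp.single A ((t : ℤ) + 1) - Finsupp.single Q ((t : ℤ) + 1) : Divisor k K) ∈ prin hK)
    (h2 : (Finsupp.single A ((t : ℤ) + 3) - Finsupp.single Q ((t : ℤ) + 3) : Divisor k K) ∈ prin hK) :
    False := by
  classical
  obtain ⟨s, hs⟩ := ht
  apply single_sub_single_notMem_prin hK hg1 hQ1 hQA
  have e : (Finsupp.single A 1 - Finsupp.single Q 1 : Divisor k K) =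
      (Finsupp.single A ((t : ℤ) + 1) - Finsupp.single Q ((t : ℤ) + 1)) -
      (s : ℤ) • ((Finsupp.single A ((t : ℤ) + 3) - Finsupp.single Q ((t : ℤ) + 3)) -
        (Finsupp.single A ((t : ℤ) + 1) - Finsupp.single Q ((t : ℤ) + 1))) := by
    ext P
    simp only [Finsupp.coe_sub, Pi.sub_apply, Finsupp.coe_smul, Pi.smul_apply, smul_eq_mul,
      Finsupp.single_apply]
    subst hs
    split_ifs <;> push_cast <;> ring
  rw [e]
  exact (prin hK).sub_mem h1 ((prin hK).zsmul_mem ((prin hK).sub_mem h2 h1) _)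

end Groth.Agent.FF

namespace Groth.Agent.FF

universe u v
variable {k : Type u} {K : Type v} [Field k] [Field K] [Algebra k K]

lemma inf_le_L_sub {A Q : Place k K} (hQA : Q ≠ A) {V : Submodule k K} {a b j : ℤ}
    (hV : V ≤ L (Finsupp.single A a : Divisor k K)) :
    V ⊓ L (Finsupp.single A b - Finsupp.single Q j : Divisor k K) ≤
      L (Finsupp.single A a - Finsupp.single Q j : Divisor k K) := by
  classical
  rintro x ⟨hx1, hx2⟩ P
  by_cases hP : P = Q
  · subst hP
    have := hx2 P
    simp only [Finsupp.coe_sub, Pi.sub_apply, Finsupp.single_eq_same, Finsupp.single_apply,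
      if_neg (Ne.symm hQA)] at this ⊢
    exact this
  · have := hV hx1 P
    simp only [Finsupp.coe_sub, Pi.sub_apply, Finsupp.single_apply, if_neg (Ne.symm hP),
      sub_zero] at this ⊢
    exact this

lemma finrank_add_le_inf_add {V₁ U W : Submodule k K} [FiniteDimensional k V₁] (hU : U ≤ V₁)
    (hW : W ≤ V₁) :
    Module.finrank k U + Module.finrank k W ≤ Module.finrank k ↥(U ⊓ W) + Module.finrank k V₁ := by
  have : FiniteDimensional k U := Submodule.finiteDimensional_of_le hU
  have : FiniteDimensional k W := Submodule.finiteDimensional_of_le hW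
  have h1 := Submodule.finrank_sup_add_finrank_inf_eq U W
  have h2 := Submodule.finrank_mono (sup_le hU hW)
  omega

section atQ

variable [IsAlgClosed k] (hK : IsFunctionField k K) (hg1 : genus k K = 1) (A Q : Place k K)
  (hQA : Q ≠ A) (t : ℕ) (V₁ : Submodule k K)
  (hlo : L (Finsupp.single A ((t : ℤ) + 1) : Divisor k K) ≤ V₁)
  (hhi : V₁ ≤ L (Finsupp.single A ((t : ℤ) + 3) : Divisor k K))
  (hdim : Module.finrank k ↥V₁ = t + 2)

include hK in
lemma deg_single_sub_single (a j : ℤ) :
    Divisor.deg (Finsupp.single A a - Finsupp.single Q j : Divisor k K) = a - j := by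
  rw [deg_sub, deg_single, deg_single, deg_eq_one_of_isAlgClosed hK A,
    deg_eq_one_of_isAlgClosed hK Q]
  simp

include hK hg1 hQA hlo hhi hdim in
lemma finrank_inf_le_low (b j : ℤ) :
    Module.finrank k ↥(V₁ ⊓ L (Finsupp.single A b - Finsupp.single Q j : Divisor k K)) ≤
      ell (Finsupp.single A ((t : ℤ) + 1) - Finsupp.single Q j : Divisor k K) + 1 := by
  have hfinV : FiniteDimensional k V₁ := by
    have := finite_L hK (Finsupp.single A ((t : ℤ) + 3) : Divisor k K)
    exact Submodule.finiteDimensional_of_le hhi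
  have h1 := finrank_add_le_inf_add (V₁ := V₁)
    (U := V₁ ⊓ L (Finsupp.single A b - Finsupp.single Q j : Divisor k K))
    (W := L (Finsupp.single A ((t : ℤ) + 1) : Divisor k K)) inf_le_left hlo
  have hW : Module.finrank k ↥(L (Finsupp.single A ((t : ℤ) + 1) : Divisor k K)) = t + 1 := by
    have := ell_single_of_genus_one hK hg1 (deg_eq_one_of_isAlgClosed hK A) (n := t + 1) (by omega)
    simpa [ell] using this
  have hle : V₁ ⊓ L (Finsupp.single A b - Finsupp.single Q j : Divisor k K) ⊓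
      L (Finsupp.single A ((t : ℤ) + 1) : Divisor k K) ≤
      L (Finsupp.single A ((t : ℤ) + 1) - Finsupp.single Q j : Divisor k K) := by
    refine le_trans ?_ (inf_le_L_sub hQA (b := b) (le_refl (L (Finsupp.single A ((t : ℤ) + 1)))))
    exact le_inf inf_le_right (inf_le_left.trans inf_le_right)
  have := finite_L hK (Finsupp.single A ((t : ℤ) + 1) - Finsupp.single Q j : Divisor k K)
  have h2 := Submodule.finrank_mono hle
  unfold ell
  omega

omit [IsAlgClosed k] in
include hK hQA hhi in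
lemma finrank_inf_le_high (b j : ℤ) :
    Module.finrank k ↥(V₁ ⊓ L (Finsupp.single A b - Finsupp.single Q j : Divisor k K)) ≤
      ell (Finsupp.single A ((t : ℤ) + 3) - Finsupp.single Q j : Divisor k K) := by
  have := finite_L hK (Finsupp.single A ((t : ℤ) + 3) - Finsupp.single Q j : Divisor k K)
  exact Submodule.finrank_mono (inf_le_L_sub hQA hhi)

end atQ

end Groth.Agent.FF

namespace Groth.Agent.FF

universe u v
variable {k : Type u} {K : Type v} [Field k] [Field K] [Algebra k K]

lemma sum_range_add_two_add_one (t : ℕ) :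
    ∑ n ∈ Finset.range t, (n + 2) + 1 = (t + 2).choose 2 := by
  induction t with
  | zero => simp
  | succ t ih =>
    rw [Finset.sum_range_succ, add_right_comm, ih]
    rw [Nat.choose_succ_succ (t + 2) 1, Nat.choose_one_right]
    ring

lemma sum_range_split (G : ℕ → ℕ) (t : ℕ) :
    ∑ n ∈ Finset.range (2 * t + 4), G n =
      ∑ n ∈ Finset.range t, G n + G t + G (t + 1) + G (t + 2) +
        ∑ i ∈ Finset.range (t + 1), G (t + 3 + i) := by
  have e : 2 * t + 4 = (t + 3) + (t + 1) := by ring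
  rw [e, Finset.sum_range_add, Finset.sum_range_succ, Finset.sum_range_succ, Finset.sum_range_succ]

lemma sum_range_sub_add_one (t : ℕ) :
    ∑ n ∈ Finset.range t, (t + 1 - n) + 1 = (t + 2).choose 2 := by
  have h1 : ∑ n ∈ Finset.range t, (t + 1 - n) = ∑ n ∈ Finset.range t, (n + 2) := by
    rw [← Finset.sum_range_reflect]
    apply Finset.sum_congr rfl
    intro n hn
    rw [Finset.mem_range] at hn
    omega
  rw [h1]
  exact sum_range_add_two_add_one t

section atQ

variable [IsAlgClosed k] (hK : IsFunctionField k K) (hg1 : genus k K = 1) (A Q : Place k K)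
  (hQA : Q ≠ A) (t : ℕ) (V₁ : Submodule k K)
  (hlo : L (Finsupp.single A ((t : ℤ) + 1) : Divisor k K) ≤ V₁)
  (hhi : V₁ ≤ L (Finsupp.single A ((t : ℤ) + 3) : Divisor k K))
  (hdim : Module.finrank k ↥V₁ = t + 2)

include hK hg1 hQA hlo hhi hdim in
theorem sum_finrank_inf_atQ (ht : Even t) (b : ℤ) :
    ∑ n ∈ Finset.range (2 * t + 4),
      Module.finrank k ↥(V₁ ⊓ L (Finsupp.single A b - Finsupp.single Q ((n : ℤ) + 1) : Divisor k K)) ≤
      (t + 2).choose 2 + 2 := by
  have hQ1 := deg_eq_one_of_isAlgClosed hK Q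
  set G : ℕ → ℕ := fun n =>
    Module.finrank k ↥(V₁ ⊓ L (Finsupp.single A b - Finsupp.single Q ((n : ℤ) + 1) : Divisor k K))
    with hG
  -- low range
  have hb : ∀ n, n < t → G n ≤ t + 1 - n := by
    intro n hn
    have h1 := finrank_inf_le_low hK hg1 A Q hQA t V₁ hlo hhi hdim b ((n : ℤ) + 1)
    have hdeg := deg_single_sub_single hK A Q ((t : ℤ) + 1) ((n : ℤ) + 1)
    have h2 := ell_eq_deg_of_genus_one hK hg1
      (Finsupp.single A ((t : ℤ) + 1) - Finsupp.single Q ((n : ℤ) + 1) : Divisor k K)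
      (by rw [hdeg]; omega)
    rw [hdeg] at h2
    change Module.finrank k ↥(V₁ ⊓ L (Finsupp.single A b - Finsupp.single Q ((n : ℤ) + 1) :
      Divisor k K)) ≤ t + 1 - n
    omega
  -- the three middle terms
  have hD1 := deg_single_sub_single hK A Q ((t : ℤ) + 1) ((t : ℤ) + 1)
  have hD2 := deg_single_sub_single hK A Q ((t : ℤ) + 3) ((t : ℤ) + 3)
  rw [sub_self] at hD1 hD2
  have hE1 := ell_le_one_of_deg_zero hK hD1
  have hE2 := ell_le_one_of_deg_zero hK hD2
  have hnot : ¬ (0 < ell (Finsupp.single A ((t : ℤ) + 1) - Finsupp.single Q ((t : ℤ) + 1) :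
      Divisor k K) ∧ 0 < ell (Finsupp.single A ((t : ℤ) + 3) - Finsupp.single Q ((t : ℤ) + 3) :
      Divisor k K)) := by
    rintro ⟨h1, h2⟩
    exact not_both_prin hK hg1 hQ1 hQA ht (mem_prin_of_ell_pos hK hD1 h1)
      (mem_prin_of_ell_pos hK hD2 h2)
  have hc1 : G t ≤ ell (Finsupp.single A ((t : ℤ) + 1) - Finsupp.single Q ((t : ℤ) + 1) :
      Divisor k K) + 1 :=
    finrank_inf_le_low hK hg1 A Q hQA t V₁ hlo hhi hdim b ((t : ℤ) + 1)
  have hc2 : G (t + 1) ≤ 1 := by
    have h1 := finrank_inf_le_high hK A Q hQA t V₁ hhi b (((t + 1 : ℕ) : ℤ) + 1)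
    have hdeg := deg_single_sub_single hK A Q ((t : ℤ) + 3) (((t + 1 : ℕ) : ℤ) + 1)
    have h2 := ell_eq_deg_of_genus_one hK hg1
      (Finsupp.single A ((t : ℤ) + 3) - Finsupp.single Q (((t + 1 : ℕ) : ℤ) + 1) : Divisor k K)
      (by rw [hdeg]; push_cast; omega)
    rw [hdeg] at h2
    change Module.finrank k ↥(V₁ ⊓ L (Finsupp.single A b -
      Finsupp.single Q (((t + 1 : ℕ) : ℤ) + 1) : Divisor k K)) ≤ 1
    omega
  have hc3 : G (t + 2) ≤ ell (Finsupp.single A ((t : ℤ) + 3) - Finsupp.single Q ((t : ℤ) + 3) :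
      Divisor k K) := by
    have e3 : (((t + 2 : ℕ) : ℤ) + 1) = (t : ℤ) + 3 := by push_cast; ring
    exact (finrank_inf_le_high hK A Q hQA t V₁ hhi b (((t + 2 : ℕ) : ℤ) + 1)).trans_eq
      (by rw [e3])
  -- the tail
  have hd : ∀ i : ℕ, G (t + 3 + i) = 0 := by
    intro i
    have h1 := finrank_inf_le_high hK A Q hQA t V₁ hhi b (((t + 3 + i : ℕ) : ℤ) + 1)
    have hdeg := deg_single_sub_single hK A Q ((t : ℤ) + 3) (((t + 3 + i : ℕ) : ℤ) + 1)
    have h2 := ell_eq_zero_of_deg_neg hK
      (Finsupp.single A ((t : ℤ) + 3) - Finsupp.single Q (((t + 3 + i : ℕ) : ℤ) + 1) :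
        Divisor k K) (by rw [hdeg]; push_cast; omega)
    change Module.finrank k ↥(V₁ ⊓ L (Finsupp.single A b -
      Finsupp.single Q (((t + 3 + i : ℕ) : ℤ) + 1) : Divisor k K)) = 0
    omega
  change ∑ n ∈ Finset.range (2 * t + 4), G n ≤ _
  rw [sum_range_split G t, Finset.sum_congr rfl (fun i _ => hd i), Finset.sum_const_zero, add_zero]
  have hsum : ∑ n ∈ Finset.range t, G n ≤ ∑ n ∈ Finset.range t, (t + 1 - n) :=
    Finset.sum_le_sum (fun n hn => hb n (Finset.mem_range.mp hn))
  have hcomb := sum_range_sub_add_one t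
  omega

end atQ

end Groth.Agent.FF
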