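import Groth.Agent.FunFld.PlaceExt
import Groth.Prelude.Def_W4bk4goldsch23Ext

/-!
# Places in extensions: lying over, restriction
-/

set_option autoImplicit false
set_option linter.unusedSectionVars false

open FunFld WithZero

namespace Groth.Agent.FF.Ext

open Groth.Agent.FF

variable {k K K' : Type*} [Field k] [Field K] [Field K'] [Algebra k K] [Algebra K K']
  [Algebra k K']

section Basic

variable {P : Place k K} {Q : Place k K'} {e : ℕ}

lemma e_pos (he : IsOverWith Q P e) : 0 < e := by
  rcases Nat.eq_zero_or_pos e with rfl | h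
  · have h0 := he 0
    rw [map_zero, map_zero, pow_zero] at h0
    exact absurd h0 zero_ne_one
  · exact h

lemma ord_eq (he : IsOverWith Q P e) (x : K) :
    Q.ord (algebraMap K K' x) = e * P.ord x := by
  unfold Place.ord
  rw [he x, log_pow]
  simp only [nsmul_eq_mul]
  ring

lemma unique_e {e' : ℕ} (he : IsOverWith Q P e) (he' : IsOverWith Q P e') :
    e = e' := by
  obtain ⟨t, ht0, ht⟩ := exists_ord_eq P 1
  have h1 := ord_eq he t
  have h2 := ord_eq he' t
  rw [ht] at h1 h2
  have : (e : ℤ) = e' := by linarith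
  exact_mod_cast this

lemma ramIdx_eq (he : IsOverWith Q P e) : ramIdx Q P = e := by
  classical
  have h : IsOver Q P := ⟨e, he⟩
  unfold ramIdx
  rw [dif_pos h]
  exact unique_e (Nat.find_spec h) he

lemma isOverWith_ramIdx (h : IsOver Q P) : IsOverWith Q P (ramIdx Q P) := by
  obtain ⟨e, he⟩ := h
  rw [ramIdx_eq he]
  exact he

lemma le_one_iff (he : IsOverWith Q P e) (x : K) :
    Q.1 (algebraMap K K' x) ≤ 1 ↔ P.1 x ≤ 1 := by
  rw [he x]
  exact pow_le_one_iff (e_pos he).ne'

lemma lt_one_iff (he : IsOverWith Q P e) (x : K) :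
    Q.1 (algebraMap K K' x) < 1 ↔ P.1 x < 1 := by
  rw [he x]
  exact pow_lt_one_iff (e_pos he).ne'

lemma eq_one_iff (he : IsOverWith Q P e) (x : K) :
    Q.1 (algebraMap K K' x) = 1 ↔ P.1 x = 1 := by
  constructor
  · intro h
    apply le_antisymm ((le_one_iff he x).mp h.le)
    by_contra hlt
    rw [not_le] at hlt
    exact absurd ((lt_one_iff he x).mpr hlt) (by rw [h]; exact lt_irrefl _)
  · intro h
    apply le_antisymm ((le_one_iff he x).mpr h.le)
    by_contra hlt
    rw [not_le] at hlt
    exact absurd ((lt_one_iff he x).mp hlt) (by rw [h]; exact lt_irrefl _)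

lemma unique_below {P' : Place k K} (h : IsOver Q P) (h' : IsOver Q P') : P = P' := by
  obtain ⟨e, he⟩ := h
  obtain ⟨e', he'⟩ := h'
  apply place_ext_of_le_one_iff
  intro x
  rw [← le_one_iff he, ← le_one_iff he']

end Basic

section Restrict

variable [IsScalarTower k K K'] [Algebra.IsAlgebraic K K']

/-- a place of `K'` is nontrivial on `K` -/
lemma exists_ord_pos (Q : Place k K') : ∃ x : K, x ≠ 0 ∧ 0 < Q.ord (algebraMap K K' x) := by
  by_contra hcon
  push Not at hcon
  have hι : ∀ x : K, x ≠ 0 → algebraMap K K' x ≠ 0 := fun x hx =>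
    (map_ne_zero_iff _ (algebraMap K K').injective).mpr hx
  have h1 : ∀ x : K, x ≠ 0 → Q.1 (algebraMap K K' x) = 1 := by
    intro x hx
    have h2 := hcon x hx
    have h3 := hcon x⁻¹ (inv_ne_zero hx)
    rw [map_inv₀, ord_inv] at h3
    rw [val_eq_one_iff Q (hι x hx)]
    omega
  obtain ⟨y, hy⟩ := Q.2.2 (exp (1 : ℤ))
  have hint : IsIntegral K y := Algebra.IsIntegral.isIntegral y
  have hmonic := minpoly.monic hint
  set f := minpoly K y with hf
  set n := f.natDegree with hn
  have haeval : ∑ i ∈ Finset.range (n + 1), algebraMap K K' (f.coeff i) * y ^ i = 0 := by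
    have h := minpoly.aeval K y
    rw [← hf, Polynomial.aeval_eq_sum_range] at h
    rw [← h]
    apply Finset.sum_congr rfl
    intro i _
    rw [Algebra.smul_def]
  rw [Finset.sum_range_succ, hmonic.coeff_natDegree, map_one, one_mul] at haeval
  have hsum : y ^ n = - ∑ i ∈ Finset.range n, algebraMap K K' (f.coeff i) * y ^ i :=
    eq_neg_of_add_eq_zero_right haeval
  have hlt : Q.1 (∑ i ∈ Finset.range n, algebraMap K K' (f.coeff i) * y ^ i) < exp (n : ℤ) := by
    apply Q.1.map_sum_lt exp_ne_zero
    intro i hi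
    rw [Finset.mem_range] at hi
    rw [map_mul, map_pow, hy]
    by_cases hc : f.coeff i = 0
    · rw [hc, map_zero, map_zero, zero_mul]
      exact exp_pos
    · rw [h1 _ hc, one_mul, ← exp_nsmul, exp_lt_exp]
      simp only [nsmul_eq_mul, mul_one]
      exact_mod_cast hi
  have h4 := congrArg Q.1 hsum
  rw [Valuation.map_neg, map_pow, hy, ← exp_nsmul] at h4
  simp only [nsmul_eq_mul, mul_one] at h4
  rw [← h4] at hlt
  exact lt_irrefl _ hlt

/-- every place of `K'` lies over a place of `K` -/
theorem exists_isOverWith_below (Q : Place k K') :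
    ∃ (P : Place k K) (e : ℕ), IsOverWith Q P e := by
  classical
  have hι : ∀ x : K, x ≠ 0 → algebraMap K K' x ≠ 0 := fun x hx =>
    (map_ne_zero_iff _ (algebraMap K K').injective).mpr hx
  -- the minimal positive order
  have hex : ∃ n : ℕ, 0 < n ∧ ∃ x : K, x ≠ 0 ∧ Q.ord (algebraMap K K' x) = n := by
    obtain ⟨x, hx0, hx⟩ := exists_ord_pos (K := K) Q
    exact ⟨(Q.ord (algebraMap K K' x)).toNat, by omega, x, hx0, by omega⟩
  set e := Nat.find hex with he
  obtain ⟨hepos, t, ht0, ht⟩ := Nat.find_spec hex
  rw [← he] at hepos ht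
  have hmin : ∀ n : ℕ, 0 < n → (∃ x : K, x ≠ 0 ∧ Q.ord (algebraMap K K' x) = n) → e ≤ n :=
    fun n hn hx => Nat.find_min' hex ⟨hn, hx⟩
  -- divisibility
  have hdvd : ∀ x : K, x ≠ 0 → (e : ℤ) ∣ Q.ord (algebraMap K K' x) := by
    intro x hx
    set m := Q.ord (algebraMap K K' x) with hm
    have hepos' : (0 : ℤ) < e := by exact_mod_cast hepos
    by_contra hnd
    have hr : 0 < m % e := by
      have := Int.emod_nonneg m hepos'.ne'
      rcases this.lt_or_eq with h | h
      · exact h
      · exact absurd (Int.dvd_of_emod_eq_zero h.symm) hnd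
    have hr' : m % e < e := Int.emod_lt_of_pos m hepos'
    -- the element `x / t ^ (m / e)` has order `m % e`
    have hz0 : x * (t ^ (m / e))⁻¹ ≠ 0 := mul_ne_zero hx (inv_ne_zero (zpow_ne_zero _ ht0))
    have hz : Q.ord (algebraMap K K' (x * (t ^ (m / e))⁻¹)) = m % e := by
      rw [map_mul, map_inv₀, map_zpow₀, ord_mul Q (hι x hx)
        (inv_ne_zero (zpow_ne_zero _ (hι t ht0))), ord_inv, ord_zpow, ht, ← hm]
      have := Int.emod_add_mul_ediv m e
      linarith
    have := hmin (m % e).toNat (by omega) ⟨_, hz0, by rw [hz]; omega⟩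
    omega
  -- the valuation
  let v : Valuation K (WithZero (Multiplicative ℤ)) :=
    { toFun := fun x => if x = 0 then 0 else exp (-(Q.ord (algebraMap K K' x) / e))
      map_zero' := by simp
      map_one' := by simp [ord_one]
      map_mul' := by
        intro x y
        by_cases hx : x = 0
        · simp [hx]
        by_cases hy : y = 0
        · simp [hy]
        simp only [hx, hy, mul_ne_zero hx hy, if_false]
        rw [← exp_add, map_mul, ord_mul Q (hι x hx) (hι y hy),
          Int.add_ediv_of_dvd_left (hdvd x hx)]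
        congr 1
        ring
      map_add_le_max' := by
        intro x y
        by_cases hx : x = 0
        · simp [hx]
        by_cases hy : y = 0
        · simp [hy]
        by_cases hxy : x + y = 0
        · simp [hxy]
        simp only [hx, hy, hxy, if_false]
        have hge := ord_add_ge Q (x := algebraMap K K' x) (y := algebraMap K K' y)
          (by rw [← map_add]; exact hι _ hxy)
        rw [← map_add] at hge
        have hepos' : (0 : ℤ) < e := by exact_mod_cast hepos
        rw [le_max_iff, exp_le_exp, exp_le_exp]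
        rcases min_le_iff.mp hge with h | h
        · left
          have := Int.ediv_le_ediv hepos' h
          omega
        · right
          have := Int.ediv_le_ediv hepos' h
          omega }
  have hv : ∀ x : K, x ≠ 0 → v x = exp (-(Q.ord (algebraMap K K' x) / e)) := by
    intro x hx
    simp only [v, Valuation.coe_mk, MonoidWithZeroHom.coe_mk, ZeroHom.coe_mk, hx, if_false]
  have hepos' : (0 : ℤ) < e := by exact_mod_cast hepos
  have hvt : v t = exp (-1 : ℤ) := by
    rw [hv t ht0, ht, Int.ediv_self hepos'.ne']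
  let P : Place k K := ⟨v, by
    constructor
    · intro c
      by_cases hc : algebraMap k K c = 0
      · rw [hc, map_zero]; exact zero_le
      · rw [hv _ hc, ← exp_zero, exp_le_exp]
        have h1 : 0 ≤ Q.ord (algebraMap K K' (algebraMap k K c)) := by
          rw [← IsScalarTower.algebraMap_apply]
          rw [ord_algebraMap]
        have := Int.ediv_nonneg h1 hepos'.le
        omega
    · intro γ
      by_cases hγ : γ = 0
      · exact ⟨0, by rw [map_zero, hγ]⟩
      · refine ⟨t ^ (-(log γ)), ?_⟩
        rw [map_zpow₀, hvt, ← exp_zsmul]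
        simp only [smul_eq_mul, mul_neg, mul_one, neg_neg]
        exact exp_log hγ⟩
  refine ⟨P, e, ?_⟩
  intro x
  by_cases hx : x = 0
  · rw [hx, map_zero, map_zero, map_zero, zero_pow hepos.ne']
  · change Q.1 (algebraMap K K' x) = v x ^ e
    rw [hv x hx, val_eq_exp_neg_ord Q (hι x hx), ← exp_nsmul]
    congr 1
    obtain ⟨q, hq⟩ := hdvd x hx
    rw [hq, Int.mul_ediv_cancel_left _ hepos'.ne']
    simp only [nsmul_eq_mul]
    ring

end Restrict

end Groth.Agent.FF.Ext
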