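import Mathlib.LinearAlgebra.FiniteDimensional.Basic
import Mathlib.LinearAlgebra.Dimension.Constructions
import Mathlib.Algebra.BigOperators.Intervals
import Mathlib.Data.Fintype.EquivFin

/-!
# Bases adapted to a filtration with one-dimensional steps
-/

set_option autoImplicit false

open Module

namespace Groth.Agent.Wr

lemma tele_sum (f : ℕ → ℕ) (hf : Antitone f) (n : ℕ) :
    ∑ j ∈ Finset.range n, (f j - f (j + 1)) + f n = f 0 := by
  induction n with
  | zero => simp
  | succ n ih =>
    rw [Finset.sum_range_succ]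
    have h1 : f (n + 1) ≤ f n := hf (Nat.le_succ n)
    omega

/-- Abel summation for an antitone sequence of naturals -/
lemma abel_sum (f : ℕ → ℕ) (hf : Antitone f) (d : ℕ) :
    ∑ j ∈ Finset.range (d + 1), j * (f j - f (j + 1)) + (d + 1) * f (d + 1) =
      ∑ j ∈ Finset.range (d + 1), f (j + 1) := by
  induction d with
  | zero => simp
  | succ d ih =>
    rw [Finset.sum_range_succ, Finset.sum_range_succ _ (d + 1), ← ih]
    have h := hf (Nat.le_succ (d + 1))
    obtain ⟨c, hc⟩ := Nat.exists_eq_add_of_le h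
    rw [hc]
    simp only [Nat.add_sub_cancel_left]
    ring

lemma filt_count (f : ℕ → ℕ) (hf : Antitone f) (hstep : ∀ j, f j ≤ f (j + 1) + 1) (d : ℕ)
    (h0 : f (d + 1) = 0) :
    ((Finset.range (d + 1)).filter (fun j => f (j + 1) < f j)).card = f 0 ∧
    ∑ j ∈ (Finset.range (d + 1)).filter (fun j => f (j + 1) < f j), j =
      ∑ j ∈ Finset.range d, f (j + 1) := by
  have hind : ∀ j, f j - f (j + 1) = if f (j + 1) < f j then 1 else 0 := by
    intro j
    have h1 := hf (Nat.le_succ j)
    have h2 := hstep j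
    split_ifs with h <;> omega
  constructor
  · rw [Finset.card_filter]
    have := tele_sum f hf (d + 1)
    rw [h0, add_zero] at this
    rw [← this]
    exact Finset.sum_congr rfl fun j _ => (hind j).symm
  · rw [Finset.sum_filter]
    have := abel_sum f hf d
    rw [h0, mul_zero, add_zero, Finset.sum_range_succ (fun j => f (j + 1)) d, h0, add_zero] at this
    rw [← this]
    apply Finset.sum_congr rfl
    intro j _
    rw [hind j]
    split_ifs <;> simp

/-- A basis adapted to a filtration with steps of dimension at most one. -/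
theorem exists_adapted_basis {k E : Type*} [Field k] [AddCommGroup E] [Module k E]
    (F : ℕ → Submodule k E) (hanti : Antitone F) [FiniteDimensional k (F 0)] (d : ℕ)
    (hbot : F (d + 1) = ⊥)
    (hstep : ∀ j, finrank k (F j) ≤ finrank k (F (j + 1)) + 1)
    (n : ℕ) (hn : finrank k (F 0) = n) :
    ∃ (b : Fin n → E) (m : Fin n → ℕ), Function.Injective m ∧
      (∀ i, b i ∈ F (m i) ∧ b i ∉ F (m i + 1)) ∧
      LinearIndependent k b ∧ Submodule.span k (Set.range b) = F 0 ∧
      ∑ i, m i = ∑ j ∈ Finset.range d, finrank k (F (j + 1)) := by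
  classical
  have hfin : ∀ j, FiniteDimensional k (F j) := fun j =>
    Submodule.finiteDimensional_of_le (hanti (Nat.zero_le j))
  set f : ℕ → ℕ := fun j => finrank k (F j) with hf
  have hfanti : Antitone f := fun i j hij => Submodule.finrank_mono (hanti hij)
  have hf0 : f (d + 1) = 0 := by simp [hf, hbot]
  obtain ⟨hcard, hsum⟩ := filt_count f hfanti hstep d hf0
  set J := (Finset.range (d + 1)).filter (fun j => f (j + 1) < f j) with hJ
  have hJn : Fintype.card ↥J = n := by rw [Fintype.card_coe, hcard]; exact hn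
  let e : Fin n ≃ ↥J := (Fintype.equivFinOfCardEq hJn).symm
  have hex : ∀ j : ↥J, ∃ x, x ∈ F (j : ℕ) ∧ x ∉ F ((j : ℕ) + 1) := by
    intro j
    have hj := (Finset.mem_filter.mp j.2).2
    have hlt : F ((j : ℕ) + 1) < F (j : ℕ) := by
      refine lt_of_le_of_ne (hanti (Nat.le_succ _)) fun h => ?_
      simp only [hf] at hj
      rw [h] at hj
      exact lt_irrefl _ hj
    exact SetLike.exists_of_lt hlt
  choose b' hb' using hex
  set b : Fin n → E := fun i => b' (e i) with hb
  set m : Fin n → ℕ := fun i => ((e i : ↥J) : ℕ) with hm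
  have hminj : Function.Injective m := Subtype.val_injective.comp e.injective
  have hmem : ∀ i, b i ∈ F (m i) ∧ b i ∉ F (m i + 1) := fun i => hb' (e i)
  have hli : LinearIndependent k b := by
    rw [linearIndependent_iff']
    intro s g hg
    by_contra hne
    push Not at hne
    obtain ⟨i₁, hi₁s, hi₁⟩ := hne
    have hs' : (s.filter fun i => g i ≠ 0).Nonempty := ⟨i₁, Finset.mem_filter.mpr ⟨hi₁s, hi₁⟩⟩
    obtain ⟨i₀, hi₀, hmin⟩ := Finset.exists_min_image _ m hs'
    rw [Finset.mem_filter] at hi₀
    have hrest : ∑ i ∈ s.erase i₀, g i • b i ∈ F (m i₀ + 1) := by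
      apply Submodule.sum_mem
      intro i hi
      rw [Finset.mem_erase] at hi
      by_cases hgi : g i = 0
      · rw [hgi, zero_smul]; exact Submodule.zero_mem _
      · have h1 := hmin i (Finset.mem_filter.mpr ⟨hi.2, hgi⟩)
        have h2 : m i ≠ m i₀ := fun h => hi.1 (hminj h)
        have h3 : m i₀ + 1 ≤ m i := by omega
        exact Submodule.smul_mem _ _ (hanti h3 (hmem i).1)
    have hsplit := Finset.add_sum_erase s (fun i => g i • b i) hi₀.1
    rw [hg] at hsplit
    have h4 : g i₀ • b i₀ ∈ F (m i₀ + 1) := by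
      have : g i₀ • b i₀ = -∑ i ∈ s.erase i₀, g i • b i := eq_neg_of_add_eq_zero_left hsplit
      rw [this]
      exact Submodule.neg_mem _ hrest
    have h5 : b i₀ ∈ F (m i₀ + 1) := by
      have := Submodule.smul_mem (F (m i₀ + 1)) (g i₀)⁻¹ h4
      rwa [smul_smul, inv_mul_cancel₀ hi₀.2, one_smul] at this
    exact (hmem i₀).2 h5
  refine ⟨b, m, hminj, hmem, hli, ?_, ?_⟩
  · have hle : Submodule.span k (Set.range b) ≤ F 0 := by
      rw [Submodule.span_le]
      rintro _ ⟨i, rfl⟩
      exact hanti (Nat.zero_le _) (hmem i).1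
    apply Submodule.eq_of_le_of_finrank_eq hle
    rw [finrank_span_eq_card hli, Fintype.card_fin, hn]
  · rw [← hsum]
    have h1 : ∑ i, m i = ∑ j : ↥J, (j : ℕ) := Equiv.sum_comp e (fun j : ↥J => (j : ℕ))
    rw [h1, Finset.sum_coe_sort J (fun j => j)]

end Groth.Agent.Wr
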