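import Groth.Agent.FunFld.ModIndep

/-!
# The fundamental inequality `∑ eᵢ fᵢ ≤ [K : k(x)]`
-/

set_option autoImplicit false

open FunFld IntermediateField Polynomial WithZero

namespace Groth.Agent.FF

universe u v
variable {k : Type u} {K : Type v} [Field k] [Field K] [Algebra k K]

/-- A finite family of `P`-integral elements whose residues are `k`-linearly independent. -/
def ResIndep (P : Place k K) {m : ℕ} (s : Fin m → K) : Prop :=
  (∀ j, P.1 (s j) ≤ 1) ∧ ∀ c : Fin m → k, P.1 (∑ j, c j • s j) < 1 → ∀ j, c j = 0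

lemma val_sum_smul_le_one (P : Place k K) {m : ℕ} {s : Fin m → K} (hs : ∀ j, P.1 (s j) ≤ 1)
    (c : Fin m → k) : P.1 (∑ j, c j • s j) ≤ 1 := by
  apply P.1.map_sum_le
  intro j _
  exact (val_smul_le P _ _).trans (hs j)

lemma ResIndep.perturb {P : Place k K} {m : ℕ} {s z : Fin m → K} (hs : ResIndep P s)
    (hz : ∀ j, P.1 (z j - s j) < 1) : ResIndep P z := by
  refine ⟨fun j => ?_, fun c hc => ?_⟩
  · have : z j = (z j - s j) + s j := by ring
    rw [this]
    exact P.1.map_add_le (hz j).le (hs.1 j)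
  · apply hs.2 c
    have h1 : ∑ j, c j • s j = ∑ j, c j • z j - ∑ j, c j • (z j - s j) := by
      rw [← Finset.sum_sub_distrib]
      apply Finset.sum_congr rfl
      intro j _
      rw [smul_sub]; ring
    rw [h1]
    apply lt_of_le_of_lt (P.1.map_sub _ _)
    apply max_lt hc
    apply P.1.map_sum_lt one_ne_zero
    intro j _
    exact lt_of_le_of_lt (val_smul_le P _ _) (hz j)

/-- Local independence of `tᵃ zⱼ` modulo `t ^ e`. -/
lemma local_indep (P : Place k K) {t : K} (ht : P.1 t = exp (-1 : ℤ)) {m : ℕ} {z : Fin m → K}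
    (hz : ResIndep P z) : ∀ (e : ℕ) (c : Fin e → Fin m → k),
    P.1 (∑ a : Fin e, t ^ (a : ℕ) * ∑ j, c a j • z j) ≤ exp (-(e : ℤ)) → ∀ a j, c a j = 0 := by
  have ht1 : P.1 t < 1 := by rw [ht, ← exp_zero, exp_lt_exp]; norm_num
  intro e
  induction e with
  | zero => intro c _ a; exact a.elim0
  | succ e ih =>
    intro c hc
    rw [Fin.sum_univ_succ] at hc
    simp only [Fin.val_zero, pow_zero, one_mul, Fin.val_succ, pow_succ'] at hc
    have hS : ∑ a : Fin e, t * t ^ (a : ℕ) * ∑ j, c a.succ j • z j =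
        t * ∑ a : Fin e, t ^ (a : ℕ) * ∑ j, c a.succ j • z j := by
      rw [Finset.mul_sum]
      apply Finset.sum_congr rfl
      intro a _; ring
    rw [hS] at hc
    set S' := ∑ a : Fin e, t ^ (a : ℕ) * ∑ j, c a.succ j • z j with hS'
    have hS'le : P.1 S' ≤ 1 := by
      apply P.1.map_sum_le
      intro a _
      rw [map_mul, map_pow]
      calc P.1 t ^ (a : ℕ) * P.1 (∑ j, c a.succ j • z j) ≤ 1 * 1 := by
            gcongr
            · exact pow_le_one' ht1.le _
            · exact val_sum_smul_le_one P hz.1 _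
        _ = 1 := one_mul _
    have htS : P.1 (t * S') < 1 := by
      rw [map_mul]
      calc P.1 t * P.1 S' ≤ P.1 t * 1 := by gcongr
        _ = P.1 t := mul_one _
        _ < 1 := ht1
    have hlt1 : exp (-((e + 1 : ℕ) : ℤ)) < (1 : ℤᵐ⁰) := by
      rw [← exp_zero, exp_lt_exp]; push_cast; omega
    have hW0 : P.1 (∑ j, c 0 j • z j) < 1 := by
      have : ∑ j, c 0 j • z j = (∑ j, c 0 j • z j + t * S') - t * S' := by ring
      rw [this]
      apply lt_of_le_of_lt (P.1.map_sub _ _)
      exact max_lt (lt_of_le_of_lt hc hlt1) htS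
    have hc0 := hz.2 (c 0) hW0
    have hW0' : ∑ j, c 0 j • z j = 0 := by
      apply Finset.sum_eq_zero
      intro j _
      rw [hc0 j, zero_smul]
    rw [hW0', zero_add, map_mul, ht] at hc
    have hS'e : P.1 S' ≤ exp (-(e : ℤ)) := by
      have h2 : exp (-1 : ℤ) * P.1 S' ≤ exp (-1 : ℤ) * exp (-(e : ℤ)) := by
        rw [← exp_add]
        convert hc using 2
        push_cast; ring
      exact le_of_mul_le_mul_left h2 (exp_pos)
    have hrest := ih (fun a => c a.succ) hS'e
    intro a j
    refine Fin.cases ?_ ?_ a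
    · exact hc0 j
    · intro a'; exact hrest a' j

end Groth.Agent.FF
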