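import Groth.Agent.FunFld.FundIneq

/-!
# The fundamental inequality `∑ eᵢ fᵢ ≤ [K : k(x)]` : global part
-/

set_option autoImplicit false

open FunFld IntermediateField Polynomial WithZero

namespace Groth.Agent.FF

universe u v
variable {k : Type u} {K : Type v} [Field k] [Field K] [Algebra k K]

/-- elements integral at all the given places -/
def integralAt {ι : Type*} (P : ι → Place k K) : Submodule k K where
  carrier := {w | ∀ i, (P i).1 w ≤ 1}
  add_mem' {a b} ha hb i := (P i).1.map_add_le (ha i) (hb i)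
  zero_mem' i := by simp
  smul_mem' c a ha i := (val_smul_le (P i) c a).trans (ha i)

lemma mem_integralAt {ι : Type*} (P : ι → Place k K) (w : K) :
    w ∈ integralAt P ↔ ∀ i, (P i).1 w ≤ 1 := Iff.rfl

/-- local uniformizers that are units at the other places -/
lemma exists_local_uniformizers {ι : Type*} [Finite ι] (P : ι → Place k K)
    (hP : Function.Injective P) :
    ∃ t : ι → K, ∀ i, (P i).1 (t i) = exp (-1 : ℤ) ∧ ∀ l, l ≠ i → (P l).1 (t i) = 1 := by
  classical
  have hπ : ∀ i, ∃ π : K, (P i).1 π = exp (-1 : ℤ) := fun i => exists_uniformizer (P i)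
  choose π hπ using hπ
  have hex : ∀ i, ∃ t : K, ∀ l, (P l).1 (t - if l = i then π i else 1) < exp (-1 : ℤ) :=
    fun i => weak_approx P hP (fun l => if l = i then π i else 1) (-1)
  choose t ht using hex
  refine ⟨t, fun i => ⟨?_, fun l hl => ?_⟩⟩
  · have h := ht i i
    rw [if_pos rfl] at h
    have : t i = (t i - π i) + π i := by ring
    rw [this, (P i).1.map_add_eq_of_lt_right (by rw [hπ i]; exact h), hπ i]
  · have h := ht i l
    rw [if_neg hl] at h
    have h1 : (P l).1 (t i - 1) < (P l).1 1 := by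
      rw [map_one]
      refine lt_trans h ?_
      rw [← exp_zero, exp_lt_exp]; norm_num
    have : t i = (t i - 1) + 1 := by ring
    rw [this, (P l).1.map_add_eq_of_lt_right h1, map_one]

/-- The fundamental inequality. -/
theorem sum_mul_le_finrank (hK : IsFunctionField k K) {ι : Type*} [Fintype ι]
    (P : ι → Place k K) (hP : Function.Injective P) {x : K} (hx : Transcendental k x)
    (e : ι → ℕ) (hxe : ∀ i, (P i).1 x ≤ exp (-(e i : ℤ)))
    (m : ι → ℕ) (s : (i : ι) → Fin (m i) → K) (hs : ∀ i, ResIndep (P i) (s i)) :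
    ∑ i, e i * m i ≤ Module.finrank (adjoin k ({x} : Set K)) K := by
  classical
  have hx0 : x ≠ 0 := by rintro rfl; exact hx isAlgebraic_zero
  obtain ⟨t, ht⟩ := exists_local_uniformizers P hP
  set E : ℕ := ∑ l, e l with hE
  have heE : ∀ l, e l ≤ E := fun l =>
    Finset.single_le_sum (f := e) (fun _ _ => Nat.zero_le _) (Finset.mem_univ l)
  have hex : ∀ i (j : Fin (m i)), ∃ z : K,
      ∀ l, (P l).1 (z - if l = i then s i j else 0) < exp (-(E : ℤ)) :=
    fun i j => weak_approx P hP (fun l => if l = i then s i j else 0) (-(E : ℤ))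
  choose z hz using hex
  have hzi : ∀ i j, (P i).1 (z i j - s i j) < 1 := by
    intro i j
    have h := hz i j i
    rw [if_pos rfl] at h
    refine lt_of_lt_of_le h ?_
    rw [← exp_zero, exp_le_exp]; omega
  have hzl : ∀ i j l, l ≠ i → (P l).1 (z i j) ≤ exp (-(e l : ℤ)) := by
    intro i j l hl
    have h := hz i j l
    rw [if_neg hl, sub_zero] at h
    refine h.le.trans ?_
    rw [exp_le_exp]
    have := heE l
    omega
  have hzR : ∀ i, ResIndep (P i) (z i) := fun i => (hs i).perturb (hzi i)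
  have hz1 : ∀ i j l, (P l).1 (z i j) ≤ 1 := by
    intro i j l
    by_cases hl : l = i
    · subst hl; exact (hzR l).1 j
    · refine (hzl i j l hl).trans ?_
      rw [← exp_zero, exp_le_exp]; omega
  have ht1 : ∀ i l, (P l).1 (t i) ≤ 1 := by
    intro i l
    by_cases hl : l = i
    · subst hl; rw [(ht l).1, ← exp_zero, exp_le_exp]; norm_num
    · rw [(ht i).2 l hl]
  -- the family
  let J := Σ i : ι, Fin (e i) × Fin (m i)
  let y : J → K := fun p => t p.1 ^ (p.2.1 : ℕ) * z p.1 p.2.2
  have hcard : Fintype.card J = ∑ i, e i * m i := by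
    simp [J, Fintype.card_sigma]
  have hyM : ∀ p, y p ∈ integralAt P := by
    intro p l
    simp only [y, map_mul, map_pow]
    calc (P l).1 (t p.1) ^ (p.2.1 : ℕ) * (P l).1 (z p.1 p.2.2) ≤ 1 * 1 := by
          gcongr
          · exact pow_le_one' (ht1 _ _) _
          · exact hz1 _ _ _
      _ = 1 := one_mul _
  have hxM : ∀ w ∈ integralAt P, x * w ∈ integralAt P := by
    intro w hw l
    rw [map_mul]
    calc (P l).1 x * (P l).1 w ≤ 1 * 1 := by
          gcongr
          · refine (hxe l).trans ?_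
            rw [← exp_zero, exp_le_exp]; omega
          · exact hw l
      _ = 1 := one_mul _
  have hindep : ∀ c : J → k, (∃ w ∈ integralAt P, ∑ p, c p • y p = x * w) → ∀ p, c p = 0 := by
    rintro c ⟨w, hw, hcw⟩ ⟨i₀, a₀, j₀⟩
    -- valuation at i₀ of the whole sum
    have hv : (P i₀).1 (∑ p, c p • y p) ≤ exp (-(e i₀ : ℤ)) := by
      rw [hcw, map_mul]
      calc (P i₀).1 x * (P i₀).1 w ≤ exp (-(e i₀ : ℤ)) * 1 := by
            gcongr
            · exact hxe i₀
            · exact hw i₀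
        _ = _ := mul_one _
    rw [Fintype.sum_sigma] at hv
    rw [← Finset.add_sum_erase _ _ (Finset.mem_univ i₀)] at hv
    -- the other part is small
    have hother : (P i₀).1 (∑ i ∈ Finset.univ.erase i₀,
        ∑ q : Fin (e i) × Fin (m i), c ⟨i, q⟩ • y ⟨i, q⟩) ≤ exp (-(e i₀ : ℤ)) := by
      apply (P i₀).1.map_sum_le
      intro i hi
      have hi' : i₀ ≠ i := (Finset.ne_of_mem_erase hi).symm
      apply (P i₀).1.map_sum_le
      intro q _
      refine (val_smul_le (P i₀) _ _).trans ?_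
      simp only [y, map_mul, map_pow]
      calc (P i₀).1 (t i) ^ (q.1 : ℕ) * (P i₀).1 (z i q.2) ≤ 1 * exp (-(e i₀ : ℤ)) := by
            gcongr
            · exact pow_le_one' (ht1 _ _) _
            · exact hzl i q.2 i₀ hi'
        _ = _ := one_mul _
    have hmain : (P i₀).1 (∑ q : Fin (e i₀) × Fin (m i₀), c ⟨i₀, q⟩ • y ⟨i₀, q⟩) ≤
        exp (-(e i₀ : ℤ)) := by
      have : ∑ q : Fin (e i₀) × Fin (m i₀), c ⟨i₀, q⟩ • y ⟨i₀, q⟩ =
          (∑ q : Fin (e i₀) × Fin (m i₀), c ⟨i₀, q⟩ • y ⟨i₀, q⟩ +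
            ∑ i ∈ Finset.univ.erase i₀, ∑ q : Fin (e i) × Fin (m i), c ⟨i, q⟩ • y ⟨i, q⟩) -
          ∑ i ∈ Finset.univ.erase i₀, ∑ q : Fin (e i) × Fin (m i), c ⟨i, q⟩ • y ⟨i, q⟩ := by
        ring
      rw [this]
      exact (P i₀).1.map_sub_le hv hother
    have hform : ∑ q : Fin (e i₀) × Fin (m i₀), c ⟨i₀, q⟩ • y ⟨i₀, q⟩ =
        ∑ a : Fin (e i₀), t i₀ ^ (a : ℕ) * ∑ j, c ⟨i₀, (a, j)⟩ • z i₀ j := by
      rw [Fintype.sum_prod_type]
      apply Finset.sum_congr rfl
      intro a _
      rw [Finset.mul_sum]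
      apply Finset.sum_congr rfl
      intro j _
      simp only [y, Algebra.smul_def]
      ring
    rw [hform] at hmain
    exact local_indep (P i₀) (ht i₀).1 (hzR i₀) (e i₀) (fun a j => c ⟨i₀, (a, j)⟩) hmain a₀ j₀
  have := card_le_finrank_of_poly hK hx y
    (fun φ hφ => poly_indep_of_mod x hx0 (integralAt P) hxM y hyM hindep φ hφ)
  rwa [hcard] at this

end Groth.Agent.FF
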