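import Groth.Agent.FunFld.SumEF
import Groth.Agent.FunFld.GaloisTrans
import Mathlib.RingTheory.Valuation.RamificationGroup
import Mathlib.FieldTheory.Galois.Basic

/-!
# Places in Galois extensions: decomposition groups, `e f r = n`
-/

set_option autoImplicit false
set_option linter.unusedSectionVars false

open FunFld WithZero IntermediateField
open scoped Pointwise

namespace Groth.Agent.FF.Ext

open Groth.Agent.FF

variable {k K K' : Type*} [Field k] [Field K] [Field K'] [Algebra k K] [Algebra K K']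
  [Algebra k K'] [IsScalarTower k K K']

lemma isOverWith_comapEquiv {P : Place k K} {Q : Place k K'} {e : ℕ} (he : IsOverWith Q P e)
    (σ : K' ≃ₐ[K] K') : IsOverWith (Place.comapEquiv Q σ) P e := by
  intro x
  rw [Place.comapEquiv_apply, AlgEquiv.commutes]
  exact he x

lemma O_comapEquiv (Q : Place k K') (σ : K' ≃ₐ[K] K') :
    (Place.comapEquiv Q σ).O = σ⁻¹ • Q.O := by
  ext x
  rw [ValuationSubring.mem_inv_pointwise_smul_iff]
  rfl

/-- `σ` maps the valuation ring of `Q ∘ σ` onto that of `Q` -/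
noncomputable def OEquiv (Q : Place k K') (σ : K' ≃ₐ[K] K') :
    (Place.comapEquiv Q σ).O ≃+* Q.O where
  toFun x := ⟨σ x, x.2⟩
  invFun y := ⟨σ.symm y, by
    show Q.1 (σ (σ.symm y)) ≤ 1
    rw [σ.apply_symm_apply]
    exact y.2⟩
  left_inv x := by
    ext
    simp
  right_inv y := by
    ext
    simp
  map_mul' x y := by
    ext
    simp
  map_add' x y := by
    ext
    simp

lemma deg_comapEquiv (Q : Place k K') (σ : K' ≃ₐ[K] K') :
    (Place.comapEquiv Q σ).deg = Q.deg := by
  unfold Place.deg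
  refine Algebra.finrank_eq_of_equiv_equiv (RingEquiv.refl k)
    (IsLocalRing.ResidueField.mapEquiv (OEquiv Q σ)) ?_
  ext c
  show algebraMap k (IsLocalRing.ResidueField Q.O) c =
    IsLocalRing.ResidueField.map ((OEquiv Q σ : _ ≃+* _) : _ →+* _)
      (IsLocalRing.residue _ (algebraMap k (Place.comapEquiv Q σ).O c))
  rw [IsLocalRing.ResidueField.map_residue]
  show IsLocalRing.residue _ (algebraMap k Q.O c) = _
  congr 1
  ext
  show algebraMap k K' c = σ (algebraMap k K' c)
  rw [IsScalarTower.algebraMap_apply k K K', σ.commutes]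

/-- the Galois group acts transitively on the places above `P` -/
lemma exists_comapEquiv_eq [FiniteDimensional K K'] [IsGalois K K'] {P : Place k K}
    {Q Q' : Place k K'} (h : IsOver Q P) (h' : IsOver Q' P) :
    ∃ σ : K' ≃ₐ[K] K', Place.comapEquiv Q σ = Q' := by
  obtain ⟨e, he⟩ := h
  obtain ⟨e', he'⟩ := h'
  have hequiv : (Q.1.comap (algebraMap K K')).IsEquiv (Q'.1.comap (algebraMap K K')) := by
    rw [Valuation.isEquiv_iff_val_le_one]
    intro x
    rw [Valuation.comap_apply, Valuation.comap_apply, le_one_iff he, le_one_iff he']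
  obtain ⟨σ, hσ⟩ := exists_algEquiv_comap_place Q Q' hequiv
  exact ⟨σ, Subtype.ext hσ⟩

/-- all places above `P` have the same `e` and degree -/
theorem isOverWith_and_deg_eq [FiniteDimensional K K'] [IsGalois K K'] {P : Place k K}
    {Q Q' : Place k K'} {e : ℕ} (he : IsOverWith Q P e) (h' : IsOver Q' P) :
    IsOverWith Q' P e ∧ Q'.deg = Q.deg := by
  obtain ⟨σ, rfl⟩ := exists_comapEquiv_eq ⟨e, he⟩ h'
  exact ⟨isOverWith_comapEquiv he σ, deg_comapEquiv Q σ⟩

/-- orbit-stabilizer: `r · |G₀| = n` -/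
theorem card_isOver_mul_card_decomposition [FiniteDimensional K K'] [IsGalois K K']
    {P : Place k K} {Q : Place k K'} (h : IsOver Q P) :
    Nat.card {Q' : Place k K' // IsOver Q' P} * Nat.card ((Q.O).decompositionSubgroup K) =
      Module.finrank K K' := by
  classical
  rw [← IsGalois.card_aut_eq_finrank K K']
  have hequiv : {Q' : Place k K' // IsOver Q' P} ≃ MulAction.orbit (K' ≃ₐ[K] K') Q.O := by
    refine Equiv.ofBijective (fun Q' => ⟨Q'.1.O, ?_⟩) ⟨?_, ?_⟩
    · obtain ⟨σ, hσ⟩ := exists_comapEquiv_eq h Q'.2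
      refine ⟨σ⁻¹, ?_⟩
      show σ⁻¹ • Q.O = Q'.1.O
      rw [← hσ, O_comapEquiv]
    · intro Q₁ Q₂ h12
      have h1 : Q₁.1.O = Q₂.1.O := congrArg Subtype.val h12
      exact Subtype.ext (place_ext_of_O_eq _ _ h1)
    · rintro ⟨A, σ, rfl⟩
      obtain ⟨e, he⟩ := h
      refine ⟨⟨Place.comapEquiv Q σ⁻¹, ⟨e, isOverWith_comapEquiv he σ⁻¹⟩⟩, ?_⟩
      apply Subtype.ext
      show (Place.comapEquiv Q σ⁻¹).O = σ • Q.O
      rw [O_comapEquiv, inv_inv]
  rw [Nat.card_congr hequiv]
  have := MulAction.orbitProdStabilizerEquivGroup (K' ≃ₐ[K] K') Q.O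
  rw [← Nat.card_congr this, Nat.card_prod]

/-- `|G₀| deg P = e deg Q` -/
theorem card_decomposition_mul_deg [FiniteDimensional K K'] [IsGalois K K']
    (hK : IsFunctionField k K) {P : Place k K} {Q : Place k K'} {e : ℕ} (he : IsOverWith Q P e) :
    Nat.card ((Q.O).decompositionSubgroup K) * P.deg = e * Q.deg := by
  classical
  have hfin : {Q' : Place k K' | IsOver Q' P}.Finite := finite_isOver P
  have hsum := sum_ramIdx_mul_deg_eq hK P hfin.toFinset
    (fun Q' => by rw [Set.Finite.mem_toFinset]; rfl)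
  have hterm : ∀ Q' ∈ hfin.toFinset, ramIdx Q' P * Q'.deg = e * Q.deg := by
    intro Q' hQ'
    rw [Set.Finite.mem_toFinset] at hQ'
    obtain ⟨h1, h2⟩ := isOverWith_and_deg_eq he hQ'
    rw [ramIdx_eq h1, h2]
  rw [Finset.sum_congr rfl hterm, Finset.sum_const, smul_eq_mul] at hsum
  have hcard := card_isOver_mul_card_decomposition (k := k) (K := K) ⟨e, he⟩
  have hcard' : Nat.card {Q' : Place k K' // IsOver Q' P} = hfin.toFinset.card := by
    rw [← Set.ncard_eq_toFinset_card _ hfin]
    rfl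
  rw [hcard'] at hcard
  rw [← hcard] at hsum
  have hpos : 0 < hfin.toFinset.card := by
    apply Finset.card_pos.mpr
    exact ⟨Q, by rw [Set.Finite.mem_toFinset]; exact ⟨e, he⟩⟩
  have h3 : hfin.toFinset.card * (e * Q.deg) =
      hfin.toFinset.card * (Nat.card ((Q.O).decompositionSubgroup K) * P.deg) := by
    rw [hsum]; ring
  exact (Nat.eq_of_mul_eq_mul_left hpos h3).symm

end Groth.Agent.FF.Ext
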