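import Groth.Agent.FunFld.StrongApprox
import Groth.Prelude.Def_AdFn

/-!
# The gap space `K / (O_{P} + O_P)` has dimension `g`
-/

set_option autoImplicit false

open FunFld WithZero

namespace Groth.Agent.FF

universe u
variable {k K : Type u} [Field k] [Field K] [Algebra k K]

open Classical in
/-- the adele supported at `P` with value `x` -/
noncomputable def singleAdele (P : Place k K) : K →ₗ[k] adele k K where
  toFun x := ⟨Pi.single P x, by
    rw [mem_adele]
    apply (Set.finite_singleton P).subset
    intro Q hQ
    by_contra hne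
    apply hQ
    rw [Pi.single_eq_of_ne hne, map_zero]
    exact zero_le⟩
  map_add' x y := by
    apply Subtype.ext
    exact Pi.single_add (f := fun _ : Place k K => K) P x y
  map_smul' c x := by
    apply Subtype.ext
    exact Pi.single_smul (f := fun _ : Place k K => K) P c x

open Classical in
lemma singleAdele_coe (P : Place k K) (x : K) :
    ((singleAdele P x : adele k K) : Place k K → K) = Pi.single P x := rfl

open Classical in
theorem gap_quotient (hK : IsFunctionField k K) (P : Place k K) :
    FiniteDimensional k (K ⧸ (Subalgebra.toSubmodule (AdFn.SInt ({P} : Set (Place k K))) ⊔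
        Subalgebra.toSubmodule (AdFn.SInt (({P} : Set (Place k K))ᶜ)))) ∧
    Module.finrank k (K ⧸ (Subalgebra.toSubmodule (AdFn.SInt ({P} : Set (Place k K))) ⊔
        Subalgebra.toSubmodule (AdFn.SInt (({P} : Set (Place k K))ᶜ)))) = genus k K := by
  set N := (Subalgebra.toSubmodule (AdFn.SInt ({P} : Set (Place k K))) ⊔
        Subalgebra.toSubmodule (AdFn.SInt (({P} : Set (Place k K))ᶜ))) with hN
  set φ : K →ₗ[k] (adele k K ⧸ ADK (0 : Divisor k K)) :=
    (ADK (0 : Divisor k K)).mkQ ∘ₗ singleAdele P with hφ
  -- kernel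
  have hker : LinearMap.ker φ = N := by
    ext x
    rw [LinearMap.mem_ker, hφ, LinearMap.comp_apply, Submodule.mkQ_apply,
      Submodule.Quotient.mk_eq_zero]
    change (Pi.single P x : Place k K → K) ∈ AD (0 : Divisor k K) ⊔ LinearMap.range (diag k K) ↔ _
    rw [Submodule.mem_sup, hN, Submodule.mem_sup]
    constructor
    · rintro ⟨b, hb, _, ⟨y, rfl⟩, hby⟩
      refine ⟨y, ?_, b P, ?_, ?_⟩
      · rw [Subalgebra.mem_toSubmodule, AdFn.mem_SInt]
        intro Q hQ
        have hQP : Q ≠ P := hQ
        have h1 := congrFun hby Q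
        rw [Pi.add_apply, Pi.single_eq_of_ne hQP] at h1
        have h2 : (diag k K y) Q = y := rfl
        rw [h2] at h1
        have h3 : y = -b Q := by
          rw [eq_neg_iff_add_eq_zero, add_comm]; exact h1
        rw [h3, Valuation.map_neg]
        simpa using hb Q
      · rw [Subalgebra.mem_toSubmodule, AdFn.mem_SInt]
        intro Q hQ
        have hQP : Q = P := by
          by_contra hne
          exact hQ hne
        subst hQP
        simpa using hb Q
      · have h1 := congrFun hby P
        rw [Pi.add_apply, Pi.single_eq_same] at h1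
        have h2 : (diag k K y) P = y := rfl
        rw [h2] at h1
        rw [← h1, add_comm]
    · rintro ⟨y, hy, b, hb, hyb⟩
      rw [Subalgebra.mem_toSubmodule, AdFn.mem_SInt] at hy hb
      refine ⟨Pi.single P x - diag k K y, ?_, diag k K y, ⟨y, rfl⟩, by abel⟩
      intro Q
      rw [Finsupp.zero_apply, exp_zero, Pi.sub_apply]
      have h2 : (diag k K y) Q = y := rfl
      rw [h2]
      by_cases hQP : Q = P
      · subst hQP
        rw [Pi.single_eq_same, ← hyb, add_sub_cancel_left]
        exact hb Q (fun h => h rfl)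
      · rw [Pi.single_eq_of_ne hQP, zero_sub, Valuation.map_neg]
        exact hy Q hQP
  -- surjectivity
  have hsurj : Function.Surjective φ := by
    intro c
    obtain ⟨a, rfl⟩ := Submodule.Quotient.mk_surjective _ c
    obtain ⟨l, z, hz⟩ := exists_approx_adele hK P (0 : Divisor k K) a.2
    refine ⟨a.1 P - z, ?_⟩
    rw [hφ, LinearMap.comp_apply, Submodule.mkQ_apply, Submodule.Quotient.eq]
    change (Pi.single P (a.1 P - z) - a.1 : Place k K → K) ∈
      AD (0 : Divisor k K) ⊔ LinearMap.range (diag k K)
    rw [Submodule.mem_sup]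
    refine ⟨Pi.single P (a.1 P - z) - a.1 + diag k K z, ?_, diag k K (-z), ⟨-z, rfl⟩, ?_⟩
    · intro Q
      rw [Finsupp.zero_apply, exp_zero, Pi.add_apply, Pi.sub_apply]
      have h2 : (diag k K z) Q = z := rfl
      rw [h2]
      by_cases hQP : Q = P
      · subst hQP
        rw [Pi.single_eq_same]
        simp
      · rw [Pi.single_eq_of_ne hQP, zero_sub, neg_add_eq_sub]
        have := hz Q
        rw [Pi.sub_apply, h2, Finsupp.add_apply, Finsupp.zero_apply, zero_add,
          Finsupp.single_apply, if_neg (Ne.symm hQP), exp_zero] at this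
        exact this
    · rw [map_neg]; abel
  obtain ⟨hfin, hrank⟩ := finite_adele_quot hK (0 : Divisor k K)
  rw [delta_zero hK, sub_zero] at hrank
  let e : (K ⧸ N) ≃ₗ[k] (adele k K ⧸ ADK (0 : Divisor k K)) :=
    (Submodule.quotEquivOfEq _ _ hker.symm).trans (LinearMap.quotKerEquivOfSurjective φ hsurj)
  refine ⟨Module.Finite.equiv e.symm, ?_⟩
  rw [e.finrank_eq]
  exact_mod_cast hrank

end Groth.Agent.FF
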