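import Groth.Agent.FunFld.LinSeries3

/-!
# Small lemmas for computations with complete linear systems (genus two statements)
-/

set_option autoImplicit false

open FunFld

namespace Groth.Agent.FF

universe u v
variable {k : Type u} {K : Type v} [Field k] [Field K] [Algebra k K]

/-- if `ℓ(E) = 1` for an effective divisor `E`, every member of `L(E)` is constant -/
lemma div_eq_zero_of_mem_L_of_ell_eq_one (hK : IsFunctionField k K) {E : Divisor k K}
    (hE : 0 ≤ E) (hell : ell E = 1) {z : K} (hz : z ∈ L E) : FunFld.div k z = 0 := by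
  have hfin := finite_L hK E
  have hle : L (0 : Divisor k K) ≤ L E := L_mono hE
  have heq : L (0 : Divisor k K) = L E := by
    apply Submodule.eq_of_le_of_finrank_eq hle
    have h0 := ell_zero hK (k := k) (K := K)
    unfold ell at h0 hell
    rw [h0, hell]
  rw [← heq, L_zero_eq hK, Submodule.mem_one] at hz
  obtain ⟨c, rfl⟩ := hz
  exact div_algebraMap hK c

/-- a nonzero member of `L(E)` for `E` of degree zero has divisor `-E` -/
lemma div_eq_neg_of_mem_L_deg_zero (hK : IsFunctionField k K) {E : Divisor k K}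
    (hdeg : E.deg = 0) {z : K} (hz0 : z ≠ 0) (hz : z ∈ L E) : FunFld.div k z = -E := by
  have := eq_neg_div_of_deg_zero hK hdeg hz0 hz
  exact eq_neg_of_add_eq_zero_right this

/-- if `ℓ(E) ≥ 1` with `deg E = 0` there is a function with divisor `-E` -/
lemma exists_div_eq_neg_of_ell_pos (hK : IsFunctionField k K) {E : Divisor k K}
    (hdeg : E.deg = 0) (hpos : 0 < ell E) : ∃ z : K, z ≠ 0 ∧ FunFld.div k z = -E := by
  obtain ⟨z, hz0, hz⟩ := exists_ne_zero_mem_L hpos
  exact ⟨z, hz0, div_eq_neg_of_mem_L_deg_zero hK hdeg hz0 hz⟩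

end Groth.Agent.FF
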