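import Mathlib
import Groth.Prelude.Def_CAlg
import Groth.Agent.Lib.Helper2.GorensteinQuotient
import Groth.Agent.Lib.Helper24.GorenEquiv
import Groth.Agent.Lib.Helper29.DepthQuot
import Groth.Agent.H34.LocDual
import Groth.Agent.S0342

/-!
# Tools for checking that a ring is Gorenstein

* `gor_of_principal`: a localization of a Noetherian domain whose maximal ideal becomes principal
  is Gorenstein (it is a discrete valuation ring);
* `gor_iff_of_surjective`: Gorenstein-ness of `A_p` versus `(A/t)_{p/t}`, phrased with an arbitrary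
  surjection with kernel `(t)`;
* `gor_of_le`, `isGorensteinRing_of_maximal`: it suffices to check maximal ideals;
* `exists_algHom_ker_eq`: the Nullstellensatz over an algebraically closed field.
-/

set_option autoImplicit false
set_option linter.style.haveILetI false
universe u
open IsLocalRing

namespace Groth.Agent.FF.GorTools

open LocCoh

/-- a local principal ideal domain is Gorenstein -/
theorem gor_of_isPrincipalIdealRing (A : Type u) [CommRing A] [IsLocalRing A] [IsDomain A]
    [IsPrincipalIdealRing A] : IsGorensteinLocalRing A :=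
  Groth.Agent.S0342.result A

/-- If `𝔫 B_𝔫` is generated by one element, `B_𝔫` is Gorenstein. -/
theorem gor_of_principal {B : Type u} [CommRing B] [IsDomain B] [IsNoetherianRing B]
    (𝔫 : Ideal B) [𝔫.IsPrime] (y s : B) (hy : y ∈ 𝔫) (hy0 : y ≠ 0) (hs : s ∉ 𝔫)
    (h : ∀ f ∈ 𝔫, ∃ g, s * f = y * g) :
    IsGorensteinLocalRing (Localization.AtPrime 𝔫) := by
  set L := Localization.AtPrime 𝔫
  haveI : IsNoetherianRing L := IsLocalization.isNoetherianRing 𝔫.primeCompl _ inferInstance
  have hinj : Function.Injective (algebraMap B L) :=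
    IsLocalization.injective L 𝔫.primeCompl_le_nonZeroDivisors
  have hymax : algebraMap B L y ∈ maximalIdeal L := by
    rw [IsLocalization.AtPrime.to_map_mem_maximal_iff L 𝔫]
    exact hy
  have hy0' : algebraMap B L y ≠ 0 := fun h0 => hy0 (hinj (by rw [h0, map_zero]))
  have hnf : ¬ IsField L := by
    rw [isField_iff_maximalIdeal_eq]
    intro hbot
    rw [hbot] at hymax
    exact hy0' hymax
  have hprin : (maximalIdeal L).IsPrincipal := by
    refine ⟨⟨algebraMap B L y, ?_⟩⟩
    apply le_antisymm
    · rw [← Localization.AtPrime.map_eq_maximalIdeal, Ideal.map_le_iff_le_comap]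
      intro f hf
      obtain ⟨g, hg⟩ := h f hf
      have hu : IsUnit (algebraMap B L s) := IsLocalization.map_units L (⟨s, hs⟩ : 𝔫.primeCompl)
      obtain ⟨u, hu'⟩ := hu
      rw [Ideal.mem_comap, Ideal.submodule_span_eq, Ideal.mem_span_singleton']
      refine ⟨↑u⁻¹ * algebraMap B L g, ?_⟩
      have h1 : algebraMap B L s * algebraMap B L f = algebraMap B L y * algebraMap B L g := by
        rw [← map_mul, ← map_mul, hg]
      rw [← hu'] at h1
      calc ↑u⁻¹ * algebraMap B L g * algebraMap B L y
          = ↑u⁻¹ * (algebraMap B L y * algebraMap B L g) := by ring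
        _ = ↑u⁻¹ * (↑u * algebraMap B L f) := by rw [h1]
        _ = algebraMap B L f := by rw [← mul_assoc, Units.inv_mul, one_mul]
    · rw [Ideal.submodule_span_eq, Ideal.span_singleton_le_iff_mem]
      exact hymax
  haveI : IsDiscreteValuationRing L := ((IsDiscreteValuationRing.TFAE L hnf).out 0 4).mpr hprin
  exact gor_of_isPrincipalIdealRing L

/-- `A_p` is Gorenstein iff `(A/t)_{p/t}` is, for `t ∈ p` a nonzerodivisor. -/
theorem gor_iff_quotient (A : Type u) [CommRing A] [IsNoetherianRing A]
    (p : Ideal A) [p.IsPrime] (t : A) (htp : t ∈ p) (hreg : t ∈ nonZeroDivisors A)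
    [hP : (p.map (Ideal.Quotient.mk (Ideal.span {t}))).IsPrime] :
    IsGorensteinLocalRing (Localization.AtPrime p) ↔
      IsGorensteinLocalRing (Localization.AtPrime (p.map (Ideal.Quotient.mk (Ideal.span {t})))) := by
  have hIp : Ideal.span {t} ≤ p := (Ideal.span_singleton_le_iff_mem p).mpr htp
  set P := p.map (Ideal.Quotient.mk (Ideal.span {t})) with hPdef
  set x := algebraMap A (Localization.AtPrime p) t with hx
  haveI : IsNoetherianRing (Localization.AtPrime p) :=
    IsLocalization.isNoetherianRing p.primeCompl _ inferInstance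
  have hxm : x ∈ maximalIdeal (Localization.AtPrime p) := by
    rw [IsLocalization.AtPrime.to_map_mem_maximal_iff (Localization.AtPrime p) p]
    exact htp
  set I' := (Ideal.span {t}).map (algebraMap A (Localization.AtPrime p)) with hI'
  have hI'eq : I' = Ideal.span {x} := by
    rw [hI', Ideal.map_span, Set.image_singleton]
  have h1 : IsLocalization (Algebra.algebraMapSubmonoid (A ⧸ Ideal.span {t}) p.primeCompl)
      (Localization.AtPrime p ⧸ I') := inferInstance
  rw [Groth.Agent.Lib.Helper29.algebraMapSubmonoid_quotient_primeCompl' A hIp] at h1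
  have hAt : IsLocalization.AtPrime (Localization.AtPrime p ⧸ I') P := h1
  let e : Localization.AtPrime P ≃+* (Localization.AtPrime p ⧸ I') :=
    (IsLocalization.algEquiv P.primeCompl (Localization.AtPrime P)
      (Localization.AtPrime p ⧸ I')).toRingEquiv
  have hxreg : IsSMulRegular (Localization.AtPrime p) x := by
    have h2 : x ∈ nonZeroDivisors (Localization.AtPrime p) :=
      IsLocalization.map_nonZeroDivisors_le p.primeCompl (Localization.AtPrime p)
        (Submonoid.mem_map_of_mem _ hreg)
    intro a b hab
    have h3 : x * (a - b) = 0 := by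
      rw [mul_sub]
      exact sub_eq_zero.mpr hab
    have := (mem_nonZeroDivisors_iff.mp h2).1 (a - b) h3
    exact sub_eq_zero.mp this
  rw [Groth.Agent.Lib.Helper2.Rees.isGorensteinLocalRing_iff_quotient (Localization.AtPrime p) x hxm hxreg,
    ← Groth.Agent.Lib.Helper24.isGorensteinLocalRing_quotient_congr hI'eq]
  exact (Groth.Agent.Lib.Helper24.isGorensteinLocalRing_iff_of_ringEquiv e).symm

/-- Variant of `gor_iff_quotient` when `A/t` is already local with maximal ideal `p/t`. -/
theorem gor_iff_quotient_of_units (A : Type u) [CommRing A] [IsNoetherianRing A]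
    (p : Ideal A) [p.IsPrime] (t : A) (htp : t ∈ p) (hreg : t ∈ nonZeroDivisors A)
    (hunits : ∀ a : A, a ∉ p → IsUnit (Ideal.Quotient.mk (Ideal.span {t}) a)) :
    IsGorensteinLocalRing (Localization.AtPrime p) ↔
      IsGorensteinLocalRing (A ⧸ Ideal.span {t}) := by
  have hIp : Ideal.span {t} ≤ p := (Ideal.span_singleton_le_iff_mem p).mpr htp
  haveI hP : (p.map (Ideal.Quotient.mk (Ideal.span {t}))).IsPrime :=
    Ideal.map_isPrime_of_surjective Ideal.Quotient.mk_surjective
      (by rw [Ideal.mk_ker]; exact hIp)
  rw [gor_iff_quotient A p t htp hreg]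
  have hu : ∀ b ∈ (p.map (Ideal.Quotient.mk (Ideal.span {t}))).primeCompl, IsUnit b := by
    intro b hb
    obtain ⟨a, rfl⟩ := Ideal.Quotient.mk_surjective b
    apply hunits
    intro ha
    exact hb (Ideal.mem_map_of_mem _ ha)
  exact (Groth.Agent.Lib.Helper24.isGorensteinLocalRing_iff_of_ringEquiv
    (IsLocalization.atUnits (A ⧸ Ideal.span {t})
      (p.map (Ideal.Quotient.mk (Ideal.span {t}))).primeCompl hu).toRingEquiv).symm

/-- Gorenstein-ness along a surjection with principal kernel generated by a nonzerodivisor. -/
theorem gor_iff_of_surjective {A B : Type u} [CommRing A] [CommRing B] [IsNoetherianRing A]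
    (π : A →+* B) (hπ : Function.Surjective π) (t : A) (hker : RingHom.ker π = Ideal.span {t})
    (ht : t ∈ nonZeroDivisors A) (q : Ideal B) [q.IsPrime] :
    IsGorensteinLocalRing (Localization.AtPrime (q.comap π)) ↔
      IsGorensteinLocalRing (Localization.AtPrime q) := by
  set p := q.comap π with hp
  have htp : t ∈ p := by
    rw [hp, Ideal.mem_comap]
    have : π t = 0 := by
      rw [← RingHom.mem_ker, hker]
      exact Ideal.mem_span_singleton_self t
    rw [this]
    exact q.zero_mem
  have hIp : Ideal.span {t} ≤ p := (Ideal.span_singleton_le_iff_mem p).mpr htp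
  let e0 : (A ⧸ Ideal.span {t}) ≃+* B :=
    (Ideal.quotEquivOfEq hker.symm).trans (RingHom.quotientKerEquivOfSurjective hπ)
  have he0 : ∀ a : A, e0 (Ideal.Quotient.mk _ a) = π a := fun a => rfl
  have hPeq : p.map (Ideal.Quotient.mk (Ideal.span {t})) = q.comap (e0 : (A ⧸ Ideal.span {t}) →+* B) := by
    ext z
    obtain ⟨a, rfl⟩ := Ideal.Quotient.mk_surjective z
    rw [Ideal.mem_quotient_iff_mem hIp, Ideal.mem_comap]
    change a ∈ q.comap π ↔ e0 (Ideal.Quotient.mk _ a) ∈ q
    rw [he0, Ideal.mem_comap]
  haveI hP : (p.map (Ideal.Quotient.mk (Ideal.span {t}))).IsPrime := by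
    rw [hPeq]
    exact Ideal.comap_isPrime _ _
  rw [gor_iff_quotient A p t htp ht]
  have e' : Localization.AtPrime (p.map (Ideal.Quotient.mk (Ideal.span {t}))) ≃+*
      Localization.AtPrime q :=
    IsLocalization.ringEquivOfRingEquiv
      (M := (p.map (Ideal.Quotient.mk (Ideal.span {t}))).primeCompl)
      (T := q.primeCompl) _ _ e0 (by
        ext x
        simp only [Submonoid.mem_map, Ideal.mem_primeCompl_iff]
        constructor
        · rintro ⟨y, hy, rfl⟩
          intro hq
          apply hy
          rw [hPeq, Ideal.mem_comap]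
          exact hq
        · intro hx
          refine ⟨e0.symm x, ?_, by simp⟩
          rw [hPeq, Ideal.mem_comap]
          simpa using hx)
  exact Groth.Agent.Lib.Helper24.isGorensteinLocalRing_iff_of_ringEquiv e'

/-- Generization of the Gorenstein property. -/
theorem gor_of_le (A : Type u) [CommRing A] (P q : Ideal A)
    [hP : P.IsPrime] [q.IsPrime] (hPq : P ≤ q)
    (h : IsGorensteinLocalRing (Localization.AtPrime q)) :
    IsGorensteinLocalRing (Localization.AtPrime P) := by
  have hdisj : Disjoint (q.primeCompl : Set A) (P : Set A) := by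
    rw [Set.disjoint_left]
    intro x hx hxP
    exact hx (hPq hxP)
  have hP' : (P.map (algebraMap A (Localization.AtPrime q))).IsPrime :=
    IsLocalization.isPrime_of_isPrime_disjoint q.primeCompl _ P hP hdisj
  have hcomap : (P.map (algebraMap A (Localization.AtPrime q))).comap
      (algebraMap A (Localization.AtPrime q)) = P :=
    IsLocalization.under_map_of_isPrime_disjoint q.primeCompl _ hP hdisj
  have h1 : IsGorensteinLocalRing
      (Localization.AtPrime (P.map (algebraMap A (Localization.AtPrime q)))) :=
    Groth.Agent.H34.LocDual.isGorensteinLocalRing_localization (Localization.AtPrime q) _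
  have key : ∀ (J : Ideal A) [J.IsPrime], J = P →
      (Localization.AtPrime J ≃+* Localization.AtPrime
        (P.map (algebraMap A (Localization.AtPrime q)))) →
      IsGorensteinLocalRing (Localization.AtPrime P) := by
    intro J _ hJ e
    subst hJ
    exact Groth.Agent.Lib.Helper24.isGorensteinLocalRing_of_ringEquiv e.symm h1
  exact key _ hcomap (IsLocalization.localizationLocalizationAtPrimeIsoLocalization
    q.primeCompl (P.map (algebraMap A (Localization.AtPrime q)))).toRingEquiv

/-- It suffices to check the Gorenstein property at maximal ideals. -/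
theorem isGorensteinRing_of_maximal (A : Type u) [CommRing A] [IsNoetherianRing A]
    (h : ∀ (m : Ideal A) [m.IsMaximal], IsGorensteinLocalRing (Localization.AtPrime m)) :
    IsGorensteinRing A := by
  refine { isGorensteinLocalRing_localization := fun p hp => ?_ }
  obtain ⟨m, hm, hpm⟩ := Ideal.exists_le_maximal p hp.ne_top
  exact gor_of_le A p m hpm (h m)

/-- Gorenstein-ness at a maximal ideal containing `t`, from the quotient by `t`. -/
theorem gor_of_surjective_of_maximal {A B : Type u} [CommRing A] [CommRing B] [IsNoetherianRing A]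
    (π : A →+* B) (hπ : Function.Surjective π) (t : A) (hker : RingHom.ker π = Ideal.span {t})
    (ht : t ∈ nonZeroDivisors A) (m : Ideal A) [hm : m.IsMaximal] (htm : t ∈ m)
    (h : ∀ (n : Ideal B) [n.IsMaximal], IsGorensteinLocalRing (Localization.AtPrime n)) :
    IsGorensteinLocalRing (Localization.AtPrime m) := by
  have hkm : RingHom.ker π ≤ m := by
    rw [hker, Ideal.span_singleton_le_iff_mem]
    exact htm
  have hcomap : (m.map π).comap π = m := by
    rw [Ideal.comap_map_of_surjective π hπ, sup_eq_left]
    exact hkm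
  have hmax : (m.map π).IsMaximal := by
    rcases Ideal.map_eq_top_or_isMaximal_of_surjective π hπ hm with htop | hmax
    · exfalso
      rw [htop, Ideal.comap_top] at hcomap
      exact hm.ne_top hcomap.symm
    · exact hmax
  have h1 := (gor_iff_of_surjective π hπ t hker ht (m.map π)).mpr (h (m.map π))
  have key : ∀ (J : Ideal A) [J.IsPrime], J = m →
      IsGorensteinLocalRing (Localization.AtPrime J) →
      IsGorensteinLocalRing (Localization.AtPrime m) := by
    intro J _ hJ hG
    subst hJ
    exact hG
  exact key _ hcomap h1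

/-- Nullstellensatz: maximal ideals of finitely generated algebras over an algebraically closed
field are kernels of points. -/
theorem exists_algHom_ker_eq (k : Type u) [Field k] [IsAlgClosed k] (A : Type u) [CommRing A]
    [Algebra k A] [Algebra.FiniteType k A] (m : Ideal A) [hm : m.IsMaximal] :
    ∃ φ : A →ₐ[k] k, RingHom.ker (φ : A →+* k) = m := by
  letI : Field (A ⧸ m) := Ideal.Quotient.field m
  haveI : Algebra.FiniteType k (A ⧸ m) :=
    Algebra.FiniteType.of_surjective (Ideal.Quotient.mkₐ k m) Ideal.Quotient.mk_surjective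
  haveI : Module.Finite k (A ⧸ m) := finite_of_finite_type_of_isJacobsonRing k (A ⧸ m)
  haveI : Algebra.IsIntegral k (A ⧸ m) := Algebra.IsIntegral.of_finite k (A ⧸ m)
  have hbij : Function.Bijective (algebraMap k (A ⧸ m)) :=
    IsAlgClosed.algebraMap_bijective_of_isIntegral
  let e : k ≃ₐ[k] (A ⧸ m) := AlgEquiv.ofBijective (Algebra.ofId k (A ⧸ m)) hbij
  refine ⟨(e.symm : (A ⧸ m) →ₐ[k] k).comp (Ideal.Quotient.mkₐ k m), ?_⟩
  ext a
  rw [RingHom.mem_ker]
  change e.symm (Ideal.Quotient.mk m a) = 0 ↔ a ∈ m
  rw [map_eq_zero_iff _ e.symm.injective, Ideal.Quotient.eq_zero_iff_mem]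

end Groth.Agent.FF.GorTools
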