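import Groth.Agent.FunFld.RamGroups
import Groth.Agent.FunFld.GaloisTrans
import Groth.Agent.FunFld.ConstField
import Mathlib.Algebra.Polynomial.Identities
import Mathlib.FieldTheory.PrimitiveElement

/-!
# Ramification groups and local parameters
-/

set_option autoImplicit false
set_option linter.unusedSectionVars false

open FunFld WithZero Polynomial

namespace Groth.Agent.FF

variable {k K K' : Type*} [Field k] [Field K] [Field K'] [Algebra k K] [Algebra K K']
  [Algebra k K'] [IsScalarTower k K K']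

/-- an automorphism in a ramification group preserves the valuation -/
lemma InRam.val_map [FiniteDimensional K K'] {Q : Place k K'} {σ : K' ≃ₐ[K] K'} {i : ℤ}
    (h : InRam Q σ i) (hi : 0 ≤ i) (x : K') : Q.1 (σ x) = Q.1 x := by
  have hiff : ∀ z : K', (Place.comapEquiv Q σ).1 z ≤ 1 ↔ Q.1 z ≤ 1 := by
    intro z
    rw [Place.comapEquiv_apply]
    constructor
    · intro hz
      have := (h.inv hi).map_le_one hi hz
      rwa [AlgEquiv.aut_inv, AlgEquiv.symm_apply_apply] at this
    · exact fun hz => h.map_le_one hi hz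
  have heq : Place.comapEquiv Q σ = Q := place_ext_of_le_one_iff _ _ hiff
  rw [← Place.comapEquiv_apply, heq]

section Newton

variable (Q : Place k K')

/-- approximate roots of a polynomial over a discrete valuation ring with a simple root modulo the
maximal ideal (no completeness needed) -/
lemma exists_approx_root (H : Q.O[X]) (ξ₀ : Q.O)
    (hroot : Q.1 ((H.eval ξ₀ : Q.O) : K') < 1)
    (hder : Q.1 (((derivative H).eval ξ₀ : Q.O) : K') = 1) (j : ℕ) :
    ∃ ξ : Q.O, Q.1 ((ξ - ξ₀ : Q.O) : K') < 1 ∧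
      Q.1 ((H.eval ξ : Q.O) : K') ≤ exp (-((j : ℤ) + 1)) := by
  induction j with
  | zero =>
    refine ⟨ξ₀, by simp, ?_⟩
    simpa using Ext.le_exp_neg_one_of_lt_one hroot
  | succ j ih =>
    obtain ⟨ξ, hξ₀, hξ⟩ := ih
    -- the derivative at `ξ` is a unit
    have hder' : Q.1 (((derivative H).eval ξ : Q.O) : K') = 1 := by
      obtain ⟨c, hc⟩ := (derivative H).evalSubFactor ξ ξ₀
      have h1 : (((derivative H).eval ξ : Q.O) : K') =
          (((derivative H).eval ξ₀ : Q.O) : K') + ((c * (ξ - ξ₀) : Q.O) : K') := by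
        rw [← hc]
        push_cast
        ring
      rw [h1]
      have h2 : Q.1 ((c * (ξ - ξ₀) : Q.O) : K') < 1 := by
        push_cast
        rw [map_mul]
        calc Q.1 (c : K') * Q.1 ((ξ : K') - ξ₀) ≤ 1 * Q.1 ((ξ : K') - ξ₀) :=
              mul_le_mul' c.2 le_rfl
          _ < 1 := by rw [one_mul]; simpa using hξ₀
      rw [Q.1.map_add_eq_of_lt_left (by rw [hder]; exact h2), hder]
    set d : Q.O := (derivative H).eval ξ with hd
    set v : Q.O := H.eval ξ with hv
    have hd0 : (d : K') ≠ 0 := by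
      intro h0
      rw [h0, map_zero] at hder'
      exact zero_ne_one hder'
    -- the Newton step
    let δ : Q.O := ⟨-(v : K') / (d : K'), by
      rw [Valuation.mem_valuationSubring_iff, map_div₀, hder', div_one, Valuation.map_neg]
      exact v.2⟩
    have hδv : Q.1 (δ : K') = Q.1 (v : K') := by
      show Q.1 (-(v : K') / (d : K')) = _
      rw [map_div₀, hder', div_one, Valuation.map_neg]
    have hdδ : d * δ = -v := by
      apply Subtype.ext
      show (d : K') * (-(v : K') / (d : K')) = -(v : K')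
      field_simp
    obtain ⟨c, hc⟩ := H.binomExpansion ξ δ
    refine ⟨ξ + δ, ?_, ?_⟩
    · have h1 : ((ξ + δ - ξ₀ : Q.O) : K') = ((ξ - ξ₀ : Q.O) : K') + (δ : K') := by
        push_cast
        ring
      rw [h1]
      apply lt_of_le_of_lt (Q.1.map_add _ _)
      apply max_lt hξ₀
      rw [hδv]
      refine lt_of_le_of_lt hξ ?_
      rw [← exp_zero, exp_lt_exp]
      omega
    · have h2 : H.eval (ξ + δ) = c * δ ^ 2 := by
        rw [hc, ← hd, ← hv, hdδ]
        ring
      rw [h2]
      push_cast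
      rw [map_mul, map_pow, hδv]
      calc Q.1 (c : K') * Q.1 (v : K') ^ 2 ≤ 1 * (exp (-((j : ℤ) + 1))) ^ 2 :=
            mul_le_mul' c.2 (pow_le_pow_left' hξ 2)
        _ = exp (-((j : ℤ) + 1) + -((j : ℤ) + 1)) := by
            rw [one_mul, pow_two, ← exp_add]
        _ ≤ exp (-(((j + 1 : ℕ) : ℤ) + 1)) := by
            rw [exp_le_exp]
            push_cast
            omega

/-- the derivative stays a unit at nearby points -/
lemma val_derivative_eq_one_of_close (H : Q.O[X]) {ξ₀ ξ : Q.O}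
    (hder : Q.1 (((derivative H).eval ξ₀ : Q.O) : K') = 1)
    (hξ₀ : Q.1 ((ξ - ξ₀ : Q.O) : K') < 1) :
    Q.1 (((derivative H).eval ξ : Q.O) : K') = 1 := by
  obtain ⟨c, hc⟩ := (derivative H).evalSubFactor ξ ξ₀
  have h1 : (((derivative H).eval ξ : Q.O) : K') =
      (((derivative H).eval ξ₀ : Q.O) : K') + ((c * (ξ - ξ₀) : Q.O) : K') := by
    rw [← hc]
    push_cast
    ring
  rw [h1]
  have h2 : Q.1 ((c * (ξ - ξ₀) : Q.O) : K') < 1 := by
    push_cast
    rw [map_mul]
    calc Q.1 (c : K') * Q.1 ((ξ : K') - ξ₀) ≤ 1 * Q.1 ((ξ : K') - ξ₀) :=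
          mul_le_mul' c.2 le_rfl
      _ < 1 := by rw [one_mul]; simpa using hξ₀
  rw [Q.1.map_add_eq_of_lt_left (by rw [hder]; exact h2), hder]

/-- evaluation of a polynomial with constant coefficients inside the valuation ring -/
lemma coe_eval_map_O (p : k[X]) (x : Q.O) :
    (((p.map (algebraMap k Q.O)).eval x : Q.O) : K') = aeval (x : K') p := by
  rw [Polynomial.eval_map, aeval_def]
  exact Polynomial.hom_eval₂ p (algebraMap k Q.O) Q.O.subtype x

lemma res_eval_map_O (p : k[X]) (x : Q.O) :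
    res Q ((p.map (algebraMap k Q.O)).eval x) = aeval (res Q x) p := by
  rw [← Polynomial.eval_map_apply, Polynomial.map_map, aeval_def, Polynomial.eval_map]
  rfl

end Newton

section Param

variable [FiniteDimensional K K'] (Q : Place k K') (σ : K' ≃ₐ[K] K')

/-- the integral elements moved by `σ` to order `j` form a `k`-subalgebra -/
def moveAlg (hσ : InRam Q σ 1) (j : ℕ) : Subalgebra k K' where
  carrier := {x | Q.1 x ≤ 1 ∧ Q.1 (σ x - x) ≤ exp (-(j : ℤ))}
  mul_mem' := by
    rintro x y ⟨hx, hx'⟩ ⟨hy, hy'⟩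
    refine ⟨by rw [map_mul]; exact mul_le_one' hx hy, ?_⟩
    have h1 : σ (x * y) - x * y = σ x * (σ y - y) + (σ x - x) * y := by
      rw [map_mul]; ring
    rw [h1]
    apply Q.1.map_add_le
    · rw [map_mul]
      calc Q.1 (σ x) * Q.1 (σ y - y) ≤ 1 * exp (-(j : ℤ)) :=
            mul_le_mul' (hσ.map_le_one (by norm_num) hx) hy'
        _ = _ := one_mul _
    · rw [map_mul]
      calc Q.1 (σ x - x) * Q.1 y ≤ exp (-(j : ℤ)) * 1 := mul_le_mul' hx' hy
        _ = _ := mul_one _
  add_mem' := by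
    rintro x y ⟨hx, hx'⟩ ⟨hy, hy'⟩
    refine ⟨Q.1.map_add_le hx hy, ?_⟩
    have h1 : σ (x + y) - (x + y) = (σ x - x) + (σ y - y) := by
      rw [map_add]; ring
    rw [h1]
    exact Q.1.map_add_le hx' hy'
  algebraMap_mem' := by
    intro c
    refine ⟨Q.2.1 c, ?_⟩
    rw [IsScalarTower.algebraMap_apply k K K', σ.commutes, sub_self, map_zero]
    exact zero_le

lemma mem_moveAlg {hσ : InRam Q σ 1} {j : ℕ} {x : K'} :
    x ∈ moveAlg Q σ hσ j ↔ Q.1 x ≤ 1 ∧ Q.1 (σ x - x) ≤ exp (-(j : ℤ)) := Iff.rfl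

/-- **Ramification groups via a local parameter.** If the residue field of `Q` is separable over
`k`, an element `σ` of the first ramification group lies in the `j`-th one as soon as it moves a
local parameter to order `j`. -/
theorem inRam_of_uniformizer (hK : IsFunctionField k K)
    [Algebra.IsSeparable k (IsLocalRing.ResidueField Q.O)] (hσ : InRam Q σ 1) {t : K'}
    (ht : Q.1 t = exp (-1 : ℤ)) {j : ℕ} (h : Q.1 (σ t - t) ≤ exp (-(j : ℤ))) :
    InRam Q σ j := by
  have hfin : FiniteDimensional k (IsLocalRing.ResidueField Q.O) :=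
    Ext.finite_residueField_ext (K := K) hK Q
  set A := moveAlg Q σ hσ j with hA
  have ht1 : Q.1 t ≤ 1 := by
    rw [ht, ← exp_zero, exp_le_exp]; norm_num
  have ht0 : t ≠ 0 := by
    intro h0
    rw [h0, map_zero] at ht
    exact exp_ne_zero ht.symm
  have htA : t ∈ A := ⟨ht1, h⟩
  -- a primitive element of the residue field and an approximate root of its minimal polynomial
  obtain ⟨ξbar, hξbar⟩ := @Field.exists_primitive_element k (IsLocalRing.ResidueField Q.O) _ _ _ hfin _
  obtain ⟨ξ₀, hξ₀⟩ := IsLocalRing.residue_surjective (R := Q.O) ξbar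
  set hmin := minpoly k ξbar with hhmin
  have hsep : hmin.Separable := Algebra.IsSeparable.isSeparable k ξbar
  set H : Q.O[X] := hmin.map (algebraMap k Q.O) with hH
  have hroot : Q.1 ((H.eval ξ₀ : Q.O) : K') < 1 := by
    rw [← res_eq_zero_iff, hH, res_eval_map_O]
    show aeval (IsLocalRing.residue Q.O ξ₀) hmin = 0
    rw [hξ₀, hhmin, minpoly.aeval]
  have hder : Q.1 (((derivative H).eval ξ₀ : Q.O) : K') = 1 := by
    have h1 : ¬ Q.1 (((derivative H).eval ξ₀ : Q.O) : K') < 1 := by
      rw [← res_eq_zero_iff, hH, Polynomial.derivative_map, res_eval_map_O]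
      show aeval (IsLocalRing.residue Q.O ξ₀) (derivative hmin) ≠ 0
      rw [hξ₀]
      exact hsep.aeval_derivative_ne_zero (minpoly.aeval k ξbar)
    exact le_antisymm ((derivative H).eval ξ₀).2 (not_lt.mp h1)
  obtain ⟨ξ, hξξ₀, hξ⟩ := exists_approx_root Q H ξ₀ hroot hder j
  have hder' := val_derivative_eq_one_of_close Q H hder hξξ₀
  have hresξ : res Q ξ = ξbar := by
    rw [← hξ₀, ← sub_eq_zero, ← map_sub]
    exact (res_eq_zero_iff Q _).mpr hξξ₀
  -- `ξ` lies in `A`
  have hξA : (ξ : K') ∈ A := by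
    refine ⟨ξ.2, ?_⟩
    let σξ : Q.O := ⟨σ ξ, hσ.map_le_one (by norm_num) ξ.2⟩
    set ε : Q.O := σξ - ξ with hε
    obtain ⟨c, hc⟩ := H.binomExpansion ξ ε
    have hσξ : ξ + ε = σξ := by rw [hε]; ring
    rw [hσξ] at hc
    have h1 : ((H.eval σξ : Q.O) : K') = σ ((H.eval ξ : Q.O) : K') := by
      rw [hH, coe_eval_map_O, coe_eval_map_O]
      exact Polynomial.aeval_algHom_apply (σ.restrictScalars k) (ξ : K') hmin
    have h2 : Q.1 ((H.eval σξ : Q.O) : K') ≤ exp (-((j : ℤ) + 1)) := by
      rw [h1, hσ.val_map (by norm_num)]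
      exact hξ
    have h3 : ((H.eval σξ - H.eval ξ : Q.O) : K') =
        (((derivative H).eval ξ + c * ε : Q.O) : K') * (ε : K') := by
      rw [hc]
      push_cast
      ring
    have h4 : Q.1 (((derivative H).eval ξ + c * ε : Q.O) : K') = 1 := by
      have h5 : Q.1 ((c * ε : Q.O) : K') < 1 := by
        push_cast
        rw [map_mul]
        have h6 : Q.1 (ε : K') ≤ exp (-(1 : ℤ)) := hσ ξ ξ.2
        calc Q.1 (c : K') * Q.1 (ε : K') ≤ 1 * exp (-(1 : ℤ)) := mul_le_mul' c.2 h6
          _ < 1 := by rw [one_mul, ← exp_zero, exp_lt_exp]; norm_num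
      push_cast
      push_cast at h5 hder'
      rw [Q.1.map_add_eq_of_lt_left (by rw [hder']; exact h5), hder']
    have h7 : Q.1 (ε : K') ≤ exp (-((j : ℤ) + 1)) := by
      have h8 : Q.1 ((H.eval σξ - H.eval ξ : Q.O) : K') ≤ exp (-((j : ℤ) + 1)) := by
        push_cast
        exact Q.1.map_sub_le h2 hξ
      rw [h3, map_mul, h4, one_mul] at h8
      exact h8
    apply h7.trans
    rw [exp_le_exp]
    omega
  -- every residue class is represented in `A`
  have hsurj : ∀ y : IsLocalRing.ResidueField Q.O, ∃ a : Q.O, (a : K') ∈ A ∧ res Q a = y := by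
    intro y
    have hy : y ∈ (IntermediateField.adjoin k {ξbar}).toSubalgebra := by
      rw [hξbar]; trivial
    rw [IntermediateField.adjoin_simple_toSubalgebra_of_isAlgebraic
      (Algebra.IsAlgebraic.isAlgebraic ξbar), Algebra.adjoin_singleton_eq_range_aeval] at hy
    obtain ⟨p, hp⟩ := hy
    refine ⟨(p.map (algebraMap k Q.O)).eval ξ, ?_, ?_⟩
    · rw [coe_eval_map_O]
      have := (aeval (⟨(ξ : K'), hξA⟩ : A) p).2
      rwa [← Subalgebra.aeval_coe] at this
    · rw [res_eval_map_O, hresξ]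
      exact hp
  -- `t`-adic approximation by elements of `A`
  have happrox : ∀ n : ℕ, ∀ x : K', Q.1 x ≤ 1 → ∃ a ∈ A, Q.1 (x - a) ≤ exp (-(n : ℤ)) := by
    intro n
    induction n with
    | zero =>
      intro x hx
      exact ⟨0, A.zero_mem, by simpa using hx⟩
    | succ n ih =>
      intro x hx
      obtain ⟨a, haA, ha⟩ := ih x hx
      have hy : Q.1 ((x - a) / t ^ n) ≤ 1 := by
        rw [map_div₀, map_pow, ht, ← exp_nsmul, div_le_iff₀ (by exact exp_pos), one_mul]
        simpa using ha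
      obtain ⟨b, hbA, hb⟩ := hsurj (res Q ⟨(x - a) / t ^ n, hy⟩)
      refine ⟨a + b * t ^ n, A.add_mem haA (A.mul_mem hbA (A.pow_mem htA n)), ?_⟩
      have h1 : x - (a + b * t ^ n) = ((x - a) / t ^ n - b) * t ^ n := by
        field_simp
        ring
      have h2 : Q.1 ((x - a) / t ^ n - b) ≤ exp (-(1 : ℤ)) := by
        apply Ext.le_exp_neg_one_of_lt_one
        have h3 : res Q (⟨(x - a) / t ^ n, hy⟩ - b) = 0 := by
          rw [map_sub, hb, sub_self]
        exact (res_eq_zero_iff Q _).mp h3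
      rw [h1, map_mul, map_pow, ht, ← exp_nsmul]
      calc Q.1 ((x - a) / t ^ n - b) * exp (n • (-1 : ℤ)) ≤ exp (-(1 : ℤ)) * exp (n • (-1 : ℤ)) :=
            mul_le_mul' h2 le_rfl
        _ = exp (-((n + 1 : ℕ) : ℤ)) := by
            rw [← exp_add]; congr 1; push_cast; simp
  -- conclusion
  intro x hx
  obtain ⟨a, haA, ha⟩ := happrox j x hx
  have h1 : σ x - x = (σ (x - a) - (x - a)) + (σ a - a) := by
    rw [map_sub]; ring
  rw [h1]
  apply Q.1.map_add_le _ haA.2
  apply Q.1.map_sub_le _ ha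
  rw [hσ.val_map (by norm_num)]
  exact ha

end Param

end Groth.Agent.FF
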