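import Groth.Agent.FunFld.HilbertSep
import Groth.Agent.FunFld.DiffExp
import Groth.Agent.FunFld.InertiaField
import Groth.Agent.FunFld.RamGroups2

/-!
# Hilbert's different formula
-/

set_option autoImplicit false
set_option linter.unusedSectionVars false

namespace Groth.Agent.FF.Hilbert

open WithZero FunFld Groth.Agent.FF Groth.Agent.FF.Ext Polynomial

universe u v w

section Series
variable {F : Type w} [Field F]

/-- differentiation lowers the order of a Laurent series by at most one -/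
lemma val_D_le_of_le {f : LaurentSeries F} {m : ℤ}
    (h : Valued.v f ≤ (exp (-m) : ℤᵐ⁰)) :
    Valued.v (LocRes.D F f) ≤ (exp (-(m - 1)) : ℤᵐ⁰) := by
  rw [LaurentSeries.valuation_le_iff_coeff_lt_eq_zero] at h ⊢
  intro n hn
  rw [LocRes.D_coeff, h (n + 1) (by omega), smul_zero]

end Series

section LemmaA

variable {k : Type u} {T K' : Type v} [Field k] [Field T] [Field K'] [Algebra k T] [Algebra T K']
  [Algebra k K'] [IsScalarTower k T K'] {F' : Type w} [Field F'] [Algebra k F']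

/-- differentiating a polynomial with constant coefficients through an expansion -/
lemma D_aeval_const (ψ : K' →ₐ[k] LaurentSeries F') (z : K') (p : k[X]) :
    LocRes.D F' (ψ (aeval z p)) = ψ (aeval z (derivative p)) * LocRes.D F' (ψ z) := by
  induction p using Polynomial.induction_on' with
  | add p q hp hq =>
    rw [map_add, map_add, map_add, hp, hq, derivative_add, map_add, map_add, add_mul]
  | monomial n a =>
    rw [aeval_monomial, derivative_monomial, aeval_monomial, map_mul, map_pow, Derivation.leibniz,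
      Derivation.leibniz_pow, LocRes.map_algebraMap, LocRes.D_apply F' (HahnSeries.C _),
      LocRes.derivative_C]
    simp only [map_mul, map_pow, map_natCast, smul_eq_mul, nsmul_eq_mul, LocRes.map_algebraMap]
    ring

/-- the elements of the valuation ring above whose expansion has derivative of order at least
that of `dτ` -/
def goodAlg (Q : Place k K') (ψ : K' →ₐ[k] LaurentSeries F') (hψ : LocRes.IsExpansionAt Q.1 ψ)
    (γ : ℤᵐ⁰) : Subalgebra k K' where
  carrier := {a | Q.1 a ≤ 1 ∧ Valued.v (LocRes.D F' (ψ a)) ≤ γ}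
  mul_mem' := by
    rintro a b ⟨ha, ha'⟩ ⟨hb, hb'⟩
    refine ⟨by rw [map_mul]; exact mul_le_one' ha hb, ?_⟩
    rw [map_mul, Derivation.leibniz, smul_eq_mul, smul_eq_mul]
    apply Valuation.map_add_le
    · rw [map_mul, hψ.1]
      calc Q.1 a * Valued.v (LocRes.D F' (ψ b)) ≤ 1 * γ := mul_le_mul' ha hb'
        _ = γ := one_mul _
    · rw [map_mul, hψ.1]
      calc Q.1 b * Valued.v (LocRes.D F' (ψ a)) ≤ 1 * γ := mul_le_mul' hb ha'
        _ = γ := one_mul _
  add_mem' := by
    rintro a b ⟨ha, ha'⟩ ⟨hb, hb'⟩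
    refine ⟨Q.1.map_add_le ha hb, ?_⟩
    rw [map_add, map_add]
    exact Valuation.map_add_le _ ha' hb'
  algebraMap_mem' := by
    intro c
    refine ⟨Q.2.1 c, ?_⟩
    rw [LocRes.map_algebraMap, LocRes.D_apply, LocRes.derivative_C, map_zero]
    exact zero_le

lemma mem_goodAlg {Q : Place k K'} {ψ : K' →ₐ[k] LaurentSeries F'}
    {hψ : LocRes.IsExpansionAt Q.1 ψ} {γ : ℤᵐ⁰} {a : K'} :
    a ∈ goodAlg Q ψ hψ γ ↔ Q.1 a ≤ 1 ∧ Valued.v (LocRes.D F' (ψ a)) ≤ γ := Iff.rfl

/-- elements of high order are good -/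
lemma mem_goodAlg_of_le {Q : Place k K'} {ψ : K' →ₐ[k] LaurentSeries F'}
    {hψ : LocRes.IsExpansionAt Q.1 ψ} {γ : ℤᵐ⁰} {M : ℕ} (hM : (exp (-((M : ℤ) - 1)) : ℤᵐ⁰) ≤ γ)
    {a : K'} (ha : Q.1 a ≤ exp (-(M : ℤ))) : a ∈ goodAlg Q ψ hψ γ := by
  refine ⟨ha.trans ?_, ?_⟩
  · rw [← exp_zero, exp_le_exp]; omega
  · refine le_trans (val_D_le_of_le ?_) hM
    rw [hψ.1]; exact ha

/-- **Derivatives of integral elements of an unramified subextension**: if `Q` lies over the
place `Q₁` of `T` whose residue field is separable over `k`, the expansions at `Q` of the integral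
elements of `T` have derivatives of order at least that of `dτ`, for `τ` a local parameter at
`Q₁`. -/
theorem val_D_le_of_local_param (Q₁ : Place k T) (Q : Place k K') {e₁ : ℕ}
    (he₁ : IsOverWith Q Q₁ e₁)
    [hfin : FiniteDimensional k (IsLocalRing.ResidueField Q₁.O)]
    [hsep : Algebra.IsSeparable k (IsLocalRing.ResidueField Q₁.O)]
    (ψ : K' →ₐ[k] LaurentSeries F') (hψ : LocRes.IsExpansionAt Q.1 ψ) {τ : T}
    (hτ : Q₁.1 τ = exp (-1 : ℤ)) (hDτ : LocRes.D F' (ψ (algebraMap T K' τ)) ≠ 0)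
    {x : T} (hx : Q₁.1 x ≤ 1) :
    Valued.v (LocRes.D F' (ψ (algebraMap T K' x))) ≤
      Valued.v (LocRes.D F' (ψ (algebraMap T K' τ))) := by
  classical
  have hepos : 0 < e₁ := isOverWith_pos he₁
  set γ : ℤᵐ⁰ := Valued.v (LocRes.D F' (ψ (algebraMap T K' τ))) with hγ
  have hγ0 : γ ≠ 0 := (Valuation.ne_zero_iff _).2 hDτ
  -- the precision
  obtain ⟨M, hM⟩ : ∃ M : ℕ, (exp (-((M : ℤ) - 1)) : ℤᵐ⁰) ≤ γ := by
    refine ⟨(1 - log γ).toNat, ?_⟩
    refine le_of_le_of_eq ?_ (exp_log hγ0)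
    rw [exp_le_exp]
    omega
  set W := goodAlg Q ψ hψ γ with hW
  set WT : Subalgebra k T := W.comap (IsScalarTower.toAlgHom k T K') with hWT
  have hmemWT : ∀ a : T, a ∈ WT ↔ algebraMap T K' a ∈ W := fun a => Iff.rfl
  have hτ1 : Q₁.1 τ ≤ 1 := by
    rw [hτ, ← exp_zero, exp_le_exp]; norm_num
  have hτ0 : τ ≠ 0 := by
    intro h0
    rw [h0, map_zero] at hτ
    exact exp_ne_zero hτ.symm
  have hle1 : ∀ a : T, Q₁.1 a ≤ 1 → Q.1 (algebraMap T K' a) ≤ 1 := by
    intro a ha
    rw [he₁]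
    exact pow_le_one' ha e₁
  have hτW : τ ∈ WT := ⟨hle1 τ hτ1, le_rfl⟩
  have hhigh : ∀ a : T, Q₁.1 a ≤ exp (-(M : ℤ)) → a ∈ WT := by
    intro a ha
    rw [hmemWT]
    apply mem_goodAlg_of_le hM
    rw [he₁]
    have h1 : (exp (-(M : ℤ)) : ℤᵐ⁰) ≤ 1 := by
      rw [← exp_zero, exp_le_exp]; omega
    calc Q₁.1 a ^ e₁ ≤ (exp (-(M : ℤ)) : ℤᵐ⁰) ^ e₁ := pow_le_pow_left' ha e₁
      _ ≤ (exp (-(M : ℤ)) : ℤᵐ⁰) ^ 1 := pow_le_pow_right_of_le_one' h1 hepos
      _ = _ := pow_one _
  -- a primitive element of the residue field and an approximate root of its minimal polynomial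
  obtain ⟨ξbar, hξbar⟩ :=
    @Field.exists_primitive_element k (IsLocalRing.ResidueField Q₁.O) _ _ _ hfin _
  obtain ⟨ξ₀, hξ₀⟩ := IsLocalRing.residue_surjective (R := Q₁.O) ξbar
  set hmin := minpoly k ξbar with hhmin
  have hsepmin : hmin.Separable := Algebra.IsSeparable.isSeparable k ξbar
  set H : Q₁.O[X] := hmin.map (algebraMap k Q₁.O) with hH
  have hroot : Q₁.1 ((H.eval ξ₀ : Q₁.O) : T) < 1 := by
    rw [← res_eq_zero_iff, hH, res_eval_map_O]
    show aeval (IsLocalRing.residue Q₁.O ξ₀) hmin = 0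
    rw [hξ₀, hhmin, minpoly.aeval]
  have hder : Q₁.1 (((derivative H).eval ξ₀ : Q₁.O) : T) = 1 := by
    have h1 : ¬ Q₁.1 (((derivative H).eval ξ₀ : Q₁.O) : T) < 1 := by
      rw [← res_eq_zero_iff, hH, Polynomial.derivative_map, res_eval_map_O]
      show aeval (IsLocalRing.residue Q₁.O ξ₀) (derivative hmin) ≠ 0
      rw [hξ₀]
      exact hsepmin.aeval_derivative_ne_zero (minpoly.aeval k ξbar)
    exact le_antisymm ((derivative H).eval ξ₀).2 (not_lt.mp h1)
  obtain ⟨ξ, hξξ₀, hξ⟩ := exists_approx_root Q₁ H ξ₀ hroot hder M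
  have hder' := val_derivative_eq_one_of_close Q₁ H hder hξξ₀
  have hresξ : res Q₁ ξ = ξbar := by
    rw [← hξ₀, ← sub_eq_zero, ← map_sub]
    exact (res_eq_zero_iff Q₁ _).mpr hξξ₀
  -- `ξ` is good
  have hξW : (ξ : T) ∈ WT := by
    rw [hmemWT]
    refine ⟨hle1 _ ξ.2, ?_⟩
    have h1 : ((H.eval ξ : Q₁.O) : T) ∈ WT := by
      apply hhigh
      apply hξ.trans
      rw [exp_le_exp]; omega
    rw [hmemWT, hH, coe_eval_map_O] at h1
    have h2 := h1.2
    have h3 : algebraMap T K' (aeval (ξ : T) hmin) = aeval (algebraMap T K' (ξ : T)) hmin := by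
      rw [← Polynomial.aeval_algebraMap_apply]
    rw [h3, D_aeval_const, map_mul, hψ.1] at h2
    have h4 : Q.1 (aeval (algebraMap T K' (ξ : T)) (derivative hmin)) = 1 := by
      have h5 : aeval (algebraMap T K' (ξ : T)) (derivative hmin) =
          algebraMap T K' (aeval (ξ : T) (derivative hmin)) := by
        rw [← Polynomial.aeval_algebraMap_apply]
      rw [h5, he₁, ← coe_eval_map_O, ← Polynomial.derivative_map, ← hH, hder', one_pow]
    rwa [h4, one_mul] at h2
  -- every residue class is represented in `WT`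
  have hsurj : ∀ y : IsLocalRing.ResidueField Q₁.O, ∃ a : Q₁.O, (a : T) ∈ WT ∧ res Q₁ a = y := by
    intro y
    have hy : y ∈ (IntermediateField.adjoin k {ξbar}).toSubalgebra := by
      rw [hξbar]; trivial
    rw [IntermediateField.adjoin_simple_toSubalgebra_of_isAlgebraic
      (Algebra.IsAlgebraic.isAlgebraic ξbar), Algebra.adjoin_singleton_eq_range_aeval] at hy
    obtain ⟨p, hp⟩ := hy
    refine ⟨(p.map (algebraMap k Q₁.O)).eval ξ, ?_, ?_⟩
    · rw [coe_eval_map_O]
      have := (aeval (⟨(ξ : T), hξW⟩ : WT) p).2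
      rwa [← Subalgebra.aeval_coe] at this
    · rw [res_eval_map_O, hresξ]
      exact hp
  -- `τ`-adic approximation by elements of `WT`
  have happrox : ∀ n : ℕ, ∀ z : T, Q₁.1 z ≤ 1 → ∃ a ∈ WT, Q₁.1 (z - a) ≤ exp (-(n : ℤ)) := by
    intro n
    induction n with
    | zero =>
      intro z hz
      exact ⟨0, WT.zero_mem, by simpa using hz⟩
    | succ n ih =>
      intro z hz
      obtain ⟨a, haA, ha⟩ := ih z hz
      have hy : Q₁.1 ((z - a) / τ ^ n) ≤ 1 := by
        rw [map_div₀, map_pow, hτ, ← exp_nsmul, div_le_iff₀ (by exact exp_pos), one_mul]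
        simpa using ha
      obtain ⟨b, hbA, hb⟩ := hsurj (res Q₁ ⟨(z - a) / τ ^ n, hy⟩)
      refine ⟨a + b * τ ^ n, WT.add_mem haA (WT.mul_mem hbA (WT.pow_mem hτW n)), ?_⟩
      have h1 : z - (a + b * τ ^ n) = ((z - a) / τ ^ n - b) * τ ^ n := by
        field_simp
        ring
      have h2 : Q₁.1 ((z - a) / τ ^ n - b) ≤ exp (-(1 : ℤ)) := by
        apply Ext.le_exp_neg_one_of_lt_one
        have h3 : res Q₁ (⟨(z - a) / τ ^ n, hy⟩ - b) = 0 := by
          rw [map_sub, hb, sub_self]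
        exact (res_eq_zero_iff Q₁ _).mp h3
      rw [h1, map_mul, map_pow, hτ, ← exp_nsmul]
      calc Q₁.1 ((z - a) / τ ^ n - b) * exp (n • (-1 : ℤ)) ≤
            exp (-(1 : ℤ)) * exp (n • (-1 : ℤ)) := mul_le_mul' h2 le_rfl
        _ = exp (-((n + 1 : ℕ) : ℤ)) := by
            rw [← exp_add]; congr 1; push_cast; simp
  -- conclusion
  obtain ⟨a, haW, ha⟩ := happrox M x hx
  have h1 : x = a + (x - a) := by ring
  have h2 : x ∈ WT := by
    rw [h1]
    exact WT.add_mem haW (hhigh _ ha)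
  exact ((hmemWT x).mp h2).2

/-- **The derivative of the minimal polynomial of a local parameter at a totally ramified
place** has the order of `dτ`, for `τ` a local parameter below. -/
theorem val_derivative_minpoly_eq [FiniteDimensional T K'] (Q₁ : Place k T) (Q : Place k K')
    {e₁ : ℕ} (he₁ : IsOverWith Q Q₁ e₁) (hn : e₁ = Module.finrank T K')
    [hfin : FiniteDimensional k (IsLocalRing.ResidueField Q₁.O)]
    [hsep : Algebra.IsSeparable k (IsLocalRing.ResidueField Q₁.O)]
    (ψ : K' →ₐ[k] LaurentSeries F') (hψ : LocRes.IsExpansionAt Q.1 ψ) {τ : T}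
    (hτ : Q₁.1 τ = exp (-1 : ℤ)) (hDτ : LocRes.D F' (ψ (algebraMap T K' τ)) ≠ 0)
    {s : K'} (hs : Q.1 s = exp (-1 : ℤ)) :
    Q.1 (aeval s (derivative (minpoly T s))) =
      Valued.v (LocRes.D F' (ψ (algebraMap T K' τ))) := by
  classical
  have hepos : 0 < e₁ := isOverWith_pos he₁
  set γ : ℤᵐ⁰ := Valued.v (LocRes.D F' (ψ (algebraMap T K' τ))) with hγ
  have hγ0 : γ ≠ 0 := (Valuation.ne_zero_iff _).2 hDτ
  have hγpos : 0 < γ := zero_lt_iff.mpr hγ0
  obtain ⟨hdeg, hc0, hci⟩ := eisenstein_of_totally_ramified he₁ hn hs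
  have hint : IsIntegral T s := Algebra.IsIntegral.isIntegral s
  have hmonic := minpoly.monic hint
  set f := minpoly T s with hf
  have hcoeff : ∀ i, Q₁.1 (f.coeff i) ≤ 1 := by
    intro i
    rcases lt_trichotomy i e₁ with h | h | h
    · apply (hci i h).trans
      rw [← exp_zero, exp_le_exp]
      norm_num
    · rw [h, ← hdeg, hmonic.coeff_natDegree, map_one]
    · rw [Polynomial.coeff_eq_zero_of_natDegree_lt (by omega), map_zero]
      exact zero_le
  have hA : ∀ a : T, Q₁.1 a ≤ 1 → Valued.v (LocRes.D F' (ψ (algebraMap T K' a))) ≤ γ :=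
    fun a ha => val_D_le_of_local_param Q₁ Q he₁ ψ hψ hτ hDτ ha
  have hτ0 : τ ≠ 0 := by
    intro h0
    rw [h0, map_zero] at hτ
    exact exp_ne_zero hτ.symm
  -- the constant coefficient
  have h0 : Valued.v (LocRes.D F' (ψ (algebraMap T K' (f.coeff 0)))) = γ := by
    set u : T := f.coeff 0 / τ with hu
    have hu1 : Q₁.1 u = 1 := by
      rw [hu, map_div₀, hc0, hτ, div_self exp_ne_zero]
    have hfu : f.coeff 0 = τ * u := by
      rw [hu]; field_simp
    rw [hfu, map_mul, map_mul, Derivation.leibniz, smul_eq_mul, smul_eq_mul]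
    have h1 : Valued.v (ψ (algebraMap T K' u) * LocRes.D F' (ψ (algebraMap T K' τ))) = γ := by
      rw [map_mul, hψ.1, he₁, hu1, one_pow, one_mul]
    have h2 : Valued.v (ψ (algebraMap T K' τ) * LocRes.D F' (ψ (algebraMap T K' u))) < γ := by
      rw [map_mul, hψ.1, he₁, hτ]
      have h3 : (exp (-1 : ℤ) : ℤᵐ⁰) ^ e₁ < 1 := by
        rw [← exp_nsmul, ← exp_zero, exp_lt_exp]
        simp only [nsmul_eq_mul]
        omega
      calc (exp (-1 : ℤ) : ℤᵐ⁰) ^ e₁ * Valued.v (LocRes.D F' (ψ (algebraMap T K' u)))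
          ≤ (exp (-1 : ℤ) : ℤᵐ⁰) ^ e₁ * γ := mul_le_mul' le_rfl (hA u hu1.le)
        _ < 1 * γ := mul_lt_mul_of_pos_right h3 hγpos
        _ = γ := one_mul _
    rw [Valuation.map_add_eq_of_lt_right _ (by rw [h1]; exact h2), h1]
  -- the identity
  have hid := D_aeval ψ s f
  rw [minpoly.aeval, map_zero, map_zero, Polynomial.sum_over_range _ (by intro i; simp)] at hid
  have hsum : Valued.v (∑ i ∈ Finset.range (f.natDegree + 1),
      LocRes.D F' (ψ (algebraMap T K' (f.coeff i))) * ψ s ^ i) = γ := by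
    rw [Finset.sum_range_succ']
    have h00 : Valued.v (LocRes.D F' (ψ (algebraMap T K' (f.coeff 0))) * ψ s ^ 0) = γ := by
      rw [pow_zero, mul_one, h0]
    rw [Valuation.map_add_eq_of_lt_right, h00]
    rw [h00]
    apply Valuation.map_sum_lt _ hγ0
    intro i _
    rw [map_mul, map_pow, hψ.1, hs]
    have h2 : (exp (-1 : ℤ) : ℤᵐ⁰) ^ (i + 1) < 1 := by
      rw [← exp_nsmul, ← exp_zero, exp_lt_exp]
      simp only [nsmul_eq_mul]
      push_cast
      omega
    calc Valued.v (LocRes.D F' (ψ (algebraMap T K' (f.coeff (i + 1))))) * exp (-1 : ℤ) ^ (i + 1)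
        ≤ γ * exp (-1 : ℤ) ^ (i + 1) := mul_le_mul' (hA _ (hcoeff _)) le_rfl
      _ < γ * 1 := mul_lt_mul_of_pos_left h2 hγpos
      _ = γ := mul_one _
  have hvs : Valued.v (LocRes.D F' (ψ s)) = (1 : ℤᵐ⁰) :=
    val_D_eq_one (by rw [hψ.1, hs])
  have h1 : ψ (aeval s (derivative f)) * LocRes.D F' (ψ s) =
      -(∑ i ∈ Finset.range (f.natDegree + 1),
        LocRes.D F' (ψ (algebraMap T K' (f.coeff i))) * ψ s ^ i) :=
    eq_neg_of_add_eq_zero_left hid.symm
  have h2 := congrArg (Valued.v : LaurentSeries F' → ℤᵐ⁰) h1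
  rw [map_mul, hvs, mul_one, Valuation.map_neg, hsum, hψ.1] at h2
  exact h2

end LemmaA

section LemmaC

variable {T K' : Type*} [Field T] [Field K'] [Algebra T K'] [FiniteDimensional T K']
  [IsGalois T K']

/-- automorphisms are determined by their value at a primitive element -/
lemma algEquiv_injective_of_primitive {s : K'}
    (hdeg : (minpoly T s).natDegree = Module.finrank T K') :
    Function.Injective (fun σ : K' ≃ₐ[T] K' => σ s) := by
  intro σ τ hστ
  have htop : IntermediateField.adjoin T ({s} : Set K') = ⊤ :=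
    (Field.primitive_element_iff_minpoly_natDegree_eq T s).mpr hdeg
  let E : IntermediateField T K' :=
    (AlgHom.equalizer (σ : K' →ₐ[T] K') (τ : K' →ₐ[T] K')).toIntermediateField (by
      intro z hz
      rw [AlgHom.mem_equalizer] at hz ⊢
      rw [map_inv₀, map_inv₀, hz])
  have hle : IntermediateField.adjoin T ({s} : Set K') ≤ E := by
    rw [IntermediateField.adjoin_le_iff]
    intro w hw
    rw [Set.mem_singleton_iff] at hw
    rw [hw]
    exact hστ
  rw [htop] at hle
  ext z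
  exact hle (show z ∈ (⊤ : IntermediateField T K') from trivial)

/-- the derivative of the minimal polynomial of a primitive element of a Galois extension -/
theorem aeval_derivative_minpoly_eq_prod [Fintype (K' ≃ₐ[T] K')] [DecidableEq (K' ≃ₐ[T] K')]
    {s : K'} (hdeg : (minpoly T s).natDegree = Module.finrank T K') :
    aeval s (derivative (minpoly T s)) =
      ∏ σ ∈ (Finset.univ : Finset (K' ≃ₐ[T] K')).erase 1, (s - σ s) := by
  classical
  have hinj := algEquiv_injective_of_primitive hdeg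
  set f : K'[X] := (minpoly T s).map (algebraMap T K') with hf
  have hint : IsIntegral T s := Algebra.IsIntegral.isIntegral s
  have hfmonic : f.Monic := (minpoly.monic hint).map _
  set m : Multiset K' := (Finset.univ : Finset (K' ≃ₐ[T] K')).val.map (fun σ => σ s) with hm
  have hmnodup : m.Nodup := Multiset.Nodup.map hinj Finset.univ.nodup
  have hroot : ∀ σ : K' ≃ₐ[T] K', f.IsRoot (σ s) := by
    intro σ
    rw [Polynomial.IsRoot, hf, Polynomial.eval_map, ← Polynomial.aeval_def]
    have h1 := Polynomial.aeval_algHom_apply (σ : K' →ₐ[T] K') s (minpoly T s)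
    rw [minpoly.aeval, map_zero] at h1
    exact h1
  have hle : m ≤ f.roots := by
    rw [Multiset.le_iff_subset hmnodup]
    intro r hr
    rw [hm, Multiset.mem_map] at hr
    obtain ⟨σ, -, rfl⟩ := hr
    exact (Polynomial.mem_roots hfmonic.ne_zero).mpr (hroot σ)
  have hdvd : (m.map fun a => X - C a).prod ∣ f :=
    (Multiset.prod_X_sub_C_dvd_iff_le_roots hfmonic.ne_zero m).mpr hle
  have hPmonic : (m.map fun a => X - C a).prod.Monic :=
    Polynomial.monic_multiset_prod_of_monic _ _ fun a _ => Polynomial.monic_X_sub_C a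
  have hPdeg : (m.map fun a => X - C a).prod.natDegree = Module.finrank T K' := by
    rw [Polynomial.natDegree_multiset_prod_X_sub_C_eq_card, hm, Multiset.card_map,
      Finset.card_val, Finset.card_univ, ← Nat.card_eq_fintype_card,
      IsGalois.card_aut_eq_finrank]
  have hfdeg : f.natDegree = Module.finrank T K' := by
    rw [hf, (minpoly.monic hint).natDegree_map, hdeg]
  have heq : f = (m.map fun a => X - C a).prod :=
    Polynomial.eq_of_monic_of_dvd_of_natDegree_le hPmonic hfmonic hdvd (by rw [hPdeg, hfdeg])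
  have hs_mem : s ∈ m := by
    rw [hm, Multiset.mem_map]
    exact ⟨1, Finset.mem_univ _, rfl⟩
  have h1 : aeval s (derivative (minpoly T s)) = eval s (derivative f) := by
    rw [hf, Polynomial.derivative_map, Polynomial.eval_map, Polynomial.aeval_def]
  rw [h1, heq, Polynomial.eval_multiset_prod_X_sub_C_derivative hs_mem]
  have h2 : m.erase s = ((Finset.univ : Finset (K' ≃ₐ[T] K')).erase 1).val.map (fun σ => σ s) := by
    rw [Finset.erase_val, Multiset.map_erase _ hinj, ← hm]
    rfl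
  rw [h2, Multiset.map_map]
  rfl

end LemmaC

section Count

/-- double counting: `∑_{i ≥ 1} #{σ ∈ S | i ≤ j σ} = ∑_{σ ∈ S} j σ` -/
lemma sum_card_filter_le {ι : Type*} [DecidableEq ι] (S : Finset ι) (j : ι → ℕ) (J : ℕ)
    (hJ : ∀ σ ∈ S, j σ ≤ J) :
    ∑ i ∈ Finset.Icc 1 J, (S.filter fun σ => i ≤ j σ).card = ∑ σ ∈ S, j σ := by
  simp_rw [Finset.card_filter]
  rw [Finset.sum_comm]
  apply Finset.sum_congr rfl
  intro σ hσ
  rw [← Finset.card_filter]
  have h1 : (Finset.Icc 1 J).filter (fun i => i ≤ j σ) = Finset.Icc 1 (j σ) := by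
    ext i
    simp only [Finset.mem_filter, Finset.mem_Icc]
    have := hJ σ hσ
    omega
  rw [h1, Nat.card_Icc]
  omega

lemma finsum_card_filter_le {ι : Type*} [DecidableEq ι] (S : Finset ι) (j : ι → ℕ)
    (c : ℕ → ℤ) (hc : ∀ i, 1 ≤ i → c i = ((S.filter fun σ => i ≤ j σ).card : ℤ)) :
    (Function.support c).Finite ∧
      ∑ᶠ i : ℕ, (if 1 ≤ i then c i else 0) = ∑ σ ∈ S, (j σ : ℤ) := by
  set J := S.sup j with hJdef
  have hJ : ∀ σ ∈ S, j σ ≤ J := fun σ hσ => Finset.le_sup hσ
  have hzero : ∀ i, J < i → c i = 0 := by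
    intro i hi
    rw [hc i (by omega)]
    have : S.filter (fun σ => i ≤ j σ) = ∅ := by
      rw [Finset.filter_eq_empty_iff]
      intro σ hσ
      have := hJ σ hσ
      omega
    rw [this, Finset.card_empty, Nat.cast_zero]
  constructor
  · apply (Finset.range (J + 1)).finite_toSet.subset
    intro i hi
    rw [Function.mem_support] at hi
    rw [Finset.coe_range, Set.mem_Iio]
    by_contra hlt
    exact hi (hzero i (by omega))
  · rw [finsum_eq_sum_of_support_subset (s := Finset.Icc 1 J)]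
    · rw [← Nat.cast_sum, ← sum_card_filter_le S j J hJ, Nat.cast_sum]
      apply Finset.sum_congr rfl
      intro i hi
      rw [Finset.mem_Icc] at hi
      rw [if_pos hi.1, hc i hi.1]
    · intro i hi
      rw [Function.mem_support] at hi
      rw [Finset.coe_Icc, Set.mem_Icc]
      by_cases h1 : 1 ≤ i
      · refine ⟨h1, ?_⟩
        by_contra hlt
        rw [if_pos h1] at hi
        exact hi (hzero i (by omega))
      · rw [if_neg h1] at hi
        exact absurd rfl hi

end Count

section Main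

variable {k : Type u} {K K' : Type v} [Field k] [Field K] [Field K'] [Algebra k K] [Algebra K K']
  [Algebra k K'] [IsScalarTower k K K'] [FiniteDimensional K K'] [IsGalois K K']

lemma prod_exp_eq {ι : Type*} [DecidableEq ι] (S : Finset ι) (a : ι → ℤ) :
    ∏ σ ∈ S, (exp (a σ) : ℤᵐ⁰) = exp (∑ σ ∈ S, a σ) := by
  induction S using Finset.induction_on with
  | empty => simp
  | insert σ S hσ ih => rw [Finset.prod_insert hσ, Finset.sum_insert hσ, ih, exp_add]

open IntermediateField in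
/-- **Hilbert's different formula.** -/
theorem hilbert_different (hK : IsFunctionField k K) (hg : IsGeometric k K)
    {F F' : Type w} [Field F] [Algebra k F] [Field F'] [Algebra k F']
    {P : Place k K} {Q : Place k K'} {e : ℕ} (he : IsOverWith Q P e)
    (φ : K →ₐ[k] LaurentSeries F) (hφ : LocRes.IsExpansionAt P.1 φ)
    (ψ : K' →ₐ[k] LaurentSeries F') (hψ : LocRes.IsExpansionAt Q.1 ψ)
    {x : K} (hx : LocRes.vDiff φ 1 x ≠ 0) (hx' : LocRes.vDiff ψ 1 (algebraMap K K' x) ≠ 0) :
    (Function.support fun i : ℕ =>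
      (Nat.card {σ : K' ≃ₐ[K] K' // InRam Q σ i} : ℤ) - 1).Finite ∧
    LocRes.diffExp φ ψ e x = ∑ᶠ i : ℕ, if 1 ≤ i then
      (Nat.card {σ : K' ≃ₐ[K] K' // InRam Q σ i} : ℤ) - 1 else 0 := by
  classical
  haveI hsepQ : Algebra.IsSeparable k (IsLocalRing.ResidueField Q.O) :=
    isSeparable_residueField_of_expansion hK hg Q ψ hψ
  set I : Subgroup (K' ≃ₐ[K] K') := Groth.Agent.FF.inertiaSubgroup (K := K) Q with hI
  set T : IntermediateField K K' := fixedField I with hT
  obtain ⟨Q₁, e₁, he₁⟩ := exists_isOverWith_below (K := T) Q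
  have hcard₁ : e₁ = Nat.card I := by
    have h1 := ramIdx_intermediate hK Q T he₁
    rw [hT, fixingSubgroup_fixedField, inf_idem] at h1
    exact h1
  have hcard : e = Nat.card I := ramIdx_base hK Q he
  have hee : e₁ = e := by rw [hcard₁, hcard]
  have hn : e₁ = Module.finrank T K' := by
    rw [hcard₁, hT, finrank_fixedField_eq_card]
  have hepos : 0 < e := isOverWith_pos he
  -- the local parameter below
  obtain ⟨t, ht⟩ := hφ.2.2
  obtain ⟨-, -, -, hDt, hdiff⟩ := diffExp_uniformizer hK hg he φ hφ ψ hψ hx hx' ht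
  set τ : T := algebraMap K T t with hτdef
  have hτmap : algebraMap T K' τ = algebraMap K K' t :=
    (IsScalarTower.algebraMap_apply K T K' t).symm
  have hτ : Q₁.1 τ = exp (-1 : ℤ) := by
    have h1 := he₁ τ
    rw [hτmap, he t, ht, hee] at h1
    exact ((pow_left_inj₀ zero_le zero_le hepos.ne').mp h1).symm
  have hDτ : LocRes.D F' (ψ (algebraMap T K' τ)) ≠ 0 := by rw [hτmap]; exact hDt
  -- the residue field of `Q₁`
  have hfin₁ : FiniteDimensional k (IsLocalRing.ResidueField Q₁.O) :=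
    finite_residueField_ext (K := K) hK Q₁
  have hsep₁ : Algebra.IsSeparable k (IsLocalRing.ResidueField Q₁.O) := by
    letI := (resMap he₁).toAlgebra
    haveI := isScalarTower_res he₁
    exact Algebra.isSeparable_tower_bot_of_isSeparable k (IsLocalRing.ResidueField Q₁.O)
      (IsLocalRing.ResidueField Q.O)
  -- the local parameter above
  obtain ⟨s, hs⟩ := hψ.2.2
  have hB := val_derivative_minpoly_eq Q₁ Q he₁ hn ψ hψ hτ hDτ hs
  have hdeg : (minpoly T s).natDegree = Module.finrank T K' := by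
    rw [(eisenstein_of_totally_ramified he₁ hn hs).1, hn]
  have hC := aeval_derivative_minpoly_eq_prod hdeg
  rw [hC, map_prod, hτmap] at hB
  -- reindexing over the nontrivial elements of the inertia group
  set S : Finset (K' ≃ₐ[K] K') := Finset.univ.filter (fun σ => σ ≠ 1 ∧ InRam Q σ 1) with hS
  have hmemS : ∀ σ, σ ∈ S ↔ σ ≠ 1 ∧ InRam Q σ 1 := by
    intro σ
    rw [hS, Finset.mem_filter]
    simp
  have hfix : T.fixingSubgroup = I := by rw [hT, fixingSubgroup_fixedField]
  have hprod : ∏ σ ∈ S, Q.1 (σ s - s) =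
      Valued.v (LocRes.D F' (ψ (algebraMap K K' t))) := by
    rw [← hB]
    symm
    refine Finset.prod_bij (fun (σ' : K' ≃ₐ[T] K') _ => σ'.restrictScalars K) ?_ ?_ ?_ ?_
    · intro σ' hσ'
      rw [Finset.mem_erase] at hσ'
      rw [hmemS]
      constructor
      · intro h1
        apply hσ'.1
        ext z
        have := congrArg (fun ρ : K' ≃ₐ[K] K' => ρ z) h1
        exact this
      · have h1 : σ'.restrictScalars K ∈ T.fixingSubgroup := by
          rw [IntermediateField.mem_fixingSubgroup_iff]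
          intro z hz
          exact σ'.commutes ⟨z, hz⟩
        rw [hfix] at h1
        exact h1
    · intro σ₁ _ σ₂ _ h12
      ext z
      have := congrArg (fun ρ : K' ≃ₐ[K] K' => ρ z) h12
      exact this
    · intro σ hσ
      rw [hmemS] at hσ
      have h1 : σ ∈ T.fixingSubgroup := by
        rw [hfix]
        exact hσ.2
      refine ⟨IntermediateField.fixingSubgroupEquiv T ⟨σ, h1⟩, ?_, ?_⟩
      · rw [Finset.mem_erase]
        refine ⟨?_, Finset.mem_univ _⟩
        intro h2
        apply hσ.1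
        ext z
        have := congrArg (fun ρ : K' ≃ₐ[T] K' => ρ z) h2
        exact this
      · ext z
        rfl
    · intro σ' _
      rw [← Valuation.map_neg, neg_sub]
      rfl
  have hγ0 : Valued.v (LocRes.D F' (ψ (algebraMap K K' t))) ≠ (0 : ℤᵐ⁰) :=
    (Valuation.ne_zero_iff _).2 hDt
  have hs1 : Q.1 s ≤ 1 := by
    rw [hs, ← exp_zero, exp_le_exp]; norm_num
  -- the jumps
  set j : (K' ≃ₐ[K] K') → ℕ := fun σ => (- log (Q.1 (σ s - s))).toNat with hj
  have hjS : ∀ σ ∈ S, Q.1 (σ s - s) = exp (-(j σ : ℤ)) ∧ 1 ≤ j σ := by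
    intro σ hσ
    have hv0 : Q.1 (σ s - s) ≠ 0 := by
      have h1 : ∏ σ ∈ S, Q.1 (σ s - s) ≠ 0 := by rw [hprod]; exact hγ0
      exact (Finset.prod_ne_zero_iff.mp h1) σ hσ
    have hv1 : Q.1 (σ s - s) ≤ exp (-(1 : ℤ)) := ((hmemS σ).mp hσ).2 s hs1
    have hlog : log (Q.1 (σ s - s)) ≤ -1 := by
      rw [← exp_log hv0, exp_le_exp] at hv1
      exact hv1
    have hcast : ((j σ : ℕ) : ℤ) = - log (Q.1 (σ s - s)) := by
      rw [hj]
      exact Int.toNat_of_nonneg (by omega)
    refine ⟨?_, ?_⟩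
    · rw [hcast, neg_neg, exp_log hv0]
    · have : (1 : ℤ) ≤ (j σ : ℤ) := by rw [hcast]; omega
      exact_mod_cast this
  have hiff : ∀ i : ℕ, 1 ≤ i → ∀ σ : K' ≃ₐ[K] K',
      InRam Q σ i ↔ σ = 1 ∨ (σ ∈ S ∧ i ≤ j σ) := by
    intro i hi σ
    constructor
    · intro hσi
      by_cases h1 : σ = 1
      · exact Or.inl h1
      · right
        have hσ1 : InRam Q σ 1 := by
          intro z hz
          refine (hσi z hz).trans ?_
          rw [exp_le_exp]
          have : (1 : ℤ) ≤ (i : ℤ) := by exact_mod_cast hi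
          omega
        have hσS : σ ∈ S := (hmemS σ).mpr ⟨h1, hσ1⟩
        refine ⟨hσS, ?_⟩
        have h2 := hσi s hs1
        rw [(hjS σ hσS).1, exp_le_exp] at h2
        have : (i : ℤ) ≤ (j σ : ℤ) := by omega
        exact_mod_cast this
    · rintro (rfl | ⟨hσS, hij⟩)
      · exact InRam.one
      · have hσ1 : InRam Q σ 1 := ((hmemS σ).mp hσS).2
        apply inRam_of_uniformizer Q σ hK hσ1 hs
        rw [(hjS σ hσS).1, exp_le_exp]
        have : (i : ℤ) ≤ (j σ : ℤ) := by exact_mod_cast hij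
        omega
  have hc : ∀ i : ℕ, 1 ≤ i → (Nat.card {σ : K' ≃ₐ[K] K' // InRam Q σ i} : ℤ) - 1 =
      ((S.filter fun σ => i ≤ j σ).card : ℤ) := by
    intro i hi
    have h1 : Nat.card {σ : K' ≃ₐ[K] K' // InRam Q σ i} =
        (Finset.univ.filter fun σ : K' ≃ₐ[K] K' => InRam Q σ i).card := by
      rw [Nat.card_eq_fintype_card, Fintype.card_subtype]
    have h2 : (Finset.univ.filter fun σ : K' ≃ₐ[K] K' => InRam Q σ i) =
        insert 1 (S.filter fun σ => i ≤ j σ) := by
      ext σ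
      rw [Finset.mem_filter, Finset.mem_insert, Finset.mem_filter, hiff i hi σ]
      simp
    have h3 : (1 : K' ≃ₐ[K] K') ∉ S.filter fun σ => i ≤ j σ := by
      intro h
      rw [Finset.mem_filter, hmemS] at h
      exact h.1.1 rfl
    rw [h1, h2, Finset.card_insert_of_notMem h3]
    push_cast
    ring
  obtain ⟨hfinsupp, hsum⟩ := finsum_card_filter_le S j
    (fun i : ℕ => (Nat.card {σ : K' ≃ₐ[K] K' // InRam Q σ i} : ℤ) - 1) hc
  refine ⟨hfinsupp, ?_⟩
  rw [hsum, hdiff, ← hprod]
  have h4 : ∏ σ ∈ S, Q.1 (σ s - s) = ∏ σ ∈ S, (exp (-(j σ : ℤ)) : ℤᵐ⁰) :=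
    Finset.prod_congr rfl fun σ hσ => (hjS σ hσ).1
  rw [h4, prod_exp_eq, log_exp, Finset.sum_neg_distrib, neg_neg]

end Main

end Groth.Agent.FF.Hilbert
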