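import Groth.Agent.H57.ResSep
import Groth.Agent.FunFld.SepGeom
import Groth.Agent.FunFld.ConstField

/-!
# Separability of the coefficient field of an expansion, for fields with a separating variable
-/

set_option autoImplicit false
set_option linter.unusedSectionVars false

namespace Groth.Agent.FF.Hilbert

open WithZero FunFld Groth.Agent.FF Groth.Agent.H57.Tate Groth.Agent.H57.ResW KaehlerDifferential
  IntermediateField

universe u v w
variable {k : Type u} {K : Type v} [Field k] [Field K] [Algebra k K]
variable {F : Type w} [Field F] [Algebra k F]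

/-- every differential is a multiple of `dx` for a separating variable `x` -/
theorem exists_D_eq_smul_of_separating {x : K} (hxt : Transcendental k x)
    [Algebra.IsSeparable (adjoin k ({x} : Set K)) K] (y : K) :
    ∃ u : K, D k K y = u • D k K x := by
  have hx : D k K x ≠ 0 := D_ne_zero_of_separating hxt
  have hrank := finrank_kaehler_eq_one_of_separating (k := k) (K := K) hxt
  obtain ⟨u, hu⟩ := (finrank_eq_one_iff_of_nonzero' (D k K x) hx).1 hrank (D k K y)
  exact ⟨u, hu.symm⟩

/-- **Derivations of the coefficient field vanish** (version with a separating variable). -/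
theorem derivation_coeffField_eq_zero' {x : K} (hxt : Transcendental k x)
    [Algebra.IsSeparable (adjoin k ({x} : Set K)) K]
    (w : Valuation K ℤᵐ⁰) (φ : K →ₐ[k] LaurentSeries F) (hφ : LocRes.IsExpansionAt w φ)
    (δ : Derivation k F F) : δ = 0 := by
  have hx : D k K x ≠ 0 := D_ne_zero_of_separating hxt
  have hDx : LocRes.D F (φ x) ≠ 0 := by
    intro h0
    obtain ⟨t, ht⟩ := hφ.2.2
    obtain ⟨u, hu⟩ := exists_D_eq_smul_of_separating hxt t
    have h1 := Groth.Agent.H57.vDiff_one_uniformizer w φ hφ t ht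
    rw [D_exp_of_D_eq_smul φ hu, h0, mul_zero, map_zero] at h1
    exact zero_ne_one h1
  set h : LaurentSeries F := mapDer δ (φ x) * (LocRes.D F (φ x))⁻¹ with hh
  have hkey : ∀ y : K, mapDer δ (φ y) = h * LocRes.D F (φ y) := by
    intro y
    obtain ⟨u, hu⟩ := exists_D_eq_smul_of_separating hxt y
    rw [mapDer_of_D_eq_smul φ δ hu, D_exp_of_D_eq_smul φ hu, hh]
    field_simp
  -- `h` has arbitrarily small valuation
  have hsmall : ∀ N : ℕ, Valued.v h ≤ (exp (-((N : ℤ) + 2)) : ℤᵐ⁰) := by
    intro N
    obtain ⟨y, hy⟩ := exists_val_sub_le w φ hφ (HahnSeries.single (1 : ℤ) (1 : F)) ((N : ℤ) + 2)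
    set r : LaurentSeries F := HahnSeries.single (1 : ℤ) (1 : F) - φ y with hr
    have hφy : φ y = HahnSeries.single (1 : ℤ) (1 : F) - r := by rw [hr]; abel
    have hrc : ∀ n : ℤ, n < (N : ℤ) + 2 → r.coeff n = 0 := fun n hn =>
      coeff_of_val_le_exp hy n (by omega)
    have hc : ∀ n : ℤ, n < (N : ℤ) + 2 → (φ y).coeff n = if n = 1 then 1 else 0 := by
      intro n hn
      rw [hφy, HahnSeries.coeff_sub, hrc n hn, sub_zero]
      rcases eq_or_ne n 1 with rfl | hn1
      · rw [HahnSeries.coeff_single_same, if_pos rfl]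
      · rw [HahnSeries.coeff_single_of_ne hn1, if_neg hn1]
    have h1 : Valued.v (mapDer δ (φ y)) ≤ (exp (-((N : ℤ) + 2)) : ℤᵐ⁰) := by
      apply val_le_exp_of_coeff
      intro n hn
      rw [coeff_mapDer, hc n (by omega)]
      split_ifs
      · exact δ.map_one_eq_zero
      · exact map_zero _
    have h2 : Valued.v (LocRes.D F (φ y)) = (1 : ℤᵐ⁰) := by
      apply le_antisymm
      · rw [← exp_zero]
        apply val_le_exp_of_coeff
        intro n hn
        rw [LocRes.D_coeff, hc (n + 1) (by omega), if_neg (by omega), smul_zero]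
      · by_contra hlt
        rw [not_le] at hlt
        have hle : Valued.v (LocRes.D F (φ y)) ≤ (exp (-1 : ℤ) : ℤᵐ⁰) := by
          by_cases h0 : Valued.v (LocRes.D F (φ y)) = 0
          · rw [h0]; exact zero_le
          · rw [← exp_log h0] at hlt ⊢
            rw [← exp_zero, exp_lt_exp] at hlt
            rw [exp_le_exp]
            omega
        have := coeff_of_val_le_exp hle 0 (by norm_num)
        rw [LocRes.D_coeff, hc (0 + 1) (by omega), if_pos (by norm_num)] at this
        simp at this
    have h3 := congrArg Valued.v (hkey y)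
    rw [map_mul, h2, mul_one] at h3
    rw [← h3]
    exact h1
  have hh0 : h = 0 := by
    by_contra hne
    have hv0 : Valued.v h ≠ (0 : ℤᵐ⁰) := (Valuation.ne_zero_iff _).2 hne
    obtain ⟨a, ha⟩ : ∃ a : ℤ, Valued.v h = (exp a : ℤᵐ⁰) := ⟨_, (exp_log hv0).symm⟩
    have := hsmall a.natAbs
    rw [ha, exp_le_exp] at this
    omega
  ext a
  obtain ⟨y, -, hy⟩ := hφ.2.1 a
  have := congrArg (fun f => f.coeff 0) (hkey y)
  simp only [coeff_mapDer, hh0, zero_mul, HahnSeries.coeff_zero, hy] at this
  rw [this]
  rfl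

/-- **The coefficient field of an expansion is separable** (version with a separating variable). -/
theorem isSeparable_coeffField' {x : K} (hxt : Transcendental k x)
    [Algebra.IsSeparable (adjoin k ({x} : Set K)) K]
    (w : Valuation K ℤᵐ⁰) (φ : K →ₐ[k] LaurentSeries F) (hφ : LocRes.IsExpansionAt w φ)
    [FiniteDimensional k F] : Algebra.IsSeparable k F := by
  have hD : ∀ a : F, D k F a = 0 := by
    intro a
    rw [← Module.forall_dual_apply_eq_zero_iff F]
    intro ℓ
    have h0 := derivation_coeffField_eq_zero' hxt w φ hφ (ℓ.compDer (D k F))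
    have := congrArg (fun d : Derivation k F F => d a) h0
    exact this
  have hsub : Subsingleton Ω[F⁄k] := by
    refine subsingleton_of_forall_eq 0 fun ω => ?_
    have hω : ω ∈ Submodule.span F (Set.range (D k F)) := by
      rw [KaehlerDifferential.span_range_derivation]; trivial
    induction hω using Submodule.span_induction with
    | mem x hx =>
      obtain ⟨a, rfl⟩ := hx
      exact hD a
    | zero => rfl
    | add x y _ _ hx hy => rw [hx, hy, add_zero]
    | smul c x _ hx => rw [hx, smul_zero]
  have hunr : Algebra.FormallyUnramified k F := ⟨hsub⟩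
  exact Algebra.FormallyUnramified.isSeparable k F

section Residue

variable {K' : Type v} [Field K'] [Algebra k K']

/-- the constant coefficient of the expansion, on the valuation ring -/
noncomputable def coeffHom (Q : Place k K') {F' : Type w} [Field F'] [Algebra k F']
    (ψ : K' →ₐ[k] LaurentSeries F') (hψ : LocRes.IsExpansionAt Q.1 ψ) : Q.O →+* F' where
  toFun a := (ψ (a : K')).coeff 0
  map_one' := by
    show (ψ ((1 : Q.O) : K')).coeff 0 = 1
    simp
  map_zero' := by
    show (ψ ((0 : Q.O) : K')).coeff 0 = 0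
    simp
  map_add' a b := by
    show (ψ ((a + b : Q.O) : K')).coeff 0 = _
    push_cast
    rw [map_add, HahnSeries.coeff_add]
  map_mul' a b := by
    show (ψ ((a * b : Q.O) : K')).coeff 0 = (ψ (a : K')).coeff 0 * (ψ (b : K')).coeff 0
    obtain ⟨A, hA⟩ := (LaurentSeries.val_le_one_iff_eq_coe F' (ψ (a : K'))).mp
      (by rw [hψ.1]; exact a.2)
    obtain ⟨B, hB⟩ := (LaurentSeries.val_le_one_iff_eq_coe F' (ψ (b : K'))).mp
      (by rw [hψ.1]; exact b.2)
    push_cast
    rw [map_mul, ← hA, ← hB, ← PowerSeries.coe_mul, PowerSeries.coeff_coe, PowerSeries.coeff_coe,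
      PowerSeries.coeff_coe]
    simp [PowerSeries.coeff_zero_eq_constantCoeff]

lemma coeffHom_apply (Q : Place k K') {F' : Type w} [Field F'] [Algebra k F']
    (ψ : K' →ₐ[k] LaurentSeries F') (hψ : LocRes.IsExpansionAt Q.1 ψ) (a : Q.O) :
    coeffHom Q ψ hψ a = (ψ (a : K')).coeff 0 := rfl

lemma coeffHom_eq_zero_iff (Q : Place k K') {F' : Type w} [Field F'] [Algebra k F']
    (ψ : K' →ₐ[k] LaurentSeries F') (hψ : LocRes.IsExpansionAt Q.1 ψ) (a : Q.O) :
    coeffHom Q ψ hψ a = 0 ↔ Q.1 (a : K') < 1 := by
  rw [coeffHom_apply]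
  have ha : Valued.v (ψ (a : K')) ≤ (1 : ℤᵐ⁰) := by rw [hψ.1]; exact a.2
  constructor
  · intro h0
    have h1 : Valued.v (ψ (a : K')) ≤ (exp (-1 : ℤ) : ℤᵐ⁰) := by
      apply val_le_exp_of_coeff
      intro n hn
      rcases lt_or_eq_of_le (show n ≤ 0 by omega) with hn0 | hn0
      · exact coeff_of_val_le_exp (m := 0) (by simpa using ha) n (by omega)
      · rw [hn0]; exact h0
    rw [hψ.1] at h1
    refine lt_of_le_of_lt h1 ?_
    rw [← exp_zero, exp_lt_exp]
    norm_num
  · intro h1
    have h2 : Valued.v (ψ (a : K')) ≤ (exp (-1 : ℤ) : ℤᵐ⁰) := by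
      rw [hψ.1]
      exact Ext.le_exp_neg_one_of_lt_one h1
    exact coeff_of_val_le_exp h2 0 (by norm_num)

instance coeffHom_isLocalHom (Q : Place k K') {F' : Type w} [Field F'] [Algebra k F']
    (ψ : K' →ₐ[k] LaurentSeries F') (hψ : LocRes.IsExpansionAt Q.1 ψ) :
    IsLocalHom (coeffHom Q ψ hψ) := by
  refine ⟨fun a ha => ?_⟩
  have h0 : coeffHom Q ψ hψ a ≠ 0 := ha.ne_zero
  rw [Ne, coeffHom_eq_zero_iff, not_lt] at h0
  have h1 : Q.1 (a : K') = 1 := le_antisymm a.2 h0
  exact (Valuation.valuationSubring.integers Q.1).isUnit_iff_valuation_eq_one.mpr h1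

/-- the residue field of a place with an expansion, as a subfield of the coefficient field -/
noncomputable def resToCoeff (Q : Place k K') {F' : Type w} [Field F'] [Algebra k F']
    (ψ : K' →ₐ[k] LaurentSeries F') (hψ : LocRes.IsExpansionAt Q.1 ψ) :
    letI := Place.algRes Q
    IsLocalRing.ResidueField Q.O →ₐ[k] F' :=
  letI := Place.algRes Q
  { IsLocalRing.ResidueField.lift (coeffHom Q ψ hψ) with
    commutes' := fun c => by
      show IsLocalRing.ResidueField.lift (coeffHom Q ψ hψ)
        (IsLocalRing.residue Q.O (algebraMap k Q.O c)) = algebraMap k F' c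
      rw [IsLocalRing.ResidueField.lift_residue_apply, coeffHom_apply]
      show (ψ (algebraMap k K' c)).coeff 0 = _
      rw [LocRes.map_algebraMap]
      simp }

lemma resToCoeff_surjective (Q : Place k K') {F' : Type w} [Field F'] [Algebra k F']
    (ψ : K' →ₐ[k] LaurentSeries F') (hψ : LocRes.IsExpansionAt Q.1 ψ) :
    Function.Surjective (resToCoeff Q ψ hψ) := by
  intro a
  obtain ⟨f, hf1, hf2⟩ := hψ.2.1 a
  refine ⟨IsLocalRing.residue Q.O ⟨f, hf1⟩, ?_⟩
  show IsLocalRing.ResidueField.lift (coeffHom Q ψ hψ) (IsLocalRing.residue Q.O ⟨f, hf1⟩) = a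
  rw [IsLocalRing.ResidueField.lift_residue_apply, coeffHom_apply]
  exact hf2

variable {K : Type v} [Field K] [Algebra k K] [Algebra K K'] [IsScalarTower k K K']

/-- **The residue field of a place of a finite separable extension of a geometric function field
is separable over `k` as soon as the place has an expansion.** -/
theorem isSeparable_residueField_of_expansion [FiniteDimensional K K'] [Algebra.IsSeparable K K']
    (hK : IsFunctionField k K) (hg : IsGeometric k K) (Q : Place k K')
    {F' : Type w} [Field F'] [Algebra k F'] (ψ : K' →ₐ[k] LaurentSeries F')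
    (hψ : LocRes.IsExpansionAt Q.1 ψ) :
    letI := Place.algRes Q
    Algebra.IsSeparable k (IsLocalRing.ResidueField Q.O) := by
  letI := Place.algRes Q
  have hsv : HasSepVar k K' := hasSepVar_of_isSeparable (k₁ := k) (exists_separating hK hg)
  obtain ⟨x', hx', hsep'⟩ := hsv
  have hfinQ : FiniteDimensional k (IsLocalRing.ResidueField Q.O) :=
    Ext.finite_residueField_ext (K := K) hK Q
  have hfinF : FiniteDimensional k F' :=
    Module.Finite.of_surjective (hM := hfinQ)
      (resToCoeff Q ψ hψ).toLinearMap (resToCoeff_surjective Q ψ hψ)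
  have hsepF : Algebra.IsSeparable k F' := isSeparable_coeffField' hx' Q.1 ψ hψ
  exact Algebra.IsSeparable.of_algHom k F' (resToCoeff Q ψ hψ)

end Residue

end Groth.Agent.FF.Hilbert
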