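import Groth.Agent.FunFld.Quadratic
import Groth.Agent.FunFld.RatFuncPlaces

/-!
# Hyperelliptic function fields are function fields of one variable
-/

set_option autoImplicit false
set_option linter.unusedSectionVars false

open FunFld IntermediateField Polynomial WithZero

namespace Groth.Agent.FF.Ext

open Groth.Agent.FF

section
variable {k K : Type*} [Field k] [Field K] [Algebra k K]
  [Algebra (RatFunc k) K] [IsScalarTower k (RatFunc k) K]

local notation "ι" => algebraMap (Polynomial k) (RatFunc k)
local notation "ι'" => algebraMap (RatFunc k) K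

/-- a square root of a squarefree nonconstant polynomial is not a rational function -/
lemma sqrt_not_mem_range {y : K} {f : k[X]} (hf : Squarefree f) (hd : 1 ≤ f.natDegree)
    (heq : y ^ 2 = ι' (ι f)) : y ∉ Set.range ι' := by
  rintro ⟨w, rfl⟩
  rw [← map_pow] at heq
  have hw := (algebraMap (RatFunc k) K).injective heq
  have hint : IsIntegral (Polynomial k) w := by
    refine ⟨Polynomial.X ^ 2 - Polynomial.C f, ?_, ?_⟩
    · exact Polynomial.monic_X_pow_sub_C f (by norm_num)
    · simp [hw]
  obtain ⟨g, hg⟩ := IsIntegrallyClosed.isIntegral_iff.mp hint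
  rw [← hg, ← map_pow] at hw
  have hgf := RatFunc.algebraMap_injective k hw
  have hgu : IsUnit g := hf g ⟨1, by rw [mul_one, ← hgf, pow_two]⟩
  have hfu : IsUnit f := by rw [← hgf]; exact hgu.pow 2
  have := Polynomial.natDegree_eq_zero_of_isUnit hfu
  omega

/-- there is a place of `k(X)` at which a given nonconstant polynomial vanishes -/
lemma exists_place_zero_of_irreducible {p : k[X]} (hp : Irreducible p) :
    ∃ P₀ : Place k (RatFunc k), P₀.1 (ι p) < 1 := by
  have hK := isFunctionField_ratFunc k
  have hnr : ι p ∉ Set.range (algebraMap k (RatFunc k)) := by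
    rintro ⟨c, hc⟩
    rw [IsScalarTower.algebraMap_apply k (Polynomial k) (RatFunc k)] at hc
    have hpc := RatFunc.algebraMap_injective k hc
    rw [Polynomial.algebraMap_apply, Algebra.algebraMap_self, RingHom.id_apply] at hpc
    by_cases hc0 : c = 0
    · rw [hc0, map_zero] at hpc
      exact hp.ne_zero hpc.symm
    · apply hp.not_isUnit
      rw [← hpc]
      exact Polynomial.isUnit_C.mpr (isUnit_iff_ne_zero.mpr hc0)
  have htr := transcendental_of_not_mem_range hK hnr
  obtain ⟨P₀, hP₀⟩ := exists_zero_of_transcendental hK htr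
  refine ⟨P₀, ?_⟩
  rwa [val_lt_one_iff P₀ (ratFunc_algebraMap_ne_zero hp.ne_zero)]

/-- a quadratic extension `y² = f(x)` of `k(x)`, `f` squarefree, has constant field `k` -/
theorem isFunctionField_of_quadratic (h2 : ringChar k ≠ 2)
    (hdeg : Module.finrank (RatFunc k) K = 2) (y : K) (f : k[X]) (hf : Squarefree f)
    (hd : 1 ≤ f.natDegree) (heq : y ^ 2 = ι' (ι f)) : IsFunctionField k K := by
  classical
  have : FiniteDimensional (RatFunc k) K :=
    FiniteDimensional.of_finrank_pos (by rw [hdeg]; norm_num)
  have hK := isFunctionField_ratFunc k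
  have hf0 : f ≠ 0 := hf.ne_zero
  have h2k : (2 : k) ≠ 0 := Ring.two_ne_zero h2
  have h2K : (2 : K) ≠ 0 := by
    have h : (2 : K) = algebraMap k K 2 := (map_ofNat (algebraMap k K) 2).symm
    rw [h]
    exact (map_ne_zero_iff _ (algebraMap k K).injective).mpr h2k
  refine ⟨⟨ι' RatFunc.X, ?_, ?_⟩, ?_⟩
  · -- transcendence of `x`
    intro halg
    have h1 : IsAlgebraic k (RatFunc.X : RatFunc k) :=
      (isAlgebraic_algebraMap_iff (algebraMap (RatFunc k) K).injective).mp halg
    exact RatFunc.transcendental_X h1
  · -- finiteness over `k(x)`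
    apply finite_of_range_le (A := RatFunc k) (adjoin k ({ι' RatFunc.X} : Set K))
    intro w
    let G : IntermediateField k (RatFunc k) :=
      (adjoin k ({ι' RatFunc.X} : Set K)).comap (IsScalarTower.toAlgHom k (RatFunc k) K)
    have hXG : (RatFunc.X : RatFunc k) ∈ G := by
      show ι' RatFunc.X ∈ adjoin k ({ι' RatFunc.X} : Set K)
      exact mem_adjoin_simple_self k _
    have hle : adjoin k ({(RatFunc.X : RatFunc k)} : Set (RatFunc k)) ≤ G := by
      rw [adjoin_le_iff, Set.singleton_subset_iff]
      exact hXG
    rw [RatFunc.adjoin_X] at hle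
    exact hle (mem_top (x := w))
  · -- `k` is algebraically closed in `K`
    intro α hα
    by_contra hαk
    have hαr : α ∉ Set.range ι' := by
      rintro ⟨w, rfl⟩
      have hw : IsAlgebraic k w :=
        (isAlgebraic_algebraMap_iff (algebraMap (RatFunc k) K).injective).mp hα
      obtain ⟨c, rfl⟩ := mem_range_of_isAlgebraic_ratFunc k hw
      exact hαk ⟨c, (IsScalarTower.algebraMap_apply k (RatFunc k) K c)⟩
    -- the quadratic equation of `α`
    have hint : IsIntegral (RatFunc k) α := IsIntegral.of_finite (RatFunc k) α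
    have hdeg2 : (minpoly (RatFunc k) α).natDegree = 2 := by
      apply le_antisymm
      · rw [← hdeg]
        exact minpoly.natDegree_le α
      · exact (minpoly.two_le_natDegree_iff hint).mpr (by simpa using hαr)
    have hmonic := minpoly.monic hint
    have hroot := minpoly.aeval (RatFunc k) α
    rw [Polynomial.aeval_eq_sum_range, hdeg2, Finset.sum_range_succ, Finset.sum_range_succ,
      Finset.sum_range_one] at hroot
    have hlead : (minpoly (RatFunc k) α).coeff 2 = 1 := by
      have := hmonic.coeff_natDegree
      rwa [hdeg2] at this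
    rw [hlead, one_smul, pow_zero, pow_one, Algebra.smul_def, Algebra.smul_def, mul_one] at hroot
    set a := (minpoly (RatFunc k) α).coeff 1 with ha
    set b := (minpoly (RatFunc k) α).coeff 0 with hb
    have heqα : α ^ 2 + ι' a * α + ι' b = 0 := by
      rw [← hroot]
      ring
    obtain ⟨σ, hσ⟩ := exists_conj_quadratic hdeg hαr heqα
    -- `2α + a = α - σ α` is a nonzero element algebraic over `k`
    have hσk : ∀ c : k, σ (algebraMap k K c) = algebraMap k K c := by
      intro c
      rw [IsScalarTower.algebraMap_apply k (RatFunc k) K, σ.commutes]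
    have hσα : IsAlgebraic k (σ α) := by
      obtain ⟨g, hg0, hg⟩ := hα
      refine ⟨g, hg0, ?_⟩
      have h1 : aeval (σ α) g = σ (aeval α g) :=
        Polynomial.aeval_algHom_apply ((σ.restrictScalars k : K ≃ₐ[k] K) : K →ₐ[k] K) α g
      rw [h1, hg, map_zero]
    have hδ : 2 * α + ι' a = α - σ α := by
      rw [hσ]
      ring
    have hδalg : IsAlgebraic k (2 * α + ι' a) := by
      rw [hδ]
      exact hα.sub hσα
    have hδ0 : 2 * α + ι' a ≠ 0 := by
      intro h0
      apply hαr
      refine ⟨-a / 2, ?_⟩
      rw [map_div₀, map_neg, map_ofNat]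
      field_simp
      linear_combination -h0
    have hunit : ∀ Q : Place k K, Q.1 (2 * α + ι' a) = 1 := by
      intro Q
      apply le_antisymm (val_le_one_of_isAlgebraic Q hδalg)
      have h1 := val_le_one_of_isAlgebraic Q hδalg.inv
      rw [map_inv₀] at h1
      by_contra hlt
      push Not at hlt
      have hpos : 0 < Q.1 (2 * α + ι' a) := by
        rw [zero_lt_iff]
        exact (Valuation.ne_zero_iff Q.1).mpr hδ0
      have := one_lt_inv_iff₀.mpr ⟨hpos, hlt⟩
      exact absurd h1 (not_le.mpr this)
    -- every place of `K` is unramified over `k(x)`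
    have hunram : ∀ (P₀ : Place k (RatFunc k)) (Q : Place k K) (e : ℕ),
        IsOverWith Q P₀ e → e = 1 := fun P₀ Q e he =>
      quadratic_unramified hdeg he hαr heqα (val_le_one_of_isAlgebraic Q hα) (hunit Q)
    -- but the zero of an irreducible factor of `f` is ramified
    have hnu : ¬ IsUnit f := by
      intro hu
      have := Polynomial.natDegree_eq_zero_of_isUnit hu
      omega
    obtain ⟨p, hp, hpf⟩ := WfDvdMonoid.exists_irreducible_factor hnu hf0
    obtain ⟨P₀, hP₀⟩ := exists_place_zero_of_irreducible hp
    have hordf : P₀.ord (ι f) = 1 := ratFunc_ord_squarefree P₀ hp hP₀ hf hpf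
    have hram := quadratic_ramified hK hdeg P₀ (by
      intro Q e he
      have h1 := ord_eq he (ι f)
      rw [← heq, ord_pow, hordf] at h1
      refine ⟨(Q.ord y).toNat, ?_⟩
      have h3 : 0 ≤ Q.ord y := by
        have : (0 : ℤ) ≤ e := by positivity
        omega
      zify
      rw [Int.toNat_of_nonneg h3]
      push_cast at h1
      omega)
    obtain ⟨⟨Q, hQ, -⟩, hall⟩ := hram
    have := hunram P₀ Q 2 (hall Q hQ).1
    omega

end

end Groth.Agent.FF.Ext
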