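import Groth.Agent.FunFld.AS2
import Groth.Agent.FunFld.HyperellFF
import Groth.Agent.FunFld.SumEF
import Groth.Agent.FunFld.RR
import Groth.Agent.FunFld.DegDiv
import Groth.Agent.FunFld.ConormDeg
import Groth.Agent.FunFld.SepPlaces

/-!
# The genus of a hyperelliptic function field `y² = f(x)` in characteristic `≠ 2`
-/

set_option autoImplicit false
set_option linter.unusedSectionVars false

open FunFld IntermediateField WithZero Polynomial

namespace Groth.Agent.FF.Hyp

open Groth.Agent.FF.Ext Groth.Agent.FF.AS2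

universe u v

section RatFuncLemmas

variable {k : Type u} [Field k]

local notation "ι" => algebraMap (Polynomial k) (RatFunc k)

/-- a rational function integral at all finite places is a polynomial -/
theorem exists_poly_of_integral (w : RatFunc k)
    (hw : ∀ p : Place k (RatFunc k), p.1 RatFunc.X ≤ 1 → p.1 w ≤ 1) : ∃ q : k[X], w = ι q := by
  by_cases hw0 : w = 0
  · exact ⟨0, by rw [hw0, map_zero]⟩
  have hnd := RatFunc.num_div_denom w
  have hnum : w.num ≠ 0 := RatFunc.num_ne_zero hw0
  have hden : w.denom ≠ 0 := RatFunc.denom_ne_zero w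
  have hunit : IsUnit w.denom := by
    by_contra hnu
    obtain ⟨π, hπ, hπd⟩ := WfDvdMonoid.exists_irreducible_factor hnu hden
    obtain ⟨p, hp⟩ := exists_place_zero_of_irreducible hπ
    have hX := ratFunc_val_X_le_one p hπ.ne_zero hp
    have hcop : IsCoprime w.num w.denom := RatFunc.isCoprime_num_denom w
    have hπn : ¬ π ∣ w.num := by
      intro h
      exact hπ.not_isUnit (hcop.isUnit_of_dvd' h hπd)
    have h1 : p.1 (ι w.num) = 1 := ratFunc_val_eq_one_of_not_dvd p hπ hX hp hπn
    have h2 : p.1 (ι w.denom) < 1 := by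
      obtain ⟨c, hc⟩ := hπd
      rw [hc, map_mul, map_mul]
      calc p.1 (ι π) * p.1 (ι c) ≤ p.1 (ι π) * 1 :=
            mul_le_mul' le_rfl (ratFunc_val_poly_le_one p hX c)
        _ = p.1 (ι π) := mul_one _
        _ < 1 := hp
    have h3 := hw p hX
    rw [← hnd, map_div₀, h1] at h3
    have h0 : p.1 (ι w.denom) ≠ 0 := (Valuation.ne_zero_iff _).mpr (ratFunc_algebraMap_ne_zero hden)
    rw [div_le_iff₀ (zero_lt_iff.mpr h0), one_mul] at h3
    exact absurd h2 (not_lt.mpr h3)
  have hd1 : w.denom = 1 := by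
    have hm := RatFunc.monic_denom w
    have h0 := natDegree_eq_zero_of_isUnit hunit
    exact eq_one_of_monic_natDegree_zero hm h0
  refine ⟨w.num, ?_⟩
  conv_lhs => rw [← hnd, hd1, map_one, _root_.div_one]

end RatFuncLemmas

section Main

variable {k : Type u} {K : Type v} [Field k] [Field K] [Algebra k K]
  [Algebra (RatFunc k) K] [IsScalarTower k (RatFunc k) K]

local notation "ι" => algebraMap (Polynomial k) (RatFunc k)
local notation "j" => algebraMap (RatFunc k) K

variable (K) in
/-- the standing hypotheses on `y² = f(x)` -/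
structure Setup (y : K) (f : k[X]) : Prop where
  h2 : ringChar k ≠ 2
  hdeg : Module.finrank (RatFunc k) K = 2
  hf : Squarefree f
  hd : 1 ≤ f.natDegree
  heq : y ^ 2 = j (ι f)

namespace Setup

variable {y : K} {f : k[X]} (S : Setup K y f)
include S

lemma hK : IsFunctionField k K :=
  isFunctionField_of_quadratic S.h2 S.hdeg y f S.hf S.hd S.heq

lemma hy : y ∉ Set.range j := sqrt_not_mem_range S.hf S.hd S.heq

lemma fd : FiniteDimensional (RatFunc k) K :=
  FiniteDimensional.of_finrank_pos (by rw [S.hdeg]; norm_num)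

lemma two_ne_zero_k : (2 : k) ≠ 0 := Ring.two_ne_zero S.h2

lemma jpoly (q : k[X]) : j (ι q) = aeval (j RatFunc.X) q := by
  rw [← RatFunc.algebraMap_X, aeval_algebraMap_apply, aeval_algebraMap_apply, aeval_X_left_apply]

lemma trans_x : Transcendental k (j RatFunc.X) := by
  have h := RatFunc.transcendental_X (K := k)
  exact (transcendental_algebraMap_iff (algebraMap (RatFunc k) K).injective).mpr h

/-- the pole divisor of `x` has degree `2` -/
lemma deg_poleDiv : (poleDiv k (j RatFunc.X)).deg = 2 := by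
  have hfd := S.fd
  rw [deg_poleDiv_eq S.hK S.trans_x, finrank_adjoin_map (k := k) (K := RatFunc k) (K' := K)
    RatFunc.X, S.hdeg, RatFunc.adjoin_X, IntermediateField.finrank_top]
  norm_num

/-- the value of the pole divisor at a finite place -/
lemma poleDiv_of_le_one (P : Place k K) (hP : P.1 (j RatFunc.X) ≤ 1) :
    poleDiv k (j RatFunc.X) P = 0 := by
  have hx0 : j (RatFunc.X : RatFunc k) ≠ 0 := j_ne_zero RatFunc.X_ne_zero
  rw [poleDiv_apply S.hK]
  rw [val_le_one_iff P hx0] at hP
  exact max_eq_right (by omega)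

/-- the value of the pole divisor at an infinite place -/
lemma poleDiv_of_one_lt (P : Place k K) (hP : 1 < P.1 (j RatFunc.X)) :
    P.1 (j RatFunc.X) = exp (poleDiv k (j RatFunc.X) P) ∧ 0 < poleDiv k (j RatFunc.X) P := by
  have hx0 : j (RatFunc.X : RatFunc k) ≠ 0 := j_ne_zero RatFunc.X_ne_zero
  have hneg : P.ord (j RatFunc.X) < 0 := by
    by_contra h
    rw [not_lt, ← val_le_one_iff P hx0] at h
    exact absurd hP (not_lt.mpr h)
  rw [poleDiv_apply S.hK, max_eq_left (by omega)]
  exact ⟨val_eq_exp_neg_ord P hx0, by omega⟩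

/-- polynomials in `x` of degree `≤ m` lie in `L(m (x)_∞)` -/
lemma val_poly_le (P : Place k K) {q : k[X]} {m : ℕ} (hq : q.natDegree ≤ m) :
    P.1 (aeval (j RatFunc.X) q) ≤ exp ((m : ℤ) * poleDiv k (j RatFunc.X) P) := by
  by_cases hP : P.1 (j RatFunc.X) ≤ 1
  · rw [S.poleDiv_of_le_one P hP, mul_zero, exp_zero]
    exact gval_aeval_le_one P.1 P.2.1 hP q
  · rw [not_le] at hP
    by_cases hq0 : q = 0
    · rw [hq0, map_zero, map_zero]
      exact zero_le
    obtain ⟨h1, h2⟩ := S.poleDiv_of_one_lt P hP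
    rw [val_aeval_of_one_lt P hP hq0, h1, ← exp_nsmul, exp_le_exp, nsmul_eq_mul]
    have : (q.natDegree : ℤ) ≤ m := by exact_mod_cast hq
    nlinarith

end Setup

end Main

section Main2

variable {k : Type u} {K : Type v} [Field k] [Field K] [Algebra k K]
  [Algebra (RatFunc k) K] [IsScalarTower k (RatFunc k) K]

local notation "ι" => algebraMap (Polynomial k) (RatFunc k)
local notation "j" => algebraMap (RatFunc k) K

variable (k K) in
/-- the divisor `n (x)_∞` -/
noncomputable abbrev nD (n : ℕ) : Divisor k K := (n : ℤ) • poleDiv k (j RatFunc.X)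

namespace Setup

variable {y : K} {f : k[X]} (S : Setup K y f)
include S

omit S in
lemma nD_apply (n : ℕ) (P : Place k K) :
    nD k K n P = (n : ℤ) * poleDiv k (j RatFunc.X) P := by
  rw [Finsupp.smul_apply, smul_eq_mul]

/-- `a(x) + b(x) y ∈ L(n (x)_∞)` when `deg a ≤ n`, `2 deg b + deg f ≤ 2n` -/
lemma mem_L_of_deg {n : ℕ} {a b : k[X]} (ha : a.natDegree ≤ n)
    (hb : b = 0 ∨ 2 * b.natDegree + f.natDegree ≤ 2 * n) :
    aeval (j RatFunc.X) a + aeval (j RatFunc.X) b * y ∈ L (nD k K n) := by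
  intro P
  rw [nD_apply]
  refine (P.1.map_add _ _).trans (max_le (S.val_poly_le P ha) ?_)
  rcases hb with rfl | hb
  · rw [map_zero, zero_mul, map_zero]
    exact zero_le
  have hsq : P.1 (aeval (j RatFunc.X) b * y) ^ 2 ≤
      exp ((n : ℤ) * poleDiv k (j RatFunc.X) P) ^ 2 := by
    have h1 : (aeval (j RatFunc.X) b * y) ^ 2 = aeval (j RatFunc.X) (b ^ 2 * f) := by
      rw [mul_pow, S.heq, S.jpoly, map_mul, map_pow]
    rw [← map_pow, h1, ← exp_nsmul, nsmul_eq_mul]
    have hdeg : (b ^ 2 * f).natDegree ≤ 2 * n :=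
      (natDegree_mul_le).trans (by
        have := natDegree_pow_le (p := b) (n := 2)
        omega)
    have h2 := S.val_poly_le P hdeg
    have e : ((2 * n : ℕ) : ℤ) * poleDiv k (j RatFunc.X) P =
        ((2 : ℕ) : ℤ) * ((n : ℤ) * poleDiv k (j RatFunc.X) P) := by
      push_cast
      ring
    rwa [e] at h2
  exact le_of_pow_le_pow_left₀ (by norm_num) zero_le hsq

/-- conjugation -/
lemma exists_conj : ∃ σ : K ≃ₐ[RatFunc k] K, σ y = -y := by
  have hfd := S.fd
  have heq' : y ^ 2 + j 0 * y + j (-(ι f)) = 0 := by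
    rw [map_zero, zero_mul, add_zero, map_neg, S.heq, add_neg_cancel]
  obtain ⟨σ, hσ⟩ := exists_conj_quadratic S.hdeg S.hy heq'
  exact ⟨σ, by rw [hσ, map_zero, neg_zero, zero_sub]⟩

/-- `L(n (x)_∞)` is stable under the automorphisms of `K/k(x)` -/
lemma map_mem_L (σ : K ≃ₐ[RatFunc k] K) {n : ℕ} {z : K} (hz : z ∈ L (nD k K n)) :
    σ z ∈ L (nD k K n) := by
  intro P
  have h := hz (Place.comapEquiv P σ)
  rw [Place.comapEquiv_apply] at h
  refine h.trans_eq ?_
  rw [nD_apply, nD_apply, poleDiv_apply S.hK, poleDiv_apply S.hK]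
  have : (Place.comapEquiv P σ).ord (j RatFunc.X) = P.ord (j RatFunc.X) := by
    unfold Place.ord
    rw [Place.comapEquiv_apply, σ.commutes]
  rw [this]

/-- every element of `K` is `a + b y` -/
lemma exists_decomp (z : K) : ∃ a b : RatFunc k, z = j a + j b * y := by
  have hfd := S.fd
  have hli : LinearIndependent (RatFunc k) ![(1 : K), y] := by
    rw [LinearIndependent.pair_iff]
    intro s t hst
    by_cases ht : t = 0
    · subst ht
      rw [zero_smul, add_zero, Algebra.smul_def, mul_one] at hst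
      exact ⟨(map_eq_zero _).mp hst, rfl⟩
    · exfalso
      apply S.hy
      refine ⟨-s / t, ?_⟩
      rw [Algebra.smul_def, Algebra.smul_def, mul_one] at hst
      rw [map_div₀, map_neg, div_eq_iff ((_root_.map_ne_zero _).mpr ht)]
      linear_combination -hst
  have hcard : Fintype.card (Fin 2) = Module.finrank (RatFunc k) K := by
    rw [S.hdeg, Fintype.card_fin]
  let b := basisOfLinearIndependentOfCardEqFinrank hli hcard
  have hz := b.sum_repr z
  rw [Fin.sum_univ_two] at hz
  simp only [b, coe_basisOfLinearIndependentOfCardEqFinrank, Matrix.cons_val_zero,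
    Matrix.cons_val_one] at hz
  refine ⟨b.repr z 0, b.repr z 1, ?_⟩
  rw [Algebra.smul_def, Algebra.smul_def, mul_one] at hz
  exact hz.symm

/-- elements of `k(x)` in `L(m (x)_∞)` are polynomials of degree `≤ m` -/
lemma exists_poly_of_mem_L {m : ℕ} {w : RatFunc k} (hw : j w ∈ L (nD k K m)) :
    ∃ q : k[X], w = ι q ∧ q.natDegree ≤ m := by
  have hfd := S.fd
  have hKr := isFunctionField_ratFunc k
  have hint : ∀ p : Place k (RatFunc k), p.1 RatFunc.X ≤ 1 → p.1 w ≤ 1 := by
    intro p hp
    obtain ⟨P, e, he⟩ := exists_isOver (K' := K) hKr p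
    have hP : P.1 (j RatFunc.X) ≤ 1 := (le_one_iff he _).mpr hp
    have h := hw P
    rw [nD_apply, S.poleDiv_of_le_one P hP, mul_zero, exp_zero] at h
    exact (le_one_iff he w).mp h
  obtain ⟨q, rfl⟩ := exists_poly_of_integral w hint
  refine ⟨q, rfl, ?_⟩
  by_cases hq0 : q = 0
  · rw [hq0, natDegree_zero]
    exact Nat.zero_le _
  have hXtr : Transcendental k (RatFunc.X : RatFunc k) := RatFunc.transcendental_X (K := k)
  obtain ⟨p, hp'⟩ := exists_pole_of_transcendental hKr hXtr
  have hp : 1 < p.1 (RatFunc.X : RatFunc k) := by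
    by_contra hle
    rw [not_lt, val_le_one_iff p RatFunc.X_ne_zero] at hle
    omega
  obtain ⟨P, e, he⟩ := exists_isOver (K' := K) hKr p
  have hP : 1 < P.1 (j RatFunc.X) := by
    by_contra hle
    rw [not_lt] at hle
    exact absurd ((le_one_iff he _).mp hle) (not_le.mpr hp)
  obtain ⟨h1, h2⟩ := S.poleDiv_of_one_lt P hP
  have h := hw P
  rw [nD_apply, S.jpoly, val_aeval_of_one_lt P hP hq0, h1, ← exp_nsmul, exp_le_exp,
    nsmul_eq_mul] at h
  have : (q.natDegree : ℤ) ≤ m := by
    by_contra hlt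
    rw [not_le] at hlt
    nlinarith
  exact_mod_cast this

/-- the squarefree step: `b² f` a polynomial forces `b` to be a polynomial -/
lemma exists_poly_of_sq_mul {b' : RatFunc k} {q : k[X]} (hq : b' ^ 2 * ι f = ι q) :
    ∃ b : k[X], b' = ι b := by
  apply exists_poly_of_integral
  intro p hp
  by_cases hb0 : b' = 0
  · rw [hb0, map_zero]
    exact zero_le_one
  have hf0 : f ≠ 0 := S.hf.ne_zero
  have hq0 : q ≠ 0 := by
    rintro rfl
    rw [map_zero] at hq
    rcases mul_eq_zero.mp hq with h | h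
    · exact hb0 (pow_eq_zero_iff (by norm_num) |>.mp h)
    · exact ratFunc_algebraMap_ne_zero hf0 h
  have hord : 2 * p.ord b' + p.ord (ι f) = p.ord (ι q) := by
    rw [← hq, ord_mul p (pow_ne_zero _ hb0) (ratFunc_algebraMap_ne_zero hf0), ord_pow]
    push_cast
    ring
  have hq1 : 0 ≤ p.ord (ι q) :=
    (val_le_one_iff p (ratFunc_algebraMap_ne_zero hq0)).mp (ratFunc_val_poly_le_one p hp q)
  have hf1 : p.ord (ι f) ≤ 1 := by
    by_cases hlt : p.1 (ι f) < 1
    · rw [ratFunc_ord_squarefree' p S.hf hlt]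
    · rw [not_lt] at hlt
      have h1 := ratFunc_val_poly_le_one p hp f
      have := (val_eq_one_iff p (ratFunc_algebraMap_ne_zero hf0)).mp (le_antisymm h1 hlt)
      omega
  rw [val_le_one_iff p hb0]
  omega

end Setup

end Main2

section Main3

variable {k : Type u} {K : Type v} [Field k] [Field K] [Algebra k K]
  [Algebra (RatFunc k) K] [IsScalarTower k (RatFunc k) K]

local notation "ι" => algebraMap (Polynomial k) (RatFunc k)
local notation "j" => algebraMap (RatFunc k) K

lemma mem_degreeLT_succ_iff {a : k[X]} {n : ℕ} : a ∈ degreeLT k (n + 1) ↔ a.natDegree ≤ n := by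
  rw [mem_degreeLT]
  by_cases ha : a = 0
  · subst ha
    simp
  · rw [degree_eq_natDegree ha, Nat.cast_lt]
    omega

namespace Setup

variable {y : K} {f : k[X]} (S : Setup K y f)
include S

/-- the description of `L(n (x)_∞)` -/
lemma exists_of_mem_L {n : ℕ} {z : K} (hz : z ∈ L (nD k K n)) :
    ∃ a b : k[X], a.natDegree ≤ n ∧ (b = 0 ∨ 2 * b.natDegree + f.natDegree ≤ 2 * n) ∧
      z = aeval (j RatFunc.X) a + aeval (j RatFunc.X) b * y := by
  obtain ⟨σ, hσ⟩ := S.exists_conj
  obtain ⟨a', b', hzab⟩ := S.exists_decomp z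
  have h2k := S.two_ne_zero_k
  have h2K : (2 : K) ≠ 0 := by
    have h : (2 : K) = algebraMap k K 2 := (map_ofNat (algebraMap k K) 2).symm
    rw [h]
    exact (map_ne_zero_iff _ (algebraMap k K).injective).mpr h2k
  have hσz : σ z = j a' - j b' * y := by
    rw [hzab, map_add, map_mul, σ.commutes, σ.commutes, hσ]
    ring
  have ha'L : j a' ∈ L (nD k K n) := by
    have h1 : j a' = (2⁻¹ : k) • (z + σ z) := by
      rw [hσz, hzab, Algebra.smul_def, map_inv₀, map_ofNat]
      field_simp
      ring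
    rw [h1]
    exact Submodule.smul_mem _ _ (Submodule.add_mem _ hz (S.map_mem_L σ hz))
  obtain ⟨a, rfl, hadeg⟩ := S.exists_poly_of_mem_L ha'L
  have hbyL : j b' * y ∈ L (nD k K n) := by
    have : j b' * y = z - j (ι a) := by
      rw [hzab]
      ring
    rw [this]
    exact Submodule.sub_mem _ hz ha'L
  have hsqL : j (b' ^ 2 * ι f) ∈ L (nD k K (2 * n)) := by
    intro P
    have h := hbyL P
    rw [nD_apply] at h ⊢
    have e : j (b' ^ 2 * ι f) = (j b' * y) ^ 2 := by
      rw [mul_pow, S.heq, map_mul, map_pow]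
    rw [e, map_pow]
    calc P.1 (j b' * y) ^ 2 ≤ exp ((n : ℤ) * poleDiv k (j RatFunc.X) P) ^ 2 :=
          pow_le_pow_left₀ zero_le h 2
      _ = exp (((2 * n : ℕ) : ℤ) * poleDiv k (j RatFunc.X) P) := by
          rw [← exp_nsmul, nsmul_eq_mul]
          congr 1
          push_cast
          ring
  obtain ⟨q, hq, hqdeg⟩ := S.exists_poly_of_mem_L hsqL
  obtain ⟨b, rfl⟩ := S.exists_poly_of_sq_mul hq
  refine ⟨a, b, hadeg, ?_, ?_⟩
  · by_cases hb0 : b = 0
    · exact Or.inl hb0
    · right
      have hqb : q = b ^ 2 * f := by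
        apply RatFunc.algebraMap_injective k
        rw [← hq, map_mul, map_pow]
      rw [hqb, natDegree_mul (pow_ne_zero 2 hb0) S.hf.ne_zero, natDegree_pow] at hqdeg
      omega
  · rw [hzab, S.jpoly, S.jpoly]

/-- `ℓ(n (x)_∞)` -/
theorem ell_nD {n : ℕ} (hn : (f.natDegree + 1) / 2 ≤ n) :
    ell (nD k K n) = (n + 1) + (n - (f.natDegree + 1) / 2 + 1) := by
  obtain ⟨m, hm⟩ : ∃ m, n = m + (f.natDegree + 1) / 2 :=
    ⟨n - (f.natDegree + 1) / 2, (Nat.sub_add_cancel hn).symm⟩
  have hm' : n - (f.natDegree + 1) / 2 = m := by omega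
  rw [hm']
  let Φ : (degreeLT k (n + 1)) × (degreeLT k (m + 1)) →ₗ[k] K :=
    ((Polynomial.aeval (j RatFunc.X)).toLinearMap.comp (degreeLT k (n + 1)).subtype).coprod
      ((LinearMap.mulRight k y).comp
        ((Polynomial.aeval (j RatFunc.X)).toLinearMap.comp (degreeLT k (m + 1)).subtype))
  have hΦ : ∀ ab, Φ ab = aeval (j RatFunc.X) (ab.1 : k[X]) +
      aeval (j RatFunc.X) (ab.2 : k[X]) * y := fun ab => rfl
  have hinjx : Function.Injective (aeval (R := k) (j RatFunc.X)) :=
    transcendental_iff_injective.mp S.trans_x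
  have hinj : Function.Injective Φ := by
    rw [← LinearMap.ker_eq_bot, LinearMap.ker_eq_bot']
    rintro ⟨a, b⟩ hab
    rw [hΦ] at hab
    have hb0 : (b : k[X]) = 0 := by
      by_contra hne
      apply S.hy
      have hne' : aeval (j RatFunc.X) (b : k[X]) ≠ 0 := by
        intro h0
        exact hne (hinjx (by rw [h0, map_zero]))
      refine ⟨-(ι (a : k[X])) / ι (b : k[X]), ?_⟩
      rw [map_div₀, map_neg, S.jpoly, S.jpoly, div_eq_iff hne']
      linear_combination -hab
    have ha0 : (a : k[X]) = 0 := by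
      simp only [hb0, map_zero, zero_mul, add_zero] at hab
      exact hinjx (by rw [hab, map_zero])
    exact Prod.ext (Subtype.ext ha0) (Subtype.ext hb0)
  have hrange : LinearMap.range Φ = L (nD k K n) := by
    apply le_antisymm
    · rintro _ ⟨⟨a, b⟩, rfl⟩
      rw [hΦ]
      apply S.mem_L_of_deg (mem_degreeLT_succ_iff.mp a.2)
      by_cases hb0 : (b : k[X]) = 0
      · exact Or.inl hb0
      · right
        have hbd : (b : k[X]).natDegree ≤ m := mem_degreeLT_succ_iff.mp b.2
        show 2 * (b : k[X]).natDegree + f.natDegree ≤ 2 * n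
        omega
    · intro z hz
      obtain ⟨a, b, ha, hb, rfl⟩ := S.exists_of_mem_L hz
      have hbm : b ∈ degreeLT k (m + 1) := by
        rw [mem_degreeLT_succ_iff]
        rcases hb with rfl | hb
        · simp
        · omega
      exact ⟨(⟨a, mem_degreeLT_succ_iff.mpr ha⟩, ⟨b, hbm⟩), rfl⟩
  have e1 := (LinearEquiv.ofInjective Φ hinj).finrank_eq
  rw [hrange] at e1
  unfold ell
  rw [← e1, Module.finrank_prod, (degreeLTEquiv k (n + 1)).finrank_eq,
    (degreeLTEquiv k (m + 1)).finrank_eq, Module.finrank_fin_fun, Module.finrank_fin_fun]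

/-- the genus of `y² = f(x)` -/
theorem genus_eq : genus k K = (f.natDegree - 1) / 2 := by
  set g := genus k K with hg
  set d := f.natDegree with hd
  have hn : (d + 1) / 2 ≤ g + d + 1 := by omega
  have hell := S.ell_nD hn
  have hdeg : (nD k K (g + d + 1)).deg = 2 * ((g + d + 1 : ℕ) : ℤ) := by
    rw [deg_zsmul, S.deg_poleDiv]
    ring
  have hrr := ell_eq_of_deg_ge S.hK (nD k K (g + d + 1)) (by
    rw [hdeg, ← hg]
    push_cast
    omega)
  rw [hell, hdeg, ← hg] at hrr
  have hd1 := S.hd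
  rw [← hd] at hd1
  omega

end Setup

end Main3

end Groth.Agent.FF.Hyp
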