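import Groth.Agent.FunFld.GaloisEF
import Groth.Agent.FunFld.Unramified
import Mathlib.RingTheory.Valuation.RamificationGroup
import Mathlib.RingTheory.Invariant.Basic
import Mathlib.FieldTheory.Galois.IsGaloisGroup

/-!
# The order of the inertia group
-/

set_option autoImplicit false
set_option linter.unusedSectionVars false

open FunFld WithZero Polynomial
open scoped Pointwise

namespace Groth.Agent.FF.Ext

variable {k K K' : Type*} [Field k] [Field K] [Field K'] [Algebra k K] [Algebra K K']
  [Algebra k K'] [IsScalarTower k K K']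

/-- the decomposition group in terms of `Place.comapEquiv` -/
lemma mem_decomposition_iff (Q : Place k K') (σ : K' ≃ₐ[K] K') :
    σ ∈ (Q.O).decompositionSubgroup K ↔ Place.comapEquiv Q σ = Q := by
  rw [MulAction.mem_stabilizer_iff]
  constructor
  · intro h
    apply place_ext_of_le_one_iff
    intro z
    rw [← mem_O_iff, ← mem_O_iff, O_comapEquiv, inv_smul_eq_iff.mpr h.symm]
  · intro h
    have h1 := O_comapEquiv Q σ
    rw [h] at h1
    exact (inv_smul_eq_iff.mp h1.symm).symm

lemma val_map_of_mem_decomposition {Q : Place k K'} {σ : K' ≃ₐ[K] K'}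
    (hσ : σ ∈ (Q.O).decompositionSubgroup K) (x : K') : Q.1 (σ x) = Q.1 x := by
  have h := (mem_decomposition_iff Q σ).mp hσ
  rw [← Place.comapEquiv_apply, h]

/-- the inertia group: trivial action on the residue field -/
lemma mem_inertia_iff (Q : Place k K') (σ : (Q.O).decompositionSubgroup K) :
    σ ∈ (Q.O).inertiaSubgroup K ↔ ∀ x : IsLocalRing.ResidueField Q.O, σ • x = x := by
  unfold ValuationSubring.inertiaSubgroup
  rw [MonoidHom.mem_ker]
  constructor
  · intro h x
    have := congrArg (fun f => f x) h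
    simpa using this
  · intro h
    ext x
    exact h x

lemma coe_smul_O (Q : Place k K') (σ : (Q.O).decompositionSubgroup K) (a : Q.O) :
    ((σ • a : Q.O) : K') = (σ : K' ≃ₐ[K] K') (a : K') := rfl

lemma smul_res (Q : Place k K') (σ : (Q.O).decompositionSubgroup K) (a : Q.O) :
    σ • res Q a = res Q (σ • a) := rfl

/-- the decomposition group acts on the residue field of `Q` linearly over that of `P` -/
lemma smul_resMap {P : Place k K} {Q : Place k K'} {e : ℕ} (he : IsOverWith Q P e)
    (σ : (Q.O).decompositionSubgroup K) (x : IsLocalRing.ResidueField P.O) :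
    σ • resMap he x = resMap he x := by
  obtain ⟨a, rfl⟩ := IsLocalRing.residue_surjective x
  show σ • resMap he (res P a) = resMap he (res P a)
  rw [resMap_res, smul_res]
  congr 1
  apply Subtype.ext
  rw [coe_smul_O, OMap_coe, AlgEquiv.commutes]

section Main

variable [FiniteDimensional K K'] [IsGalois K K']

open IntermediateField in
/-- **The inertia group has order `e`** (residue field of `Q` separable over `k`). -/
theorem card_inertiaSubgroup (hK : IsFunctionField k K) {P : Place k K} {Q : Place k K'} {e : ℕ}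
    (he : IsOverWith Q P e) [Algebra.IsSeparable k (IsLocalRing.ResidueField Q.O)] :
    Nat.card ((Q.O).inertiaSubgroup K) = e := by
  classical
  letI := (resMap he).toAlgebra
  have hfin : Module.Finite (IsLocalRing.ResidueField P.O) (IsLocalRing.ResidueField Q.O) :=
    (finite_and_mul_finrank_le he).1
  have htower : IsScalarTower k (IsLocalRing.ResidueField P.O) (IsLocalRing.ResidueField Q.O) :=
    isScalarTower_res he
  have hsep : Algebra.IsSeparable (IsLocalRing.ResidueField P.O) (IsLocalRing.ResidueField Q.O) :=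
    Algebra.isSeparable_tower_top_of_isSeparable k _ _
  -- a nonzero primitive element
  obtain ⟨ξbar, hξgen, hξ0⟩ : ∃ ξbar : IsLocalRing.ResidueField Q.O,
      (IsLocalRing.ResidueField P.O)⟮ξbar⟯ = ⊤ ∧ ξbar ≠ 0 := by
    obtain ⟨α, hα⟩ := Field.exists_primitive_element (IsLocalRing.ResidueField P.O)
      (IsLocalRing.ResidueField Q.O)
    by_cases h0 : α = 0
    · refine ⟨1, ?_, one_ne_zero⟩
      rw [← hα, h0, IntermediateField.adjoin_zero, IntermediateField.adjoin_one]
    · exact ⟨α, hα, h0⟩
  have hξint : IsIntegral (IsLocalRing.ResidueField P.O) ξbar := IsIntegral.of_finite _ ξbar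
  obtain ⟨ξ₀, hξ₀⟩ := IsLocalRing.residue_surjective ξbar
  -- weak approximation
  have hfinQ : {Q' : Place k K' | IsOver Q' P}.Finite := finite_isOver P
  have hfinQ' : Finite {Q' : Place k K' // IsOver Q' P} := hfinQ
  obtain ⟨ξ, hξ⟩ := weak_approx (fun Q' : {Q' : Place k K' // IsOver Q' P} => Q'.1)
    Subtype.val_injective (fun Q' => if Q'.1 = Q then (ξ₀ : K') else 0) 0
  have hξQ : Q.1 (ξ - ξ₀) < 1 := by
    have := hξ ⟨Q, e, he⟩
    simpa using this
  have hξQ' : ∀ Q' : Place k K', IsOver Q' P → Q' ≠ Q → Q'.1 ξ < 1 := by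
    intro Q' hQ' hne
    have := hξ ⟨Q', hQ'⟩
    simpa [hne] using this
  -- values of the conjugates
  have hconjD : ∀ σ : K' ≃ₐ[K] K', σ ∈ (Q.O).decompositionSubgroup K →
      Q.1 (σ ξ - σ ξ₀) < 1 := by
    intro σ hσ
    rw [← map_sub, val_map_of_mem_decomposition hσ]
    exact hξQ
  have hconjN : ∀ σ : K' ≃ₐ[K] K', σ ∉ (Q.O).decompositionSubgroup K → Q.1 (σ ξ) < 1 := by
    intro σ hσ
    rw [← Place.comapEquiv_apply]
    apply hξQ' _ ⟨e, isOverWith_comapEquiv he σ⟩
    intro h
    exact hσ ((mem_decomposition_iff Q σ).mpr h)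
  have hconj1 : ∀ σ : K' ≃ₐ[K] K', Q.1 (σ ξ) ≤ 1 := by
    intro σ
    by_cases hσ : σ ∈ (Q.O).decompositionSubgroup K
    · have h1 := hconjD σ hσ
      have h2 : Q.1 (σ ξ₀) ≤ 1 := by
        rw [val_map_of_mem_decomposition hσ]; exact ξ₀.2
      have h3 : σ ξ = (σ ξ - σ ξ₀) + σ ξ₀ := by ring
      rw [h3]
      exact Q.1.map_add_le h1.le h2
    · exact (hconjN σ hσ).le
  -- the residues of the conjugates
  set ρ : (K' ≃ₐ[K] K') → IsLocalRing.ResidueField Q.O := fun σ => res Q ⟨σ ξ, hconj1 σ⟩ with hρ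
  have hρD : ∀ σ : (Q.O).decompositionSubgroup K, ρ σ = σ • ξbar := by
    intro σ
    rw [← hξ₀]
    show res Q ⟨(σ : K' ≃ₐ[K] K') ξ, hconj1 σ⟩ = res Q (σ • ξ₀)
    rw [← sub_eq_zero, ← map_sub, res_eq_zero_iff]
    exact hconjD σ σ.2
  have hρN : ∀ σ : K' ≃ₐ[K] K', σ ∉ (Q.O).decompositionSubgroup K → ρ σ = 0 := by
    intro σ hσ
    exact (res_eq_zero_iff Q _).mpr (hconjN σ hσ)
  have hρ1 : ρ 1 = ξbar := by
    rw [← hξ₀]
    show res Q ⟨(1 : K' ≃ₐ[K] K') ξ, hconj1 1⟩ = res Q ξ₀
    rw [← sub_eq_zero, ← map_sub, res_eq_zero_iff]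
    exact hξQ
  -- the characteristic polynomial
  obtain ⟨χ₀, hχ₀⟩ : ∃ χ₀ : K[X],
      χ₀.map (algebraMap K K') = ∏ σ : (K' ≃ₐ[K] K'), (X - C (σ ξ)) := by
    have h := Algebra.IsInvariant.charpoly_mem_lifts K K' (K' ≃ₐ[K] K') ξ
    rw [Polynomial.mem_lifts] at h
    obtain ⟨q, hq⟩ := h
    refine ⟨q, ?_⟩
    rw [hq, MulSemiringAction.charpoly_eq]
    rfl
  set χQ : Q.O[X] := ∏ σ : (K' ≃ₐ[K] K'), (X - C (⟨σ ξ, hconj1 σ⟩ : Q.O)) with hχQ
  have hχQmap : χQ.map (algebraMap Q.O K') = ∏ σ : (K' ≃ₐ[K] K'), (X - C (σ ξ)) := by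
    rw [hχQ, Polynomial.map_prod]
    apply Finset.prod_congr rfl
    intro σ _
    rw [Polynomial.map_sub, Polynomial.map_X, Polynomial.map_C]
    rfl
  have hint : ∀ i, P.1 (χ₀.coeff i) ≤ 1 := by
    intro i
    rw [← le_one_iff he]
    have h1 : algebraMap K K' (χ₀.coeff i) = ((χQ.coeff i : Q.O) : K') := by
      rw [← Polynomial.coeff_map, hχ₀, ← hχQmap, Polynomial.coeff_map]
      rfl
    rw [h1]
    exact (χQ.coeff i).2
  obtain ⟨X₀, hX₀⟩ := exists_lift_poly P χ₀ hint
  have hX₀Q : X₀.map (OMap he) = χQ := by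
    apply Polynomial.map_injective (algebraMap Q.O K') Subtype.val_injective
    rw [Polynomial.map_map, hχQmap, ← hχ₀, ← hX₀, Polynomial.map_map]
    congr 1
  set Xbar : (IsLocalRing.ResidueField P.O)[X] := X₀.map (res P) with hXbar
  have hXbarmap : Xbar.map (algebraMap (IsLocalRing.ResidueField P.O)
      (IsLocalRing.ResidueField Q.O)) = ∏ σ : (K' ≃ₐ[K] K'), (X - C (ρ σ)) := by
    rw [hXbar, Polynomial.map_map]
    have hcomp : (algebraMap (IsLocalRing.ResidueField P.O)
        (IsLocalRing.ResidueField Q.O)).comp (res P) = (res Q).comp (OMap he) := by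
      ext x
      exact resMap_res he x
    rw [hcomp, ← Polynomial.map_map, hX₀Q, hχQ, Polynomial.map_prod]
    apply Finset.prod_congr rfl
    intro σ _
    rw [Polynomial.map_sub, Polynomial.map_X, Polynomial.map_C]
  -- the minimal polynomial
  set m := minpoly (IsLocalRing.ResidueField P.O) ξbar with hm
  have hroot : aeval ξbar Xbar = 0 := by
    rw [← Polynomial.eval_map_algebraMap, hXbarmap, Polynomial.eval_prod]
    apply Finset.prod_eq_zero (Finset.mem_univ (1 : K' ≃ₐ[K] K'))
    rw [eval_sub, eval_X, eval_C, hρ1, sub_self]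
  have hdvd : m ∣ Xbar := minpoly.dvd _ ξbar hroot
  have hdvd' : m.map (algebraMap (IsLocalRing.ResidueField P.O)
      (IsLocalRing.ResidueField Q.O)) ∣ ∏ σ : (K' ≃ₐ[K] K'), (X - C (ρ σ)) := by
    rw [← hXbarmap]
    exact Polynomial.map_dvd _ hdvd
  have hprod0 : (∏ σ : K' ≃ₐ[K] K', (X - C (ρ σ)) : (IsLocalRing.ResidueField Q.O)[X]) ≠ 0 :=
    (monic_prod_of_monic _ _ (fun σ _ => monic_X_sub_C _)).ne_zero
  have hsplit : (m.map (algebraMap (IsLocalRing.ResidueField P.O)
      (IsLocalRing.ResidueField Q.O))).Splits :=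
    Splits.of_dvd (Splits.prod fun σ _ => Splits.X_sub_C _) hprod0 hdvd'
  have hmsep : m.Separable := Algebra.IsSeparable.isSeparable _ ξbar
  have hcard : Fintype.card (m.rootSet (IsLocalRing.ResidueField Q.O)) = m.natDegree :=
    card_rootSet_eq_natDegree hmsep hsplit
  have hdeg : m.natDegree = Module.finrank (IsLocalRing.ResidueField P.O)
      (IsLocalRing.ResidueField Q.O) := by
    rw [← IntermediateField.adjoin.finrank hξint, hξgen, IntermediateField.finrank_top']
  -- the action of the decomposition group as algebra homomorphisms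
  let φ : (Q.O).decompositionSubgroup K → (IsLocalRing.ResidueField Q.O →ₐ[IsLocalRing.ResidueField P.O]
      IsLocalRing.ResidueField Q.O) := fun σ =>
    { MulSemiringAction.toRingHom ((Q.O).decompositionSubgroup K) (IsLocalRing.ResidueField Q.O) σ with
      commutes' := fun x => smul_resMap he σ x }
  have hφ : ∀ σ x, φ σ x = σ • x := fun σ x => rfl
  -- the orbit is the root set
  have horbit : MulAction.orbit ((Q.O).decompositionSubgroup K) ξbar =
      m.rootSet (IsLocalRing.ResidueField Q.O) := by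
    ext y
    rw [Polynomial.mem_rootSet_of_ne (minpoly.ne_zero hξint)]
    constructor
    · rintro ⟨σ, rfl⟩
      show aeval (σ • ξbar) m = 0
      rw [← hφ, Polynomial.aeval_algHom_apply, minpoly.aeval, map_zero]
    · intro hy
      have h1 : eval y (∏ σ : K' ≃ₐ[K] K', (X - C (ρ σ))) = 0 := by
        obtain ⟨q, hq⟩ := hdvd'
        rw [hq, eval_mul, Polynomial.eval_map_algebraMap, hy, zero_mul]
      rw [eval_prod, Finset.prod_eq_zero_iff] at h1
      obtain ⟨σ, -, hσ⟩ := h1
      rw [eval_sub, eval_X, eval_C, sub_eq_zero] at hσ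
      have hy0 : y ≠ 0 := by
        rintro rfl
        have h2 := minpoly.coeff_zero_ne_zero hξint hξ0
        apply h2
        have h3 := Polynomial.coeff_zero_eq_aeval_zero' (A := IsLocalRing.ResidueField Q.O) m
        rw [hy] at h3
        exact (map_eq_zero _).mp h3
      by_cases hσD : σ ∈ (Q.O).decompositionSubgroup K
      · refine ⟨⟨σ, hσD⟩, ?_⟩
        show (⟨σ, hσD⟩ : (Q.O).decompositionSubgroup K) • ξbar = y
        rw [← hρD ⟨σ, hσD⟩]
        exact hσ.symm
      · exfalso
        rw [hρN σ hσD] at hσ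
        exact hy0 hσ
  -- the stabilizer is the inertia group
  have hstab : MulAction.stabilizer ((Q.O).decompositionSubgroup K) ξbar =
      (Q.O).inertiaSubgroup K := by
    ext σ
    rw [MulAction.mem_stabilizer_iff, mem_inertia_iff]
    constructor
    · intro hσ x
      have hadj : Algebra.adjoin (IsLocalRing.ResidueField P.O) ({ξbar} : Set _) = ⊤ := by
        rw [← IntermediateField.adjoin_simple_toSubalgebra_of_isAlgebraic hξint.isAlgebraic, hξgen]
        rfl
      have heq : φ σ = AlgHom.id _ _ := by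
        apply AlgHom.ext_of_adjoin_eq_top hadj
        intro z hz
        rw [Set.mem_singleton_iff] at hz
        subst hz
        exact hσ
      have := congrArg (fun f => f x) heq
      exact this
    · intro h
      exact h ξbar
  -- counting
  have hcount := Subgroup.card_mul_index (MulAction.stabilizer ((Q.O).decompositionSubgroup K) ξbar)
  rw [MulAction.index_stabilizer, hstab, horbit, Set.ncard_eq_toFinset_card',
    Set.toFinset_card, hcard, hdeg] at hcount
  have hD := card_decomposition_mul_deg hK he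
  rw [deg_eq_resDeg_mul_deg hK ⟨e, he⟩, resDeg_eq he] at hD
  have hPpos := deg_pos hK P
  have hfpos : 0 < Module.finrank (IsLocalRing.ResidueField P.O)
      (IsLocalRing.ResidueField Q.O) := Module.finrank_pos
  have h1 : Nat.card ((Q.O).decompositionSubgroup K) =
      e * Module.finrank (IsLocalRing.ResidueField P.O) (IsLocalRing.ResidueField Q.O) := by
    apply Nat.eq_of_mul_eq_mul_right hPpos
    rw [hD, mul_assoc]
  rw [h1] at hcount
  exact Nat.eq_of_mul_eq_mul_right hfpos hcount

end Main

end Groth.Agent.FF.Ext
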