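import Mathlib
import Groth.Prelude.Def_W4c6gradedringsgwSect

/-!
# Symmetric numerical semigroups and pseudo-Frobenius numbers

For a numerical semigroup `H` (an additive submonoid of `ℕ` containing all large integers) with
`1 ∉ H`, `H` is symmetric iff it has exactly one pseudo-Frobenius number.
-/

set_option autoImplicit false

namespace Groth.Agent.FF.Kunz

open W4c6gradedringsgw

/-- the integers represented by `H` -/
def Zset (H : Set ℕ) : Set ℤ := {z | ∃ h ∈ H, (h : ℤ) = z}

/-- the pseudo-Frobenius numbers of `H` -/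
def PF (H : Set ℕ) : Set ℤ := {w | w ∉ Zset H ∧ ∀ h ∈ H, h ≠ 0 → w + (h : ℤ) ∈ Zset H}

lemma isSymmetric_iff_Zset (H : Set ℕ) :
    IsSymmetric H ↔ ∃ d : ℤ, ∀ n : ℤ, n ∈ Zset H ↔ d - n ∉ Zset H := Iff.rfl

variable (H : AddSubmonoid ℕ)

lemma natCast_mem_Zset {n : ℕ} : (n : ℤ) ∈ Zset (H : Set ℕ) ↔ n ∈ H := by
  constructor
  · rintro ⟨h, hh, he⟩
    have : h = n := by exact_mod_cast he
    exact this ▸ hh
  · intro hn
    exact ⟨n, hn, rfl⟩

lemma zero_mem_Zset : (0 : ℤ) ∈ Zset (H : Set ℕ) := ⟨0, H.zero_mem, rfl⟩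

lemma add_mem_Zset {a b : ℤ} (ha : a ∈ Zset (H : Set ℕ)) (hb : b ∈ Zset (H : Set ℕ)) :
    a + b ∈ Zset (H : Set ℕ) := by
  obtain ⟨x, hx, rfl⟩ := ha
  obtain ⟨y, hy, rfl⟩ := hb
  exact ⟨x + y, H.add_mem hx hy, by push_cast; rfl⟩

lemma nonneg_of_mem_Zset {a : ℤ} (ha : a ∈ Zset (H : Set ℕ)) : 0 ≤ a := by
  obtain ⟨x, -, rfl⟩ := ha
  exact Int.natCast_nonneg x

/-- existence of the Frobenius number -/
lemma exists_frobenius (N : ℕ) (hN : ∀ n, N ≤ n → n ∈ H) (h1 : 1 ∉ H) :
    ∃ F : ℕ, F ∉ H ∧ ∀ n, F < n → n ∈ H := by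
  classical
  by_contra hcon
  push Not at hcon
  -- descending from `N`, all `n` would be in `H`
  have key : ∀ d : ℕ, ∀ n, N - d ≤ n → n ∈ H := by
    intro d
    induction d with
    | zero => intro n hn; exact hN n (by omega)
    | succ d ih =>
      intro n hn
      by_cases hlt : N - d ≤ n
      · exact ih n hlt
      · have hn' : n = N - (d + 1) := by omega
        by_contra hnH
        obtain ⟨m, hm, hmH⟩ := hcon n hnH
        exact hmH (ih m (by omega))
  exact h1 (key N 1 (by omega))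

lemma frobenius_mem_PF {F : ℕ} (hF : F ∉ H) (hF' : ∀ n, F < n → n ∈ H) :
    (F : ℤ) ∈ PF (H : Set ℕ) := by
  refine ⟨fun h => hF ((natCast_mem_Zset H).mp h), ?_⟩
  intro h _ h0
  have : ((F + h : ℕ) : ℤ) ∈ Zset (H : Set ℕ) :=
    (natCast_mem_Zset H).mpr (hF' _ (by omega))
  simpa using this

lemma le_frobenius {F : ℕ} (hF' : ∀ n, F < n → n ∈ H) {z : ℤ} (hz : z ∉ Zset (H : Set ℕ)) :
    z ≤ F := by
  by_contra hlt
  push Not at hlt
  apply hz
  have h0 : 0 ≤ z := by omega
  lift z to ℕ using h0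
  exact (natCast_mem_Zset H).mpr (hF' z (by exact_mod_cast hlt))

/-- **Symmetric iff type one.** -/
theorem isSymmetric_iff (N : ℕ) (hN : ∀ n, N ≤ n → n ∈ H) (h1 : 1 ∉ H) :
    IsSymmetric (H : Set ℕ) ↔
      ∀ w ∈ PF (H : Set ℕ), ∀ w' ∈ PF (H : Set ℕ), w = w' := by
  rw [isSymmetric_iff_Zset]
  constructor
  · rintro ⟨d, hd⟩
    have hdZ : d ∉ Zset (H : Set ℕ) := by
      have := (hd 0).mp (zero_mem_Zset H)
      simpa using this
    have key : ∀ w ∈ PF (H : Set ℕ), w = d := by
      intro w hw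
      have h2 : d - w ∈ Zset (H : Set ℕ) := by
        rw [hd (d - w)]
        simpa using hw.1
      obtain ⟨h, hh, he⟩ := h2
      by_cases h0 : h = 0
      · subst h0
        simp at he
        omega
      · exfalso
        apply hdZ
        have := hw.2 h hh h0
        rwa [he, add_sub_cancel] at this
    intro w hw w' hw'
    rw [key w hw, key w' hw']
  · intro hsub
    obtain ⟨F, hF, hF'⟩ := exists_frobenius H N hN h1
    have hFPF := frobenius_mem_PF H hF hF'
    refine ⟨F, fun n => ⟨?_, ?_⟩⟩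
    · intro hn hFn
      apply hF
      have := add_mem_Zset H hn hFn
      rw [add_sub_cancel] at this
      exact (natCast_mem_Zset H).mp this
    · intro hFn
      by_contra hn
      apply hFn
      -- induction on `F - n`
      have key : ∀ d : ℕ, ∀ n : ℤ, n ∉ Zset (H : Set ℕ) → ((F : ℤ) - n).toNat = d →
          (F : ℤ) - n ∈ Zset (H : Set ℕ) := by
        intro d
        induction d using Nat.strong_induction_on with
        | _ d ih =>
          intro n hn hd
          by_cases hPF : n ∈ PF (H : Set ℕ)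
          · rw [hsub n hPF F hFPF, sub_self]
            exact zero_mem_Zset H
          · have : ∃ h ∈ (H : Set ℕ), h ≠ 0 ∧ n + (h : ℤ) ∉ Zset (H : Set ℕ) := by
              by_contra hcon
              push Not at hcon
              exact hPF ⟨hn, hcon⟩
            obtain ⟨h, hh, h0, hnh⟩ := this
            have hle := le_frobenius H hF' hnh
            have hlt : ((F : ℤ) - (n + h)).toNat < d := by omega
            have := ih _ hlt (n + h) hnh rfl
            have h3 := add_mem_Zset H this ((natCast_mem_Zset H).mpr hh)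
            have e : (F : ℤ) - (n + h) + h = F - n := by ring
            rwa [e] at h3
      exact key _ n hn rfl

end Groth.Agent.FF.Kunz
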