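import Groth.Agent.FunFld.DivDeg

/-!
# Dimensions of `L(D₂)/L(D₁)` and `A(D₂)/A(D₁)`
-/

set_option autoImplicit false

open FunFld IntermediateField Polynomial WithZero

namespace Groth.Agent.FF

universe u v
variable {k : Type u} {K : Type v} [Field k] [Field K] [Algebra k K]

lemma mem_L (D : Divisor k K) (x : K) : x ∈ L D ↔ ∀ P : Place k K, P.1 x ≤ exp (D P) := Iff.rfl

lemma mem_AD (D : Divisor k K) (a : Place k K → K) :
    a ∈ AD D ↔ ∀ P : Place k K, P.1 (a P) ≤ exp (D P) := Iff.rfl

lemma L_mono {D₁ D₂ : Divisor k K} (h : D₁ ≤ D₂) : L D₁ ≤ L D₂ := by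
  intro x hx P
  exact (hx P).trans (exp_le_exp.mpr (h P))

lemma AD_mono {D₁ D₂ : Divisor k K} (h : D₁ ≤ D₂) : AD D₁ ≤ AD D₂ := by
  intro a ha P
  exact (ha P).trans (exp_le_exp.mpr (h P))

lemma single_nonneg' (P : Place k K) {n : ℤ} (hn : 0 ≤ n) :
    (0 : Divisor k K) ≤ Finsupp.single P n := by
  classical
  intro Q
  rw [Finsupp.single_apply]
  split_ifs
  · exact hn
  · exact le_rfl

lemma le_add_toDiv (D : Divisor k K) (E : Place k K →₀ ℕ) : D ≤ D + toDiv E := by
  have := toDiv_nonneg E
  exact le_add_of_nonneg_right this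

lemma length_residueField (hK : IsFunctionField k K) (P : Place k K) :
    Module.length k (IsLocalRing.ResidueField P.O) = (P.deg : ℕ∞) := by
  have := finite_residueField hK P
  rw [Module.length_eq_finrank]
  rfl

/-- local step for `L`. -/
lemma relLen_L_single_le (hK : IsFunctionField k K) (D : Divisor k K) (P : Place k K) :
    relLen (L D) (L (D + Finsupp.single P 1)) ≤ (P.deg : ℕ∞) := by
  classical
  obtain ⟨t, ht⟩ := exists_uniformizer P
  have hle : L (D + Finsupp.single P 1) ≤ ball P (D P + 1) := by
    intro x hx
    have := hx P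
    rw [Finsupp.add_apply, Finsupp.single_eq_same] at this
    exact this
  let g : L (D + Finsupp.single P 1) →ₗ[k] IsLocalRing.ResidueField P.O :=
    (ballRes P ht (D P + 1)).comp (Submodule.inclusion hle)
  have hker : ∀ x : L (D + Finsupp.single P 1), g x = 0 ↔ (x : K) ∈ L D := by
    intro x
    simp only [g, LinearMap.comp_apply]
    rw [ballRes_eq_zero_iff]
    simp only [Submodule.coe_inclusion, add_sub_cancel_right]
    constructor
    · intro hx Q
      by_cases hQ : Q = P
      · subst hQ; exact hx
      · have := x.2 Q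
        rw [Finsupp.add_apply, Finsupp.single_apply, if_neg (Ne.symm hQ), add_zero] at this
        exact this
    · intro hx; exact hx P
  rw [← length_residueField hK P]
  exact relLen_le_of_ker g hker

/-- local step for `A`. -/
lemma relLen_AD_single (hK : IsFunctionField k K) (D : Divisor k K) (P : Place k K) :
    relLen (AD D) (AD (D + Finsupp.single P 1)) = (P.deg : ℕ∞) := by
  classical
  obtain ⟨t, ht⟩ := exists_uniformizer P
  have hmem : ∀ a : AD (D + Finsupp.single P 1), (a : Place k K → K) P ∈ ball P (D P + 1) := by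
    intro a
    have := a.2 P
    rw [Finsupp.add_apply, Finsupp.single_eq_same] at this
    exact this
  let ev : AD (D + Finsupp.single P 1) →ₗ[k] ball P (D P + 1) :=
    LinearMap.codRestrict (ball P (D P + 1))
      ((LinearMap.proj P).comp (AD (D + Finsupp.single P 1)).subtype) hmem
  let g : AD (D + Finsupp.single P 1) →ₗ[k] IsLocalRing.ResidueField P.O :=
    (ballRes P ht (D P + 1)).comp ev
  have hker : ∀ a : AD (D + Finsupp.single P 1), g a = 0 ↔ (a : Place k K → K) ∈ AD D := by
    intro a
    simp only [g, LinearMap.comp_apply]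
    rw [ballRes_eq_zero_iff]
    simp only [add_sub_cancel_right]
    constructor
    · intro hx Q
      by_cases hQ : Q = P
      · subst hQ; exact hx
      · have := a.2 Q
        rw [Finsupp.add_apply, Finsupp.single_apply, if_neg (Ne.symm hQ), add_zero] at this
        exact this
    · intro hx; exact hx P
  have hsurj : Function.Surjective g := by
    intro r
    obtain ⟨b, hb⟩ := ballRes_surjective P ht (D P + 1) r
    have hmemA : (Pi.single P (b : K) : Place k K → K) ∈ AD (D + Finsupp.single P 1) := by
      intro Q
      by_cases hQ : Q = P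
      · subst hQ
        rw [Pi.single_eq_same]
        have := b.2
        rw [mem_ball] at this
        rw [Finsupp.add_apply, Finsupp.single_eq_same]
        exact this
      · rw [Pi.single_eq_of_ne hQ]; simp
    refine ⟨⟨_, hmemA⟩, ?_⟩
    simp only [g, LinearMap.comp_apply]
    rw [← hb]
    congr 1
    apply Subtype.ext
    simp [ev]
  rw [← length_residueField hK P]
  exact relLen_eq_of_ker_of_surjective g hker hsurj

lemma relLen_L_single_nat_le (hK : IsFunctionField k K) (P : Place k K) (n : ℕ)
    (D : Divisor k K) :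
    relLen (L D) (L (D + Finsupp.single P (n : ℤ))) ≤ ((n * P.deg : ℕ) : ℕ∞) := by
  induction n generalizing D with
  | zero => simp [relLen_self]
  | succ n ih =>
    have h1 : D + Finsupp.single P ((n + 1 : ℕ) : ℤ) =
        (D + Finsupp.single P (n : ℤ)) + Finsupp.single P 1 := by
      rw [add_assoc, ← Finsupp.single_add]; push_cast; rfl
    have hle1 : D ≤ D + Finsupp.single P (n : ℤ) :=
      le_add_of_nonneg_right (single_nonneg' P (by simp))
    have hle2 : D + Finsupp.single P (n : ℤ) ≤ (D + Finsupp.single P (n : ℤ)) + Finsupp.single P 1 :=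
      le_add_of_nonneg_right (single_nonneg' P (by simp))
    rw [h1, relLen_add (L_mono hle1) (L_mono hle2)]
    calc _ ≤ ((n * P.deg : ℕ) : ℕ∞) + (P.deg : ℕ∞) :=
          add_le_add (ih D) (relLen_L_single_le hK _ P)
      _ = _ := by push_cast; ring

lemma relLen_AD_single_nat (hK : IsFunctionField k K) (P : Place k K) (n : ℕ)
    (D : Divisor k K) :
    relLen (AD D) (AD (D + Finsupp.single P (n : ℤ))) = ((n * P.deg : ℕ) : ℕ∞) := by
  induction n generalizing D with
  | zero => simp [relLen_self]
  | succ n ih =>
    have h1 : D + Finsupp.single P ((n + 1 : ℕ) : ℤ) =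
        (D + Finsupp.single P (n : ℤ)) + Finsupp.single P 1 := by
      rw [add_assoc, ← Finsupp.single_add]; push_cast; rfl
    have hle1 : D ≤ D + Finsupp.single P (n : ℤ) :=
      le_add_of_nonneg_right (single_nonneg' P (by simp))
    have hle2 : D + Finsupp.single P (n : ℤ) ≤ (D + Finsupp.single P (n : ℤ)) + Finsupp.single P 1 :=
      le_add_of_nonneg_right (single_nonneg' P (by simp))
    rw [h1, relLen_add (AD_mono hle1) (AD_mono hle2), ih D, relLen_AD_single hK _ P]
    push_cast; ring

/-- `dim L(D+E)/L(D) ≤ deg E` for effective `E`. -/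
theorem relLen_L_le (hK : IsFunctionField k K) (E : Place k K →₀ ℕ) :
    ∀ D : Divisor k K, relLen (L D) (L (D + toDiv E)) ≤ (degN E : ℕ∞) := by
  induction E using Finsupp.induction_linear with
  | zero => intro D; simp [relLen_self]
  | add E F hE hF =>
    intro D
    rw [map_add, ← add_assoc, relLen_add (L_mono (le_add_toDiv D E))
      (L_mono (le_add_toDiv (D + toDiv E) F)), degN_add]
    push_cast
    exact add_le_add (hE D) (hF _)
  | single P n =>
    intro D
    rw [toDiv_single, degN_single]
    exact relLen_L_single_nat_le hK P n D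

/-- `dim A(D+E)/A(D) = deg E` for effective `E`. -/
theorem relLen_AD_eq (hK : IsFunctionField k K) (E : Place k K →₀ ℕ) :
    ∀ D : Divisor k K, relLen (AD D) (AD (D + toDiv E)) = (degN E : ℕ∞) := by
  induction E using Finsupp.induction_linear with
  | zero => intro D; simp [relLen_self]
  | add E F hE hF =>
    intro D
    rw [map_add, ← add_assoc, relLen_add (AD_mono (le_add_toDiv D E))
      (AD_mono (le_add_toDiv (D + toDiv E) F)), degN_add, hE D, hF _]
    push_cast; rfl
  | single P n =>
    intro D
    rw [toDiv_single, degN_single]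
    exact relLen_AD_single_nat hK P n D

end Groth.Agent.FF
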