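import Groth.Agent.FunFld.LinSeries

/-!
# Linear series: unit steps, lower bounds for the weights
-/

set_option autoImplicit false

open FunFld IntermediateField Polynomial WithZero

namespace Groth.Agent.FF

universe u v
variable {k : Type u} {K : Type v} [Field k] [Field K] [Algebra k K]
variable {V : Submodule k K} {D : Divisor k K} {r d : ℕ}

/-- intersecting with a subspace `W`: `dim (W ∩ L(E + P)) ≤ dim (W ∩ L(E)) + deg P`. -/
lemma finrank_inf_L_add_single_le (hK : IsFunctionField k K) (W : Submodule k K)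
    (E : Divisor k K) (P : Place k K) :
    Module.finrank k ↥(W ⊓ L (E + Finsupp.single P 1)) ≤ Module.finrank k ↥(W ⊓ L E) + P.deg := by
  have hle : E ≤ E + Finsupp.single P 1 := le_add_of_nonneg_right (single_nonneg' P zero_le_one)
  have h1 := relLen_L_single_le hK E P
  have h2 := relLen_modular (L_mono hle) W
  have h3 : relLen (W ⊓ L E) (W ⊓ L (E + Finsupp.single P 1)) ≤ (P.deg : ℕ∞) := by
    refine le_trans ?_ h1
    rw [h2]
    exact le_self_add
  have h4 := length_eq_add_relLen (inf_le_inf_left W (L_mono hle))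
  have hf1 : FiniteDimensional k ↥(W ⊓ L (E + Finsupp.single P 1)) := by
    have := finite_L hK (E + Finsupp.single P 1)
    exact Submodule.finiteDimensional_of_le inf_le_right
  have hf2 : FiniteDimensional k ↥(W ⊓ L E) := by
    have := finite_L hK E
    exact Submodule.finiteDimensional_of_le inf_le_right
  rw [Module.length_eq_finrank, Module.length_eq_finrank] at h4
  have h5 : (Module.finrank k ↥(W ⊓ L (E + Finsupp.single P 1)) : ℕ∞) ≤
      (Module.finrank k ↥(W ⊓ L E) : ℕ∞) + (P.deg : ℕ∞) := by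
    rw [h4]; exact add_le_add le_rfl h3
  exact_mod_cast h5

lemma vdim_le_succ [IsAlgClosed k] (hK : IsFunctionField k K) (V : Submodule k K)
    (D : Divisor k K) (P : Place k K) (n : ℤ) : vdim V D P n ≤ vdim V D P (n + 1) + 1 := by
  unfold vdim
  have h := finrank_inf_L_add_single_le hK V (D - Finsupp.single P (n + 1)) P
  rw [deg_eq_one_of_isAlgClosed hK P] at h
  have heq : D - Finsupp.single P (n + 1) + Finsupp.single P 1 = D - Finsupp.single P n := by
    rw [Finsupp.single_add]; abel
  rw [heq] at h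
  exact h

lemma vdim_le_add [IsAlgClosed k] (hK : IsFunctionField k K) (V : Submodule k K)
    (D : Divisor k K) (P : Place k K) (n : ℤ) (j : ℕ) : vdim V D P n ≤ vdim V D P (n + j) + j := by
  induction j with
  | zero => simp
  | succ j ih =>
    have := vdim_le_succ hK V D P (n + j)
    have hc : n + ((j + 1 : ℕ) : ℤ) = n + j + 1 := by push_cast; ring
    rw [hc]
    omega

/-- `r ≤ d` for a `g^r_d`. -/
lemma IsGrd.r_le_d [IsAlgClosed k] (hK : IsFunctionField k K) (h : IsGrd V D r d)
    (P : Place k K) : r ≤ d := by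
  have h1 := vdim_le_add hK V D P 0 (d + 1)
  rw [vdim_zero h P, vdim_eq_zero hK h P (by push_cast; linarith)] at h1
  omega

/-- lower bound `dim V(-nP) ≥ r + 1 - n`. -/
lemma vdim_ge [IsAlgClosed k] (hK : IsFunctionField k K) (h : IsGrd V D r d) (P : Place k K)
    (n : ℕ) : r + 1 ≤ vdim V D P (n : ℤ) + n := by
  have h1 := vdim_le_add hK V D P 0 n
  rw [vdim_zero h P, zero_add] at h1
  exact h1

lemma sum_range_succ_sub (r : ℕ) : ∑ n ∈ Finset.range r, (r - n) = r * (r + 1) / 2 := by
  have h1 : ∑ n ∈ Finset.range r, (r - n) = ∑ n ∈ Finset.range r, (n + 1) := by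
    rw [← Finset.sum_range_reflect]
    apply Finset.sum_congr rfl
    intro j hj
    rw [Finset.mem_range] at hj
    omega
  rw [h1, Finset.sum_add_distrib, Finset.sum_const, Finset.card_range, smul_eq_mul, mul_one]
  have h2 := Finset.sum_range_id_mul_two r
  have h3 := tri_mul_two r
  have h4 : r * (r - 1) + 2 * r = r * (r + 1) := by
    rcases r with _ | r
    · simp
    · simp only [Nat.add_sub_cancel]; ring
  omega

/-- `W(P) ≥ r (r+1) / 2`. -/
lemma Wt_ge [IsAlgClosed k] (hK : IsFunctionField k K) (h : IsGrd V D r d) (P : Place k K) :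
    r * (r + 1) / 2 ≤ Wt V D P d := by
  have hrd := h.r_le_d hK P
  unfold Wt
  calc r * (r + 1) / 2 = ∑ n ∈ Finset.range r, (r - n) := (sum_range_succ_sub r).symm
    _ ≤ ∑ n ∈ Finset.range r, vdim V D P ((n : ℤ) + 1) := by
        apply Finset.sum_le_sum
        intro n _
        have := vdim_ge hK h P (n + 1)
        have hc : (((n + 1 : ℕ)) : ℤ) = (n : ℤ) + 1 := by push_cast; ring
        rw [hc] at this
        omega
    _ ≤ ∑ n ∈ Finset.range d, vdim V D P ((n : ℤ) + 1) := by
        apply Finset.sum_le_sum_of_subset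
        intro x hx
        rw [Finset.mem_range] at hx ⊢
        omega

/-- at a cusp: `W(Q) ≥ r (r+1) / 2 + r`. -/
lemma Wt_ge_of_cusp [IsAlgClosed k] (hK : IsFunctionField k K) (h : IsGrd V D r d)
    (Q : Place k K) (hc : r ≤ vdim V D Q 2) : r * (r + 1) / 2 + r ≤ Wt V D Q d := by
  rcases Nat.eq_zero_or_pos r with rfl | hr
  · simp
  -- `d ≥ r + 1`
  have hd : r + 1 ≤ d := by
    have h1 := vdim_le_add hK V D Q 2 (d - 1)
    rcases Nat.eq_zero_or_pos d with hd0 | hd0
    · have : vdim V D Q 2 = 0 := vdim_eq_zero hK h Q (by rw [hd0]; norm_num)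
      omega
    · have hz : vdim V D Q (2 + ((d - 1 : ℕ) : ℤ)) = 0 := vdim_eq_zero hK h Q (by omega)
      rw [hz] at h1
      omega
  have hlow : ∀ n : ℕ, n < r + 1 → r + 1 - n ≤ vdim V D Q ((n : ℤ) + 1) + (if n = 0 then 1 else 0) := by
    intro n hn
    rcases Nat.eq_zero_or_pos n with rfl | hn0
    · have := vdim_antitone hK h Q (show ((0 : ℕ) : ℤ) + 1 ≤ 2 by norm_num)
      simp only [if_true]
      omega
    · have h1 := vdim_le_add hK V D Q 2 (n - 1)
      have hcast : (2 : ℤ) + ((n - 1 : ℕ) : ℤ) = (n : ℤ) + 1 := by omega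
      rw [hcast] at h1
      rw [if_neg (by omega)]
      omega
  unfold Wt
  have hsum : ∑ n ∈ Finset.range (r + 1), (r + 1 - n) ≤
      ∑ n ∈ Finset.range (r + 1), (vdim V D Q ((n : ℤ) + 1) + (if n = 0 then 1 else 0)) :=
    Finset.sum_le_sum fun n hn => hlow n (Finset.mem_range.mp hn)
  rw [Finset.sum_add_distrib, sum_range_succ_sub (r + 1)] at hsum
  have hite : ∑ n ∈ Finset.range (r + 1), (if n = 0 then 1 else 0) = 1 := by
    rw [Finset.sum_ite_eq' (Finset.range (r + 1)) 0 (fun _ => 1)]
    simp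
  rw [hite] at hsum
  have hsub : ∑ n ∈ Finset.range (r + 1), vdim V D Q ((n : ℤ) + 1) ≤
      ∑ n ∈ Finset.range d, vdim V D Q ((n : ℤ) + 1) := by
    apply Finset.sum_le_sum_of_subset
    intro x hx
    rw [Finset.mem_range] at hx ⊢
    omega
  have h1 := tri_mul_two r
  have h2 := tri_mul_two (r + 1)
  have h3 : (r + 1) * (r + 1 + 1) = r * (r + 1) + 2 * (r + 1) := by ring
  omega

end Groth.Agent.FF

namespace Groth.Agent.FF

universe u v
variable {k : Type u} {K : Type v} [Field k] [Field K] [Algebra k K]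
variable {V : Submodule k K} {D : Divisor k K} {r d : ℕ}

/-- in positive genus a divisor of degree one has `ℓ ≤ 1`. -/
lemma ell_le_one_of_deg_one_of_genus_pos (hK : IsFunctionField k K) (hg : 0 < genus k K)
    {E : Divisor k K} (hE : E.deg = 1) : ell E ≤ 1 := by
  by_contra hlt
  have h2 : 2 ≤ ell E := by omega
  obtain ⟨z, hz0, hz⟩ := exists_ne_zero_mem_L (D := E) (by omega)
  have hE' := (mem_L_iff_div hK _ hz0).mp hz
  have hdeg' : (E + FunFld.div k z).deg = 1 := by
    rw [deg_add, deg_div_eq_zero hK, hE]; simp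
  obtain ⟨R, hRdeg, hR⟩ := eq_single_of_nonneg_of_deg_eq_one hK hE' hdeg'
  have hell : ell (Finsupp.single R 1 : Divisor k K) = ell E := by
    rw [← hR]; exact ell_add_div hK E hz0
  have hle : (0 : Divisor k K) ≤ Finsupp.single R 1 := single_nonneg' R zero_le_one
  have hfin := finite_L hK (Finsupp.single R 1 : Divisor k K)
  have hlt' : L (0 : Divisor k K) < L (Finsupp.single R 1 : Divisor k K) := by
    refine lt_of_le_of_ne (L_mono hle) ?_
    intro heq
    have h0 : ell (Finsupp.single R 1 : Divisor k K) = 1 := by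
      unfold ell
      rw [← heq]
      exact ell_zero hK
    omega
  obtain ⟨x, hx1, hx2⟩ := SetLike.exists_of_lt hlt'
  have hx1' : x ∈ L (Finsupp.single R ((1 : ℕ) : ℤ) : Divisor k K) := by simpa using hx1
  have hx2' : x ∉ L (Finsupp.single R (((1 : ℕ) : ℤ) - 1) : Divisor k K) := by simpa using hx2
  have hpole := onlyPoleAt_of_mem_of_not_mem hx1' hx2'
  have hs : SimplePoleAt x R := ⟨hRdeg, by simpa using hpole.1, hpole.2⟩
  have hg0 := genus_eq_zero_of_simplePoleAt hK hs
  rw [hg0] at hg
  exact lt_irrefl 0 hg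

lemma vdim_le_one_of_genus_pos [IsAlgClosed k] (hK : IsFunctionField k K) (hg : 0 < genus k K)
    (h : IsGrd V D r d) (A : Place k K) : vdim V D A ((d : ℤ) - 1) ≤ 1 := by
  unfold vdim
  have hdeg : (D - Finsupp.single A ((d : ℤ) - 1)).deg = 1 := by
    rw [deg_sub, deg_single, h.deg, deg_eq_one_of_isAlgClosed hK A]; push_cast; ring
  have h1 := ell_le_one_of_deg_one_of_genus_pos hK hg hdeg
  have hfin := finite_L hK (D - Finsupp.single A ((d : ℤ) - 1))
  have h2 : Module.finrank k ↥(V ⊓ L (D - Finsupp.single A ((d : ℤ) - 1))) ≤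
      Module.finrank k ↥(L (D - Finsupp.single A ((d : ℤ) - 1))) :=
    Submodule.finrank_mono inf_le_right
  unfold ell at h1
  omega

end Groth.Agent.FF
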