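import Groth.Agent.FunFld.LinSeries

/-!
# Two-point vanishing dimensions of a linear system
-/

set_option autoImplicit false

open FunFld WithZero

namespace Groth.Agent.FF

universe u v
variable {k : Type u} {K : Type v} [Field k] [Field K] [Algebra k K]

/-- imposing one more vanishing condition at `P` costs at most `deg P` -/
lemma finrank_inf_L_le (hK : IsFunctionField k K) (V : Submodule k K) (E : Divisor k K)
    (P : Place k K) :
    Module.finrank k ↥(V ⊓ L E) ≤
      Module.finrank k ↥(V ⊓ L (E - Finsupp.single P 1)) + P.deg := by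
  classical
  obtain ⟨t, ht⟩ := exists_uniformizer P
  have hfinL : FiniteDimensional k ↥(L E) := finite_L hK E
  have hfin : FiniteDimensional k ↥(V ⊓ L E) := Submodule.finiteDimensional_inf_right _ _
  have hfinR : FiniteDimensional k (IsLocalRing.ResidueField P.O) := finite_residueField hK P
  have hle : V ⊓ L E ≤ ball P (E P) := fun x hx => hx.2 P
  let g : ↥(V ⊓ L E) →ₗ[k] IsLocalRing.ResidueField P.O :=
    (ballRes P ht (E P)).comp (Submodule.inclusion hle)
  have hker : (LinearMap.ker g).map (V ⊓ L E).subtype = V ⊓ L (E - Finsupp.single P 1) := by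
    ext x
    constructor
    · rintro ⟨y, hy, rfl⟩
      rw [SetLike.mem_coe, LinearMap.mem_ker] at hy
      simp only [g, LinearMap.comp_apply] at hy
      rw [ballRes_eq_zero_iff, mem_ball] at hy
      refine ⟨y.2.1, ?_⟩
      intro R
      by_cases hR : R = P
      · subst hR
        rw [Finsupp.sub_apply, Finsupp.single_eq_same]
        exact hy
      · have := y.2.2 R
        rw [Finsupp.sub_apply, Finsupp.single_apply, if_neg (Ne.symm hR), sub_zero]
        exact this
    · intro hx
      have hxE : x ∈ V ⊓ L E :=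
        ⟨hx.1, L_mono (sub_le_self _ (single_nonneg' P (by norm_num))) hx.2⟩
      refine ⟨⟨x, hxE⟩, ?_, rfl⟩
      rw [SetLike.mem_coe, LinearMap.mem_ker]
      simp only [g, LinearMap.comp_apply]
      rw [ballRes_eq_zero_iff, mem_ball]
      have := hx.2 P
      rw [Finsupp.sub_apply, Finsupp.single_eq_same] at this
      exact this
  have h1 := LinearMap.finrank_range_add_finrank_ker g
  have h2 : Module.finrank k ↥(LinearMap.range g) ≤ P.deg := Submodule.finrank_le _
  have h3 : Module.finrank k ↥(LinearMap.ker g) =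
      Module.finrank k ↥(V ⊓ L (E - Finsupp.single P 1)) := by
    rw [← hker, Submodule.finrank_map_subtype_eq]
  omega

/-- vanishing at two distinct places can be imposed independently -/
lemma inf_L_sub_single {P Q : Place k K} (hPQ : P ≠ Q) (D : Divisor k K) (m n : ℤ) :
    L (D - Finsupp.single P (m + 1) - Finsupp.single Q n) ⊓
      L (D - Finsupp.single P m - Finsupp.single Q (n + 1)) =
    L (D - Finsupp.single P (m + 1) - Finsupp.single Q (n + 1)) := by
  classical
  apply le_antisymm
  · intro x hx R
    have h1 := hx.1 R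
    have h2 := hx.2 R
    simp only [Finsupp.sub_apply, Finsupp.single_apply] at h1 h2 ⊢
    by_cases hRP : P = R
    · have hRQ : ¬ Q = R := fun hq => hPQ (hRP.trans hq.symm)
      simpa [hRP, hRQ] using h1
    · simpa [hRP] using h2
  · apply le_inf
    · exact L_mono (sub_le_sub_left (single_le_single' (by omega)) _)
    · exact L_mono (sub_le_sub_right (sub_le_sub_left (single_le_single' (by omega)) _) _)

section vdim2

variable (hK : IsFunctionField k K) (V : Submodule k K) (D : Divisor k K) (P Q : Place k K)
include hK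

lemma finite_inf_L (E : Divisor k K) : FiniteDimensional k ↥(V ⊓ L E) := by
  have : FiniteDimensional k ↥(L E) := finite_L hK E
  exact Submodule.finiteDimensional_inf_right _ _

lemma W_succ_left_le (m n : ℤ) :
    V ⊓ L (D - Finsupp.single P (m + 1) - Finsupp.single Q n) ≤
      V ⊓ L (D - Finsupp.single P m - Finsupp.single Q n) :=
  inf_le_inf_left V
    (L_mono (sub_le_sub_right (sub_le_sub_left (single_le_single' (by omega)) _) _))

lemma W_succ_right_le (m n : ℤ) :
    V ⊓ L (D - Finsupp.single P m - Finsupp.single Q (n + 1)) ≤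
      V ⊓ L (D - Finsupp.single P m - Finsupp.single Q n) :=
  inf_le_inf_left V (L_mono (sub_le_sub_left (single_le_single' (by omega)) _))

lemma vdim2_succ_left_le (m n : ℤ) : vdim2 V D P Q (m + 1) n ≤ vdim2 V D P Q m n := by
  have := finite_inf_L hK V (D - Finsupp.single P m - Finsupp.single Q n)
  exact Submodule.finrank_mono (W_succ_left_le hK V D P Q m n)

lemma vdim2_succ_right_le (m n : ℤ) : vdim2 V D P Q m (n + 1) ≤ vdim2 V D P Q m n := by
  have := finite_inf_L hK V (D - Finsupp.single P m - Finsupp.single Q n)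
  exact Submodule.finrank_mono (W_succ_right_le hK V D P Q m n)

lemma vdim2_le_succ_left [IsAlgClosed k] (m n : ℤ) :
    vdim2 V D P Q m n ≤ vdim2 V D P Q (m + 1) n + 1 := by
  have h := finrank_inf_L_le hK V (D - Finsupp.single P m - Finsupp.single Q n) P
  rw [deg_eq_one_of_isAlgClosed hK P] at h
  have heq : D - Finsupp.single P m - Finsupp.single Q n - Finsupp.single P 1 =
      D - Finsupp.single P (m + 1) - Finsupp.single Q n := by
    rw [Finsupp.single_add]; abel
  rw [heq] at h
  exact h

lemma vdim2_le_succ_right [IsAlgClosed k] (m n : ℤ) :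
    vdim2 V D P Q m n ≤ vdim2 V D P Q m (n + 1) + 1 := by
  have h := finrank_inf_L_le hK V (D - Finsupp.single P m - Finsupp.single Q n) Q
  rw [deg_eq_one_of_isAlgClosed hK Q] at h
  have heq : D - Finsupp.single P m - Finsupp.single Q n - Finsupp.single Q 1 =
      D - Finsupp.single P m - Finsupp.single Q (n + 1) := by
    rw [Finsupp.single_add]; abel
  rw [heq] at h
  exact h

lemma W_inf (hPQ : P ≠ Q) (m n : ℤ) :
    (V ⊓ L (D - Finsupp.single P (m + 1) - Finsupp.single Q n)) ⊓
      (V ⊓ L (D - Finsupp.single P m - Finsupp.single Q (n + 1))) =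
    V ⊓ L (D - Finsupp.single P (m + 1) - Finsupp.single Q (n + 1)) := by
  rw [← inf_inf_distrib_left, inf_L_sub_single hPQ]

/-- if `W(m+1, n)` has the same dimension as `W(m, n)` they agree -/
lemma W_succ_left_eq {m n : ℤ} (h : vdim2 V D P Q m n ≤ vdim2 V D P Q (m + 1) n) :
    V ⊓ L (D - Finsupp.single P (m + 1) - Finsupp.single Q n) =
      V ⊓ L (D - Finsupp.single P m - Finsupp.single Q n) := by
  have := finite_inf_L hK V (D - Finsupp.single P m - Finsupp.single Q n)
  exact Submodule.eq_of_le_of_finrank_le (W_succ_left_le hK V D P Q m n) h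

lemma W_succ_right_eq {m n : ℤ} (h : vdim2 V D P Q m n ≤ vdim2 V D P Q m (n + 1)) :
    V ⊓ L (D - Finsupp.single P m - Finsupp.single Q (n + 1)) =
      V ⊓ L (D - Finsupp.single P m - Finsupp.single Q n) := by
  have := finite_inf_L hK V (D - Finsupp.single P m - Finsupp.single Q n)
  exact Submodule.eq_of_le_of_finrank_le (W_succ_right_le hK V D P Q m n) h

/-- the corner dimension when both neighbours agree with the opposite corner -/
lemma vdim2_corner (hPQ : P ≠ Q) {m n : ℤ}
    (h1 : vdim2 V D P Q m n ≤ vdim2 V D P Q (m + 1) n)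
    (h2 : vdim2 V D P Q m n ≤ vdim2 V D P Q m (n + 1)) :
    vdim2 V D P Q (m + 1) (n + 1) = vdim2 V D P Q m n := by
  have e1 := W_succ_left_eq hK V D P Q h1
  have e2 := W_succ_right_eq hK V D P Q h2
  have e3 := W_inf hK V D P Q hPQ m n
  rw [e1, e2, inf_idem] at e3
  unfold vdim2
  rw [← e3]

end vdim2

end Groth.Agent.FF
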