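import Groth.Agent.FunFld.KerD
import Groth.Agent.FunFld.Residue

/-!
# A local parameter at a separable place is a separating variable
-/

set_option autoImplicit false
set_option linter.unusedSectionVars false

open FunFld IntermediateField WithZero KaehlerDifferential

namespace Groth.Agent.FF

universe u v
variable {k : Type u} {K : Type v} [Field k] [Field K] [Algebra k K]

section

variable (p : ℕ) [hp : Fact p.Prime]

/-- independence over `k^p` of elements of `k` passes to `p`-th powers of a finite separable
extension -/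
lemma pindep_of_isSeparable [CharP k p] {E : Type*} [Field E] [Algebra k E]
    (hfd : FiniteDimensional k E) (hsep : Algebra.IsSeparable k E) {ι : Type*} (s : Finset ι)
    (c : ι → k)
    (hind : ∀ a : ι → k, ∑ i ∈ s, c i * a i ^ p = 0 → ∀ i ∈ s, a i = 0)
    (b : ι → E) (hb : ∑ i ∈ s, c i • b i ^ p = 0) : ∀ i ∈ s, b i = 0 := by
  classical
  have hexp : ExpChar k p := ExpChar.prime hp.out
  have hcE : CharP E p := charP_of_injective_algebraMap (algebraMap k E).injective p
  let β := Module.finBasis k E
  have hβ : LinearIndependent k (fun l => β l ^ p) := by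
    have h := β.linearIndependent.map_pow_expChar_pow_of_isSeparable p 1
    simpa using h
  have hpow : ∀ i, b i ^ p = ∑ l, (β.repr (b i) l) ^ p • β l ^ p := by
    intro i
    conv_lhs => rw [← β.sum_repr (b i)]
    rw [sum_pow_char p]
    apply Finset.sum_congr rfl
    intro l _
    rw [smul_pow]
  have h2 : ∑ l, (∑ i ∈ s, c i * (β.repr (b i) l) ^ p) • β l ^ p = 0 := by
    rw [← hb]
    simp_rw [hpow, Finset.smul_sum, Finset.sum_smul, smul_smul]
    rw [Finset.sum_comm]
  have h3 := Fintype.linearIndependent_iff.mp hβ _ h2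
  intro i hi
  have h4 : ∀ l, β.repr (b i) l = 0 := fun l => hind (fun i => β.repr (b i) l) (h3 l) i hi
  rw [← β.sum_repr (b i)]
  simp [h4]

/-- the order of a `k^p`-independent combination of `p`-th powers at a separable place -/
lemma ord_sum_pow_of_pindep [CharP k p] (hK : IsFunctionField k K) (P : Place k K)
    [Algebra.IsSeparable k (IsLocalRing.ResidueField P.O)] {ι : Type*} (s : Finset ι)
    (c : ι → k) (hind : ∀ a : ι → k, ∑ i ∈ s, c i * a i ^ p = 0 → ∀ i ∈ s, a i = 0)
    (x : ι → K) (hx : ∃ i ∈ s, x i ≠ 0) :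
    ∑ i ∈ s, c i • x i ^ p ≠ 0 ∧ (p : ℤ) ∣ P.ord (∑ i ∈ s, c i • x i ^ p) := by
  classical
  have hfin : FiniteDimensional k (IsLocalRing.ResidueField P.O) := finite_residueField hK P
  obtain ⟨i₁, hi₁, hx₁⟩ := hx
  obtain ⟨i₀, hi₀, hmax⟩ := Finset.exists_max_image s (fun i => P.1 (x i)) ⟨i₁, hi₁⟩
  have hu0 : x i₀ ≠ 0 := by
    intro h0
    have h1 := hmax i₁ hi₁
    rw [h0, map_zero] at h1
    exact hx₁ ((Valuation.zero_iff P.1).mp (le_antisymm h1 zero_le))
  set u := x i₀ with hu
  have hvu : P.1 u ≠ 0 := (Valuation.ne_zero_iff P.1).mpr hu0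
  have hy : ∀ i ∈ s, P.1 (x i / u) ≤ 1 := by
    intro i hi
    rw [map_div₀, div_le_one₀ (zero_lt_iff.mpr hvu)]
    exact hmax i hi
  -- lifts to the valuation ring
  let Y : ι → P.O := fun i => if h : P.1 (x i / u) ≤ 1 then ⟨x i / u, h⟩ else 0
  have hY : ∀ i ∈ s, ((Y i : P.O) : K) = x i / u := by
    intro i hi
    simp only [Y, dif_pos (hy i hi)]
  let W : P.O := ∑ i ∈ s, algebraMap k P.O (c i) * Y i ^ p
  have hW : ((W : P.O) : K) = ∑ i ∈ s, c i • (x i / u) ^ p := by
    simp only [W]
    rw [AddSubmonoidClass.coe_finsetSum]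
    apply Finset.sum_congr rfl
    intro i hi
    rw [Algebra.smul_def, ← hY i hi]
    rfl
  have hz : ∑ i ∈ s, c i • x i ^ p = u ^ p * (W : K) := by
    rw [hW, Finset.mul_sum]
    apply Finset.sum_congr rfl
    intro i _
    rw [div_pow, Algebra.smul_def, Algebra.smul_def]
    field_simp
  have hresW : res P W ≠ 0 := by
    intro h0
    have h1 : ∑ i ∈ s, c i • (res P (Y i)) ^ p = 0 := by
      rw [← h0]
      simp only [W]
      rw [map_sum]
      apply Finset.sum_congr rfl
      intro i _
      rw [map_mul, map_pow, Algebra.smul_def, algebraMap_res]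
    have h2 := pindep_of_isSeparable p hfin inferInstance s c hind (fun i => res P (Y i)) h1 i₀ hi₀
    rw [res_eq_zero_iff, hY i₀ hi₀, div_self hu0, map_one] at h2
    exact lt_irrefl _ h2
  have hvW : P.1 (W : K) = 1 := by
    have h1 : ¬ P.1 (W : K) < 1 := fun h => hresW ((res_eq_zero_iff P W).mpr h)
    exact le_antisymm W.2 (not_lt.mp h1)
  have hW0 : (W : K) ≠ 0 := by
    intro h0
    rw [h0, map_zero] at hvW
    exact zero_ne_one hvW
  rw [hz]
  refine ⟨mul_ne_zero (pow_ne_zero _ hu0) hW0, ?_⟩
  rw [ord_mul P (pow_ne_zero _ hu0) hW0, ord_pow, (val_eq_one_iff P hW0).mp hvW, add_zero]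
  exact dvd_mul_right _ _

/-- the order at a separable place of any `k`-combination of `p`-th powers is divisible by `p` -/
lemma dvd_ord_sum_pow [CharP k p] [CharP K p] (hK : IsFunctionField k K) (P : Place k K)
    [Algebra.IsSeparable k (IsLocalRing.ResidueField P.O)] :
    ∀ (n : ℕ) {ι : Type v} (s : Finset ι), s.card = n → ∀ (c : ι → k) (x : ι → K),
      ∑ i ∈ s, c i • x i ^ p ≠ 0 → (p : ℤ) ∣ P.ord (∑ i ∈ s, c i • x i ^ p) := by
  classical
  intro n
  induction n with
  | zero =>
    intro ι s hs c x hne
    rw [Finset.card_eq_zero] at hs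
    subst hs
    simp at hne
  | succ n ih =>
    intro ι s hs c x hne
    by_cases hind : ∀ a : ι → k, ∑ i ∈ s, c i * a i ^ p = 0 → ∀ i ∈ s, a i = 0
    · have hx : ∃ i ∈ s, x i ≠ 0 := by
        by_contra hcon
        push Not at hcon
        apply hne
        apply Finset.sum_eq_zero
        intro i hi
        rw [hcon i hi, zero_pow hp.out.ne_zero, smul_zero]
      exact (ord_sum_pow_of_pindep p hK P s c hind x hx).2
    · push Not at hind
      obtain ⟨a, ha, j, hj, haj⟩ := hind
      let x' : ι → K := fun i => x i - algebraMap k K (a i / a j) * x j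
      have h1 : ∑ i ∈ s.erase j, c i * (a i / a j) ^ p = - c j := by
        have h0 := ha
        rw [← Finset.add_sum_erase s _ hj] at h0
        have h2 : ∑ i ∈ s.erase j, c i * (a i / a j) ^ p =
            (∑ i ∈ s.erase j, c i * a i ^ p) / a j ^ p := by
          rw [Finset.sum_div]
          apply Finset.sum_congr rfl
          intro i _
          rw [div_pow]
          ring
        rw [h2, eq_neg_of_add_eq_zero_right h0]
        have : a j ^ p ≠ 0 := pow_ne_zero _ haj
        field_simp
      have hterm : ∀ i, c i • x' i ^ p = c i • x i ^ p - (c i * (a i / a j) ^ p) • x j ^ p := by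
        intro i
        simp only [x']
        rw [sub_pow_char, mul_pow, ← map_pow, smul_sub, Algebra.smul_def, Algebra.smul_def,
          Algebra.smul_def, map_mul]
        ring
      have hsum : ∑ i ∈ s, c i • x i ^ p = ∑ i ∈ s.erase j, c i • x' i ^ p := by
        rw [← Finset.add_sum_erase s _ hj]
        simp_rw [hterm]
        rw [Finset.sum_sub_distrib, ← Finset.sum_smul, h1, neg_smul]
        abel
      rw [hsum] at hne ⊢
      exact ih (s.erase j) (by rw [Finset.card_erase_of_mem hj, hs]; rfl) c x' hne

/-- elements of `k K^p` are `k`-combinations of `p`-th powers -/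
lemma exists_finsupp_of_mem_kKp [CharP K p] {z : K}
    (hz : z ∈ adjoin k (Set.range fun y : K => y ^ p)) :
    ∃ c : K →₀ k, z = ∑ y ∈ c.support, c y • y ^ p := by
  set S : Subalgebra k K := Algebra.adjoin k (Set.range fun y : K => y ^ p) with hSdef
  have hint : Algebra.IsIntegral S K := by
    refine ⟨fun x => ?_⟩
    refine ⟨Polynomial.X ^ p - Polynomial.C ⟨x ^ p, Algebra.subset_adjoin ⟨x, rfl⟩⟩,
      Polynomial.monic_X_pow_sub_C _ hp.out.ne_zero, ?_⟩
    rw [Polynomial.eval₂_sub, Polynomial.eval₂_pow, Polynomial.eval₂_X, Polynomial.eval₂_C]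
    exact sub_self _
  have hS : IsField S :=
    isField_of_isIntegral_of_isField (R := S) (S := K) Subtype.val_injective (Field.toIsField K)
  have hle : adjoin k (Set.range fun y : K => y ^ p) ≤ Subalgebra.toIntermediateField' S hS := by
    rw [IntermediateField.adjoin_le_iff]
    intro a ha
    exact Algebra.subset_adjoin ha
  have hzS : z ∈ S := hle hz
  have hcl : (Submonoid.closure (Set.range fun y : K => y ^ p) : Set K) =
      Set.range fun y : K => y ^ p := by
    have h1 : (Set.range fun y : K => y ^ p) = (MonoidHom.mrange (powMonoidHom p : K →* K) : Set K) := by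
      ext w
      simp
    rw [h1, Submonoid.closure_eq]
  have hspan : z ∈ Submodule.span k (Set.range fun y : K => y ^ p) := by
    rw [← hcl, ← Algebra.adjoin_eq_span]
    exact hzS
  obtain ⟨c, hc⟩ := Finsupp.mem_span_range_iff_exists_finsupp.mp hspan
  exact ⟨c, hc.symm⟩

end

/-- a local parameter at a separable place of a geometric function field has nonzero
differential -/
theorem D_localParam_ne_zero (hK : IsFunctionField k K) (hg : IsGeometric k K) (P : Place k K)
    [Algebra.IsSeparable k (IsLocalRing.ResidueField P.O)] {t : K} (ht : P.1 t = exp (-1 : ℤ)) :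
    D k K t ≠ 0 := by
  classical
  have ht0 : t ≠ 0 := by
    intro h
    rw [h, map_zero] at ht
    exact exp_ne_zero ht.symm
  have hordt : P.ord t = 1 := by
    unfold Place.ord
    rw [ht, log_exp]
    norm_num
  rcases CharP.exists' k with h0 | ⟨p, hp, hpk⟩
  · have hxr : t ∉ Set.range (algebraMap k K) := by
      rintro ⟨c, rfl⟩
      have := ord_algebraMap P c
      omega
    have hxt := transcendental_of_not_mem_range hK hxr
    have hfin := finite_adjoin_of_transcendental hK hxt
    have : CharZero (adjoin k ({t} : Set K)) :=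
      charZero_of_injective_algebraMap (algebraMap k (adjoin k ({t} : Set K))).injective
    have : Algebra.IsAlgebraic (adjoin k ({t} : Set K)) K := Algebra.IsAlgebraic.of_finite _ _
    exact D_ne_zero_of_separating hxt
  · have hpf : Fact p.Prime := hp
    have hpK : CharP K p := charP_of_injective_algebraMap (algebraMap k K).injective p
    intro hD
    have hmem := ((mem_kKp_iff p hK hg t).1).2 hD
    obtain ⟨c, hc⟩ := exists_finsupp_of_mem_kKp p hmem
    have hdvd := dvd_ord_sum_pow p hK P c.support.card c.support rfl (fun y => c y) (fun y => y)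
      (by rw [← hc]; exact ht0)
    rw [← hc, hordt] at hdvd
    have h2 := hp.out.two_le
    have := Int.le_of_dvd one_pos hdvd
    omega

end Groth.Agent.FF
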