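import Groth.Agent.FunFld.ConormDeg
import Groth.Prelude.Def_W4bk4goldsch45

/-!
# The divisor of a projective map under extension of the function field
-/

set_option autoImplicit false
set_option linter.unusedSectionVars false

open FunFld WithZero IntermediateField

namespace Groth.Agent.FF.Ext

open Groth.Agent.FF

section
universe u v
variable {k : Type u} {K : Type v} [Field k] [Field K] [Algebra k K]
variable {ι : Type*} [Fintype ι] [Nonempty ι]

lemma finite_support_inf_ord' (hK : IsFunctionField k K) (φ : ι → K) :
    (Function.support fun P : Place k K =>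
      -Finset.univ.inf' Finset.univ_nonempty (fun i => P.ord (φ i))).Finite := by
  refine (Set.finite_iUnion fun i => finite_support_ord hK (φ i)).subset ?_
  intro P hP
  rw [Function.mem_support] at hP
  rw [Set.mem_iUnion]
  by_contra hcon
  push Not at hcon
  apply hP
  have h0 : ∀ i, P.ord (φ i) = 0 := by
    intro i
    have := hcon i
    rwa [Function.mem_support, not_not] at this
  simp [h0]

lemma mapDiv_apply' (hK : IsFunctionField k K) (φ : ι → K) (P : Place k K) :
    mapDiv k φ P = -Finset.univ.inf' Finset.univ_nonempty (fun i => P.ord (φ i)) := by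
  unfold mapDiv
  rw [dif_pos (finite_support_inf_ord' hK φ)]
  rfl

end

variable {k K K' : Type*} [Field k] [Field K] [Field K'] [Algebra k K] [Algebra K K']
  [Algebra k K'] [IsScalarTower k K K']
variable {ι : Type*} [Fintype ι] [Nonempty ι]

theorem mapDiv_algebraMap_eq_conorm [FiniteDimensional K K'] (hK : IsFunctionField k K)
    (hK' : IsFunctionField k K') (φ : ι → K) :
    mapDiv k (fun i => algebraMap K K' (φ i)) = conorm K' (mapDiv k φ) := by
  ext Q
  obtain ⟨P, e, he⟩ := exists_isOverWith_below (K := K) Q
  rw [mapDiv_apply' hK', conorm_apply he, mapDiv_apply' hK]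
  simp only [ord_eq he]
  have hmono : Monotone (fun a : ℤ => (e : ℤ) * a) := by
    intro a b hab
    exact mul_le_mul_of_nonneg_left hab (by positivity)
  have := Finset.apply_inf'_eq_inf'_comp (s := (Finset.univ : Finset ι)) Finset.univ_nonempty
    (f := fun i => P.ord (φ i)) (fun a : ℤ => (e : ℤ) * a) (fun x y => hmono.map_min)
  simp only [Function.comp_def] at this
  rw [← this]
  ring

end Groth.Agent.FF.Ext
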