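import Groth.Agent.FunFld.Approx

/-!
# Independence modulo `x` implies polynomial independence over `k[x]`
-/

set_option autoImplicit false

open FunFld IntermediateField Polynomial WithZero

namespace Groth.Agent.FF

universe u v
variable {k : Type u} {K : Type v} [Field k] [Field K] [Algebra k K]

lemma aeval_mul_mem_of_mul_mem (x : K) (M : Submodule k K) (hxM : ∀ w ∈ M, x * w ∈ M)
    (p : k[X]) {w : K} (hw : w ∈ M) : aeval x p * w ∈ M := by
  induction p using Polynomial.induction_on generalizing w with
  | C a =>
    rw [aeval_C, ← Algebra.smul_def]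
    exact M.smul_mem a hw
  | add p q hp hq =>
    rw [map_add, add_mul]
    exact M.add_mem (hp hw) (hq hw)
  | monomial n a ih =>
    rw [pow_succ, ← mul_assoc, map_mul, aeval_X, mul_assoc]
    exact ih (hxM w hw)

/-- If a finite family `y` in a `k[x]`-stable subspace `M` of `K` is `k`-linearly independent modulo
`x M`, then it satisfies no nontrivial polynomial relation over `k[x]`. -/
theorem poly_indep_of_mod {J : Type*} [Fintype J] (x : K) (hx0 : x ≠ 0) (M : Submodule k K)
    (hxM : ∀ w ∈ M, x * w ∈ M) (y : J → K) (hy : ∀ j, y j ∈ M)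
    (h : ∀ c : J → k, (∃ w ∈ M, ∑ j, c j • y j = x * w) → ∀ j, c j = 0)
    (φ : J → k[X]) (hrel : ∑ j, aeval x (φ j) * y j = 0) : ∀ j, φ j = 0 := by
  suffices H : ∀ N : ℕ, ∀ φ : J → k[X], (∀ j m, N ≤ m → (φ j).coeff m = 0) →
      ∑ j, aeval x (φ j) * y j = 0 → ∀ j, φ j = 0 by
    obtain ⟨N, hN⟩ : ∃ N : ℕ, ∀ j, (φ j).natDegree < N := by
      refine ⟨(Finset.univ.sup fun j => (φ j).natDegree) + 1, fun j => ?_⟩
      exact Nat.lt_succ_of_le (Finset.le_sup (f := fun j => (φ j).natDegree) (Finset.mem_univ j))
    exact H N φ (fun j m hm => coeff_eq_zero_of_natDegree_lt ((hN j).trans_le hm)) hrel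
  intro N
  induction N with
  | zero =>
    intro φ hφ _ j
    ext m
    simpa using hφ j m (Nat.zero_le _)
  | succ N ih =>
    intro φ hφ hrel
    -- the constant coefficients vanish
    have hsplit : ∀ j, aeval x (φ j) = x * aeval x (divX (φ j)) + algebraMap k K ((φ j).coeff 0) := by
      intro j
      have h1 := congrArg (aeval x) (X_mul_divX_add (φ j))
      rw [map_add, map_mul, aeval_X, aeval_C] at h1
      exact h1.symm
    have hc : ∀ j, (φ j).coeff 0 = 0 := by
      apply h (fun j => (φ j).coeff 0)
      refine ⟨-∑ j, aeval x (divX (φ j)) * y j, ?_, ?_⟩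
      · apply M.neg_mem
        apply M.sum_mem
        intro j _
        exact aeval_mul_mem_of_mul_mem x M hxM _ (hy j)
      · have : ∑ j, aeval x (φ j) * y j =
            x * ∑ j, aeval x (divX (φ j)) * y j + ∑ j, (φ j).coeff 0 • y j := by
          rw [Finset.mul_sum, ← Finset.sum_add_distrib]
          apply Finset.sum_congr rfl
          intro j _
          rw [hsplit j, Algebra.smul_def]; ring
        rw [hrel] at this
        rw [mul_neg]
        linear_combination -this
    have hdiv : ∀ j, φ j = X * divX (φ j) := by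
      intro j
      have h := X_mul_divX_add (φ j)
      rw [hc j, map_zero, add_zero] at h
      exact h.symm
    have hrel' : ∑ j, aeval x (divX (φ j)) * y j = 0 := by
      have : x * ∑ j, aeval x (divX (φ j)) * y j = 0 := by
        rw [Finset.mul_sum, ← hrel]
        apply Finset.sum_congr rfl
        intro j _
        conv_rhs => rw [hdiv j, map_mul, aeval_X]
        ring
      exact (mul_eq_zero.mp this).resolve_left hx0
    have h0 := ih (fun j => divX (φ j)) (fun j m hm => by
      rw [coeff_divX]; exact hφ j (m + 1) (by omega)) hrel'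
    intro j
    rw [hdiv j, h0 j, mul_zero]

end Groth.Agent.FF
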