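import Groth.Agent.FunFld.Weil

/-!
# The `K`-action on Weil differentials; `(xω) = (x) + (ω)`; `dim_K W = 1`
-/

set_option autoImplicit false

open FunFld IntermediateField Polynomial WithZero

namespace Groth.Agent.FF

universe u v
variable {k : Type u} {K : Type v} [Field k] [Field K] [Algebra k K]

section
variable (hx : ∀ (x : K), ∀ a ∈ adele k K, x • a ∈ adele k K)
include hx

lemma mulW_one (ω : Module.Dual k (adele k K)) : mulW 1 (hx 1) ω = ω := by
  ext a
  rw [mulW_apply]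
  congr 1
  apply Subtype.ext
  simp

lemma mulW_zero (ω : Module.Dual k (adele k K)) : mulW 0 (hx 0) ω = 0 := by
  ext a
  rw [mulW_apply]
  have : (⟨(0 : K) • (a : Place k K → K), hx 0 a a.2⟩ : adele k K) = 0 := by
    apply Subtype.ext; simp
  rw [this, map_zero]; rfl

lemma mulW_mulW (x y : K) (ω : Module.Dual k (adele k K)) :
    mulW x (hx x) (mulW y (hx y) ω) = mulW (y * x) (hx (y * x)) ω := by
  ext a
  rw [mulW_apply, mulW_apply, mulW_apply]
  congr 1
  apply Subtype.ext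
  simp [mul_smul]

lemma mulW_add (x y : K) (ω : Module.Dual k (adele k K)) :
    mulW (x + y) (hx (x + y)) ω = mulW x (hx x) ω + mulW y (hx y) ω := by
  ext a
  rw [LinearMap.add_apply, mulW_apply, mulW_apply, mulW_apply, ← map_add]
  congr 1
  apply Subtype.ext
  simp [add_smul]

lemma mulW_smul (c : k) (x : K) (ω : Module.Dual k (adele k K)) :
    mulW (c • x) (hx (c • x)) ω = c • mulW x (hx x) ω := by
  ext a
  rw [LinearMap.smul_apply, mulW_apply, mulW_apply, ← map_smul]
  congr 1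
  apply Subtype.ext
  simp [smul_assoc]

lemma mulW_eq_zero_iff {x : K} (hx0 : x ≠ 0) (ω : Module.Dual k (adele k K)) :
    mulW x (hx x) ω = 0 ↔ ω = 0 := by
  constructor
  · intro h
    have := mulW_mulW hx x⁻¹ x ω
    rw [h, mul_inv_cancel₀ hx0, mulW_one hx] at this
    rw [← this]
    ext a
    rw [mulW_apply]; rfl
  · rintro rfl
    ext a
    rw [mulW_apply]; rfl

/-- `mulW` as a `k`-linear map in `x` -/
noncomputable def mulWLin (ω : Module.Dual k (adele k K)) : K →ₗ[k] Module.Dual k (adele k K) where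
  toFun x := mulW x (hx x) ω
  map_add' x y := mulW_add hx x y ω
  map_smul' c x := mulW_smul hx c x ω

lemma mulWLin_apply (ω : Module.Dual k (adele k K)) (x : K) :
    mulWLin hx ω x = mulW x (hx x) ω := rfl

end

lemma smul_mem_AD_sub_div (hK : IsFunctionField k K) {x : K} (hx0 : x ≠ 0) (D : Divisor k K)
    {b : Place k K → K} (hb : b ∈ AD D) : x • b ∈ AD (D - FunFld.div k x) := by
  intro P
  rw [Pi.smul_apply, smul_eq_mul, map_mul, Finsupp.sub_apply, div_apply hK,
    val_eq_exp_neg_ord P hx0, sub_eq_neg_add, exp_add]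
  exact mul_le_mul' le_rfl (hb P)

lemma smul_mem_ADK_sub_div (hK : IsFunctionField k K) {x : K} (hx0 : x ≠ 0) (D : Divisor k K)
    {a : Place k K → K} (ha : a ∈ AD D ⊔ Kd k K) : x • a ∈ AD (D - FunFld.div k x) ⊔ Kd k K := by
  rw [Submodule.mem_sup] at ha ⊢
  obtain ⟨b, hb, c, ⟨y, rfl⟩, rfl⟩ := ha
  refine ⟨x • b, smul_mem_AD_sub_div hK hx0 D hb, x • diag k K y, ⟨x * y, ?_⟩, ?_⟩
  · funext P; simp [diag_apply]
  · rw [smul_add]

/-- `xω` vanishes on `A(E)+K` iff `ω` vanishes on `A(E-(x))+K`. -/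
theorem mulW_mem_WD_iff (hK : IsFunctionField k K) {x : K} (hx0 : x ≠ 0)
    (hx : ∀ a ∈ adele k K, x • a ∈ adele k K) (ω : Module.Dual k (adele k K)) (E : Divisor k K) :
    mulW x hx ω ∈ WD E ↔ ω ∈ WD (E - FunFld.div k x) := by
  rw [mem_WD_iff, mem_WD_iff]
  constructor
  · intro h a ha
    have hxi := adele_smul_mem hK x⁻¹
    have h1 : x⁻¹ • (a : Place k K → K) ∈ AD E ⊔ Kd k K := by
      have := smul_mem_ADK_sub_div hK (inv_ne_zero hx0) _ ha
      rwa [div_inv hK, sub_neg_eq_add, sub_add_cancel] at this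
    have h2 := h ⟨x⁻¹ • (a : Place k K → K), hxi a a.2⟩ h1
    rw [mulW_apply] at h2
    rw [← h2]
    congr 1
    apply Subtype.ext
    simp [smul_smul, hx0]
  · intro h a ha
    rw [mulW_apply]
    exact h _ (smul_mem_ADK_sub_div hK hx0 E ha)

/-- `[xω] = [x] + [ω]`. -/
theorem isDivOf_mulW (hK : IsFunctionField k K) {x : K} (hx0 : x ≠ 0)
    (hx : ∀ a ∈ adele k K, x • a ∈ adele k K) {ω : Module.Dual k (adele k K)} {C : Divisor k K}
    (hω : IsDivOf ω C) : IsDivOf (mulW x hx ω) (C + FunFld.div k x) := by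
  intro E
  rw [mulW_mem_WD_iff hK hx0, hω, sub_le_iff_le_add]

/-- `L(D) · W(C) ⊆ W(C - D)` -/
lemma mulW_mem_WD_sub (hK : IsFunctionField k K) {x : K} {D C : Divisor k K} (hxD : x ∈ L D)
    (hx : ∀ a ∈ adele k K, x • a ∈ adele k K) {ω : Module.Dual k (adele k K)}
    (hω : ω ∈ WD C) : mulW x hx ω ∈ WD (C - D) := by
  by_cases hx0 : x = 0
  · subst hx0
    have : mulW 0 hx ω = 0 := mulW_zero (fun x => adele_smul_mem hK x) ω
    rw [this]; exact Submodule.zero_mem _
  rw [mulW_mem_WD_iff hK hx0]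
  refine WD_antitone ?_ hω
  have := (mem_L_iff_div hK D hx0).mp hxD
  rw [sub_sub, sub_le_self_iff]
  exact this

lemma isDivOf_ne_zero {ω : Module.Dual k (adele k K)} {C : Divisor k K} (hK : IsFunctionField k K)
    (hω : IsDivOf ω C) : ω ≠ 0 := by
  rintro rfl
  obtain ⟨P⟩ := exists_place hK
  have h1 : (0 : Module.Dual k (adele k K)) ∈ WD (C + Finsupp.single P 1) := Submodule.zero_mem _
  rw [hω] at h1
  have := h1 P
  simp at this

lemma isDivOf_unique {ω : Module.Dual k (adele k K)} {C C' : Divisor k K}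
    (h : IsDivOf ω C) (h' : IsDivOf ω C') : C = C' :=
  le_antisymm ((h' C).mp ((h C).mpr le_rfl)) ((h C').mp ((h' C').mpr le_rfl))

end Groth.Agent.FF
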