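import Mathlib.RingTheory.Unramified.Field
import Mathlib.RingTheory.Unramified.Basic
import Mathlib.RingTheory.TensorProduct.Basic
import Mathlib.FieldTheory.IntermediateField.Adjoin.Algebra
import Mathlib.RingTheory.Polynomial.UniqueFactorization
import Mathlib.RingTheory.PrincipalIdealDomain
import Mathlib.RingTheory.EuclideanDomain
import Mathlib.Algebra.Polynomial.FieldDivision

/-!
# Radical ideals in `k' ⊗ E`

For a finite field extension `E/k`, an element `α` with `E/k(α)` separable and pairwise coprime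
irreducible polynomials `q₁, …, q_r ∈ k'[X]`, the ideal of `k' ⊗ E` generated by
`(q₁ ⋯ q_r)(1 ⊗ α)` is radical.
-/

set_option autoImplicit false
set_option linter.style.haveILetI false

open Polynomial TensorProduct IntermediateField

namespace Groth.Agent.FF.RadTensor

universe u v
variable {k : Type u} {k' : Type u} {E : Type v} [Field k] [Field k'] [Field E]
  [Algebra k k'] [Algebra k E]

/-- evaluation at `1 ⊗ α` of a polynomial coming from `k` -/
lemma aeval_one_tmul_map (α : E) (p : k[X]) :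
    aeval ((1 : k') ⊗ₜ[k] α) (p.map (algebraMap k k')) = (1 : k') ⊗ₜ[k] aeval α p := by
  rw [Polynomial.aeval_map_algebraMap]
  have := Polynomial.aeval_algHom_apply
    (Algebra.TensorProduct.includeRight : E →ₐ[k] k' ⊗[k] E) α p
  simpa using this

/-- `E` is formally unramified over `k[X]` (through `X ↦ α`) when `E/k(α)` is separable -/
lemma formallyUnramified_aeval (α : E) (hα : IsAlgebraic k α) [Algebra.IsSeparable k⟮α⟯ E] :
    @Algebra.FormallyUnramified k[X] E _ _ (aeval α).toRingHom.toAlgebra := by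
  letI a1 : Algebra k[X] E := (aeval α).toRingHom.toAlgebra
  letI a2 : Algebra k[X] k⟮α⟯ := (aeval (AdjoinSimple.gen k α)).toRingHom.toAlgebra
  haveI t1 : IsScalarTower k[X] k⟮α⟯ E := IsScalarTower.of_algebraMap_eq (fun p => by
    show aeval α p = algebraMap k⟮α⟯ E (aeval (AdjoinSimple.gen k α) p)
    rw [← Polynomial.aeval_algebraMap_apply, AdjoinSimple.algebraMap_gen])
  haveI u1 : Algebra.FormallyUnramified k[X] k⟮α⟯ := by
    apply Algebra.FormallyUnramified.of_surjective (Algebra.ofId k[X] k⟮α⟯)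
    intro z
    obtain ⟨z, hz⟩ := z
    have hz' : z ∈ Algebra.adjoin k ({α} : Set E) := by
      rw [← IntermediateField.adjoin_simple_toSubalgebra_of_isAlgebraic hα]
      exact hz
    rw [Algebra.adjoin_singleton_eq_range_aeval] at hz'
    obtain ⟨p, hp⟩ := hz'
    refine ⟨p, Subtype.ext ?_⟩
    show ((aeval (AdjoinSimple.gen k α) p : k⟮α⟯) : E) = z
    rw [← hp]
    have := Polynomial.aeval_algebraMap_apply E (AdjoinSimple.gen k α) p
    rw [AdjoinSimple.algebraMap_gen] at this
    exact this.symm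
  haveI u2 : Algebra.FormallyUnramified k⟮α⟯ E := Algebra.FormallyUnramified.of_isSeparable _ _
  exact Algebra.FormallyUnramified.comp k[X] k⟮α⟯ E


/-- `k' ⊗ E` is formally unramified over `k'[X]` (through `X ↦ 1 ⊗ α`) when `E/k(α)` is
separable -/
lemma formallyUnramified_tensor (α : E) (hα : IsAlgebraic k α) [Algebra.IsSeparable k⟮α⟯ E] :
    @Algebra.FormallyUnramified k'[X] (k' ⊗[k] E) _ _
      (aeval ((1 : k') ⊗ₜ[k] α)).toRingHom.toAlgebra := by
  letI a0 : Algebra k'[X] (k' ⊗[k] E) := (aeval ((1 : k') ⊗ₜ[k] α)).toRingHom.toAlgebra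
  letI a1 : Algebra k[X] E := (aeval α).toRingHom.toAlgebra
  haveI u1 : Algebra.FormallyUnramified k[X] E := formallyUnramified_aeval α hα
  rw [Algebra.FormallyUnramified.iff_comp_injective]
  intro B _ _ I hI f₁ f₂ hf
  letI a2 : Algebra k[X] B :=
    ((algebraMap k'[X] B).comp (mapRingHom (algebraMap k k'))).toAlgebra
  have hcomm : ∀ (f : (k' ⊗[k] E) →ₐ[k'[X]] B) (p : k[X]),
      f ((1 : k') ⊗ₜ[k] aeval α p) = algebraMap k[X] B p := by
    intro f p
    rw [← aeval_one_tmul_map]
    exact f.commutes (p.map (algebraMap k k'))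
  let g : ((k' ⊗[k] E) →ₐ[k'[X]] B) → (E →ₐ[k[X]] B) := fun f =>
    { toRingHom := f.toRingHom.comp
        (Algebra.TensorProduct.includeRight : E →ₐ[k] k' ⊗[k] E).toRingHom
      commutes' := fun p => hcomm f p }
  have hg : g f₁ = g f₂ := by
    apply Algebra.FormallyUnramified.ext I ⟨2, hI⟩
    intro e
    exact AlgHom.congr_fun hf ((1 : k') ⊗ₜ[k] e)
  apply AlgHom.ext
  intro w
  induction w using TensorProduct.induction_on with
  | zero => rw [map_zero, map_zero]
  | tmul c e =>
    have h1 : c ⊗ₜ[k] e = algebraMap k'[X] (k' ⊗[k] E) (C c) * ((1 : k') ⊗ₜ[k] e) := by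
      show c ⊗ₜ[k] e = aeval ((1 : k') ⊗ₜ[k] α) (C c) * ((1 : k') ⊗ₜ[k] e)
      rw [aeval_C, Algebra.TensorProduct.algebraMap_apply, Algebra.TensorProduct.tmul_mul_tmul]
      simp
    rw [h1, map_mul, map_mul, f₁.commutes, f₂.commutes]
    congr 1
    exact AlgHom.congr_fun hg e
  | add w₁ w₂ h₁ h₂ => rw [map_add, map_add, h₁, h₂]


/-- the ideal generated by the value at `1 ⊗ α` of a product of pairwise coprime irreducible
polynomials is radical -/
theorem dvd_of_dvd_pow [FiniteDimensional k E] (α : E) [Algebra.IsSeparable k⟮α⟯ E]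
    (S : Finset k'[X]) (hirr : ∀ q ∈ S, Irreducible q)
    (hcop : (S : Set k'[X]).Pairwise IsCoprime)
    (w : k' ⊗[k] E) (m : ℕ)
    (hw : aeval ((1 : k') ⊗ₜ[k] α) (∏ q ∈ S, q) ∣ w ^ m) :
    aeval ((1 : k') ⊗ₜ[k] α) (∏ q ∈ S, q) ∣ w := by
  have hα : IsAlgebraic k α := Algebra.IsAlgebraic.isAlgebraic α
  letI a0 : Algebra k'[X] (k' ⊗[k] E) := (aeval ((1 : k') ⊗ₜ[k] α)).toRingHom.toAlgebra
  haveI t0 : IsScalarTower k' k'[X] (k' ⊗[k] E) := IsScalarTower.of_algebraMap_eq (fun c => by
    show algebraMap k' (k' ⊗[k] E) c = aeval ((1 : k') ⊗ₜ[k] α) (C c)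
    rw [aeval_C])
  haveI f1 : Module.Finite k' (k' ⊗[k] E) := inferInstance
  haveI f2 : Module.Finite k'[X] (k' ⊗[k] E) := Module.Finite.of_restrictScalars_finite k' k'[X] _
  haveI f3 : Algebra.EssFiniteType k'[X] (k' ⊗[k] E) := inferInstance
  haveI u0 : Algebra.FormallyUnramified k'[X] (k' ⊗[k] E) := formallyUnramified_tensor α hα
  have key : ∀ q ∈ S, aeval ((1 : k') ⊗ₜ[k] α) q ∣ w := by
    intro q hq
    haveI hmax : (Ideal.span ({q} : Set k'[X])).IsMaximal :=
      PrincipalIdealRing.isMaximal_of_irreducible (hirr q hq)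
    have hrad := Algebra.FormallyUnramified.isRadical_map_isMaximal (A := k'[X])
      (B := k' ⊗[k] E) (Ideal.span ({q} : Set k'[X]))
    rw [Ideal.map_span, Set.image_singleton] at hrad
    have h1 : w ∈ Ideal.span ({algebraMap k'[X] (k' ⊗[k] E) q} : Set (k' ⊗[k] E)) := by
      apply hrad
      refine ⟨m, ?_⟩
      rw [Ideal.mem_span_singleton]
      refine dvd_trans ?_ hw
      exact map_dvd (aeval ((1 : k') ⊗ₜ[k] α)) (Finset.dvd_prod_of_mem _ hq)
    rw [Ideal.mem_span_singleton] at h1
    exact h1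
  rw [map_prod]
  apply Finset.prod_dvd_of_coprime _ key
  intro q hq q' hq' hne
  exact (hcop hq hq' hne).map (aeval ((1 : k') ⊗ₜ[k] α)).toRingHom


open UniqueFactorizationMonoid in
/-- the distinct irreducible factors of a nonzero polynomial over a field -/
theorem exists_radical_factors {F : Type*} [Field F] (g : F[X]) (hg : g ≠ 0) :
    ∃ (S : Finset F[X]) (N : ℕ), (∀ q ∈ S, Irreducible q) ∧ (S : Set F[X]).Pairwise IsCoprime ∧
      (∏ q ∈ S, q) ∣ g ∧ g ∣ (∏ q ∈ S, q) ^ N := by
  classical
  refine ⟨(normalizedFactors g).toFinset, Multiset.card (normalizedFactors g), ?_, ?_, ?_, ?_⟩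
  · intro q hq
    exact irreducible_of_normalized_factor q (Multiset.mem_toFinset.mp hq)
  · intro q hq q' hq' hne
    have hq1 := Multiset.mem_toFinset.mp hq
    have hq1' := Multiset.mem_toFinset.mp hq'
    have hi := irreducible_of_normalized_factor q hq1
    have hi' := irreducible_of_normalized_factor q' hq1'
    rw [hi.coprime_iff_not_dvd]
    intro hdvd
    apply hne
    have hass : Associated q q' := hi.associated_of_dvd hi' hdvd
    exact hass.eq_of_normalized (normalize_normalized_factor q hq1)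
      (normalize_normalized_factor q' hq1')
  · have h1 := Multiset.toFinset_prod_dvd_prod (normalizedFactors g)
    have h2 := (prod_normalizedFactors hg).dvd
    simpa using h1.trans h2
  · have h2 := (prod_normalizedFactors hg).symm.dvd
    refine h2.trans ?_
    rw [Finset.prod_multiset_count, ← Finset.prod_pow]
    apply Finset.prod_dvd_prod_of_dvd
    intro q _
    exact pow_dvd_pow q (Multiset.count_le_card q _)

end Groth.Agent.FF.RadTensor
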