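import Groth.Agent.FunFld.SepNonsing
import Groth.Agent.FunFld.RadicalTensor

/-!
# A general criterion for nonsingularity of a place
-/

set_option autoImplicit false
set_option linter.unusedSectionVars false
set_option linter.style.haveILetI false

open FunFld WithZero Polynomial TensorProduct

namespace Groth.Agent.FF.NonsingGen

open Groth.Agent.FF Groth.Agent.FF.Ext

universe u v w
variable {k k' : Type u} {K : Type v} {K' : Type w} [Field k] [Field k'] [Field K] [Field K']
  [Algebra k k'] [Algebra k K] [Algebra K K'] [Algebra k' K'] [Algebra k K']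
  [IsScalarTower k k' K'] [IsScalarTower k K K']

/-- If the ideal of `k' ⊗ O_P` generated by `ρ'` is radical, `ρ'` divides a local parameter `t` and
`t` divides a power of `ρ'`, then `k' ⊗ O_P` is integrally closed in `K' = k' ⊗ K`. -/
theorem integralClosure_of_radical [FiniteDimensional k k']
    (h : Function.Bijective (Algebra.TensorProduct.productMap
      (IsScalarTower.toAlgHom k k' K') (IsScalarTower.toAlgHom k K K')))
    (P : Place k K) [Algebra P.O K'] [IsScalarTower P.O K K']
    (t' : P.O) (ht : P.1 (t' : K) = exp (-1 : ℤ))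
    (ρ' : k' ⊗[k] P.O) (N : ℕ)
    (hd1 : ρ' ∣ (1 : k') ⊗ₜ[k] t') (hd2 : (1 : k') ⊗ₜ[k] t' ∣ ρ' ^ N)
    (hrad : ∀ (w : k' ⊗[k] P.O) (m : ℕ), ρ' ∣ w ^ m → ρ' ∣ w) :
    integralClosure P.O K' = Algebra.adjoin P.O (Set.range (algebraMap k' K')) := by
  classical
  have htower : IsScalarTower k P.O K' := IsScalarTower.of_algebraMap_eq (fun c => by
    rw [IsScalarTower.algebraMap_apply k K K', IsScalarTower.algebraMap_apply P.O K K']
    rfl)
  have htowerK : IsScalarTower k P.O K := IsScalarTower.of_algebraMap_eq (fun c => rfl)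
  set t : K := (t' : K) with htdef
  have ht0 : t ≠ 0 := by
    intro h0
    rw [h0, map_zero] at ht
    exact exp_ne_zero ht.symm
  have hmapt : algebraMap P.O K' t' = algebraMap K K' t := by
    rw [IsScalarTower.algebraMap_apply P.O K K']; rfl
  have hmapt0 : algebraMap K K' t ≠ 0 := by
    rw [Ne, map_eq_zero]; exact ht0
  -- the map `k' ⊗ O_P → K'`
  set ι : k' ⊗[k] P.O →ₐ[k] K' := Algebra.TensorProduct.productMap
    (IsScalarTower.toAlgHom k k' K') (IsScalarTower.toAlgHom k P.O K') with hι
  have hιfac : ι = (Algebra.TensorProduct.productMap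
      (IsScalarTower.toAlgHom k k' K') (IsScalarTower.toAlgHom k K K')).comp
      (Algebra.TensorProduct.map (AlgHom.id k k') (IsScalarTower.toAlgHom k P.O K)) := by
    apply Algebra.TensorProduct.ext'
    intro a b
    simp only [hι, Algebra.TensorProduct.productMap_apply_tmul, AlgHom.comp_apply,
      Algebra.TensorProduct.map_tmul, AlgHom.id_apply, IsScalarTower.coe_toAlgHom']
    rw [IsScalarTower.algebraMap_apply P.O K K']
  have hιinj : Function.Injective ι := by
    rw [hιfac]
    refine h.1.comp ?_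
    have : Function.Injective (IsScalarTower.toAlgHom k P.O K) := Subtype.val_injective
    exact Module.Flat.lTensor_preserves_injective_linearMap
      (M := k') (IsScalarTower.toAlgHom k P.O K).toLinearMap this
  have hιt : ι (1 ⊗ₜ[k] t') = algebraMap K K' t := by
    rw [hι, Algebra.TensorProduct.productMap_apply_tmul, map_one, one_mul]
    exact hmapt
  have hιO : ∀ c : P.O, algebraMap P.O K' c ∈ ι.range := fun c =>
    (AlgHom.mem_range ι).mpr ⟨1 ⊗ₜ[k] c, by
      rw [hι, Algebra.TensorProduct.productMap_apply_tmul, map_one, one_mul]; rfl⟩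
  -- the element `r = ι ρ'`
  set r : K' := ι ρ' with hr
  have hrmem : r ∈ ι.range := ι.mem_range_self _
  obtain ⟨c₁, hc₁⟩ := hd1
  obtain ⟨c₂, hc₂⟩ := hd2
  have hr0 : r ≠ 0 := by
    intro h0
    apply hmapt0
    rw [← hιt, hc₁, map_mul, ← hr, h0, zero_mul]
  have hrN : r ^ N = algebraMap K K' t * ι c₂ := by
    rw [hr, ← map_pow, hc₂, map_mul, hιt]
  -- every element becomes a member of the range after multiplication by a power of `t`
  set φ := Algebra.TensorProduct.productMap
    (IsScalarTower.toAlgHom k k' K') (IsScalarTower.toAlgHom k K K') with hφ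
  have hpowt : ∀ z : K', ∃ n : ℕ, algebraMap K K' t ^ n * z ∈ ι.range := by
    intro z
    obtain ⟨w, rfl⟩ := h.2 z
    induction w using TensorProduct.induction_on with
    | zero => exact ⟨0, by simp⟩
    | tmul c x =>
      obtain ⟨n, hn⟩ : ∃ n : ℕ, P.1 (t ^ n * x) ≤ 1 := by
        by_cases hx0 : x = 0
        · exact ⟨0, by simp [hx0]⟩
        · obtain ⟨m, hm⟩ : ∃ m : ℤ, P.1 x = exp m := by
            have : P.1 x ≠ 0 := by rwa [Ne, map_eq_zero]
            exact ⟨WithZero.log (P.1 x), (WithZero.exp_log this).symm⟩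
          refine ⟨m.toNat, ?_⟩
          rw [map_mul, map_pow, ht, hm, ← exp_nsmul, ← exp_add, ← exp_zero, exp_le_exp]
          have := Int.self_le_toNat m
          simp only [nsmul_eq_mul, mul_neg, mul_one]
          omega
      refine ⟨n, (AlgHom.mem_range ι).mpr ⟨c ⊗ₜ[k] ⟨t ^ n * x, hn⟩, ?_⟩⟩
      rw [hι, Algebra.TensorProduct.productMap_apply_tmul,
        Algebra.TensorProduct.productMap_apply_tmul]
      simp only [IsScalarTower.coe_toAlgHom']
      rw [IsScalarTower.algebraMap_apply P.O K K']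
      show algebraMap k' K' c * algebraMap K K' (t ^ n * x) = _
      rw [map_mul, map_pow]
      ring
    | add w₁ w₂ h₁ h₂ =>
      obtain ⟨n₁, hn₁⟩ := h₁
      obtain ⟨n₂, hn₂⟩ := h₂
      refine ⟨n₁ + n₂, ?_⟩
      rw [map_add, mul_add]
      apply ι.range.add_mem
      · have : algebraMap K K' t ^ (n₁ + n₂) * φ w₁ =
            algebraMap K K' t ^ n₂ * (algebraMap K K' t ^ n₁ * φ w₁) := by
          rw [pow_add]; ring
        rw [this]
        refine ι.range.mul_mem (ι.range.pow_mem ?_ _) hn₁
        rw [← hιt]; exact ι.mem_range_self _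
      · have : algebraMap K K' t ^ (n₁ + n₂) * φ w₂ =
            algebraMap K K' t ^ n₁ * (algebraMap K K' t ^ n₂ * φ w₂) := by
          rw [pow_add]; ring
        rw [this]
        refine ι.range.mul_mem (ι.range.pow_mem ?_ _) hn₂
        rw [← hιt]; exact ι.mem_range_self _
  have hpow : ∀ z : K', ∃ n : ℕ, r ^ n * z ∈ ι.range := by
    intro z
    obtain ⟨n, hn⟩ := hpowt z
    refine ⟨N * n, ?_⟩
    have : r ^ (N * n) * z = ι c₂ ^ n * (algebraMap K K' t ^ n * z) := by
      rw [pow_mul, hrN, mul_pow]; ring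
    rw [this]
    exact ι.range.mul_mem (ι.range.pow_mem (ι.mem_range_self _) _) hn
  -- integral elements lie in the range
  have hint_range : ∀ z : K', IsIntegral P.O z → z ∈ ι.range := by
    intro z hz
    have hex := hpow z
    have hmin : ∀ {m : ℕ}, m < Nat.find hex → ¬ r ^ m * z ∈ ι.range :=
      fun {m} hm => Nat.find_min hex hm
    have hspec := Nat.find_spec hex
    set n := Nat.find hex with hn
    rcases Nat.eq_zero_or_pos n with h0 | hpos
    · rw [h0, pow_zero, one_mul] at hspec
      exact hspec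
    exfalso
    obtain ⟨â, hâ⟩ := (AlgHom.mem_range ι).mp hspec
    obtain ⟨p, hpmonic, hpz⟩ := hz
    set m := p.natDegree with hm
    have hsum : (r ^ n * z) ^ m =
        r * ∑ j ∈ Finset.range m,
          (-(algebraMap P.O K' (p.coeff j)) * r ^ (n * (m - j) - 1) *
            (r ^ n * z) ^ j) := by
      have h1 : z ^ m = -∑ j ∈ Finset.range m, algebraMap P.O K' (p.coeff j) * z ^ j := by
        rw [eval₂_eq_sum_range, Finset.sum_range_succ, ← hm, hpmonic.coeff_natDegree, map_one,
          one_mul] at hpz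
        rw [eq_neg_iff_add_eq_zero, add_comm]
        exact hpz
      rw [mul_pow, h1, Finset.mul_sum, mul_neg, Finset.mul_sum, ← Finset.sum_neg_distrib]
      apply Finset.sum_congr rfl
      intro j hj
      have hjm : j < m := Finset.mem_range.mp hj
      have hexp : n * m = 1 + (n * (m - j) - 1) + n * j := by
        have h2 : 1 ≤ n * (m - j) := Nat.mul_pos hpos (by omega)
        have h3 : n * (m - j) + n * j = n * m := by
          rw [← Nat.mul_add]; congr 1; omega
        omega
      rw [← pow_mul, hexp, pow_add, pow_add, pow_one, mul_pow, ← pow_mul]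
      ring
    have hmem : ∑ j ∈ Finset.range m,
          (-(algebraMap P.O K' (p.coeff j)) * r ^ (n * (m - j) - 1) *
            (r ^ n * z) ^ j) ∈ ι.range := by
      apply ι.range.sum_mem
      intro j _
      exact ι.range.mul_mem (ι.range.mul_mem (ι.range.neg_mem (hιO _)) (ι.range.pow_mem hrmem _))
        (ι.range.pow_mem ((AlgHom.mem_range ι).mpr ⟨â, hâ⟩) _)
    obtain ⟨b, hb⟩ := (AlgHom.mem_range ι).mp hmem
    have heq : â ^ m = ρ' * b := by
      apply hιinj
      rw [map_pow, map_mul, hâ, hb]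
      exact hsum
    obtain ⟨y, hy⟩ := hrad â m ⟨b, heq⟩
    have h2 : r ^ (n - 1) * z = ι y := by
      have h3 : r * (r ^ (n - 1) * z) = r * ι y := by
        rw [← mul_assoc, ← pow_succ', Nat.sub_add_cancel hpos, ← hâ, hy, map_mul]
      exact mul_left_cancel₀ hr0 h3
    exact hmin (Nat.sub_lt hpos one_pos) ((AlgHom.mem_range ι).mpr ⟨y, h2.symm⟩)
  have hrange_le : ∀ w : k' ⊗[k] P.O,
      ι w ∈ Algebra.adjoin P.O (Set.range (algebraMap k' K')) := by
    intro w
    induction w using TensorProduct.induction_on with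
    | zero => rw [map_zero]; exact Subalgebra.zero_mem _
    | tmul c a =>
      rw [hι, Algebra.TensorProduct.productMap_apply_tmul]
      apply Subalgebra.mul_mem
      · exact Algebra.subset_adjoin ⟨c, rfl⟩
      · exact Subalgebra.algebraMap_mem _ a
    | add w₁ w₂ h₁ h₂ =>
      rw [map_add]
      exact Subalgebra.add_mem _ h₁ h₂
  apply le_antisymm
  · intro z hz
    obtain ⟨w, rfl⟩ := (AlgHom.mem_range ι).mp (hint_range z hz)
    exact hrange_le w
  · apply Algebra.adjoin_le
    rintro _ ⟨a, rfl⟩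
    have h1 : IsIntegral k (algebraMap k' K' a) :=
      (IsIntegral.of_finite k a).map (IsScalarTower.toAlgHom k k' K')
    exact h1.tower_top


/-- evaluation at `1 ⊗ a` of a polynomial coming from `k` -/
lemma aeval_one_tmul_map' {R : Type*} [CommRing R] [Algebra k R] (a : R) (p : k[X]) :
    aeval ((1 : k') ⊗ₜ[k] a) (p.map (algebraMap k k')) = (1 : k') ⊗ₜ[k] aeval a p := by
  rw [Polynomial.aeval_map_algebraMap]
  have := Polynomial.aeval_algHom_apply
    (Algebra.TensorProduct.includeRight : R →ₐ[k] k' ⊗[k] R) a p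
  simpa using this

/-- the kernel of the residue map is generated by a local parameter -/
lemma ker_resAlg (P : Place k K) (t' : P.O) (ht : P.1 (t' : K) = exp (-1 : ℤ)) :
    RingHom.ker (resAlg P) = Ideal.span {t'} := by
  have ht0 : (t' : K) ≠ 0 := by
    intro h0
    rw [h0, map_zero] at ht
    exact exp_ne_zero ht.symm
  ext a
  rw [RingHom.mem_ker, resAlg_apply, res_eq_zero_iff, Ideal.mem_span_singleton]
  constructor
  · intro ha
    have h1 : P.1 ((a : K) / (t' : K)) ≤ 1 := by
      rw [map_div₀, ht, div_le_iff₀ (by exact exp_pos), one_mul]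
      exact le_exp_neg_one_of_lt_one ha
    refine ⟨⟨(a : K) / (t' : K), h1⟩, ?_⟩
    apply Subtype.ext
    show (a : K) = (t' : K) * ((a : K) / (t' : K))
    field_simp
  · rintro ⟨b, rfl⟩
    show P.1 ((t' : K) * (b : K)) < 1
    rw [map_mul, ht]
    calc exp (-1 : ℤ) * P.1 (b : K) ≤ exp (-1 : ℤ) * 1 := mul_le_mul' le_rfl b.2
      _ < 1 := by rw [mul_one, ← exp_zero, exp_lt_exp]; norm_num

/-- lifting the radical property from the residue field: pure algebra -/
lemma dvd_of_dvd_pow_lift {k k' : Type u} {F : Type v} {R : Type w} [Field k] [Field k'] [Field F]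
    [CommRing R] [Algebra k k'] [Algebra k F] [Algebra k R] [FiniteDimensional k F]
    (g : R →ₐ[k] F) (hg : Function.Surjective g) (x t' : R)
    (hker : RingHom.ker g = Ideal.span {t'})
    [Algebra.IsSeparable (IntermediateField.adjoin k {g x}) F]
    (S : Finset k'[X]) (hirr : ∀ q ∈ S, Irreducible q)
    (hcop : (S : Set k'[X]).Pairwise IsCoprime)
    (hdvd : aeval ((1 : k') ⊗ₜ[k] x) (∏ q ∈ S, q) ∣ (1 : k') ⊗ₜ[k] t')
    (w : k' ⊗[k] R) (m : ℕ) (hw : aeval ((1 : k') ⊗ₜ[k] x) (∏ q ∈ S, q) ∣ w ^ m) :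
    aeval ((1 : k') ⊗ₜ[k] x) (∏ q ∈ S, q) ∣ w := by
  set ρ : k'[X] := ∏ q ∈ S, q with hρ
  set x' : k' ⊗[k] R := (1 : k') ⊗ₜ[k] x with hx'
  set φ : k' ⊗[k] R →ₐ[k'] k' ⊗[k] F :=
    Algebra.TensorProduct.map (AlgHom.id k' k') g with hφ
  set φ₀ : k' ⊗[k] R →ₐ[k] k' ⊗[k] F :=
    Algebra.TensorProduct.map (AlgHom.id k k') g with hφ₀
  have hφφ₀ : ∀ z, φ z = φ₀ z := fun z => rfl
  have hφsurj : Function.Surjective φ := by
    intro z
    obtain ⟨y, hy⟩ := Algebra.TensorProduct.map_surjective (AlgHom.id k k') g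
      (fun a => ⟨a, rfl⟩) hg z
    exact ⟨y, hy⟩
  have hφρ : φ (aeval x' ρ) = aeval ((1 : k') ⊗ₜ[k] g x) ρ := by
    rw [← Polynomial.aeval_algHom_apply]
    congr 1
  have h1 : aeval ((1 : k') ⊗ₜ[k] g x) ρ ∣ φ w ^ m := by
    rw [← hφρ, ← map_pow]
    exact map_dvd φ hw
  have h2 := RadTensor.dvd_of_dvd_pow (g x) S hirr hcop (φ w) m h1
  obtain ⟨ybar, hybar⟩ := h2
  obtain ⟨y, rfl⟩ := hφsurj ybar
  have h3 : w - aeval x' ρ * y ∈ RingHom.ker φ₀ := by
    rw [RingHom.mem_ker, ← hφφ₀, map_sub, map_mul, hφρ, hybar, sub_self]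
  rw [Algebra.TensorProduct.lTensor_ker (A := k') g hg, hker, Ideal.map_span,
    Set.image_singleton, Ideal.mem_span_singleton] at h3
  obtain ⟨c, hc⟩ := h3
  obtain ⟨c₁, hc₁⟩ := hdvd
  refine ⟨y + c₁ * c, ?_⟩
  have : w = aeval x' ρ * y + (1 : k') ⊗ₜ[k] t' * c := by
    rw [← sub_eq_iff_eq_add']
    exact hc
  rw [this, hc₁]
  ring

/-- A place `P` at which `π(x)` is a local parameter (`π` the minimal polynomial of the residue of
`x`) and whose residue field is separable over `k(x̄)` is nonsingular. -/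
theorem integralClosure_of_good [FiniteDimensional k k']
    (h : Function.Bijective (Algebra.TensorProduct.productMap
      (IsScalarTower.toAlgHom k k' K') (IsScalarTower.toAlgHom k K K')))
    (hK : IsFunctionField k K) (P : Place k K) [Algebra P.O K'] [IsScalarTower P.O K K']
    (x : P.O)
    (hunif : P.1 ((aeval x (minpoly k (res P x)) : P.O) : K) = exp (-1 : ℤ))
    [hsep : Algebra.IsSeparable (IntermediateField.adjoin k {res P x})
      (IsLocalRing.ResidueField P.O)] :
    integralClosure P.O K' = Algebra.adjoin P.O (Set.range (algebraMap k' K')) := by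
  classical
  have hfin : FiniteDimensional k (IsLocalRing.ResidueField P.O) := finite_residueField hK P
  set xbar := res P x with hxbar
  set π := minpoly k xbar with hπ
  have hint : IsIntegral k xbar := @IsIntegral.of_finite k _ _ _ _ hfin xbar
  have hπ0 : π ≠ 0 := minpoly.ne_zero hint
  have hπ'0 : π.map (algebraMap k k') ≠ 0 := by
    rwa [Ne, Polynomial.map_eq_zero]
  obtain ⟨S, N, hirr, hcop, hdvd1, hdvd2⟩ :=
    RadTensor.exists_radical_factors (π.map (algebraMap k k')) hπ'0
  set ρ : k'[X] := ∏ q ∈ S, q with hρ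
  set x' : k' ⊗[k] P.O := (1 : k') ⊗ₜ[k] x with hx'
  set t' : P.O := aeval x π with ht'
  have hkey : aeval x' (π.map (algebraMap k k')) = (1 : k') ⊗ₜ[k] t' := aeval_one_tmul_map' x π
  have hd1 : aeval x' ρ ∣ (1 : k') ⊗ₜ[k] t' := by
    rw [← hkey]
    exact map_dvd (aeval x') hdvd1
  refine integralClosure_of_radical h P t' hunif (aeval x' ρ) N hd1 ?_ ?_
  · rw [← hkey, ← map_pow]
    exact map_dvd (aeval x') hdvd2
  · intro w m hw
    exact @dvd_of_dvd_pow_lift k k' (IsLocalRing.ResidueField P.O) P.O _ _ _ _ _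
      (Place.algRes P) _ hfin (resAlg P) (resAlg_surjective P) x t' (ker_resAlg P t' hunif)
      hsep S hirr hcop hd1 w m hw

end Groth.Agent.FF.NonsingGen
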