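import Groth.Agent.FunFld.IntClosure
import Groth.Agent.FunFld.LDim
import Groth.Agent.FunFld.Ball
import Groth.Agent.FunFld.RelLen2
import Mathlib.LinearAlgebra.FreeModule.Norm
import Mathlib.RingTheory.Localization.NormTrace
import Mathlib.RingTheory.DedekindDomain.IntegralClosure

/-!
# The divisor of a norm: `deg P · v_P(N x) = ∑_{Q | P} deg Q · v_Q(x)`
-/

set_option autoImplicit false
set_option linter.unusedSectionVars false

open FunFld IntermediateField Polynomial WithZero

namespace Groth.Agent.FF.Ext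

open Groth.Agent.FF

universe u v w

section ballLen
variable {k : Type u} {K : Type v} [Field k] [Field K] [Algebra k K]

lemma relLen_ball_pred (hK : IsFunctionField k K) (P : Place k K) (n : ℤ) :
    relLen (ball P (n - 1)) (ball P n) = (P.deg : ℕ∞) := by
  obtain ⟨t, ht⟩ := exists_uniformizer P
  rw [← length_residueField hK P]
  exact relLen_eq_of_ker_of_surjective (ballRes P ht n)
    (fun x => ballRes_eq_zero_iff P ht n x) (ballRes_surjective P ht n)

lemma relLen_ball (hK : IsFunctionField k K) (P : Place k K) (n : ℤ) (m : ℕ) :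
    relLen (ball P (n - m)) (ball P n) = ((m * P.deg : ℕ) : ℕ∞) := by
  induction m with
  | zero =>
    simp only [Nat.cast_zero, sub_zero, zero_mul]
    exact relLen_self _
  | succ m ih =>
    have h1 : ball P (n - (m + 1 : ℕ)) ≤ ball P (n - m) := ball_mono P (by push_cast; omega)
    have h2 : ball P (n - m) ≤ ball P n := ball_mono P (by omega)
    rw [relLen_add h1 h2, ih]
    have h3 : n - ((m + 1 : ℕ) : ℤ) = (n - m) - 1 := by push_cast; ring
    rw [h3, relLen_ball_pred hK P (n - m)]
    push_cast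
    ring

/-- the `k`-dimension of `O_P / (a)` -/
theorem length_quotient_span (hK : IsFunctionField k K) (P : Place k K) {a : P.O} (ha : a ≠ 0) :
    Module.length k (P.O ⧸ Ideal.span ({a} : Set P.O)) =
      (((P.ord (a : K)).toNat * P.deg : ℕ) : ℕ∞) := by
  have ha0 : (a : K) ≠ 0 := fun h => ha (Subtype.ext h)
  have hord : 0 ≤ P.ord (a : K) := (val_le_one_iff P ha0).mp a.2
  set m := (P.ord (a : K)).toNat with hm
  have hmz : (m : ℤ) = P.ord (a : K) := Int.toNat_of_nonneg hord
  let g : ball P 0 →ₗ[k] (P.O ⧸ Ideal.span ({a} : Set P.O)) :=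
    { toFun := fun w => Ideal.Quotient.mk _ ⟨(w : K), by
        have := w.2; rw [mem_ball, exp_zero] at this; exact this⟩
      map_add' := fun w₁ w₂ => by
        rw [← map_add]; rfl
      map_smul' := fun c w => by
        rw [RingHom.id_apply, Algebra.smul_def]
        show _ = Ideal.Quotient.mk _ (algebraMap k P.O c) * _
        rw [← map_mul]
        congr 1
        apply Subtype.ext
        show ((c • w : ball P 0) : K) = algebraMap k K c * (w : K)
        rw [Submodule.coe_smul, Algebra.smul_def] }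
  have hker : ∀ w : ball P 0, g w = 0 ↔ (w : K) ∈ ball P ((0 : ℤ) - m) := by
    intro w
    show Ideal.Quotient.mk _ _ = 0 ↔ _
    rw [Ideal.Quotient.eq_zero_iff_mem, Ideal.mem_span_singleton']
    show _ ↔ P.1 (w : K) ≤ exp ((0 : ℤ) - m)
    have hexp : (exp ((0 : ℤ) - m) : WithZero (Multiplicative ℤ)) = P.1 (a : K) := by
      rw [zero_sub, hmz, ← val_eq_exp_neg_ord P ha0]
    rw [hexp]
    constructor
    · rintro ⟨b, hb⟩
      have h1 : (w : K) = (b : K) * (a : K) := by
        have := congrArg (fun y : P.O => (y : K)) hb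
        exact this.symm
      rw [h1, map_mul]
      calc P.1 (b : K) * P.1 (a : K) ≤ 1 * P.1 (a : K) := by
            gcongr
            exact b.2
        _ = P.1 (a : K) := one_mul _
    · intro h
      refine ⟨⟨(w : K) / (a : K), ?_⟩, ?_⟩
      · rw [mem_O_iff, map_div₀]
        exact div_le_one_of_le₀ h zero_le
      · apply Subtype.ext
        show (w : K) / (a : K) * (a : K) = (w : K)
        rw [div_mul_cancel₀ _ ha0]
  have hsurj : Function.Surjective g := by
    intro y
    obtain ⟨b, rfl⟩ := Ideal.Quotient.mk_surjective y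
    exact ⟨⟨(b : K), by rw [mem_ball, exp_zero]; exact b.2⟩, rfl⟩
  rw [← relLen_eq_of_ker_of_surjective g hker hsurj]
  exact relLen_ball hK P 0 m

end ballLen

section locBall
variable {k : Type u} {K : Type v} {K' : Type w} [Field k] [Field K] [Field K'] [Algebra k K] [Algebra K K']
  [Algebra k K'] [IsScalarTower k K K']

/-- elements of `K'` with prescribed minimal orders at the places above `P` -/
def locBall (P : Place k K) (D : Place k K' → ℤ) : Submodule k K' where
  carrier := {w | ∀ Q : Place k K', IsOver Q P → Q.1 w ≤ exp (D Q)}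
  add_mem' {a b} ha hb Q hQ := (Q.1.map_add a b).trans (max_le (ha Q hQ) (hb Q hQ))
  zero_mem' Q _ := by simp
  smul_mem' c a ha Q hQ := (val_smul_le Q c a).trans (ha Q hQ)

lemma mem_locBall (P : Place k K) (D : Place k K' → ℤ) (w : K') :
    w ∈ locBall P D ↔ ∀ Q : Place k K', IsOver Q P → Q.1 w ≤ exp (D Q) := Iff.rfl

lemma locBall_mono (P : Place k K) {D D' : Place k K' → ℤ}
    (h : ∀ Q : Place k K', IsOver Q P → D Q ≤ D' Q) : locBall P D ≤ locBall P D' := by
  intro w hw Q hQ
  exact (hw Q hQ).trans (exp_le_exp.mpr (h Q hQ))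

lemma locBall_congr (P : Place k K) {D D' : Place k K' → ℤ}
    (h : ∀ Q : Place k K', IsOver Q P → D Q = D' Q) : locBall P D = locBall P D' :=
  le_antisymm (locBall_mono P fun Q hQ => (h Q hQ).le) (locBall_mono P fun Q hQ => (h Q hQ).ge)

/-- one step of the filtration -/
theorem relLen_locBall_step [FiniteDimensional K K'] (hK : IsFunctionField k K) (P : Place k K)
    {Q₀ : Place k K'} (hQ₀ : IsOver Q₀ P) (D D' : Place k K' → ℤ) (h0 : D Q₀ = D' Q₀ - 1)
    (hne : ∀ Q : Place k K', Q ≠ Q₀ → D Q = D' Q) :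
    relLen (locBall P D) (locBall P D') = (Q₀.deg : ℕ∞) := by
  classical
  have hKc : IsFunctionField (algebraicClosure k K') K' := isFunctionField_algebraicClosure hK
  have hfinres : FiniteDimensional k (IsLocalRing.ResidueField Q₀.O) :=
    finite_residueField_ext hK Q₀
  obtain ⟨t, ht⟩ := exists_uniformizer Q₀
  have hle : locBall P D' ≤ ball Q₀ (D' Q₀) := fun w hw => hw Q₀ hQ₀
  let g : locBall P D' →ₗ[k] IsLocalRing.ResidueField Q₀.O :=
    (ballRes Q₀ ht (D' Q₀)).comp (Submodule.inclusion hle)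
  have hker : ∀ w : locBall P D', g w = 0 ↔ (w : K') ∈ locBall P D := by
    intro w
    simp only [g, LinearMap.comp_apply]
    rw [ballRes_eq_zero_iff]
    simp only [Submodule.coe_inclusion]
    constructor
    · intro hw Q hQ
      by_cases hQQ : Q = Q₀
      · subst hQQ
        rw [h0]; exact hw
      · rw [hne Q hQQ]
        exact w.2 Q hQ
    · intro hw
      have := hw Q₀ hQ₀
      rw [h0] at this
      exact this
  have hsurj : Function.Surjective g := by
    intro r
    obtain ⟨b, hb⟩ := ballRes_surjective Q₀ ht (D' Q₀) r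
    have hfin : {Q : Place k K' | IsOver Q P}.Finite := finite_isOver P
    have hmem : ∀ Q, Q ∈ hfin.toFinset ↔ IsOver Q P := fun Q => by
      rw [Set.Finite.mem_toFinset]; rfl
    let ι := ↥hfin.toFinset
    -- a common bound
    obtain ⟨M, hM⟩ : ∃ M : ℤ, ∀ i : ι, M ≤ D' (i : Place k K') - 1 := by
      refine ⟨(Finset.univ : Finset ι).inf' ⟨⟨Q₀, (hmem Q₀).mpr hQ₀⟩, Finset.mem_univ _⟩
        (fun i => D' (i : Place k K') - 1), fun i => ?_⟩
      exact Finset.inf'_le _ (Finset.mem_univ i)
    obtain ⟨w, hw⟩ := weak_approx (fun i : ι => (i : Place k K')) Subtype.val_injective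
      (fun i => if (i : Place k K') = Q₀ then (b : K') else 0) (M + 1)
    have hwlt : ∀ i : ι, (i : Place k K').1
        (w - if (i : Place k K') = Q₀ then (b : K') else 0) ≤ exp (D' (i : Place k K') - 1) := by
      intro i
      have h1 := hw i
      rw [lt_exp_iff_le_exp_sub_one, add_sub_cancel_right] at h1
      exact h1.trans (exp_le_exp.mpr (hM i))
    have hwmem : w ∈ locBall P D' := by
      intro Q hQ
      have h1 := hwlt ⟨Q, (hmem Q).mpr hQ⟩
      simp only at h1
      by_cases hQQ : Q = Q₀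
      · rw [if_pos hQQ] at h1
        have h2 : w = (w - (b : K')) + (b : K') := by ring
        rw [h2]
        refine (Q.1.map_add _ _).trans (max_le (h1.trans (exp_le_exp.mpr (by omega))) ?_)
        rw [hQQ]
        exact b.2
      · rw [if_neg hQQ, sub_zero] at h1
        exact h1.trans (exp_le_exp.mpr (by omega))
    refine ⟨⟨w, hwmem⟩, ?_⟩
    simp only [g, LinearMap.comp_apply]
    rw [← hb, ← sub_eq_zero, ← map_sub, ballRes_eq_zero_iff]
    have h1 := hwlt ⟨Q₀, (hmem Q₀).mpr hQ₀⟩
    simp only [if_true] at h1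
    exact h1
  rw [relLen_eq_of_ker_of_surjective g hker hsurj, Module.length_eq_finrank]
  rfl

/-- the total length of the filtration -/
theorem relLen_locBall [FiniteDimensional K K'] (hK : IsFunctionField k K) (P : Place k K)
    (Qs : Finset (Place k K')) (hQs : ∀ Q, Q ∈ Qs ↔ IsOver Q P) :
    ∀ (N : ℕ) (E : Place k K' → ℕ), ∑ Q ∈ Qs, E Q = N →
      relLen (locBall P (fun Q => -(E Q : ℤ))) (locBall P (fun _ => (0 : ℤ))) =
        ((∑ Q ∈ Qs, E Q * Q.deg : ℕ) : ℕ∞) := by
  classical
  intro N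
  induction N with
  | zero =>
    intro E hE
    have h0 : ∀ Q ∈ Qs, E Q = 0 := by
      intro Q hQ
      exact (Finset.sum_eq_zero_iff.mp hE) Q hQ
    have h1 : locBall P (fun Q => -(E Q : ℤ)) = locBall P (fun _ => (0 : ℤ)) := by
      apply locBall_congr
      intro Q hQ
      rw [h0 Q ((hQs Q).mpr hQ)]
      simp
    rw [h1, relLen_self]
    have : ∑ Q ∈ Qs, E Q * Q.deg = 0 := by
      apply Finset.sum_eq_zero
      intro Q hQ
      rw [h0 Q hQ, zero_mul]
    rw [this]
    rfl
  | succ N ih =>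
    intro E hE
    have hex : ∃ Q₀ ∈ Qs, 0 < E Q₀ := by
      by_contra hcon
      push Not at hcon
      have : ∑ Q ∈ Qs, E Q = 0 := Finset.sum_eq_zero fun Q hQ => Nat.le_zero.mp (hcon Q hQ)
      omega
    obtain ⟨Q₀, hQ₀, hpos⟩ := hex
    set E' : Place k K' → ℕ := Function.update E Q₀ (E Q₀ - 1) with hE'
    have hE'0 : E' Q₀ = E Q₀ - 1 := Function.update_self ..
    have hE'ne : ∀ Q, Q ≠ Q₀ → E' Q = E Q := fun Q hQ => Function.update_of_ne hQ ..
    have hsumE : ∑ Q ∈ Qs, E Q = ∑ Q ∈ Qs, E' Q + 1 := by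
      rw [← Finset.add_sum_erase Qs E hQ₀, ← Finset.add_sum_erase Qs E' hQ₀, hE'0]
      have : ∑ Q ∈ Qs.erase Q₀, E' Q = ∑ Q ∈ Qs.erase Q₀, E Q :=
        Finset.sum_congr rfl fun Q hQ => hE'ne Q (Finset.ne_of_mem_erase hQ)
      rw [this]
      omega
    have hsumD : ∑ Q ∈ Qs, E Q * Q.deg = ∑ Q ∈ Qs, E' Q * Q.deg + Q₀.deg := by
      rw [← Finset.add_sum_erase Qs (fun Q => E Q * Q.deg) hQ₀,
        ← Finset.add_sum_erase Qs (fun Q => E' Q * Q.deg) hQ₀, hE'0]
      have : ∑ Q ∈ Qs.erase Q₀, E' Q * Q.deg = ∑ Q ∈ Qs.erase Q₀, E Q * Q.deg :=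
        Finset.sum_congr rfl fun Q hQ => by rw [hE'ne Q (Finset.ne_of_mem_erase hQ)]
      rw [this]
      have : E Q₀ * Q₀.deg = (E Q₀ - 1) * Q₀.deg + Q₀.deg := by
        have : E Q₀ = (E Q₀ - 1) + 1 := by omega
        conv_lhs => rw [this]
        ring
      omega
    have hN : ∑ Q ∈ Qs, E' Q = N := by omega
    have hd0 : -(E Q₀ : ℤ) = -(E' Q₀ : ℤ) - 1 := by
      rw [hE'0]
      push_cast [Nat.cast_sub (Nat.one_le_of_lt hpos)]
      ring
    have hdne : ∀ Q : Place k K', Q ≠ Q₀ → -(E Q : ℤ) = -(E' Q : ℤ) := by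
      intro Q hQ
      rw [hE'ne Q hQ]
    have hstep := relLen_locBall_step hK P ((hQs Q₀).mp hQ₀) (fun Q => -(E Q : ℤ))
      (fun Q => -(E' Q : ℤ)) hd0 hdne
    have hA : locBall P (fun Q => -(E Q : ℤ)) ≤ locBall P (fun Q => -(E' Q : ℤ)) := by
      apply locBall_mono
      intro Q _
      by_cases hQQ : Q = Q₀
      · rw [hQQ, hE'0]
        have : ((E Q₀ - 1 : ℕ) : ℤ) ≤ (E Q₀ : ℤ) := by exact_mod_cast Nat.sub_le _ _
        omega
      · rw [hE'ne Q hQQ]
    have hB : locBall P (fun Q => -(E' Q : ℤ)) ≤ locBall P (fun _ => (0 : ℤ)) := by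
      apply locBall_mono
      intro Q _
      omega
    rw [relLen_add hA hB, hstep, ih E' hN, hsumD]
    push_cast
    ring

end locBall

section norm
variable {k : Type u} {K : Type v} {K' : Type w} [Field k] [Field K] [Field K'] [Algebra k K] [Algebra K K']
  [Algebra k K'] [IsScalarTower k K K'] [FiniteDimensional K K']

lemma ord_prod (P : Place k K) {ι : Type*} (s : Finset ι) (f : ι → K) (hf : ∀ i ∈ s, f i ≠ 0) :
    P.ord (∏ i ∈ s, f i) = ∑ i ∈ s, P.ord (f i) := by
  classical
  induction s using Finset.induction_on with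
  | empty => simp [ord_one]
  | insert i s hi ih =>
    rw [Finset.prod_insert hi, Finset.sum_insert hi,
      ord_mul P (hf i (Finset.mem_insert_self i s))
        (Finset.prod_ne_zero_iff.mpr fun j hj => hf j (Finset.mem_insert_of_mem hj)),
      ih fun j hj => hf j (Finset.mem_insert_of_mem hj)]

/-- the norm formula for nonzero integral elements -/
theorem deg_mul_ord_norm_of_isIntegral (hK : IsFunctionField k K) (P : Place k K)
    [Algebra P.O K'] [IsScalarTower P.O K K'] [IsScalarTower k P.O K']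
    (Qs : Finset (Place k K')) (hQs : ∀ Q, Q ∈ Qs ↔ IsOver Q P) {x : K'}
    (hx : IsIntegral P.O x) (hx0 : x ≠ 0) :
    (P.deg : ℤ) * P.ord (Algebra.norm K x) = ∑ Q ∈ Qs, (Q.deg : ℤ) * Q.ord x := by
  classical
  haveI hpid : IsPrincipalIdealRing P.O :=
    isPrincipalIdealRing_valuationSubring P.O (fun c => P.2.1 c) hK
  haveI hfinB : Module.Finite P.O (integralClosure P.O K') := finite_integralClosure hK P
  haveI htf1 : Module.IsTorsionFree P.O K' := .trans_faithfulSMul P.O K K'
  haveI htf2 : Module.IsTorsionFree P.O (integralClosure P.O K') :=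
    IsIntegralClosure.isTorsionFree P.O K'
  haveI hfreeB : Module.Free P.O (integralClosure P.O K') :=
    Module.free_of_finite_type_torsion_free'
  let b := Module.Free.chooseBasis P.O (integralClosure P.O K')
  set xB : integralClosure P.O K' := ⟨x, hx⟩ with hxB
  have hxB0 : xB ≠ 0 := fun h => hx0 (congrArg Subtype.val h)
  have hI : Ideal.span ({xB} : Set (integralClosure P.O K')) ≠ ⊥ :=
    Ideal.span_singleton_eq_bot.not.2 hxB0
  -- the norm over `K` is the norm over `O_P`
  haveI hloc : IsLocalization (Algebra.algebraMapSubmonoid (integralClosure P.O K')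
      (nonZeroDivisors P.O)) K' :=
    IsIntegralClosure.isLocalization P.O K K' (integralClosure P.O K')
  have hnorm : Algebra.norm K x = algebraMap P.O K (Algebra.norm P.O xB) :=
    Algebra.norm_localization P.O (nonZeroDivisors P.O) xB
  have hassoc := associated_norm_prod_smith b hxB0
  set a := fun i => Ideal.smithCoeffs b (Ideal.span ({xB} : Set (integralClosure P.O K'))) hI i
    with ha
  have ha0 : ∀ i, a i ≠ 0 := fun i => Ideal.smithCoeffs_ne_zero b _ hI i
  have ha0' : ∀ i, ((a i : P.O) : K) ≠ 0 := fun i h => ha0 i (Subtype.ext h)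
  have hint : P.1.Integers P.O := Valuation.valuationSubring.integers P.1
  have hordN : P.ord (Algebra.norm K x) = ∑ i, P.ord ((a i : P.O) : K) := by
    obtain ⟨u, hu⟩ := hassoc
    have hu1 : P.1 ((u : P.O) : K) = 1 := (hint.isUnit_iff_valuation_eq_one).mp u.isUnit
    have h1 : (Algebra.norm K x) * ((u : P.O) : K) = ∏ i, ((a i : P.O) : K) := by
      rw [hnorm]
      have h0 : ((Algebra.norm P.O xB * (u : P.O) : P.O) : K) =
          ((∏ i, a i : P.O) : K) := congrArg (fun y : P.O => (y : K)) hu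
      have h00 : ((∏ i, a i : P.O) : K) = ∏ i, ((a i : P.O) : K) := by
        push_cast
        rfl
      rw [← h00, ← h0]
      push_cast
      rfl
    have hN0 : Algebra.norm K x ≠ 0 := by
      rw [Ne, Algebra.norm_eq_zero_iff]
      exact hx0
    have hu0 : ((u : P.O) : K) ≠ 0 := by
      intro h
      rw [h, map_zero] at hu1
      exact zero_ne_one hu1
    have h2 := congrArg P.ord h1
    rw [ord_mul P hN0 hu0, ord_prod P Finset.univ _ (fun i _ => ha0' i)] at h2
    have h3 : P.ord ((u : P.O) : K) = 0 := (val_eq_one_iff P hu0).mp hu1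
    rw [h3, add_zero] at h2
    exact h2
  -- dimensions of the cyclic quotients
  have hlen : ∀ i, Module.length k (P.O ⧸ Ideal.span ({a i} : Set P.O)) =
      (((P.ord ((a i : P.O) : K)).toNat * P.deg : ℕ) : ℕ∞) := fun i =>
    length_quotient_span hK P (ha0 i)
  haveI hfinq : ∀ i, Module.Finite k (P.O ⧸ Ideal.span ({a i} : Set P.O)) := fun i =>
    ((length_eq_natCast_iff _).mp (hlen i)).1
  have hrankq : ∀ i, Module.finrank k (P.O ⧸ Ideal.span ({a i} : Set P.O)) =
      (P.ord ((a i : P.O) : K)).toNat * P.deg := fun i =>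
    ((length_eq_natCast_iff _).mp (hlen i)).2
  have hsum := Ideal.finrank_quotient_eq_sum k hI b
  -- the other computation of the dimension
  have hQx : ∀ Q : Place k K', IsOver Q P → Q.1 x ≤ 1 := by
    intro Q hQ
    obtain ⟨e, he⟩ := hQ
    exact val_le_one_of_isIntegral he hx
  set E : Place k K' → ℕ := fun Q => (Q.ord x).toNat with hE
  have hEx : ∀ Q : Place k K', IsOver Q P → (exp (-(E Q : ℤ)) : WithZero (Multiplicative ℤ)) = Q.1 x := by
    intro Q hQ
    have h0 : 0 ≤ Q.ord x := (val_le_one_iff Q hx0).mp (hQx Q hQ)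
    rw [hE]
    simp only
    rw [Int.toNat_of_nonneg h0, ← val_eq_exp_neg_ord Q hx0]
  have hmemint : ∀ w : locBall P (fun _ : Place k K' => (0 : ℤ)), IsIntegral P.O (w : K') := by
    intro w
    apply isIntegral_of_val_le_one hK P
    intro Q hQ
    have := w.2 Q hQ
    rw [exp_zero] at this
    exact this
  let g : locBall P (fun _ : Place k K' => (0 : ℤ)) →ₗ[k]
      (integralClosure P.O K' ⧸ Ideal.span ({xB} : Set (integralClosure P.O K'))) :=
    { toFun := fun w => Ideal.Quotient.mk _ ⟨(w : K'), hmemint w⟩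
      map_add' := fun w₁ w₂ => by
        rw [← map_add]; rfl
      map_smul' := fun c w => by
        rw [RingHom.id_apply]
        have h1 : (⟨((c • w : locBall P (fun _ : Place k K' => (0 : ℤ))) : K'), hmemint (c • w)⟩ :
            integralClosure P.O K') = c • ⟨(w : K'), hmemint w⟩ := by
          apply Subtype.ext
          rfl
        rw [h1]
        rfl }
  have hker : ∀ w : locBall P (fun _ : Place k K' => (0 : ℤ)),
      g w = 0 ↔ (w : K') ∈ locBall P (fun Q => -(E Q : ℤ)) := by
    intro w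
    show Ideal.Quotient.mk _ _ = 0 ↔ _
    rw [Ideal.Quotient.eq_zero_iff_mem, Ideal.mem_span_singleton']
    constructor
    · rintro ⟨c, hc⟩ Q hQ
      have h1 : (w : K') = (c : K') * x := by
        have := congrArg (fun y : integralClosure P.O K' => (y : K')) hc
        exact this.symm
      obtain ⟨e, he⟩ := hQ
      have hcQ : Q.1 (c : K') ≤ 1 := val_le_one_of_isIntegral he c.2
      rw [hEx Q ⟨e, he⟩, h1, map_mul]
      calc Q.1 (c : K') * Q.1 x ≤ 1 * Q.1 x := by gcongr
        _ = Q.1 x := one_mul _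
    · intro hw
      have hcint : IsIntegral P.O ((w : K') / x) := by
        apply isIntegral_of_val_le_one hK P
        intro Q hQ
        have := hw Q hQ
        rw [hEx Q hQ] at this
        rw [map_div₀]
        exact div_le_one_of_le₀ this zero_le
      refine ⟨⟨(w : K') / x, hcint⟩, ?_⟩
      apply Subtype.ext
      show (w : K') / x * x = (w : K')
      rw [div_mul_cancel₀ _ hx0]
  have hsurj : Function.Surjective g := by
    intro y
    obtain ⟨c, rfl⟩ := Ideal.Quotient.mk_surjective y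
    refine ⟨⟨(c : K'), ?_⟩, rfl⟩
    intro Q hQ
    obtain ⟨e, he⟩ := hQ
    rw [exp_zero]
    exact val_le_one_of_isIntegral he c.2
  have hlenB := relLen_eq_of_ker_of_surjective g hker hsurj
  rw [relLen_locBall hK P Qs hQs _ E rfl] at hlenB
  have hrankB : Module.finrank k
      (integralClosure P.O K' ⧸ Ideal.span ({xB} : Set (integralClosure P.O K'))) =
      ∑ Q ∈ Qs, E Q * Q.deg := ((length_eq_natCast_iff _).mp hlenB.symm).2
  rw [hrankB] at hsum
  have hsum' : ∑ Q ∈ Qs, E Q * Q.deg = ∑ i, (P.ord ((a i : P.O) : K)).toNat * P.deg := by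
    rw [hsum]
    exact Finset.sum_congr rfl fun i _ => hrankq i
  have hai : ∀ i, ((P.ord ((a i : P.O) : K)).toNat : ℤ) = P.ord ((a i : P.O) : K) := by
    intro i
    exact Int.toNat_of_nonneg ((val_le_one_iff P (ha0' i)).mp (a i).2)
  have hEi : ∀ Q ∈ Qs, ((E Q : ℕ) : ℤ) = Q.ord x := by
    intro Q hQ
    exact Int.toNat_of_nonneg ((val_le_one_iff Q hx0).mp (hQx Q ((hQs Q).mp hQ)))
  have hz : (∑ Q ∈ Qs, ((E Q : ℕ) : ℤ) * (Q.deg : ℤ)) =
      ∑ i, ((P.ord ((a i : P.O) : K)).toNat : ℤ) * (P.deg : ℤ) := by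
    exact_mod_cast hsum'
  rw [hordN, Finset.mul_sum]
  calc ∑ i, (P.deg : ℤ) * P.ord ((a i : P.O) : K)
      = ∑ i, ((P.ord ((a i : P.O) : K)).toNat : ℤ) * (P.deg : ℤ) := by
        apply Finset.sum_congr rfl
        intro i _
        rw [hai i]; ring
    _ = ∑ Q ∈ Qs, ((E Q : ℕ) : ℤ) * (Q.deg : ℤ) := hz.symm
    _ = ∑ Q ∈ Qs, (Q.deg : ℤ) * Q.ord x := by
        apply Finset.sum_congr rfl
        intro Q hQ
        rw [hEi Q hQ]; ring

/-- **the divisor of a norm**: `deg P · v_P(N x) = ∑_{Q | P} deg Q · v_Q(x)` -/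
theorem deg_mul_ord_norm (hK : IsFunctionField k K) (P : Place k K)
    (Qs : Finset (Place k K')) (hQs : ∀ Q, Q ∈ Qs ↔ IsOver Q P) (x : K') :
    (P.deg : ℤ) * P.ord (Algebra.norm K x) = ∑ Q ∈ Qs, (Q.deg : ℤ) * Q.ord x := by
  classical
  letI aO : Algebra P.O K' := ((algebraMap K K').comp P.O.subtype).toAlgebra
  haveI t1 : IsScalarTower P.O K K' := IsScalarTower.of_algebraMap_eq (fun _ => rfl)
  haveI t2 : IsScalarTower k P.O K' := IsScalarTower.of_algebraMap_eq (fun c => by
    rw [IsScalarTower.algebraMap_apply k K K']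
    rfl)
  by_cases hx0 : x = 0
  · subst hx0
    rw [Algebra.norm_zero, ord_zero, mul_zero]
    symm
    apply Finset.sum_eq_zero
    intro Q _
    rw [ord_zero, mul_zero]
  have halgK : IsAlgebraic K x := (IsIntegral.of_finite K x).isAlgebraic
  have halg : IsAlgebraic P.O x := (IsFractionRing.isAlgebraic_iff P.O K K').mpr halgK
  obtain ⟨a, ha0, haint⟩ := halg.exists_integral_multiple
  have ha0' : ((a : P.O) : K) ≠ 0 := fun h => ha0 (Subtype.ext h)
  set a' : K' := algebraMap K K' (a : K) with ha'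
  have ha'0 : a' ≠ 0 := (map_ne_zero_iff _ (algebraMap K K').injective).mpr ha0'
  have ha'int : IsIntegral P.O a' := isIntegral_algebraMap (x := a)
  have hb : a • x = a' * x := by rw [Algebra.smul_def]; rfl
  rw [hb] at haint
  have hb0 : a' * x ≠ 0 := mul_ne_zero ha'0 hx0
  have h1 := deg_mul_ord_norm_of_isIntegral hK P Qs hQs haint hb0
  have h2 := deg_mul_ord_norm_of_isIntegral hK P Qs hQs ha'int ha'0
  have hNa : Algebra.norm K a' ≠ 0 := by rw [Ne, Algebra.norm_eq_zero_iff]; exact ha'0
  have hNx : Algebra.norm K x ≠ 0 := by rw [Ne, Algebra.norm_eq_zero_iff]; exact hx0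
  rw [map_mul, ord_mul P hNa hNx] at h1
  have h3 : ∑ Q ∈ Qs, (Q.deg : ℤ) * Q.ord (a' * x) =
      ∑ Q ∈ Qs, (Q.deg : ℤ) * Q.ord a' + ∑ Q ∈ Qs, (Q.deg : ℤ) * Q.ord x := by
    rw [← Finset.sum_add_distrib]
    apply Finset.sum_congr rfl
    intro Q _
    rw [ord_mul Q ha'0 hx0]
    ring
  rw [h3, mul_add, h2] at h1
  linarith

end norm

end Groth.Agent.FF.Ext
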