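import Groth.Agent.FunFld.Weierstrass

/-!
# Elements with distinct orders at a place are linearly independent
-/

set_option autoImplicit false

open FunFld IntermediateField Polynomial WithZero

namespace Groth.Agent.FF

universe u v
variable {k : Type u} {K : Type v} [Field k] [Field K] [Algebra k K]

/-- nonzero elements with pairwise distinct orders at a place are linearly independent -/
lemma linearIndependent_of_ord_injective {ι : Type*} [Fintype ι] (P : Place k K) (u : ι → K)
    (hu : ∀ i, u i ≠ 0) (hinj : Function.Injective (fun i => P.ord (u i))) :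
    LinearIndependent k u := by
  classical
  rw [Fintype.linearIndependent_iff]
  intro c hc
  by_contra hne
  rw [not_forall] at hne
  obtain ⟨j, hj⟩ := hne
  have hS : (Finset.univ.filter (fun i => c i ≠ 0)).Nonempty :=
    ⟨j, Finset.mem_filter.mpr ⟨Finset.mem_univ j, hj⟩⟩
  obtain ⟨i₀, hi₀S, hmin⟩ :=
    Finset.exists_min_image (Finset.univ.filter (fun i => c i ≠ 0)) (fun i => P.ord (u i)) hS
  have hci₀ : c i₀ ≠ 0 := (Finset.mem_filter.mp hi₀S).2
  have hne₀ : c i₀ • u i₀ ≠ 0 := smul_ne_zero hci₀ (hu i₀)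
  have hpos : 0 < P.1 (c i₀ • u i₀) := by
    rw [val_eq_exp_neg_ord P hne₀]; exact exp_pos
  have hval : ∀ i, i ≠ i₀ → P.1 (c i • u i) < P.1 (c i₀ • u i₀) := by
    intro i hi
    by_cases hci : c i = 0
    · rw [hci, zero_smul, map_zero]; exact hpos
    · have h1 : P.ord (u i₀) ≤ P.ord (u i) :=
        hmin i (Finset.mem_filter.mpr ⟨Finset.mem_univ i, hci⟩)
      have h2 : P.ord (u i₀) ≠ P.ord (u i) := fun h => hi (hinj h).symm
      have h3 : P.ord (u i₀) < P.ord (u i) := lt_of_le_of_ne h1 h2
      rw [val_eq_exp_neg_ord P (smul_ne_zero hci (hu i)), val_eq_exp_neg_ord P hne₀,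
        ord_smul P hci, ord_smul P hci₀, exp_lt_exp]
      omega
  have hsum : ∑ i, c i • u i = c i₀ • u i₀ + ∑ i ∈ Finset.univ.erase i₀, c i • u i :=
    (Finset.add_sum_erase _ _ (Finset.mem_univ i₀)).symm
  have hlt : P.1 (∑ i ∈ Finset.univ.erase i₀, c i • u i) < P.1 (c i₀ • u i₀) :=
    Valuation.map_sum_lt' _ hpos (fun i hi => hval i (Finset.ne_of_mem_erase hi))
  have h4 := P.1.map_add_eq_of_lt_left hlt
  rw [← hsum, hc, map_zero] at h4
  exact (ne_of_gt hpos) h4.symm

end Groth.Agent.FF

namespace Groth.Agent.FF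

universe u v
variable {k : Type u} {K : Type v} [Field k] [Field K] [Algebra k K]

/-- basis of `L(nP)` on a curve of genus one from a double-pole and a triple-pole function -/
theorem basis_L_genus_one (hK : IsFunctionField k K) (hgen : genus k K = 1)
    (P : Place k K) (hP : P.deg = 1) (f g : K)
    (hf : f ∈ L (Finsupp.single P 2 : Divisor k K)) (hf2 : P.ord f = -2)
    (hg : g ∈ L (Finsupp.single P 3 : Divisor k K)) (hg3 : P.ord g = -3) (n : ℕ) (hn : 2 ≤ n) :
    LinearIndependent k
        (Sum.elim (fun i : Fin (n / 2 + 1) => f ^ (i : ℕ)) (fun i : Fin ((n - 1) / 2) => f ^ (i : ℕ) * g)) ∧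
      Submodule.span k (Set.range
        (Sum.elim (fun i : Fin (n / 2 + 1) => f ^ (i : ℕ)) (fun i : Fin ((n - 1) / 2) => f ^ (i : ℕ) * g))) =
        L (Finsupp.single P (n : ℤ) : Divisor k K) := by
  classical
  have hf0 : f ≠ 0 := by
    rintro rfl
    rw [ord_zero] at hf2; omega
  have hg0 : g ≠ 0 := by
    rintro rfl
    rw [ord_zero] at hg3; omega
  set u : Fin (n / 2 + 1) ⊕ Fin ((n - 1) / 2) → K :=
    Sum.elim (fun i : Fin (n / 2 + 1) => f ^ (i : ℕ)) (fun i : Fin ((n - 1) / 2) => f ^ (i : ℕ) * g)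
    with hu
  have hu0 : ∀ i, u i ≠ 0 := by
    rintro (i | i)
    · exact pow_ne_zero _ hf0
    · exact mul_ne_zero (pow_ne_zero _ hf0) hg0
  have hord : ∀ i, P.ord (u i) = Sum.elim (fun i : Fin (n / 2 + 1) => -(2 * (i : ℕ) : ℤ))
      (fun i : Fin ((n - 1) / 2) => -(2 * (i : ℕ) + 3 : ℤ)) i := by
    rintro (i | i)
    · change P.ord (f ^ (i : ℕ)) = _
      rw [ord_pow, hf2]; simp; ring
    · change P.ord (f ^ (i : ℕ) * g) = _
      rw [ord_mul P (pow_ne_zero _ hf0) hg0, ord_pow, hf2, hg3]; simp; ring
  have hinj : Function.Injective (fun i => P.ord (u i)) := by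
    intro i j hij
    simp only [hord] at hij
    rcases i with i | i <;> rcases j with j | j <;> simp only [Sum.elim_inl, Sum.elim_inr] at hij
    · congr 1; apply Fin.ext; omega
    · omega
    · omega
    · congr 1; apply Fin.ext; omega
  have hli := linearIndependent_of_ord_injective P u hu0 hinj
  refine ⟨hli, ?_⟩
  have hmem : ∀ i, u i ∈ L (Finsupp.single P (n : ℤ) : Divisor k K) := by
    rintro (i | i)
    · have h1 := pow_mem_L hf (i : ℕ)
      refine L_mono ?_ h1
      rw [Finsupp.smul_single]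
      apply single_le_single'
      have := i.2
      rw [nsmul_eq_mul]
      omega
    · have h1 := mul_mem_L (pow_mem_L hf (i : ℕ)) hg
      refine L_mono ?_ h1
      rw [Finsupp.smul_single, ← Finsupp.single_add]
      apply single_le_single'
      have := i.2
      rw [nsmul_eq_mul]
      omega
  have hle : Submodule.span k (Set.range u) ≤ L (Finsupp.single P (n : ℤ) : Divisor k K) := by
    rw [Submodule.span_le]
    rintro _ ⟨i, rfl⟩
    exact hmem i
  have hfin := finite_L hK (Finsupp.single P (n : ℤ) : Divisor k K)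
  apply Submodule.eq_of_le_of_finrank_eq hle
  rw [finrank_span_eq_card hli, Fintype.card_sum, Fintype.card_fin, Fintype.card_fin]
  have hell := ell_single_of_genus_one hK hgen hP (n := n) (by omega)
  unfold ell at hell
  rw [hell]
  omega

end Groth.Agent.FF
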