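import Mathlib

/-!
# Unit roots of monic integer polynomials in `PadicAlgCl p`

For a monic `P : ℤ[X]` of degree `n`, let `u` be the number of roots of `P` in `PadicAlgCl p`
(with multiplicity) which have norm `1`.  Then `u ≤ n`, `p ∤ P.coeff (n - u)` and `p ∣ P.coeff k`
for all `k < n - u`.  (This is the "slope zero" part of the Newton polygon, proved directly
with ultrametric estimates on the factorisation `P = ∏ (X - a)`.)
-/

set_option autoImplicit false

open Polynomial

namespace Groth.Agent.FunFld.PadicUnitRoots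

section Ultra

variable {L : Type*} [NormedField L] [IsUltrametricDist L]

lemma norm_sub_le_max' (x y : L) : ‖x - y‖ ≤ max ‖x‖ ‖y‖ := by
  have := IsUltrametricDist.norm_add_le_max x (-y)
  rwa [norm_neg, ← sub_eq_add_neg] at this

/-- The monic polynomial with prescribed multiset of roots. -/
noncomputable def prodX (M : Multiset L) : L[X] := (M.map (fun a => X - C a)).prod

omit [IsUltrametricDist L] in
lemma prodX_zero : prodX (0 : Multiset L) = 1 := by simp [prodX]

omit [IsUltrametricDist L] in
lemma prodX_cons (a : L) (M : Multiset L) : prodX (a ::ₘ M) = (X - C a) * prodX M := by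
  simp [prodX]

omit [IsUltrametricDist L] in
lemma prodX_add (M N : Multiset L) : prodX (M + N) = prodX M * prodX N := by
  simp [prodX]

omit [IsUltrametricDist L] in
lemma prodX_monic (M : Multiset L) : (prodX M).Monic :=
  monic_multiset_prod_of_monic _ _ fun a _ => monic_X_sub_C a

omit [IsUltrametricDist L] in
lemma prodX_natDegree (M : Multiset L) : (prodX M).natDegree = Multiset.card M :=
  natDegree_multiset_prod_X_sub_C_eq_card M

omit [IsUltrametricDist L] in
lemma prodX_cons_coeff_zero (a : L) (M : Multiset L) :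
    (prodX (a ::ₘ M)).coeff 0 = -(a * (prodX M).coeff 0) := by
  rw [prodX_cons, mul_coeff_zero, coeff_sub, coeff_X_zero, coeff_C_zero, zero_sub, neg_mul]

omit [IsUltrametricDist L] in
lemma prodX_cons_coeff_succ (a : L) (M : Multiset L) (k : ℕ) :
    (prodX (a ::ₘ M)).coeff (k + 1) = (prodX M).coeff k - a * (prodX M).coeff (k + 1) := by
  rw [prodX_cons, sub_mul, coeff_sub, coeff_X_mul, coeff_C_mul]

lemma coeff_le_one (M : Multiset L) (h : ∀ a ∈ M, ‖a‖ ≤ 1) : ∀ k, ‖(prodX M).coeff k‖ ≤ 1 := by
  induction M using Multiset.induction_on with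
  | empty =>
    intro k
    rw [prodX_zero, coeff_one]
    split_ifs <;> simp
  | cons a M ih =>
    have ihM := ih (fun b hb => h b (Multiset.mem_cons_of_mem hb))
    have ha := h a (Multiset.mem_cons_self a M)
    intro k
    cases k with
    | zero =>
      rw [prodX_cons_coeff_zero, norm_neg, norm_mul]
      exact mul_le_one₀ ha (norm_nonneg _) (ihM 0)
    | succ k =>
      rw [prodX_cons_coeff_succ]
      refine (norm_sub_le_max' _ _).trans (max_le (ihM k) ?_)
      rw [norm_mul]
      exact mul_le_one₀ ha (norm_nonneg _) (ihM (k + 1))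

omit [IsUltrametricDist L] in
lemma coeff_zero_eq_one (M : Multiset L) (h : ∀ a ∈ M, ‖a‖ = 1) : ‖(prodX M).coeff 0‖ = 1 := by
  induction M using Multiset.induction_on with
  | empty => simp [prodX_zero]
  | cons a M ih =>
    rw [prodX_cons_coeff_zero, norm_neg, norm_mul, h a (Multiset.mem_cons_self a M),
      ih (fun b hb => h b (Multiset.mem_cons_of_mem hb)), one_mul]

lemma coeff_lt_one (M : Multiset L) (h : ∀ a ∈ M, ‖a‖ < 1) :
    ∀ k < Multiset.card M, ‖(prodX M).coeff k‖ < 1 := by
  induction M using Multiset.induction_on with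
  | empty => intro k hk; simp at hk
  | cons a M ih =>
    have hM : ∀ b ∈ M, ‖b‖ < 1 := fun b hb => h b (Multiset.mem_cons_of_mem hb)
    have ihM := ih hM
    have hle := coeff_le_one M (fun b hb => (hM b hb).le)
    have ha := h a (Multiset.mem_cons_self a M)
    have hsmall : ∀ j, ‖a * (prodX M).coeff j‖ < 1 := by
      intro j
      rw [norm_mul]
      calc ‖a‖ * ‖(prodX M).coeff j‖ ≤ ‖a‖ * 1 :=
            mul_le_mul_of_nonneg_left (hle j) (norm_nonneg _)
        _ < 1 := by rw [mul_one]; exact ha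
    intro k hk
    rw [Multiset.card_cons] at hk
    cases k with
    | zero =>
      rw [prodX_cons_coeff_zero, norm_neg]
      exact hsmall 0
    | succ k =>
      rw [prodX_cons_coeff_succ]
      exact lt_of_le_of_lt (norm_sub_le_max' _ _) (max_lt (ihM k (by omega)) (hsmall (k + 1)))

/-- Coefficients below `card V` of `∏_{U}(X-a) * ∏_{V}(X-b)` are small when the `b ∈ V` are. -/
lemma coeff_mul_lt (U V : Multiset L) (hU : ∀ a ∈ U, ‖a‖ = 1) (hV : ∀ a ∈ V, ‖a‖ < 1)
    (k : ℕ) (hk : k < Multiset.card V) : ‖(prodX U * prodX V).coeff k‖ < 1 := by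
  rw [coeff_mul]
  obtain ⟨x, hx, hle⟩ := IsUltrametricDist.exists_norm_finsetSum_le_of_nonempty
    (t := Finset.HasAntidiagonal.antidiagonal k) ⟨(0, k), by simp⟩
    (fun x => (prodX U).coeff x.1 * (prodX V).coeff x.2)
  refine lt_of_le_of_lt hle ?_
  rw [norm_mul]
  have h1 := coeff_le_one U (fun a ha => (hU a ha).le) x.1
  have hx' := Finset.HasAntidiagonal.mem_antidiagonal.mp hx
  have h2 := coeff_lt_one V hV x.2 (by omega)
  calc ‖(prodX U).coeff x.1‖ * ‖(prodX V).coeff x.2‖ ≤ 1 * ‖(prodX V).coeff x.2‖ :=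
        mul_le_mul_of_nonneg_right h1 (norm_nonneg _)
    _ < 1 := by rw [one_mul]; exact h2

/-- The coefficient of index `card V` of `∏_{U}(X-a) * ∏_{V}(X-b)` is a unit. -/
lemma coeff_mul_not_lt (U V : Multiset L) (hU : ∀ a ∈ U, ‖a‖ = 1) (hV : ∀ a ∈ V, ‖a‖ < 1) :
    ¬ ‖(prodX U * prodX V).coeff (Multiset.card V)‖ < 1 := by
  intro hlt
  set m := Multiset.card V with hm
  rw [coeff_mul] at hlt
  have hmem : ((0, m) : ℕ × ℕ) ∈ Finset.HasAntidiagonal.antidiagonal m := by simp
  rw [← Finset.add_sum_erase _ _ hmem] at hlt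
  have hVm : (prodX V).coeff m = 1 := by
    have := (prodX_monic V).coeff_natDegree
    rwa [prodX_natDegree] at this
  have hrest : ‖∑ x ∈ (Finset.HasAntidiagonal.antidiagonal m).erase (0, m),
      (prodX U).coeff x.1 * (prodX V).coeff x.2‖ < 1 := by
    rcases ((Finset.HasAntidiagonal.antidiagonal m).erase (0, m)).eq_empty_or_nonempty with h | h
    · rw [h, Finset.sum_empty, norm_zero]; exact one_pos
    · obtain ⟨x, hx, hle⟩ := IsUltrametricDist.exists_norm_finsetSum_le_of_nonempty h
        (fun x => (prodX U).coeff x.1 * (prodX V).coeff x.2)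
      refine lt_of_le_of_lt hle ?_
      obtain ⟨hne, hxa⟩ := Finset.mem_erase.mp hx
      have hx' := Finset.HasAntidiagonal.mem_antidiagonal.mp hxa
      have hx2 : x.2 < m := by
        rcases Nat.lt_or_ge x.2 m with h' | h'
        · exact h'
        · exfalso
          apply hne
          have h1 : x.1 = 0 := by omega
          have h2 : x.2 = m := by omega
          exact Prod.ext h1 h2
      rw [norm_mul]
      have h1 := coeff_le_one U (fun a ha => (hU a ha).le) x.1
      have h2 := coeff_lt_one V hV x.2 hx2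
      calc ‖(prodX U).coeff x.1‖ * ‖(prodX V).coeff x.2‖ ≤ 1 * ‖(prodX V).coeff x.2‖ :=
            mul_le_mul_of_nonneg_right h1 (norm_nonneg _)
        _ < 1 := by rw [one_mul]; exact h2
  have hG : ‖(prodX U).coeff 0‖ < 1 := by
    have e : (prodX U).coeff 0 =
        ((prodX U).coeff (0, m).1 * (prodX V).coeff (0, m).2 +
          ∑ x ∈ (Finset.HasAntidiagonal.antidiagonal m).erase (0, m),
            (prodX U).coeff x.1 * (prodX V).coeff x.2) -
          ∑ x ∈ (Finset.HasAntidiagonal.antidiagonal m).erase (0, m),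
            (prodX U).coeff x.1 * (prodX V).coeff x.2 := by
      simp only [hVm]
      ring
    rw [e]
    exact lt_of_le_of_lt (norm_sub_le_max' _ _) (max_lt hlt hrest)
  rw [coeff_zero_eq_one U hU] at hG
  exact lt_irrefl _ hG

end Ultra

section Padic

variable (p : ℕ) [Fact p.Prime]

lemma norm_intCast_lt_one_iff (a : ℤ) : ‖(a : PadicAlgCl p)‖ < 1 ↔ (p : ℤ) ∣ a := by
  have h : (a : PadicAlgCl p) = algebraMap ℚ_[p] (PadicAlgCl p) (a : ℚ_[p]) := by
    rw [map_intCast]
  rw [h, PadicAlgCl.norm_extends, Padic.norm_intCast_lt_one_iff]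

lemma norm_le_one_of_isIntegral {x : PadicAlgCl p} (hx : IsIntegral ℤ x) : ‖x‖ ≤ 1 := by
  have h1 : IsIntegral ((Valued.v : Valuation (PadicAlgCl p) NNReal).integer) x :=
    hx.tower_top
  have h2 := (Valuation.integer.integers (Valued.v : Valuation (PadicAlgCl p) NNReal)).mem_of_integral h1
  have h3 : (Valued.v x : NNReal) ≤ 1 := h2
  rw [PadicAlgCl.valuation_def] at h3
  exact_mod_cast h3

/-- Main lemma. -/
theorem main (P : ℤ[X]) (hP : P.Monic) [DecidablePred fun z : PadicAlgCl p => ‖z‖ = 1] :
    Multiset.card ((P.aroots (PadicAlgCl p)).filter (fun z => ‖z‖ = 1)) ≤ P.natDegree ∧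
      ¬ ((p : ℤ) ∣ P.coeff (P.natDegree -
          Multiset.card ((P.aroots (PadicAlgCl p)).filter (fun z => ‖z‖ = 1)))) ∧
      ∀ k < P.natDegree -
          Multiset.card ((P.aroots (PadicAlgCl p)).filter (fun z => ‖z‖ = 1)),
        (p : ℤ) ∣ P.coeff k := by
  set Q : (PadicAlgCl p)[X] := P.map (algebraMap ℤ (PadicAlgCl p)) with hQ
  have hQm : Q.Monic := hP.map _
  have hQd : Q.natDegree = P.natDegree := hP.natDegree_map _
  have hsp : Q.Splits := IsAlgClosed.splits Q
  have hR : P.aroots (PadicAlgCl p) = Q.roots := rfl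
  have hQe : Q = prodX Q.roots := hsp.eq_prod_roots_of_monic hQm
  have hcard : Multiset.card Q.roots = P.natDegree := by
    rw [← hsp.natDegree_eq_card_roots, hQd]
  rw [hR]
  set U := Q.roots.filter (fun z => ‖z‖ = 1) with hUdef
  set V := Q.roots.filter (fun z => ¬ ‖z‖ = 1) with hVdef
  have hUV : U + V = Q.roots := Multiset.filter_add_not _ _
  have hU : ∀ a ∈ U, ‖a‖ = 1 := fun a ha => (Multiset.mem_filter.mp ha).2
  have hV : ∀ a ∈ V, ‖a‖ < 1 := by
    intro a ha
    obtain ⟨har, hne⟩ := Multiset.mem_filter.mp ha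
    have hroot : aeval a P = 0 := by
      have := (mem_roots hQm.ne_zero).mp har
      rwa [IsRoot.def, hQ, eval_map_algebraMap] at this
    have hint : IsIntegral ℤ a := ⟨P, hP, by rw [← aeval_def]; exact hroot⟩
    exact lt_of_le_of_ne (norm_le_one_of_isIntegral p hint) hne
  have hcUV : Multiset.card U + Multiset.card V = P.natDegree := by
    rw [← Multiset.card_add, hUV, hcard]
  have hm : P.natDegree - Multiset.card U = Multiset.card V := by omega
  have hQe' : Q = prodX U * prodX V := by rw [← prodX_add, hUV]; exact hQe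
  have hcoeff : ∀ k, ‖(P.coeff k : PadicAlgCl p)‖ = ‖(prodX U * prodX V).coeff k‖ := by
    intro k
    rw [← hQe', hQ, coeff_map, eq_intCast]
  refine ⟨by omega, ?_, ?_⟩
  · rw [hm, ← norm_intCast_lt_one_iff p, hcoeff]
    exact coeff_mul_not_lt U V hU hV
  · intro k hk
    rw [hm] at hk
    rw [← norm_intCast_lt_one_iff p, hcoeff]
    exact coeff_mul_lt U V hU hV k hk

end Padic

end Groth.Agent.FunFld.PadicUnitRoots
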