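import Groth.Agent.FunFld.PlaceOfVal

/-!
# Places are determined by their valuation rings; existence of zeros and poles
-/

set_option autoImplicit false

open FunFld IntermediateField Polynomial WithZero

namespace Groth.Agent.FF

universe u v
variable {k : Type u} {K : Type v} [Field k] [Field K] [Algebra k K]

/-- Two places with the same "integers" are equal. -/
theorem place_ext_of_le_one_iff (P Q : Place k K) (h : ∀ x : K, P.1 x ≤ 1 ↔ Q.1 x ≤ 1) :
    P = Q := by
  have heq : P.1.IsEquiv Q.1 := Valuation.isEquiv_of_val_le_one h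
  have h1 : ∀ {x : K}, P.1 x = 1 ↔ Q.1 x = 1 := Valuation.isEquiv_iff_val_eq_one.mp heq
  have hlt : ∀ {x : K}, P.1 x < 1 ↔ Q.1 x < 1 := Valuation.isEquiv_iff_val_lt_one.mp heq
  -- unit iff: ord P x = 0 ↔ ord Q x = 0
  have hunit : ∀ {x : K}, x ≠ 0 → (P.ord x = 0 ↔ Q.ord x = 0) := by
    intro x hx
    rw [← val_eq_one_iff P hx, ← val_eq_one_iff Q hx]; exact h1
  obtain ⟨t, ht0, ht⟩ := exists_ord_eq P 1
  obtain ⟨s, hs0, hs⟩ := exists_ord_eq Q 1
  -- ord_Q t = 1
  have htQpos : 0 < Q.ord t := by
    rw [← val_lt_one_iff Q ht0, ← hlt, val_lt_one_iff P ht0, ht]; exact one_pos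
  have hsPpos : 0 < P.ord s := by
    rw [← val_lt_one_iff P hs0, hlt, val_lt_one_iff Q hs0, hs]; exact one_pos
  have htQ : Q.ord t = 1 := by
    -- consider s ^ (ord_Q t) / t, a Q-unit
    set m := Q.ord t with hm
    have hne : s ^ m / t ≠ 0 := div_ne_zero (zpow_ne_zero _ hs0) ht0
    have hQ0 : Q.ord (s ^ m / t) = 0 := by
      rw [ord_div Q (zpow_ne_zero _ hs0) ht0, ord_zpow, hs]; ring
    have hP0 : P.ord (s ^ m / t) = 0 := (hunit hne).mpr hQ0
    rw [ord_div P (zpow_ne_zero _ hs0) ht0, ord_zpow, ht] at hP0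
    -- m * ord_P s = 1 with m, ord_P s positive
    have h1 : m * P.ord s = 1 := by linarith
    have := Int.eq_one_of_mul_eq_one_right htQpos.le h1
    exact this
  -- now ord_P = ord_Q everywhere
  have hord : ∀ x : K, x ≠ 0 → P.ord x = Q.ord x := by
    intro x hx
    set n := P.ord x with hn
    have hne : x / t ^ n ≠ 0 := div_ne_zero hx (zpow_ne_zero _ ht0)
    have hP0 : P.ord (x / t ^ n) = 0 := by
      rw [ord_div P hx (zpow_ne_zero _ ht0), ord_zpow, ht]; ring
    have hQ0 : Q.ord (x / t ^ n) = 0 := (hunit hne).mp hP0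
    rw [ord_div Q hx (zpow_ne_zero _ ht0), ord_zpow, htQ] at hQ0
    linarith
  apply Subtype.ext
  ext x
  by_cases hx : x = 0
  · simp [hx]
  · rw [val_eq_exp_neg_ord P hx, val_eq_exp_neg_ord Q hx, hord x hx]

theorem place_ext_of_O_eq (P Q : Place k K) (h : P.O = Q.O) : P = Q := by
  apply place_ext_of_le_one_iff
  intro x
  change x ∈ P.O ↔ x ∈ Q.O
  rw [h]

theorem place_O_injective : Function.Injective (fun P : Place k K => P.O) :=
  fun P Q h => place_ext_of_O_eq P Q h

lemma place_O_ne_top (P : Place k K) : P.O ≠ ⊤ := by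
  intro h
  obtain ⟨t, ht0, ht⟩ := exists_ord_eq P (-1)
  have : t ∈ P.O := by rw [h]; exact ValuationSubring.mem_top t
  rw [mem_O_iff, val_le_one_iff P ht0, ht] at this
  omega

/-- Existence of a place containing a given subalgebra with a given proper ideal in its maximal
ideal. -/
theorem exists_place_of_ideal (hK : IsFunctionField k K) (A : Subalgebra k K) (I : Ideal A)
    (hI : I ≠ ⊤) (hne : ∃ a ∈ I, a ≠ 0) :
    ∃ P : Place k K, (∀ a ∈ A, P.1 a ≤ 1) ∧ ∀ a ∈ I, P.1 (a : K) < 1 := by
  obtain ⟨V, hAV, hIV⟩ := Ideal.image_subset_nonunits_valuationSubring (A := A.toSubring) I hI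
  have hkV : ∀ c : k, algebraMap k K c ∈ V := fun c => hAV (A.algebraMap_mem c)
  have hVtop : V ≠ ⊤ := by
    rintro rfl
    obtain ⟨a, haI, ha0⟩ := hne
    have : (a : K) ∈ (⊤ : ValuationSubring K).nonunits := hIV ⟨a, haI, rfl⟩
    rw [ValuationSubring.mem_nonunits_iff_or] at this
    rcases this with h | h
    · exact ha0 (Subtype.ext h)
    · exact h (ValuationSubring.mem_top _)
  obtain ⟨P, hP⟩ := exists_place_of_valuationSubring V hkV hK hVtop
  refine ⟨P, fun a ha => ?_, fun a ha => ?_⟩
  · have : a ∈ P.O := by rw [hP]; exact hAV ha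
    exact this
  · have hmem : (a : K) ∈ V.nonunits := hIV ⟨a, ha, rfl⟩
    rw [ValuationSubring.mem_nonunits_iff_or] at hmem
    rcases hmem with h | h
    · rw [h]; simp
    · by_contra hge
      push Not at hge
      apply h
      have ha0 : (a : K) ≠ 0 := by
        intro h0; rw [h0, map_zero] at hge; exact absurd hge (by simp)
      have : (a : K)⁻¹ ∈ P.O := by
        rw [mem_O_iff, map_inv₀]
        exact inv_le_one_of_one_le₀ hge
      rwa [hP] at this

/-- A transcendental element has a zero. -/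
theorem exists_zero_of_transcendental (hK : IsFunctionField k K) {x : K}
    (hx : Transcendental k x) : ∃ P : Place k K, 0 < P.ord x := by
  have hx0 : x ≠ 0 := by
    rintro rfl
    exact hx (isAlgebraic_zero)
  let A : Subalgebra k K := Algebra.adjoin k {x}
  let xA : A := ⟨x, Algebra.self_mem_adjoin_singleton k x⟩
  have hI : Ideal.span {xA} ≠ ⊤ := by
    intro htop
    rw [Ideal.span_singleton_eq_top] at htop
    obtain ⟨⟨b, hb⟩, hmul⟩ := htop.exists_right_inv
    have hmul' : x * b = 1 := congrArg Subtype.val hmul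
    have hb' : b ∈ (aeval x : k[X] →ₐ[k] K).range := by
      rw [← Algebra.adjoin_singleton_eq_range_aeval]; exact hb
    obtain ⟨p, rfl⟩ := hb'
    have hmul'' : x * aeval x p = 1 := hmul'
    have : aeval x (X * p - 1) = 0 := by simp [hmul'']
    have hp0 : X * p - 1 = 0 := by
      by_contra hne
      exact hx ⟨_, hne, this⟩
    have := congrArg (fun q => Polynomial.coeff q 0) hp0
    simp at this
  obtain ⟨P, -, hP⟩ := exists_place_of_ideal hK A (Ideal.span {xA}) hI
    ⟨xA, Ideal.subset_span rfl, fun h => hx0 (congrArg Subtype.val h)⟩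
  refine ⟨P, ?_⟩
  rw [← val_lt_one_iff P hx0]
  exact hP xA (Ideal.subset_span rfl)

theorem exists_pole_of_transcendental (hK : IsFunctionField k K) {x : K}
    (hx : Transcendental k x) : ∃ P : Place k K, P.ord x < 0 := by
  have hx' : Transcendental k x⁻¹ := by
    intro h; exact hx (by simpa using h.inv)
  obtain ⟨P, hP⟩ := exists_zero_of_transcendental hK hx'
  refine ⟨P, ?_⟩
  rw [ord_inv] at hP
  linarith

end Groth.Agent.FF
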