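import Groth.Agent.FunFld.PolyIndep

/-!
# Valuation subrings of a function field containing `k` are discrete: existence of places
-/

set_option autoImplicit false

open FunFld IntermediateField Polynomial

namespace Groth.Agent.FF

universe u v
variable {k : Type u} {K : Type v} [Field k] [Field K] [Algebra k K]

section
variable {Γ₀ : Type*} [LinearOrderedCommGroupWithZero Γ₀]
variable (w : Valuation K Γ₀) (hw : ∀ c : k, w (algebraMap k K c) ≤ 1)
include hw

lemma transcendental_of_gval_lt_one (hK : IsFunctionField k K) {x : K} (hx0 : x ≠ 0)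
    (hx : w x < 1) : Transcendental k x := by
  intro halg
  obtain ⟨c, rfl⟩ := hK.2 x halg
  have hc : c ≠ 0 := by rintro rfl; simp at hx0
  rw [gval_algebraMap w hw hc] at hx
  exact lt_irrefl _ hx

/-- Length bound for chains of values in `[w x, 1)`. -/
theorem chain_length_le (hK : IsFunctionField k K) {x : K} (hx0 : x ≠ 0) (hx : w x < 1) {n : ℕ}
    (y : Fin n → K) (hmono : StrictMono fun i => w (y i)) (hlow : ∀ i, w x ≤ w (y i))
    (hup : ∀ i, w (y i) < 1) : n ≤ Module.finrank (adjoin k ({x} : Set K)) K := by
  have htr := transcendental_of_gval_lt_one w hw hK hx0 hx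
  have := card_le_finrank_of_poly hK htr y
    (fun φ hφ => chain_lemma w hw hx0 hx y hmono hlow hup φ hφ)
  simpa using this

end

section
variable (V : ValuationSubring K) (hkV : ∀ c : k, algebraMap k K c ∈ V)
include hkV

lemma valuationSubring_val_le (c : k) : V.valuation (algebraMap k K c) ≤ 1 :=
  (V.valuation_le_one_iff _).mpr (hkV c)

theorem isPrincipalIdealRing_valuationSubring (hK : IsFunctionField k K) :
    IsPrincipalIdealRing V := by
  classical
  have hw := valuationSubring_val_le V hkV
  constructor
  intro I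
  by_cases hI : I = ⊥
  · subst hI; exact bot_isPrincipal
  obtain ⟨x₁, hx₁I, hx₁0⟩ := Submodule.exists_mem_ne_zero_of_ne_bot hI
  by_cases hunit : IsUnit x₁
  · have : I = ⊤ := Ideal.eq_top_of_isUnit_mem I hx₁I hunit
    subst this; exact top_isPrincipal
  have hx₁K : (x₁ : K) ≠ 0 := fun h => hx₁0 (Subtype.ext h)
  have hv1 : V.valuation (x₁ : K) < 1 := by
    rcases V.valuation_lt_one_or_eq_one x₁ with h | h
    · exact h
    · exact absurd ((V.valuation_eq_one_iff x₁).mpr h) hunit
  set N := Module.finrank (adjoin k ({(x₁ : K)} : Set K)) K with hN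
  let T : Set V.ValueGroup :=
    {γ | ∃ y ∈ I, V.valuation (y : K) = γ ∧ V.valuation (x₁ : K) ≤ γ}
  have hTfin : T.Finite := by
    by_contra hinf
    obtain ⟨s, hsT, hscard⟩ := (Set.not_finite.mp hinf).exists_subset_card_eq (N + 2)
    let e := s.orderEmbOfFin hscard
    have heT : ∀ i, e i ∈ T := fun i => hsT (Finset.orderEmbOfFin_mem s hscard i)
    choose y hyI hyv hyx using heT
    have hle1 : ∀ i, e i ≤ 1 := fun i => by
      rw [← hyv i]; exact V.valuation_le_one (y i)
    let y' : Fin (N + 1) → K := fun i => (y (Fin.castSucc i) : K)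
    have hy'v : ∀ i, V.valuation (y' i) = e (Fin.castSucc i) := fun i => hyv _
    have h1 : StrictMono fun i => V.valuation (y' i) := by
      intro i j hij
      simp only [hy'v]
      exact e.strictMono (Fin.castSucc_lt_castSucc_iff.mpr hij)
    have h2 : ∀ i, V.valuation (x₁ : K) ≤ V.valuation (y' i) := fun i => by
      rw [hy'v]; exact hyx _
    have h3 : ∀ i, V.valuation (y' i) < 1 := fun i => by
      rw [hy'v]
      exact lt_of_lt_of_le (e.strictMono (Fin.castSucc_lt_last i)) (hle1 _)
    have := chain_length_le V.valuation hw hK hx₁K hv1 y' h1 h2 h3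
    omega
  have hTne : T.Nonempty := ⟨V.valuation (x₁ : K), x₁, hx₁I, rfl, le_rfl⟩
  obtain ⟨γ, hγT, hγmax⟩ := Set.exists_max_image T id hTfin hTne
  obtain ⟨y, hyI, hyγ, hyx⟩ := hγT
  refine ⟨⟨y, ?_⟩⟩
  apply le_antisymm
  · intro z hz
    have hzy : V.valuation (z : K) ≤ V.valuation (y : K) := by
      by_cases hzx : V.valuation (x₁ : K) ≤ V.valuation (z : K)
      · rw [hyγ]
        exact hγmax _ ⟨z, hz, rfl, hzx⟩
      · rw [hyγ]
        exact (lt_of_not_ge hzx).le.trans hyx
    obtain ⟨a, ha⟩ := (V.valuation_le_iff _ _).mp hzy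
    have : z = a * y := Subtype.ext ha.symm
    rw [this]
    exact Ideal.mul_mem_left _ _ (Ideal.subset_span rfl)
  · rw [Ideal.submodule_span_eq, Ideal.span_le]
    intro z hz
    rw [Set.mem_singleton_iff] at hz
    rw [hz]; exact hyI

theorem isDiscreteValuationRing_valuationSubring (hK : IsFunctionField k K) (hV : V ≠ ⊤) :
    IsDiscreteValuationRing V := by
  have := isPrincipalIdealRing_valuationSubring V hkV hK
  refine { not_a_field' := ?_ }
  intro hbot
  apply hV
  rw [eq_top_iff]
  intro x _
  rcases V.mem_or_inv_mem x with h | h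
  · exact h
  · by_cases hx0 : x = 0
    · rw [hx0]; exact V.zero_mem
    have hunit : IsUnit (⟨x⁻¹, h⟩ : V) := by
      by_contra hnu
      have hmem : (⟨x⁻¹, h⟩ : V) ∈ IsLocalRing.maximalIdeal V := hnu
      rw [hbot] at hmem
      have : (⟨x⁻¹, h⟩ : V) = 0 := hmem
      have h0 : x⁻¹ = 0 := congrArg Subtype.val this
      exact hx0 (inv_eq_zero.mp h0)
    obtain ⟨⟨a, ha⟩, hmul⟩ := hunit.exists_right_inv
    have hmul' : x⁻¹ * a = 1 := congrArg Subtype.val hmul
    have : a = x := by
      field_simp at hmul'
      exact hmul'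
    rw [← this]; exact ha

/-- Every proper valuation subring of a function field containing the constants is the valuation
ring of a place. -/
theorem exists_place_of_valuationSubring (hK : IsFunctionField k K) (hV : V ≠ ⊤) :
    ∃ P : Place k K, P.O = V := by
  have := isDiscreteValuationRing_valuationSubring V hkV hK hV
  let v := (IsDiscreteValuationRing.maximalIdeal V).valuation K
  have hVv : v.valuationSubring = V := by
    apply ValuationSubring.toSubring_injective
    rw [← IsDiscreteValuationRing.map_algebraMap_eq_valuationSubring]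
    ext x
    simp only [Subring.mem_map, Subring.mem_top, true_and]
    constructor
    · rintro ⟨a, rfl⟩; exact a.2
    · intro hx; exact ⟨⟨x, hx⟩, rfl⟩
  have hsurj : Function.Surjective v :=
    IsDedekindDomain.HeightOneSpectrum.valuation_surjective K _
  have hk1 : ∀ c : k, v (algebraMap k K c) ≤ 1 := by
    intro c
    have : algebraMap k K c ∈ v.valuationSubring := by rw [hVv]; exact hkV c
    exact this
  exact ⟨⟨v, hk1, hsurj⟩, hVv⟩

end

end Groth.Agent.FF
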