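import Groth.Agent.FunFld.Perfect

/-!
# Constant field extensions of geometric function fields
-/

set_option autoImplicit false

open FunFld IntermediateField Polynomial TensorProduct

namespace Groth.Agent.FF

universe u v

section
variable {k k' : Type u} {K K' : Type v} [Field k] [Field k'] [Field K] [Field K']
  [Algebra k k'] [Algebra k K] [Algebra K K'] [Algebra k' K'] [Algebra k K']
  [IsScalarTower k k' K'] [IsScalarTower k K K']

/-- the `k'`-linear version of the product map -/
noncomputable def prodMapLeft : k' ⊗[k] K →ₐ[k'] K' :=
  Algebra.TensorProduct.productLeftAlgHom (Algebra.ofId k' K') (IsScalarTower.toAlgHom k K K')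

lemma prodMapLeft_apply (t : k' ⊗[k] K) :
    (prodMapLeft : k' ⊗[k] K →ₐ[k'] K') t =
      Algebra.TensorProduct.productMap (IsScalarTower.toAlgHom k k' K')
        (IsScalarTower.toAlgHom k K K') t := by
  induction t using TensorProduct.induction_on with
  | zero => simp
  | tmul a b => rfl
  | add x y hx hy => rw [map_add, map_add, hx, hy]

lemma prodMapLeft_bijective
    (h : Function.Bijective (Algebra.TensorProduct.productMap
      (IsScalarTower.toAlgHom k k' K') (IsScalarTower.toAlgHom k K K'))) :
    Function.Bijective (prodMapLeft : k' ⊗[k] K →ₐ[k'] K') := by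
  have : ⇑(prodMapLeft : k' ⊗[k] K →ₐ[k'] K') =
      ⇑(Algebra.TensorProduct.productMap (IsScalarTower.toAlgHom k k' K')
        (IsScalarTower.toAlgHom k K K')) := funext prodMapLeft_apply
  rw [this]; exact h

theorem isGeometric_scalar_extension [FiniteDimensional k k']
    (h : Function.Bijective (Algebra.TensorProduct.productMap
      (IsScalarTower.toAlgHom k k' K') (IsScalarTower.toAlgHom k K K')))
    (hg : IsGeometric k K) : IsGeometric k' K' := by
  intro k'' _ _ hfin
  let : Algebra k k'' := ((algebraMap k' k'').comp (algebraMap k k')).toAlgebra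
  have : IsScalarTower k k' k'' := IsScalarTower.of_algebraMap_eq (fun _ => rfl)
  have : FiniteDimensional k k'' := Module.Finite.trans k' k''
  have hfield : IsField (k'' ⊗[k] K) := hg k'' inferInstance
  let e : k' ⊗[k] K ≃ₐ[k'] K' := AlgEquiv.ofBijective prodMapLeft (prodMapLeft_bijective h)
  let e1 : k'' ⊗[k'] K' ≃ₐ[k'] k'' ⊗[k'] (k' ⊗[k] K) :=
    Algebra.TensorProduct.congr AlgEquiv.refl e.symm
  let e2 : k'' ⊗[k'] (k' ⊗[k] K) ≃ₐ[k'] k'' ⊗[k] K :=
    Algebra.TensorProduct.cancelBaseChange k k' k' k'' K
  exact (e1.trans e2).toMulEquiv.isField hfield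

end

end Groth.Agent.FF

namespace Groth.Agent.FF

universe u v

/-- a geometric extension has algebraically closed base field -/
theorem mem_range_of_isAlgebraic_of_isGeometric {k : Type u} {K : Type v} [Field k] [Field K]
    [Algebra k K] (hg : IsGeometric k K) (y : K) (hy : IsAlgebraic k y) :
    y ∈ Set.range (algebraMap k K) := by
  have hint : IsIntegral k y := hy.isIntegral
  have hirr : Irreducible (minpoly k y) := minpoly.irreducible hint
  have : Fact (Irreducible (minpoly k y)) := ⟨hirr⟩
  let k'' := AdjoinRoot (minpoly k y)
  have hfin : FiniteDimensional k k'' :=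
    (AdjoinRoot.powerBasis hirr.ne_zero).finite
  have hfield : IsField (k'' ⊗[k] K) := hg k'' hfin
  let ι : k'' →ₐ[k] K := AdjoinRoot.liftAlgHom (minpoly k y) (Algebra.ofId k K) y
    (by
      have := minpoly.aeval k y
      rw [aeval_def] at this
      exact this)
  have hι : ι (AdjoinRoot.root (minpoly k y)) = y := AdjoinRoot.liftAlgHom_root _ _ _ _
  have hLD := IntermediateField.LinearDisjoint.of_isField' hfield ι (AlgHom.id k K)
  have htop : (AlgHom.id k K).fieldRange = ⊤ := by
    rw [AlgHom.fieldRange_eq_top]
    exact Function.surjective_id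
  rw [htop] at hLD
  have hbot := hLD.inf_eq_bot
  rw [inf_top_eq] at hbot
  have hy_mem : y ∈ ι.fieldRange := ⟨AdjoinRoot.root (minpoly k y), hι⟩
  rw [hbot, IntermediateField.mem_bot] at hy_mem
  exact hy_mem

end Groth.Agent.FF

namespace Groth.Agent.FF

universe u v

section
variable {k k' : Type u} {K K' : Type v} [Field k] [Field k'] [Field K] [Field K']
  [Algebra k k'] [Algebra k K] [Algebra K K'] [Algebra k' K'] [Algebra k K']
  [IsScalarTower k k' K'] [IsScalarTower k K K']

theorem isFunctionField_scalar_extension [FiniteDimensional k k']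
    (h : Function.Bijective (Algebra.TensorProduct.productMap
      (IsScalarTower.toAlgHom k k' K') (IsScalarTower.toAlgHom k K K')))
    (hK : IsFunctionField k K) (hg : IsGeometric k K) : IsFunctionField k' K' := by
  classical
  refine ⟨?_, fun y hy => mem_range_of_isAlgebraic_of_isGeometric
    (isGeometric_scalar_extension h hg) y hy⟩
  obtain ⟨⟨x, hx, hfin⟩, -⟩ := id hK
  set x' : K' := algebraMap K K' x with hx'
  refine ⟨x', ?_, ?_⟩
  · intro halg
    have halg' : Algebra.IsAlgebraic k k' := Algebra.IsAlgebraic.of_finite k k'
    have h1 : IsAlgebraic k x' := halg.restrictScalars k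
    rw [hx', isAlgebraic_algebraMap_iff (algebraMap K K').injective] at h1
    exact hx h1
  · set F' : IntermediateField k' K' := adjoin k' {x'} with hF'
    -- step A
    have hA : ∀ l ∈ adjoin k ({x} : Set K), algebraMap K K' l ∈ F' := by
      let G : IntermediateField k K :=
        (F'.restrictScalars k).comap (IsScalarTower.toAlgHom k K K')
      have hxG : x ∈ G := by
        show algebraMap K K' x ∈ F'
        exact mem_adjoin_simple_self k' x'
      have hle : adjoin k ({x} : Set K) ≤ G := by
        rw [adjoin_le_iff, Set.singleton_subset_iff]; exact hxG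
      intro l hl
      exact hle hl
    let n := Module.finrank (adjoin k ({x} : Set K)) K
    let b : Module.Basis (Fin n) (adjoin k ({x} : Set K)) K := Module.finBasis _ _
    set M : Submodule F' K' := Submodule.span F' (Set.range fun i => algebraMap K K' (b i)) with hM
    have hB : ∀ c : K, algebraMap K K' c ∈ M := by
      intro c
      have hc : c = ∑ i, ((b.repr c i : adjoin k ({x} : Set K)) : K) * b i := by
        conv_lhs => rw [← b.sum_repr c]
        apply Finset.sum_congr rfl
        intro i _
        rfl
      rw [hc, map_sum]
      apply Submodule.sum_mem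
      intro i _
      rw [map_mul]
      have hmem : algebraMap K K' ((b.repr c i : adjoin k ({x} : Set K)) : K) ∈ F' :=
        hA _ (b.repr c i).2
      have : algebraMap K K' ((b.repr c i : adjoin k ({x} : Set K)) : K) * algebraMap K K' (b i) =
          (⟨_, hmem⟩ : F') • algebraMap K K' (b i) := rfl
      rw [this]
      exact Submodule.smul_mem _ _ (Submodule.subset_span ⟨i, rfl⟩)
    have hC : ∀ t : k' ⊗[k] K, Algebra.TensorProduct.productMap
        (IsScalarTower.toAlgHom k k' K') (IsScalarTower.toAlgHom k K K') t ∈ M := by
      intro t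
      induction t using TensorProduct.induction_on with
      | zero => simp
      | tmul a c =>
        rw [Algebra.TensorProduct.productMap_apply_tmul]
        have hmem : algebraMap k' K' a ∈ F' := F'.algebraMap_mem a
        have : (IsScalarTower.toAlgHom k k' K') a * (IsScalarTower.toAlgHom k K K') c =
            (⟨_, hmem⟩ : F') • algebraMap K K' c := rfl
        rw [this]
        exact Submodule.smul_mem _ _ (hB c)
      | add s t hs ht => rw [map_add]; exact Submodule.add_mem _ hs ht
    have htop : M = ⊤ := by
      rw [eq_top_iff]
      intro y _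
      obtain ⟨t, rfl⟩ := h.2 y
      exact hC t
    refine ⟨⟨Finset.univ.image fun i => algebraMap K K' (b i), ?_⟩⟩
    rw [← htop, hM]
    congr 1
    ext z
    simp

theorem scalar_extension [FiniteDimensional k k']
    (h : Function.Bijective (Algebra.TensorProduct.productMap
      (IsScalarTower.toAlgHom k k' K') (IsScalarTower.toAlgHom k K K')))
    (hK : IsFunctionField k K) (hg : IsGeometric k K) :
    IsFunctionField k' K' ∧ IsGeometric k' K' :=
  ⟨isFunctionField_scalar_extension h hK hg, isGeometric_scalar_extension h hg⟩

end

end Groth.Agent.FF
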