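import Groth.Agent.FunFld.Basic

/-!
# Function fields: finiteness over `k(x)` for every transcendental `x`
-/

set_option autoImplicit false

open FunFld IntermediateField

namespace Groth.Agent.FF

universe u v
variable {k : Type u} {K : Type v} [Field k] [Field K] [Algebra k K]

/-- In a function field every element algebraic over `k` is in `k`. -/
lemma mem_range_of_isAlgebraic (hK : IsFunctionField k K) {y : K} (hy : IsAlgebraic k y) :
    y ∈ Set.range (algebraMap k K) := hK.2 y hy

lemma transcendental_of_not_mem_range (hK : IsFunctionField k K) {y : K}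
    (hy : y ∉ Set.range (algebraMap k K)) : Transcendental k y :=
  fun h => hy (hK.2 y h)

lemma not_mem_range_of_transcendental {y : K} (hy : Transcendental k y) :
    y ∉ Set.range (algebraMap k K) := by
  rintro ⟨c, rfl⟩
  exact hy (isAlgebraic_algebraMap c)

lemma essFiniteType_of_isFunctionField (hK : IsFunctionField k K) : Algebra.EssFiniteType k K := by
  obtain ⟨⟨x₀, hx₀, hfin⟩, -⟩ := hK
  have h1 : Algebra.EssFiniteType k (adjoin k ({x₀} : Set K)) := by
    rw [IntermediateField.essFiniteType_iff]
    exact ⟨{x₀}, by simp⟩
  have h2 : Algebra.EssFiniteType (adjoin k ({x₀} : Set K)) K := inferInstance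
  exact Algebra.EssFiniteType.comp k (adjoin k ({x₀} : Set K)) K

open scoped algebraAdjoinAdjoin in
lemma trdeg_le_one_of_isFunctionField (hK : IsFunctionField k K) : Algebra.trdeg k K ≤ 1 := by
  obtain ⟨⟨x₀, hx₀, hfin⟩, -⟩ := hK
  have halg : Algebra.IsAlgebraic (adjoin k ({x₀} : Set K)) K := inferInstance
  have halg' : Algebra.IsAlgebraic (Algebra.adjoin k ({x₀} : Set K)) K :=
    Algebra.IsAlgebraic.trans (Algebra.adjoin k ({x₀} : Set K)) (adjoin k ({x₀} : Set K)) K
  have := Algebra.IsAlgebraic.trdeg_le_cardinalMk k ({x₀} : Set K)
  simpa using this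

/-- In a function field of one variable, `K` is finite over `k(x)` for every transcendental `x`. -/
theorem finite_adjoin_of_transcendental (hK : IsFunctionField k K) {x : K}
    (hx : Transcendental k x) : FiniteDimensional (adjoin k ({x} : Set K)) K := by
  have hess := essFiniteType_of_isFunctionField hK
  have htr := trdeg_le_one_of_isFunctionField hK
  have hind : AlgebraicIndependent k (fun _ : PUnit.{v+1} => x) := by
    rw [algebraicIndependent_unique_type_iff]; exact hx
  have hbasis : IsTranscendenceBasis k (fun _ : PUnit.{v+1} => x) :=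
    hind.isTranscendenceBasis_of_trdeg_le_of_finite (by simpa using htr)
  have halg : Algebra.IsAlgebraic (adjoin k (Set.range (fun _ : PUnit.{v+1} => x))) K :=
    hbasis.isAlgebraic_field
  have hrange : Set.range (fun _ : PUnit.{v+1} => x) = {x} := by
    ext y; simp [eq_comm]
  rw [hrange] at halg
  haveI : Algebra.EssFiniteType (adjoin k ({x} : Set K)) K :=
    Algebra.EssFiniteType.of_comp k (adjoin k ({x} : Set K)) K
  exact Algebra.finite_of_essFiniteType_of_isAlgebraic

end Groth.Agent.FF
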