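import Groth.Agent.H57.PlaneKer
import Groth.Agent.H57.PlaneDeg
import Groth.Agent.FunFld.ScalarExt
import Groth.Agent.FunFld.SepVar
import Mathlib.RingTheory.TensorProduct.MvPolynomial
import Mathlib.RingTheory.Flat.Equalizer

/-!
# Geometric function fields and absolutely irreducible plane models
-/

set_option autoImplicit false
set_option linter.unusedSectionVars false

open FunFld IntermediateField TensorProduct

namespace Groth.Agent.FF.PlaneGeom

universe u v w

section BaseChange

variable {k : Type u} {K : Type v} [Field k] [Field K] [Algebra k K]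
  (k' : Type w) [Field k'] [Algebra k k']

/-- the base-changed evaluation map -/
noncomputable abbrev evalT (x y : K) : MvPolynomial (Fin 2) k' →ₐ[k'] k' ⊗[k] K :=
  MvPolynomial.aeval ![(1 : k') ⊗ₜ[k] x, (1 : k') ⊗ₜ[k] y]

/-- compatibility of the base-changed evaluation with the tensor description of `k'[X, Y]` -/
lemma evalT_algebraTensorAlgEquiv (x y : K) (t : k' ⊗[k] MvPolynomial (Fin 2) k) :
    evalT (k := k) k' x y (MvPolynomial.algebraTensorAlgEquiv k k' t) =
      AlgebraTensorModule.lTensor k' k'
        (MvPolynomial.aeval ![x, y] : MvPolynomial (Fin 2) k →ₐ[k] K).toLinearMap t := by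
  induction t using TensorProduct.induction_on with
  | zero => simp
  | tmul c p =>
    rw [MvPolynomial.algebraTensorAlgEquiv_tmul, map_smul, AlgebraTensorModule.lTensor_tmul,
      MvPolynomial.aeval_map_algebraMap]
    have h1 : (![(1 : k') ⊗ₜ[k] x, (1 : k') ⊗ₜ[k] y] : Fin 2 → k' ⊗[k] K) =
        fun i => (1 : k') ⊗ₜ[k] (![x, y] i) := by
      funext i
      fin_cases i <;> rfl
    rw [h1, MvPolynomial.aeval_one_tmul, TensorProduct.smul_tmul', smul_eq_mul, mul_one]
    rfl
  | add a b ha hb => rw [map_add, map_add, map_add, ha, hb]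

/-- the relation ideal after base change is generated by the base change of the generator -/
theorem map_dvd_of_evalT_eq_zero {x y : K} {f : MvPolynomial (Fin 2) k}
    (hker : RingHom.ker (MvPolynomial.aeval ![x, y] : MvPolynomial (Fin 2) k →ₐ[k] K) =
      Ideal.span {f}) (G : MvPolynomial (Fin 2) k') (hG : evalT (k := k) k' x y G = 0) :
    MvPolynomial.map (algebraMap k k') f ∣ G := by
  set e := MvPolynomial.algebraTensorAlgEquiv (σ := Fin 2) k k' with he
  set π : MvPolynomial (Fin 2) k →ₗ[k] K :=
    (MvPolynomial.aeval ![x, y] : MvPolynomial (Fin 2) k →ₐ[k] K).toLinearMap with hπ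
  have h1 : AlgebraTensorModule.lTensor k' k' π (e.symm G) = 0 := by
    rw [← evalT_algebraTensorAlgEquiv, AlgEquiv.apply_symm_apply, hG]
  have h2 : e.symm G ∈ LinearMap.ker (AlgebraTensorModule.lTensor k' k' π) := h1
  rw [Module.Flat.ker_lTensor_eq] at h2
  obtain ⟨s, hs⟩ := h2
  have key : ∀ s : k' ⊗[k] ↥(LinearMap.ker π), MvPolynomial.map (algebraMap k k') f ∣
      e (AlgebraTensorModule.lTensor k' k' (LinearMap.ker π).subtype s) := by
    intro s
    induction s using TensorProduct.induction_on with
    | zero => simp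
    | tmul c p =>
      rw [AlgebraTensorModule.lTensor_tmul, he, MvPolynomial.algebraTensorAlgEquiv_tmul]
      have hp : (p : MvPolynomial (Fin 2) k) ∈ RingHom.ker
          (MvPolynomial.aeval ![x, y] : MvPolynomial (Fin 2) k →ₐ[k] K) := p.2
      rw [hker, Ideal.mem_span_singleton] at hp
      rw [MvPolynomial.smul_eq_C_mul]
      exact Dvd.dvd.mul_left (map_dvd (MvPolynomial.map (algebraMap k k')) hp) _
    | add a b ha hb =>
      rw [map_add, map_add]
      exact dvd_add ha hb
  have := key s
  rwa [hs, AlgEquiv.apply_symm_apply] at this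


/-- evaluating a base-changed polynomial -/
lemma evalT_map (x y : K) (H : MvPolynomial (Fin 2) k) :
    evalT (k := k) k' x y (MvPolynomial.map (algebraMap k k') H) =
      (1 : k') ⊗ₜ[k] (MvPolynomial.aeval ![x, y] H) := by
  have := evalT_algebraTensorAlgEquiv k' x y ((1 : k') ⊗ₜ[k] H)
  rw [MvPolynomial.algebraTensorAlgEquiv_tmul, one_smul, AlgebraTensorModule.lTensor_tmul] at this
  exact this

/-- the kernel of the base-changed evaluation map -/
theorem ker_evalT {x y : K} {f : MvPolynomial (Fin 2) k}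
    (hker : RingHom.ker (MvPolynomial.aeval ![x, y] : MvPolynomial (Fin 2) k →ₐ[k] K) =
      Ideal.span {f}) :
    RingHom.ker (evalT (k := k) k' x y) =
      Ideal.span {MvPolynomial.map (algebraMap k k') f} := by
  ext G
  rw [RingHom.mem_ker, Ideal.mem_span_singleton]
  constructor
  · exact map_dvd_of_evalT_eq_zero k' hker G
  · rintro ⟨G', rfl⟩
    have hf : MvPolynomial.aeval ![x, y] f = 0 := by
      have : f ∈ RingHom.ker (MvPolynomial.aeval ![x, y] : MvPolynomial (Fin 2) k →ₐ[k] K) := by
        rw [hker]; exact Ideal.mem_span_singleton_self f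
      exact this
    rw [map_mul, evalT_map, hf, tmul_zero, zero_mul]

/-- if the base change is a field, the base-changed relation is irreducible -/
theorem irreducible_map_of_isField {x y : K} {f : MvPolynomial (Fin 2) k}
    (hker : RingHom.ker (MvPolynomial.aeval ![x, y] : MvPolynomial (Fin 2) k →ₐ[k] K) =
      Ideal.span {f}) (hf : f ≠ 0) (hT : IsField (k' ⊗[k] K)) :
    Irreducible (MvPolynomial.map (algebraMap k k') f) := by
  have hdom : IsDomain (k' ⊗[k] K) := hT.isDomain
  have hprime : (Ideal.span {MvPolynomial.map (algebraMap k k') f}).IsPrime := by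
    rw [← ker_evalT k' hker]
    exact RingHom.ker_isPrime _
  have hne : MvPolynomial.map (algebraMap k k') f ≠ 0 :=
    (map_ne_zero_iff _ (MvPolynomial.map_injective _ (algebraMap k k').injective)).2 hf
  exact ((Ideal.span_singleton_prime hne).1 hprime).irreducible

/-- clearing denominators in `k' ⊗ K` -/
lemma exists_clear_denominator {x y : K} (hgen : adjoin k ({x, y} : Set K) = ⊤)
    (t : k' ⊗[k] K) :
    ∃ (H : MvPolynomial (Fin 2) k) (G : MvPolynomial (Fin 2) k'),
      MvPolynomial.aeval ![x, y] H ≠ 0 ∧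
      t * ((1 : k') ⊗ₜ[k] (MvPolynomial.aeval ![x, y] H)) = evalT (k := k) k' x y G := by
  have hrange : Algebra.adjoin k ({x, y} : Set K) =
      (MvPolynomial.aeval ![x, y] : MvPolynomial (Fin 2) k →ₐ[k] K).range := by
    rw [← Algebra.adjoin_range_eq_range_aeval]
    congr 1
    ext z
    simp only [Set.mem_range, Set.mem_insert_iff, Set.mem_singleton_iff]
    constructor
    · rintro (rfl | rfl)
      exacts [⟨0, rfl⟩, ⟨1, rfl⟩]
    · rintro ⟨i, rfl⟩
      fin_cases i
      · left; rfl
      · right; rfl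
  induction t using TensorProduct.induction_on with
  | zero => exact ⟨1, 0, by simp, by simp⟩
  | tmul c z =>
    have hz : z ∈ adjoin k ({x, y} : Set K) := by rw [hgen]; trivial
    rw [mem_adjoin_iff_div, hrange] at hz
    obtain ⟨r, ⟨G, hG⟩, s, ⟨H, hH⟩, rfl⟩ := hz
    have hG' : MvPolynomial.aeval ![x, y] G = r := hG
    have hH' : MvPolynomial.aeval ![x, y] H = s := hH
    subst hG' hH'
    by_cases hs : MvPolynomial.aeval ![x, y] H = 0
    · refine ⟨1, 0, by simp, ?_⟩
      rw [hs, div_zero, tmul_zero, zero_mul, map_zero]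
    · refine ⟨H, c • MvPolynomial.map (algebraMap k k') G, hs, ?_⟩
      rw [map_smul, evalT_map, Algebra.TensorProduct.tmul_mul_tmul, mul_one,
        div_mul_cancel₀ _ hs, TensorProduct.smul_tmul', smul_eq_mul, mul_one]
  | add a b ha hb =>
    obtain ⟨H₁, G₁, h₁, e₁⟩ := ha
    obtain ⟨H₂, G₂, h₂, e₂⟩ := hb
    refine ⟨H₁ * H₂, G₁ * MvPolynomial.map (algebraMap k k') H₂ +
      G₂ * MvPolynomial.map (algebraMap k k') H₁, ?_, ?_⟩
    · rw [map_mul]; exact mul_ne_zero h₁ h₂
    · have hm : (1 : k') ⊗ₜ[k] (MvPolynomial.aeval ![x, y] (H₁ * H₂)) =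
          ((1 : k') ⊗ₜ[k] (MvPolynomial.aeval ![x, y] H₁)) *
            ((1 : k') ⊗ₜ[k] (MvPolynomial.aeval ![x, y] H₂)) := by
        rw [Algebra.TensorProduct.tmul_mul_tmul, mul_one, map_mul]
      rw [hm, map_add, map_mul _ G₁, map_mul _ G₂, ← e₁, ← e₂, evalT_map, evalT_map]
      ring

/-- `1 ⊗ z` is a unit for `z ≠ 0` -/
lemma isUnit_one_tmul {z : K} (hz : z ≠ 0) : IsUnit ((1 : k') ⊗ₜ[k] z) := by
  refine IsUnit.of_mul_eq_one ((1 : k') ⊗ₜ[k] z⁻¹) ?_
  rw [Algebra.TensorProduct.tmul_mul_tmul, mul_one, mul_inv_cancel₀ hz]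
  rfl

/-- if the base-changed relation is irreducible, the base change is a domain -/
theorem isDomain_of_irreducible_map {x y : K} {f : MvPolynomial (Fin 2) k}
    (hgen : adjoin k ({x, y} : Set K) = ⊤)
    (hker : RingHom.ker (MvPolynomial.aeval ![x, y] : MvPolynomial (Fin 2) k →ₐ[k] K) =
      Ideal.span {f})
    (hirr : Irreducible (MvPolynomial.map (algebraMap k k') f)) :
    IsDomain (k' ⊗[k] K) := by
  have hnt : Nontrivial (k' ⊗[k] K) := by
    by_contra hcon
    rw [not_nontrivial_iff_subsingleton] at hcon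
    have h1 : evalT (k := k) k' x y 1 = 0 := Subsingleton.elim _ _
    have h2 := map_dvd_of_evalT_eq_zero k' hker 1 h1
    exact hirr.not_isUnit (isUnit_of_dvd_one h2)
  have hprime : Prime (MvPolynomial.map (algebraMap k k') f) := hirr.prime
  have hnzd : NoZeroDivisors (k' ⊗[k] K) := by
    refine ⟨fun {a b} hab => ?_⟩
    obtain ⟨H₁, G₁, h₁, e₁⟩ := exists_clear_denominator k' hgen a
    obtain ⟨H₂, G₂, h₂, e₂⟩ := exists_clear_denominator k' hgen b
    have h0 : evalT (k := k) k' x y (G₁ * G₂) = 0 := by
      rw [map_mul, ← e₁, ← e₂]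
      calc a * ((1 : k') ⊗ₜ[k] (MvPolynomial.aeval ![x, y] H₁)) *
            (b * ((1 : k') ⊗ₜ[k] (MvPolynomial.aeval ![x, y] H₂)))
          = (a * b) * (((1 : k') ⊗ₜ[k] (MvPolynomial.aeval ![x, y] H₁)) *
            ((1 : k') ⊗ₜ[k] (MvPolynomial.aeval ![x, y] H₂))) := by ring
        _ = 0 := by rw [hab, zero_mul]
    have hdvd := map_dvd_of_evalT_eq_zero k' hker _ h0
    rcases hprime.dvd_or_dvd hdvd with hd | hd
    · left
      have : evalT (k := k) k' x y G₁ = 0 := by
        have := (ker_evalT k' hker).symm ▸ (Ideal.mem_span_singleton.2 hd)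
        exact this
      rw [this] at e₁
      exact ((isUnit_one_tmul k' h₁).mul_left_eq_zero).1 e₁
    · right
      have : evalT (k := k) k' x y G₂ = 0 := by
        have := (ker_evalT k' hker).symm ▸ (Ideal.mem_span_singleton.2 hd)
        exact this
      rw [this] at e₂
      exact ((isUnit_one_tmul k' h₂).mul_left_eq_zero).1 e₂
  exact NoZeroDivisors.to_isDomain _

/-- if the base-changed relation is irreducible and `k'` is finite, the base change is a field -/
theorem isField_of_irreducible_map [FiniteDimensional k k'] {x y : K}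
    {f : MvPolynomial (Fin 2) k} (hgen : adjoin k ({x, y} : Set K) = ⊤)
    (hker : RingHom.ker (MvPolynomial.aeval ![x, y] : MvPolynomial (Fin 2) k →ₐ[k] K) =
      Ideal.span {f})
    (hirr : Irreducible (MvPolynomial.map (algebraMap k k') f)) :
    IsField (k' ⊗[k] K) := by
  have hdom := isDomain_of_irreducible_map k' hgen hker hirr
  let e : k' ⊗[k] K ≃ₐ[k] K ⊗[k] k' := Algebra.TensorProduct.comm k k' K
  have hdom' : IsDomain (K ⊗[k] k') := e.symm.toMulEquiv.isDomain
  have hfin : Module.Finite K (K ⊗[k] k') := inferInstance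
  have hart : IsArtinianRing (K ⊗[k] k') := IsArtinianRing.of_finite K _
  have hF : IsField (K ⊗[k] k') := IsArtinianRing.isField_of_isDomain _
  exact e.toMulEquiv.isField hF

end BaseChange

section Main

open Groth.Agent.H57.Plane

variable {k : Type u} {K : Type v} [Field k] [Field K] [Algebra k K]

/-- the forward direction: a geometric function field has an absolutely irreducible plane model -/
theorem exists_plane_model (hK : IsFunctionField k K) (hg : IsGeometric k K) :
    ∃ (x y : K) (f : MvPolynomial (Fin 2) k),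
      adjoin k ({x, y} : Set K) = ⊤ ∧
      (∀ (k' : Type u) [Field k'] [Algebra k k'], FiniteDimensional k k' →
        Irreducible (MvPolynomial.map (algebraMap k k') f)) ∧
      RingHom.ker (MvPolynomial.aeval ![x, y] : MvPolynomial (Fin 2) k →ₐ[k] K) =
        Ideal.span {f} := by
  obtain ⟨x, hx, hsep⟩ := exists_separating hK hg
  have hfin := finite_adjoin_of_transcendental hK hx
  obtain ⟨y, hy⟩ := Field.exists_primitive_element k⟮x⟯ K
  have hgen : adjoin k ({x, y} : Set K) = ⊤ := by
    rw [← adjoin_simple_adjoin_simple, hy, restrictScalars_top]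
  obtain ⟨f, hfirr, hf0⟩ := exists_irreducible_relation hK x y
  have hker : RingHom.ker (MvPolynomial.aeval ![x, y] : MvPolynomial (Fin 2) k →ₐ[k] K) =
      Ideal.span {f} := by
    ext G
    rw [RingHom.mem_ker, Ideal.mem_span_singleton]
    constructor
    · exact dvd_of_aeval_eq_zero hK x y hgen f hfirr hf0 G
    · rintro ⟨G', rfl⟩
      rw [map_mul, hf0, zero_mul]
  refine ⟨x, y, f, hgen, ?_, hker⟩
  intro k' _ _ hfin'
  exact irreducible_map_of_isField k' hker hfirr.ne_zero (hg k' hfin')

/-- the plane relation itself is irreducible -/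
lemma irreducible_of_abs {f : MvPolynomial (Fin 2) k}
    (hirr : ∀ (k' : Type u) [Field k'] [Algebra k k'], FiniteDimensional k k' →
      Irreducible (MvPolynomial.map (algebraMap k k') f)) : Irreducible f := by
  have := hirr k inferInstance
  rwa [Algebra.algebraMap_self, MvPolynomial.map_id] at this

/-- a plane model with principal prime relation ideal is not the trivial field -/
lemma not_both_const {x y : K} {f : MvPolynomial (Fin 2) k}
    (hker : RingHom.ker (MvPolynomial.aeval ![x, y] : MvPolynomial (Fin 2) k →ₐ[k] K) =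
      Ideal.span {f}) (a b : k) (ha : algebraMap k K a = x) (hb : algebraMap k K b = y) :
    False := by
  set π : MvPolynomial (Fin 2) k →ₐ[k] K := MvPolynomial.aeval ![x, y] with hπ
  have hx0 : π (MvPolynomial.X 0) = x := by rw [hπ, MvPolynomial.aeval_X]; rfl
  have hx1 : π (MvPolynomial.X 1) = y := by rw [hπ, MvPolynomial.aeval_X]; rfl
  have hf : π f = 0 := by
    have : f ∈ RingHom.ker π := by rw [hker]; exact Ideal.mem_span_singleton_self f
    exact this
  have h0 : (MvPolynomial.X 0 - MvPolynomial.C a : MvPolynomial (Fin 2) k) ∈ RingHom.ker π := by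
    rw [RingHom.mem_ker, map_sub, hx0, MvPolynomial.algHom_C, ha, sub_self]
  have h1 : (MvPolynomial.X 1 - MvPolynomial.C b : MvPolynomial (Fin 2) k) ∈ RingHom.ker π := by
    rw [RingHom.mem_ker, map_sub, hx1, MvPolynomial.algHom_C, hb, sub_self]
  rw [hker, Ideal.mem_span_singleton] at h0 h1
  obtain ⟨g₀, hg₀⟩ := h0
  obtain ⟨g₁, hg₁⟩ := h1
  -- differentiate
  have d00 := congrArg (fun p => π (MvPolynomial.pderiv 0 p)) hg₀
  have d01 := congrArg (fun p => π (MvPolynomial.pderiv 1 p)) hg₀
  have d10 := congrArg (fun p => π (MvPolynomial.pderiv 0 p)) hg₁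
  have d11 := congrArg (fun p => π (MvPolynomial.pderiv 1 p)) hg₁
  simp only [map_sub, MvPolynomial.pderiv_X_self, MvPolynomial.pderiv_C, sub_zero, map_one,
    Derivation.leibniz, smul_eq_mul, map_add, map_mul, hf, zero_mul, zero_add,
    MvPolynomial.pderiv_X_of_ne (show (1 : Fin 2) ≠ 0 by decide),
    MvPolynomial.pderiv_X_of_ne (show (0 : Fin 2) ≠ 1 by decide), map_zero] at d00 d01 d10 d11
  have hg₀ne : π g₀ ≠ 0 := by
    intro h
    rw [h, zero_mul] at d00
    exact one_ne_zero d00
  have hd : π (MvPolynomial.pderiv 1 f) = 0 := by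
    rcases mul_eq_zero.1 d01.symm with h | h
    · exact absurd h hg₀ne
    · exact h
  rw [hd, mul_zero] at d11
  exact one_ne_zero d11

/-- the backward direction, function field part -/
theorem isFunctionField_of_plane_model {x y : K} {f : MvPolynomial (Fin 2) k}
    (hgen : adjoin k ({x, y} : Set K) = ⊤) (hf : f ≠ 0)
    (hker : RingHom.ker (MvPolynomial.aeval ![x, y] : MvPolynomial (Fin 2) k →ₐ[k] K) =
      Ideal.span {f})
    (hconst : ∀ z : K, IsAlgebraic k z → z ∈ Set.range (algebraMap k K)) :
    IsFunctionField k K := by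
  refine ⟨?_, hconst⟩
  -- a transcendental shear
  have hc : ∃ c : k, Transcendental k (x - algebraMap k K c * y) := by
    by_cases hx : Transcendental k x
    · exact ⟨0, by rwa [map_zero, zero_mul, sub_zero]⟩
    · rw [Transcendental, not_not] at hx
      obtain ⟨a, ha⟩ := hconst x hx
      refine ⟨1, ?_⟩
      rw [map_one, one_mul]
      intro halg
      have hy : IsAlgebraic k y := by
        have : y = x - (x - y) := by ring
        rw [this]
        exact hx.sub halg
      obtain ⟨b, hb⟩ := hconst y hy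
      exact not_both_const hker a b ha hb
  obtain ⟨c, hc⟩ := hc
  set x₁ := x - algebraMap k K c * y with hx₁
  have hxeq : x₁ + algebraMap k K c * y = x := by rw [hx₁]; ring
  refine ⟨x₁, hc, ?_⟩
  have hgen₁ : adjoin k ({x₁, y} : Set K) = ⊤ := by
    rw [eq_top_iff, ← hgen, adjoin_le_iff]
    intro w hw
    have hx₁mem : x₁ ∈ adjoin k ({x₁, y} : Set K) := subset_adjoin k _ (by simp)
    have hymem : y ∈ adjoin k ({x₁, y} : Set K) := subset_adjoin k _ (by simp)
    rcases hw with hw | hw
    · rw [hw, ← hxeq]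
      exact add_mem hx₁mem (mul_mem (IntermediateField.algebraMap_mem _ c) hymem)
    · rw [Set.mem_singleton_iff] at hw
      rw [hw]; exact hymem
  have htop : (k⟮x₁⟯)⟮y⟯ = ⊤ := adjoin_simple_eq_top_of_adjoin_pair hgen₁
  -- `y` is algebraic over `k(x₁)`
  have hf0 : MvPolynomial.aeval ![x, y] f = 0 := by
    have : f ∈ RingHom.ker (MvPolynomial.aeval ![x, y] : MvPolynomial (Fin 2) k →ₐ[k] K) := by
      rw [hker]; exact Ideal.mem_span_singleton_self f
    exact this
  have hroot : Polynomial.aeval y ((toPP c f).map (evalGen x₁)) = 0 := by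
    rw [aeval_map_toPP, hxeq, hf0]
  have hne : (toPP c f).map (evalGen x₁) ≠ 0 := by
    intro h0
    have h1 : toPP c f = 0 :=
      Polynomial.map_injective _ (evalGen_injective hc) (by rw [h0, Polynomial.map_zero])
    have h2 : equivPP c f = 0 := h1
    rw [map_eq_zero_iff _ (equivPP c).injective] at h2
    exact hf h2
  have halg : IsAlgebraic k⟮x₁⟯ y := ⟨_, hne, hroot⟩
  have hint : IsIntegral k⟮x₁⟯ y := halg.isIntegral
  have hfd : FiniteDimensional k⟮x₁⟯ (k⟮x₁⟯)⟮y⟯ := adjoin.finiteDimensional hint
  rw [htop] at hfd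
  exact (topEquiv (F := k⟮x₁⟯) (E := K)).toLinearEquiv.finiteDimensional

/-- **Geometric function fields are those with an absolutely irreducible plane model.** -/
theorem isGeometric_iff_plane_model :
    (IsFunctionField k K ∧ IsGeometric k K) ↔
      ∃ (x y : K) (f : MvPolynomial (Fin 2) k),
        adjoin k ({x, y} : Set K) = ⊤ ∧
        (∀ (k' : Type u) [Field k'] [Algebra k k'], FiniteDimensional k k' →
          Irreducible (MvPolynomial.map (algebraMap k k') f)) ∧
        RingHom.ker (MvPolynomial.aeval ![x, y] : MvPolynomial (Fin 2) k →ₐ[k] K) =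
          Ideal.span {f} := by
  constructor
  · rintro ⟨hK, hg⟩
    exact exists_plane_model hK hg
  · rintro ⟨x, y, f, hgen, hirr, hker⟩
    have hg : IsGeometric k K := by
      intro k' _ _ hfin
      exact isField_of_irreducible_map k' hgen hker (hirr k' hfin)
    exact ⟨isFunctionField_of_plane_model hgen (irreducible_of_abs hirr).ne_zero hker
      (mem_range_of_isAlgebraic_of_isGeometric hg), hg⟩

end Main

end Groth.Agent.FF.PlaneGeom
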