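import Mathlib.LinearAlgebra.Vandermonde
import Mathlib.Algebra.Polynomial.Derivative
import Mathlib.Algebra.Polynomial.Roots
import Mathlib.RingTheory.Polynomial.Pochhammer
import Mathlib.LinearAlgebra.Matrix.Determinant.Basic

/-!
# Wronskians of polynomials in characteristic zero
-/

set_option autoImplicit false

open Polynomial Matrix

namespace Groth.Agent.Wr

variable {k : Type*} [Field k]

/-- the Wronskian matrix -/
noncomputable def wrMat {n : ℕ} (f : Fin n → k[X]) : Matrix (Fin n) (Fin n) k[X] :=
  Matrix.of fun i j => derivative^[(j : ℕ)] (f i)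

/-- the Wronskian -/
noncomputable def wr {n : ℕ} (f : Fin n → k[X]) : k[X] := (wrMat f).det

/-- the auxiliary sequence `v_j` with `Y^j D^j (Y^m u) = Y^m v_j` -/
noncomputable def vseq (a : k) (m : ℕ) (u : k[X]) : ℕ → k[X]
  | 0 => u
  | (j + 1) => C ((m : k) - (j : k)) * vseq a m u j + (X - C a) * derivative (vseq a m u j)

lemma vseq_spec (a : k) (m : ℕ) (u : k[X]) (j : ℕ) :
    (X - C a) ^ j * derivative^[j] ((X - C a) ^ m * u) = (X - C a) ^ m * vseq a m u j := by
  induction j with
  | zero => simp [vseq]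
  | succ j ih =>
    have hD := congrArg derivative ih
    rw [derivative_mul, derivative_mul, derivative_X_sub_C_pow, derivative_X_sub_C_pow] at hD
    rw [Function.iterate_succ_apply']
    have hj : (X - C a) * (C ((j : k)) * (X - C a) ^ (j - 1)) = C (j : k) * (X - C a) ^ j := by
      rcases j with _ | j
      · simp
      · simp only [Nat.add_sub_cancel]; ring
    have hm : (X - C a) * (C ((m : k)) * (X - C a) ^ (m - 1)) = C (m : k) * (X - C a) ^ m := by
      rcases m with _ | m
      · simp
      · simp only [Nat.add_sub_cancel]; ring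
    have key : (X - C a) ^ (j + 1) * derivative (derivative^[j] ((X - C a) ^ m * u)) =
        (X - C a) * ((C (m : k) * (X - C a) ^ (m - 1)) * vseq a m u j +
          (X - C a) ^ m * derivative (vseq a m u j)) -
        (X - C a) * (C (j : k) * (X - C a) ^ (j - 1)) * derivative^[j] ((X - C a) ^ m * u) := by
      rw [← hD]; ring
    rw [key, hj]
    have : C (j : k) * (X - C a) ^ j * derivative^[j] ((X - C a) ^ m * u) =
        C (j : k) * ((X - C a) ^ m * vseq a m u j) := by rw [← ih]; ring
    rw [this]
    have hm' : (X - C a) * (C (m : k) * (X - C a) ^ (m - 1) * vseq a m u j) =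
        C (m : k) * (X - C a) ^ m * vseq a m u j := by rw [← hm]; ring
    simp only [vseq, C_sub]
    rw [mul_add, hm']
    ring

lemma vseq_eval (a : k) (m : ℕ) (u : k[X]) (j : ℕ) :
    (vseq a m u j).eval a = (descPochhammer k j).eval (m : k) * u.eval a := by
  induction j with
  | zero => simp [vseq]
  | succ j ih =>
    simp only [vseq, eval_add, eval_mul, eval_C, eval_sub, eval_X, sub_self, zero_mul, add_zero]
    rw [ih, descPochhammer_succ_right, eval_mul, eval_sub, eval_X, eval_natCast]
    ring

end Groth.Agent.Wr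

namespace Groth.Agent.Wr

variable {k : Type*} [Field k]

/-- local structure of the Wronskian at `a` for a family with distinct orders at `a` -/
theorem wr_local [CharZero k] {n : ℕ} (a : k) (m : Fin n → ℕ) (hm : Function.Injective m)
    (u : Fin n → k[X]) (hu : ∀ i, (u i).eval a ≠ 0) :
    ∃ G : k[X], G.eval a ≠ 0 ∧
      (X - C a) ^ (∑ j : Fin n, (j : ℕ)) * wr (fun i => (X - C a) ^ (m i) * u i) =
        (X - C a) ^ (∑ i, m i) * G := by
  refine ⟨(Matrix.of fun i j : Fin n => vseq a (m i) (u i) (j : ℕ)).det, ?_, ?_⟩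
  · have h1 : ((Matrix.of fun i j : Fin n => vseq a (m i) (u i) (j : ℕ)).det).eval a =
        (Matrix.of fun i j : Fin n => (u i).eval a *
          (descPochhammer k (j : ℕ)).eval ((m i : k))).det := by
      have := (evalRingHom a).map_det (Matrix.of fun i j : Fin n => vseq a (m i) (u i) (j : ℕ))
      rw [coe_evalRingHom] at this
      rw [this]
      congr 1
      refine Matrix.ext fun i j => ?_
      simp only [RingHom.mapMatrix_apply, Matrix.map_apply, Matrix.of_apply, coe_evalRingHom]
      rw [vseq_eval, mul_comm]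
    rw [h1, Matrix.det_mul_column]
    apply mul_ne_zero
    · exact Finset.prod_ne_zero_iff.mpr fun i _ => hu i
    · have h2 := Matrix.det_eval_matrixOfPolynomials_eq_det_vandermonde
        (fun i : Fin n => (m i : k)) (fun j : Fin n => descPochhammer k (j : ℕ))
        (fun i => descPochhammer_natDegree k (i : ℕ)) (fun i => monic_descPochhammer k (i : ℕ))
      change (Matrix.of fun i j : Fin n => (descPochhammer k (j : ℕ)).eval ((m i : k))).det ≠ 0
      rw [← h2, Matrix.det_vandermonde_ne_zero_iff]
      intro i j hij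
      exact hm (Nat.cast_injective hij)
  · unfold wr
    rw [← Finset.prod_pow_eq_pow_sum, ← Finset.prod_pow_eq_pow_sum, ← Matrix.det_mul_row,
      ← Matrix.det_mul_column]
    congr 1
    refine Matrix.ext fun i j => ?_
    simp only [Matrix.of_apply, wrMat]
    exact vseq_spec a (m i) (u i) (j : ℕ)

end Groth.Agent.Wr

namespace Groth.Agent.Wr

variable {k : Type*} [Field k]

/-- degree bound for the Wronskian -/
theorem wr_natDegree_le {n : ℕ} (f : Fin n → k[X]) (h : wr f ≠ 0) :
    (wr f).natDegree + ∑ j : Fin n, (j : ℕ) ≤ ∑ i, (f i).natDegree := by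
  classical
  unfold wr at h ⊢
  rw [Matrix.det_apply] at h ⊢
  set t := ∑ j : Fin n, (j : ℕ) with ht
  set N := ∑ i, (f i).natDegree with hN
  -- each nonzero term forces `t ≤ N` and has degree at most `N - t`
  have hterm : ∀ σ : Equiv.Perm (Fin n), (∏ i, wrMat f (σ i) i) ≠ 0 →
      t ≤ N ∧ (∏ i, wrMat f (σ i) i).natDegree ≤ N - t := by
    intro σ hσ
    have hi : ∀ i : Fin n, (i : ℕ) ≤ (f (σ i)).natDegree := by
      intro i
      by_contra hlt
      push Not at hlt
      apply hσ
      apply Finset.prod_eq_zero (Finset.mem_univ i)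
      exact iterate_derivative_eq_zero hlt
    have hNσ : N = ∑ i, (f (σ i)).natDegree := by
      rw [hN]; exact (Equiv.sum_comp σ (fun i => (f i).natDegree)).symm
    have h1 : t ≤ N := by
      rw [hNσ, ht]; exact Finset.sum_le_sum fun i _ => hi i
    refine ⟨h1, ?_⟩
    calc (∏ i, wrMat f (σ i) i).natDegree ≤ ∑ i, (wrMat f (σ i) i).natDegree := natDegree_prod_le _ _
      _ ≤ ∑ i, ((f (σ i)).natDegree - (i : ℕ)) :=
          Finset.sum_le_sum fun i _ => natDegree_iterate_derivative _ _
      _ = N - t := by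
          rw [hNσ, ht]
          exact Finset.sum_tsub_distrib _ (fun i _ => hi i)
  have hsign : ∀ σ : Equiv.Perm (Fin n),
      (Equiv.Perm.sign σ • ∏ i, wrMat f (σ i) i).natDegree = (∏ i, wrMat f (σ i) i).natDegree := by
    intro σ
    rcases Int.units_eq_one_or (Equiv.Perm.sign σ) with h1 | h1 <;> simp [h1]
  obtain ⟨σ₀, -, hσ₀⟩ := Finset.exists_ne_zero_of_sum_ne_zero h
  have hσ₀' : (∏ i, wrMat f (σ₀ i) i) ≠ 0 := by
    intro h0; apply hσ₀; rw [h0, smul_zero]
  have htN := (hterm σ₀ hσ₀').1
  have hle : (∑ σ : Equiv.Perm (Fin n), Equiv.Perm.sign σ • ∏ i, wrMat f (σ i) i).natDegree ≤ N - t := by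
    apply natDegree_sum_le_of_forall_le
    intro σ _
    rw [hsign]
    by_cases h0 : (∏ i, wrMat f (σ i) i) = 0
    · rw [h0, natDegree_zero]; exact Nat.zero_le _
    · exact (hterm σ h0).2
  omega

/-- change of basis -/
theorem wr_basis_change {n : ℕ} (f g : Fin n → k[X]) (M : Matrix (Fin n) (Fin n) k)
    (hg : ∀ i, g i = ∑ l, M i l • f l) : wr g = C M.det * wr f := by
  unfold wr
  have h1 : wrMat g = (M.map C) * wrMat f := by
    refine Matrix.ext fun i j => ?_
    simp only [wrMat, Matrix.of_apply, Matrix.mul_apply, Matrix.map_apply]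
    rw [hg i, iterate_derivative_sum]
    apply Finset.sum_congr rfl
    intro l _
    rw [iterate_derivative_smul, smul_eq_C_mul]
  rw [h1, Matrix.det_mul]
  congr 1
  exact ((C : k →+* k[X]).map_det M).symm

/-- the sum of the root multiplicities at distinct points is at most the degree -/
theorem sum_rootMultiplicity_le {p : k[X]} (hp : p ≠ 0) (S : Finset k) :
    ∑ a ∈ S, p.rootMultiplicity a ≤ p.natDegree := by
  classical
  calc ∑ a ∈ S, p.rootMultiplicity a = ∑ a ∈ S, p.roots.count a := by
        apply Finset.sum_congr rfl; intro a _; rw [count_roots]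
    _ = ∑ a ∈ S ∩ p.roots.toFinset, p.roots.count a := by
        symm
        apply Finset.sum_subset Finset.inter_subset_left
        intro a ha hna
        rw [Multiset.count_eq_zero]
        intro hmem
        exact hna (Finset.mem_inter.mpr ⟨ha, Multiset.mem_toFinset.mpr hmem⟩)
    _ ≤ ∑ a ∈ p.roots.toFinset, p.roots.count a :=
        Finset.sum_le_sum_of_subset Finset.inter_subset_right
    _ = Multiset.card p.roots := Multiset.toFinset_sum_count_eq _
    _ ≤ p.natDegree := card_roots' p

end Groth.Agent.Wr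

namespace Groth.Agent.Wr

variable {k : Type*} [Field k]

/-- the order of vanishing of the Wronskian at a point, from a family adapted at that point -/
theorem wr_rootMult [CharZero k] {n : ℕ} (p : Fin n → k[X]) (a : k) (M : Matrix (Fin n) (Fin n) k)
    (m : Fin n → ℕ) (hm : Function.Injective m)
    (hq0 : ∀ i, ∑ l, M i l • p l ≠ 0)
    (hq : ∀ i, (∑ l, M i l • p l).rootMultiplicity a = m i) :
    wr p ≠ 0 ∧ ∑ i, m i = ∑ j : Fin n, (j : ℕ) + (wr p).rootMultiplicity a := by
  have hex : ∀ i, ∃ u : k[X], ∑ l, M i l • p l = (X - C a) ^ (m i) * u ∧ ¬ (X - C a) ∣ u := by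
    intro i
    have := exists_eq_pow_rootMultiplicity_mul_and_not_dvd (∑ l, M i l • p l) (hq0 i) a
    rw [hq i] at this
    exact this
  choose u hu1 hu2 using hex
  have hu : ∀ i, (u i).eval a ≠ 0 := by
    intro i h
    exact hu2 i (dvd_iff_isRoot.mpr h)
  obtain ⟨G, hGa, hG⟩ := wr_local a m hm u hu
  have hwr : wr (fun i => (X - C a) ^ (m i) * u i) = C M.det * wr p := by
    apply wr_basis_change p _ M
    intro i
    exact (hu1 i).symm
  rw [hwr] at hG
  have hG0 : G ≠ 0 := by
    rintro rfl
    simp at hGa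
  have hX : ∀ j : ℕ, (X - C a) ^ j ≠ 0 := fun j => pow_ne_zero _ (X_sub_C_ne_zero a)
  have hR : (X - C a) ^ (∑ i, m i) * G ≠ 0 := mul_ne_zero (hX _) hG0
  have hLne : (X - C a) ^ (∑ j : Fin n, (j : ℕ)) * (C M.det * wr p) ≠ 0 := by rw [hG]; exact hR
  have hCW : C M.det * wr p ≠ 0 := right_ne_zero_of_mul hLne
  have hW : wr p ≠ 0 := right_ne_zero_of_mul hCW
  refine ⟨hW, ?_⟩
  have h := congrArg (rootMultiplicity a) hG
  rw [rootMultiplicity_mul hLne, rootMultiplicity_mul hR, rootMultiplicity_X_sub_C_pow,
    rootMultiplicity_X_sub_C_pow, rootMultiplicity_mul hCW, rootMultiplicity_C, zero_add,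
    rootMultiplicity_eq_zero (p := G) (x := a) hGa, add_zero] at h
  exact h.symm

/-- the Plücker inequality for polynomials: at finitely many finite points -/
theorem poly_plucker {n : ℕ} (p : Fin n → k[X]) (hW : wr p ≠ 0) (S : Finset k) :
    ∑ a ∈ S, (wr p).rootMultiplicity a + ∑ j : Fin n, (j : ℕ) ≤ ∑ i, (p i).natDegree :=
  (Nat.add_le_add_right (sum_rootMultiplicity_le hW S) _).trans (wr_natDegree_le p hW)

end Groth.Agent.Wr
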