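import Groth.Agent.FunFld.Backbone
import Groth.Agent.FunFld.Wronskian
import Groth.Agent.FunFld.Filtration

/-!
# The Plücker inequality for linear series on a rational function field (characteristic zero)
-/

set_option autoImplicit false

open FunFld IntermediateField Polynomial WithZero

namespace Groth.Agent.FF

universe u v
variable {k : Type u} {K : Type v} [Field k] [Field K] [Algebra k K]

lemma val_aeval_le_one (P : Place k K) {z : K} (hz : P.1 z ≤ 1) (q : k[X]) :
    P.1 (aeval z q) ≤ 1 := by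
  rw [aeval_eq_sum_range]
  apply P.1.map_sum_le
  intro i _
  rw [Algebra.smul_def, map_mul, map_pow]
  exact mul_le_one' (val_algebraMap_le P _) (pow_le_one' hz i)

lemma val_aeval_eq_one (P : Place k K) {z : K} (hz : P.1 z < 1) {q : k[X]} (hq : q.coeff 0 ≠ 0) :
    P.1 (aeval z q) = 1 := by
  have h := divX_mul_X_add q
  have h0 : aeval z q = aeval z q.divX * z + algebraMap k K (q.coeff 0) := by
    conv_lhs => rw [← h]
    simp
  rw [h0]
  have h1 : P.1 (aeval z q.divX * z) < 1 := by
    rw [map_mul]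
    calc P.1 (aeval z q.divX) * P.1 z ≤ 1 * P.1 z :=
          mul_le_mul' (val_aeval_le_one P hz.le _) le_rfl
      _ < 1 := by rwa [one_mul]
  have h2 : P.1 (algebraMap k K (q.coeff 0)) = 1 := val_algebraMap P hq
  rw [Valuation.map_add_eq_of_lt_right, h2]
  rw [h2]; exact h1

/-- order of a polynomial in `x` at a place where `x - a` is a uniformizer -/
lemma ord_aeval_of_ord_sub_eq_one (P : Place k K) {x : K} {a : k}
    (h1 : P.ord (x - algebraMap k K a) = 1) {p : k[X]} (hp : p ≠ 0) :
    aeval x p ≠ 0 ∧ P.ord (aeval x p) = p.rootMultiplicity a := by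
  obtain ⟨q, hpq, hq⟩ := exists_eq_pow_rootMultiplicity_mul_and_not_dvd p hp a
  have hz0 : x - algebraMap k K a ≠ 0 := by
    intro h; rw [h, ord_zero] at h1; exact zero_ne_one h1
  have hzlt : P.1 (x - algebraMap k K a) < 1 := by
    rw [val_lt_one_iff P hz0, h1]; exact zero_lt_one
  have hqa : q.eval a ≠ 0 := fun h => hq (dvd_iff_isRoot.mpr h)
  have hq1 : aeval x q = aeval (x - algebraMap k K a) (q.comp (X + C a)) := by
    rw [aeval_comp]; simp
  have hc0 : (q.comp (X + C a)).coeff 0 ≠ 0 := by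
    rw [coeff_zero_eq_eval_zero, eval_comp]; simpa using hqa
  have hv : P.1 (aeval x q) = 1 := by rw [hq1]; exact val_aeval_eq_one P hzlt hc0
  have hq0 : aeval x q ≠ 0 := by
    intro h; rw [h, map_zero] at hv; exact zero_ne_one hv
  have hfac : aeval x p = (x - algebraMap k K a) ^ (p.rootMultiplicity a) * aeval x q := by
    conv_lhs => rw [hpq]
    simp
  refine ⟨?_, ?_⟩
  · rw [hfac]; exact mul_ne_zero (pow_ne_zero _ hz0) hq0
  · rw [hfac, ord_mul P (pow_ne_zero _ hz0) hq0, ord_pow, h1, (val_eq_one_iff P hq0).mp hv]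
    ring

/-- order of a polynomial in `x` at a simple pole of `x` -/
lemma ord_aeval_of_ord_eq_neg_one (P : Place k K) {x : K} (h1 : P.ord x = -1) {p : k[X]}
    (hp : p ≠ 0) : aeval x p ≠ 0 ∧ P.ord (aeval x p) = -(p.natDegree : ℤ) := by
  have hx0 : x ≠ 0 := by
    intro h; rw [h, ord_zero] at h1; norm_num at h1
  have hinv0 : x⁻¹ ≠ 0 := inv_ne_zero hx0
  have hzlt : P.1 x⁻¹ < 1 := by
    rw [val_lt_one_iff P hinv0, ord_inv, h1]; norm_num
  let _ : Invertible x := invertibleOfNonzero hx0
  have hrev := eval₂_reverse_mul_pow (algebraMap k K) x p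
  rw [invOf_eq_inv] at hrev
  have hc0 : p.reverse.coeff 0 ≠ 0 := by
    rw [coeff_zero_reverse]; exact leadingCoeff_ne_zero.mpr hp
  have hv : P.1 (aeval x⁻¹ p.reverse) = 1 := val_aeval_eq_one P hzlt hc0
  have hq0 : aeval x⁻¹ p.reverse ≠ 0 := by
    intro h; rw [h, map_zero] at hv; exact zero_ne_one hv
  have hfac : aeval x p = aeval x⁻¹ p.reverse * x ^ p.natDegree := hrev.symm
  refine ⟨?_, ?_⟩
  · rw [hfac]; exact mul_ne_zero hq0 (pow_ne_zero _ hx0)
  · rw [hfac, ord_mul P hq0 (pow_ne_zero _ hx0), ord_pow, h1, (val_eq_one_iff P hq0).mp hv]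
    ring

end Groth.Agent.FF

namespace Groth.Agent.FF

universe u v
variable {k : Type u} {K : Type v} [Field k] [Field K] [Algebra k K]

lemma ne_zero_of_ord_eq_neg_one {P : Place k K} {x : K} (h1 : P.ord x = -1) : x ≠ 0 := by
  intro h; rw [h, ord_zero] at h1; norm_num at h1

lemma val_le_one_of_ord_nonneg (Q : Place k K) {x : K} (h : 0 ≤ Q.ord x) : Q.1 x ≤ 1 := by
  by_cases hx : x = 0
  · rw [hx, map_zero]; exact zero_le_one
  · exact (val_le_one_iff Q hx).mpr h

lemma ord_nonneg_of_val_le_one (Q : Place k K) {x : K} (h : Q.1 x ≤ 1) : 0 ≤ Q.ord x := by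
  by_cases hx : x = 0
  · rw [hx, ord_zero]
  · exact (val_le_one_iff Q hx).mp h

/-- translating by a constant keeps a simple pole and no other poles -/
lemma onlyPoleAt_sub_const {P' : Place k K} {x : K} (hx1 : P'.ord x = -1)
    (hx2 : ∀ Q : Place k K, Q ≠ P' → 0 ≤ Q.ord x) (a : k) :
    OnlyPoleAt (x - algebraMap k K a) P' 1 := by
  have hX : (X - C a : k[X]) ≠ 0 := X_sub_C_ne_zero a
  have hev : aeval x (X - C a : k[X]) = x - algebraMap k K a := by simp
  constructor
  · have := (ord_aeval_of_ord_eq_neg_one P' hx1 hX).2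
    rw [hev, natDegree_X_sub_C] at this
    exact this
  · intro Q hQ
    have := val_aeval_le_one Q (val_le_one_of_ord_nonneg Q (hx2 Q hQ)) (X - C a)
    rw [hev] at this
    exact ord_nonneg_of_val_le_one Q this

/-- every place other than the pole is the zero of exactly one `x - a` -/
lemma exists_const_ord_sub_eq_one [IsAlgClosed k] (hK : IsFunctionField k K) {P' : Place k K}
    {x : K} (hx1 : P'.ord x = -1) (hx2 : ∀ Q : Place k K, Q ≠ P' → 0 ≤ Q.ord x)
    {P : Place k K} (hP : P ≠ P') : ∃ a : k, P.ord (x - algebraMap k K a) = 1 := by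
  obtain ⟨a, ha⟩ := exists_const_approx hK P (val_le_one_of_ord_nonneg P (hx2 P hP))
  refine ⟨a, ?_⟩
  have hop := onlyPoleAt_sub_const hx1 hx2 a
  have hz0 : x - algebraMap k K a ≠ 0 := by
    apply ne_zero_of_ord_eq_neg_one (P := P')
    have := hop.1
    simpa using this
  have h1 : 0 < P.ord (x - algebraMap k K a) := (val_lt_one_iff P hz0).mp ha
  have h2 := ord_le_one_of_onlyPoleAt hK (deg_eq_one_of_isAlgClosed hK P') hop P
  omega

/-- distinct places (other than the pole) have distinct coordinates -/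
lemma const_ne_of_place_ne [IsAlgClosed k] (hK : IsFunctionField k K) {P' : Place k K}
    {x : K} (hx1 : P'.ord x = -1) (hx2 : ∀ Q : Place k K, Q ≠ P' → 0 ≤ Q.ord x)
    {P Q : Place k K} (hPQ : P ≠ Q) {a : k} (hP : P.ord (x - algebraMap k K a) = 1)
    (hQ : Q.ord (x - algebraMap k K a) = 1) : False := by
  classical
  have hop := onlyPoleAt_sub_const hx1 hx2 a
  set y := x - algebraMap k K a with hy
  have htr : Transcendental k y :=
    transcendental_of_ord_neg hK (P := P') (by rw [hop.1]; norm_num)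
  have h1 := deg_poleDiv_eq hK htr
  have h2 := deg_zeroDiv_eq hK htr
  rw [poleDiv_of_onlyPoleAt hK hop, deg_single, deg_eq_one_of_isAlgClosed hK P'] at h1
  have hle : (Finsupp.single P 1 + Finsupp.single Q 1 : Divisor k K) ≤ zeroDiv k y := by
    intro R
    rw [zeroDiv_apply hK, Finsupp.add_apply, Finsupp.single_apply, Finsupp.single_apply]
    by_cases hRP : P = R
    · subst hRP
      rw [if_pos rfl, if_neg (Ne.symm hPQ), hP]; simp
    · rw [if_neg hRP]
      by_cases hRQ : Q = R
      · subst hRQ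
        rw [if_pos rfl, hQ]; simp
      · rw [if_neg hRQ]; simp
  have h3 := deg_mono hle
  rw [deg_add, deg_single, deg_single, deg_eq_one_of_isAlgClosed hK P,
    deg_eq_one_of_isAlgClosed hK Q, h2, ← h1] at h3
  norm_num at h3

end Groth.Agent.FF

namespace Groth.Agent.FF

universe u v
variable {k : Type u} {K : Type v} [Field k] [Field K] [Algebra k K]

/-- genus zero: every degree zero divisor is principal -/
lemma exists_ord_eq_of_deg_zero (hK : IsFunctionField k K) (hg0 : genus k K = 0)
    {E : Divisor k K} (hE : E.deg = 0) : ∃ u : K, u ≠ 0 ∧ ∀ P : Place k K, P.ord u = E P := by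
  have hdeg : (-E).deg = 0 := by rw [deg_neg, hE, neg_zero]
  have hell := ell_eq_of_deg_ge hK (-E) (by rw [hdeg, hg0]; norm_num)
  rw [hdeg, hg0] at hell
  have hpos : 0 < ell (-E) := by
    have : (ell (-E) : ℤ) = 1 := by simpa using hell
    omega
  obtain ⟨u, hu0, hu⟩ := exists_ne_zero_mem_L hpos
  refine ⟨u, hu0, fun P => ?_⟩
  have h := eq_neg_div_of_deg_zero hK hdeg hu0 hu
  have h2 : FunFld.div k u = E := by
    have := neg_add_eq_zero.mp h
    exact this.symm
  rw [← div_apply hK, h2]

/-- genus zero: a function with poles only at the simple pole `P'` of `x` is a polynomial in `x` -/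
lemma exists_poly_of_mem_L [IsAlgClosed k] (hK : IsFunctionField k K) (hg0 : genus k K = 0)
    {P' : Place k K} {x : K} (hx1 : P'.ord x = -1)
    (hx2 : ∀ Q : Place k K, Q ≠ P' → 0 ≤ Q.ord x) (d : ℕ) {g : K}
    (hg : g ∈ L (Finsupp.single P' (d : ℤ) : Divisor k K)) : ∃ p : k[X], aeval x p = g := by
  classical
  have htr : Transcendental k x := transcendental_of_ord_neg hK (P := P') (by rw [hx1]; norm_num)
  set φ : k[X] →ₗ[k] K := (aeval x).toLinearMap with hφ
  have hinj : Function.Injective φ := by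
    have := transcendental_iff_injective.mp htr
    exact this
  set W : Submodule k K := (degreeLT k (d + 1)).map φ with hW
  have hWle : W ≤ L (Finsupp.single P' (d : ℤ) : Divisor k K) := by
    rintro _ ⟨p, hp, rfl⟩
    intro Q
    rw [Finsupp.single_apply]
    by_cases hQ : P' = Q
    · subst hQ
      rw [if_pos rfl]
      by_cases hp0 : p = 0
      · rw [hp0, map_zero, map_zero]; exact zero_le
      · obtain ⟨hne, hord⟩ := ord_aeval_of_ord_eq_neg_one P' hx1 hp0
        change P'.1 (aeval x p) ≤ _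
        rw [val_le_exp_iff P' hne, hord]
        have hdeg : p.degree < ((d + 1 : ℕ) : WithBot ℕ) := mem_degreeLT.mp hp
        have : p.natDegree < d + 1 := (natDegree_lt_iff_degree_lt hp0).mpr hdeg
        omega
    · rw [if_neg hQ, exp_zero]
      exact val_aeval_le_one Q (val_le_one_of_ord_nonneg Q (hx2 Q (Ne.symm hQ))) p
  have hfinL := finite_L hK (Finsupp.single P' (d : ℤ) : Divisor k K)
  have hWrank : Module.finrank k W = d + 1 := by
    have e := Submodule.equivMapOfInjective φ hinj (degreeLT k (d + 1))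
    rw [hW, ← e.finrank_eq, (degreeLTEquiv k (d + 1)).finrank_eq, Module.finrank_fin_fun]
  have hLrank : Module.finrank k (L (Finsupp.single P' (d : ℤ) : Divisor k K)) = d + 1 := by
    have hdeg : Divisor.deg (Finsupp.single P' (d : ℤ) : Divisor k K) = d := by
      rw [deg_single, deg_eq_one_of_isAlgClosed hK P']; simp
    have hell := ell_eq_of_deg_ge hK (Finsupp.single P' (d : ℤ) : Divisor k K)
      (by rw [hdeg, hg0]; push_cast; omega)
    rw [hdeg, hg0] at hell
    have : (ell (Finsupp.single P' (d : ℤ) : Divisor k K) : ℤ) = d + 1 := by simpa using hell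
    unfold ell at this
    exact_mod_cast this
  have heq : W = L (Finsupp.single P' (d : ℤ) : Divisor k K) :=
    Submodule.eq_of_le_of_finrank_eq hWle (by rw [hWrank, hLrank])
  rw [← heq] at hg
  obtain ⟨p, -, hp⟩ := hg
  exact ⟨p, hp⟩

end Groth.Agent.FF

namespace Groth.Agent.FF

universe u v
variable {k : Type u} {K : Type v} [Field k] [Field K] [Algebra k K]
variable {V : Submodule k K} {D : Divisor k K} {r d : ℕ}

/-- the order at `P` of a section lying in `V(-mP)` but not in `V(-(m+1)P)` -/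
lemma ord_eq_of_mem_of_not_mem {P : Place k K} {m : ℕ} {b : K}
    (h1 : b ∈ V ⊓ L (D - Finsupp.single P (m : ℤ)))
    (h2 : b ∉ V ⊓ L (D - Finsupp.single P ((m + 1 : ℕ) : ℤ))) :
    b ≠ 0 ∧ P.ord b + D P = m := by
  classical
  have hb0 : b ≠ 0 := by
    rintro rfl
    exact h2 (Submodule.zero_mem _)
  refine ⟨hb0, ?_⟩
  have h3 : b ∉ L (D - Finsupp.single P ((m + 1 : ℕ) : ℤ)) := fun h => h2 ⟨h1.1, h⟩
  have hP := h1.2 P
  rw [val_le_exp_iff P hb0, Finsupp.sub_apply, Finsupp.single_apply, if_pos rfl] at hP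
  have h4 : ¬ (∀ Q : Place k K, Q.1 b ≤ exp ((D - Finsupp.single P ((m + 1 : ℕ) : ℤ)) Q)) := h3
  push Not at h4
  obtain ⟨Q, hQ⟩ := h4
  by_cases hQP : P = Q
  · subst hQP
    rw [← not_le, val_le_exp_iff P hb0, Finsupp.sub_apply, Finsupp.single_apply, if_pos rfl] at hQ
    push_cast at hQ
    omega
  · exfalso
    have h5 := h1.2 Q
    rw [Finsupp.sub_apply, Finsupp.single_apply, if_neg hQP] at h5
    rw [Finsupp.sub_apply, Finsupp.single_apply, if_neg hQP] at hQ
    exact absurd h5 (not_le.mpr hQ)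

/-- a basis of `V` adapted to the vanishing sequence at `P` -/
lemma exists_adapted [IsAlgClosed k] (hK : IsFunctionField k K) (h : IsGrd V D r d)
    (P : Place k K) :
    ∃ (b : Fin (r + 1) → K) (m : Fin (r + 1) → ℕ), Function.Injective m ∧
      (∀ i, b i ∈ V ∧ b i ≠ 0 ∧ P.ord (b i) + D P = m i) ∧
      LinearIndependent k b ∧ Submodule.span k (Set.range b) = V ∧
      ∑ i, m i = Wt V D P d := by
  set F : ℕ → Submodule k K := fun j => V ⊓ L (D - Finsupp.single P (j : ℤ)) with hF
  have hF0 : F 0 = V := by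
    simp only [hF, Nat.cast_zero, Finsupp.single_zero, sub_zero]
    exact inf_eq_left.mpr h.le
  have hanti : Antitone F := by
    intro i j hij
    exact inf_le_inf_left V (L_mono (sub_single_le D P (by exact_mod_cast hij)))
  have : FiniteDimensional k ↥(F 0) := by rw [hF0]; exact h.finite hK
  have hbot : F (d + 1) = ⊥ := by
    have hdeg : (D - Finsupp.single P ((d + 1 : ℕ) : ℤ)).deg < 0 := by
      rw [deg_sub, deg_single, h.deg, deg_eq_one_of_isAlgClosed hK P]; push_cast; linarith
    simp only [hF]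
    rw [L_eq_bot_of_deg_neg hK _ hdeg, inf_bot_eq]
  have hstep : ∀ j, Module.finrank k (F j) ≤ Module.finrank k (F (j + 1)) + 1 := by
    intro j
    have := vdim_le_succ hK V D P (j : ℤ)
    unfold vdim at this
    change Module.finrank k ↥(V ⊓ L (D - Finsupp.single P ((j : ℕ) : ℤ))) ≤
      Module.finrank k ↥(V ⊓ L (D - Finsupp.single P ((j + 1 : ℕ) : ℤ))) + 1
    rw [Nat.cast_succ]
    exact this
  have hn : Module.finrank k (F 0) = r + 1 := by rw [hF0, h.rank]
  obtain ⟨b, m, hm, hmem, hli, hspan, hsum⟩ :=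
    Groth.Agent.Wr.exists_adapted_basis F hanti d hbot hstep (r + 1) hn
  refine ⟨b, m, hm, ?_, hli, by rw [hspan, hF0], ?_⟩
  · intro i
    have h1 : b i ∈ V := (hmem i).1.1
    obtain ⟨h2, h3⟩ := ord_eq_of_mem_of_not_mem (hmem i).1 (hmem i).2
    exact ⟨h1, h2, h3⟩
  · rw [hsum]
    unfold Wt vdim
    apply Finset.sum_congr rfl
    intro j _
    change Module.finrank k ↥(V ⊓ L (D - Finsupp.single P ((j + 1 : ℕ) : ℤ))) = _
    rw [Nat.cast_succ]

end Groth.Agent.FF

namespace Groth.Agent.FF

universe u v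
variable {k : Type u} {K : Type v} [Field k] [Field K] [Algebra k K]
variable {V : Submodule k K} {D : Divisor k K} {r d : ℕ}

/-- the weight at a finite place is the order of vanishing of the Wronskian plus `r(r+1)/2` -/
lemma wt_eq_rootMult [IsAlgClosed k] [CharZero k] (hK : IsFunctionField k K) (h : IsGrd V D r d)
    {P' : Place k K} {x u : K}
    (hu : ∀ P : Place k K, P.ord u = (D - Finsupp.single P' (d : ℤ)) P) (hu0 : u ≠ 0)
    {b' : Fin (r + 1) → K} (hspan : Submodule.span k (Set.range b') = V)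
    {p : Fin (r + 1) → k[X]} (hp : ∀ i, aeval x (p i) = u * b' i)
    {P : Place k K} (hP : P ≠ P') {a : k} (ha : P.ord (x - algebraMap k K a) = 1) :
    Wr.wr p ≠ 0 ∧
      Wt V D P d = ∑ j : Fin (r + 1), (j : ℕ) + (Wr.wr p).rootMultiplicity a := by
  classical
  obtain ⟨b, m, hm, hb, -, -, hsum⟩ := exists_adapted hK h P
  have hex : ∀ i, ∃ c : Fin (r + 1) → k, ∑ l, c l • b' l = b i := by
    intro i
    have : b i ∈ Submodule.span k (Set.range b') := by rw [hspan]; exact (hb i).1
    exact (Submodule.mem_span_range_iff_exists_fun k).mp this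
  choose M hM using hex
  have hq : ∀ i, aeval x (∑ l, M i l • p l) = u * b i := by
    intro i
    rw [map_sum]
    simp only [map_smul, hp]
    rw [← hM i, Finset.mul_sum]
    apply Finset.sum_congr rfl
    intro l _
    rw [mul_smul_comm]
  have hq0 : ∀ i, ∑ l, M i l • p l ≠ 0 := by
    intro i h0
    have := hq i
    rw [h0, map_zero] at this
    exact mul_ne_zero hu0 (hb i).2.1 this.symm
  have hqm : ∀ i, (∑ l, M i l • p l).rootMultiplicity a = m i := by
    intro i
    have h1 := (ord_aeval_of_ord_sub_eq_one P ha (hq0 i)).2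
    rw [hq i, ord_mul P hu0 (hb i).2.1, hu P, Finsupp.sub_apply, Finsupp.single_apply,
      if_neg (Ne.symm hP)] at h1
    have h2 := (hb i).2.2
    have : ((∑ l, M i l • p l).rootMultiplicity a : ℤ) = (m i : ℤ) := by linarith
    exact_mod_cast this
  obtain ⟨hW, hsum2⟩ := Wr.wr_rootMult p a (Matrix.of M) m hm hq0 hqm
  exact ⟨hW, by rw [← hsum, hsum2]⟩

end Groth.Agent.FF

namespace Groth.Agent.FF

universe u v
variable {k : Type u} {K : Type v} [Field k] [Field K] [Algebra k K]
variable {V : Submodule k K} {D : Divisor k K} {r d : ℕ}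

lemma sum_fin_id (r : ℕ) : ∑ j : Fin (r + 1), (j : ℕ) = r * (r + 1) / 2 := by
  rw [Fin.sum_univ_eq_sum_range (fun j => j) (r + 1), Finset.sum_range_id]
  simp [mul_comm]

theorem plucker_aux [IsAlgClosed k] [CharZero k] (hK : IsFunctionField k K)
    (hg0 : genus k K = 0) (h : IsGrd V D r d) (P' : Place k K) (S : Finset (Place k K))
    (hS : P' ∉ S) :
    ∑ P ∈ S, Wt V D P d + Wt V D P' d + r * (r + 1) / 2 ≤
      (r + 1) * d + S.card * (r * (r + 1) / 2) := by
  classical
  obtain ⟨P₀, hP₀⟩ := exists_ne_place hK P'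
  obtain ⟨x, hx0, hx⟩ := exists_div_eq_sub_of_genus_zero hK hg0
    (deg_eq_one_of_isAlgClosed hK P₀) (deg_eq_one_of_isAlgClosed hK P')
  have hordx : ∀ R : Place k K,
      R.ord x = (Finsupp.single P₀ 1 - Finsupp.single P' 1 : Divisor k K) R := by
    intro R; rw [← hx, div_apply hK]
  have hx1 : P'.ord x = -1 := by
    rw [hordx, Finsupp.sub_apply, Finsupp.single_apply, Finsupp.single_apply, if_neg hP₀,
      if_pos rfl]; norm_num
  have hx2 : ∀ Q : Place k K, Q ≠ P' → 0 ≤ Q.ord x := by
    intro Q hQ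
    rw [hordx, Finsupp.sub_apply, Finsupp.single_apply, Finsupp.single_apply,
      if_neg (Ne.symm hQ)]
    split_ifs <;> norm_num
  -- reduce to the divisor `d P'`
  have hE : (D - Finsupp.single P' (d : ℤ)).deg = 0 := by
    rw [deg_sub, deg_single, h.deg, deg_eq_one_of_isAlgClosed hK P']; simp
  obtain ⟨u, hu0, hu⟩ := exists_ord_eq_of_deg_zero hK hg0 hE
  -- reference basis, adapted at `P'`
  obtain ⟨b', m', -, hb', -, hspan', hsum'⟩ := exists_adapted hK h P'
  have hmemL : ∀ i, u * b' i ∈ L (Finsupp.single P' (d : ℤ) : Divisor k K) := by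
    intro i Q
    have hne : u * b' i ≠ 0 := mul_ne_zero hu0 (hb' i).2.1
    rw [val_le_exp_iff Q hne, ord_mul Q hu0 (hb' i).2.1, hu Q, Finsupp.sub_apply]
    have := h.le (hb' i).1 Q
    rw [val_le_exp_iff Q (hb' i).2.1] at this
    linarith
  have hex : ∀ i, ∃ p : k[X], aeval x p = u * b' i := fun i =>
    exists_poly_of_mem_L hK hg0 hx1 hx2 d (hmemL i)
  choose p hp using hex
  have hp0 : ∀ i, p i ≠ 0 := by
    intro i h0
    have := hp i
    rw [h0, map_zero] at this
    exact mul_ne_zero hu0 (hb' i).2.1 this.symm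
  have hdeg : ∀ i, (p i).natDegree + m' i = d := by
    intro i
    have h1 := (ord_aeval_of_ord_eq_neg_one P' hx1 (hp0 i)).2
    rw [hp i, ord_mul P' hu0 (hb' i).2.1, hu P', Finsupp.sub_apply, Finsupp.single_apply,
      if_pos rfl] at h1
    have h2 := (hb' i).2.2
    have : ((p i).natDegree : ℤ) + (m' i : ℤ) = (d : ℤ) := by linarith
    exact_mod_cast this
  have hsumdeg : ∑ i, (p i).natDegree + Wt V D P' d = (r + 1) * d := by
    rw [← hsum', ← Finset.sum_add_distrib]
    rw [Finset.sum_congr rfl (fun i _ => hdeg i)]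
    simp
  -- coordinates of the finite places
  have hexa : ∀ P : Place k K, P ≠ P' → ∃ a : k, P.ord (x - algebraMap k K a) = 1 :=
    fun P hP => exists_const_ord_sub_eq_one hK hx1 hx2 hP
  choose! a ha using hexa
  have hW : Wr.wr p ≠ 0 := (wt_eq_rootMult hK h hu hu0 hspan' hp hP₀ (ha P₀ hP₀)).1
  have hwt : ∀ P ∈ S, Wt V D P d =
      ∑ j : Fin (r + 1), (j : ℕ) + (Wr.wr p).rootMultiplicity (a P) := by
    intro P hPS
    have hP : P ≠ P' := fun h => hS (h ▸ hPS)
    exact (wt_eq_rootMult hK h hu hu0 hspan' hp hP (ha P hP)).2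
  have hinj : Set.InjOn a (S : Set (Place k K)) := by
    intro P hPS Q hQS hPQ
    by_contra hne
    have hP : P ≠ P' := fun h => hS (h ▸ hPS)
    have hQ : Q ≠ P' := fun h => hS (h ▸ hQS)
    have h1 := ha P hP
    have h2 := ha Q hQ
    rw [← hPQ] at h2
    exact const_ne_of_place_ne hK hx1 hx2 hne h1 h2
  have hpl := Wr.poly_plucker p hW (S.image a)
  rw [Finset.sum_image hinj] at hpl
  rw [Finset.sum_congr rfl hwt, Finset.sum_add_distrib, Finset.sum_const, smul_eq_mul,
    sum_fin_id] at *
  omega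

end Groth.Agent.FF

namespace Groth.Agent.FF

universe u v
variable {k : Type u} {K : Type v} [Field k] [Field K] [Algebra k K]
variable {V : Submodule k K} {D : Divisor k K} {r d : ℕ}

/-- **Plücker inequality** on a function field of genus zero over an algebraically closed field
of characteristic zero: `∑_{P ∈ S} w(P) ≤ (r+1)(d-r)`, where
`w(P) = Wt V D P d - r(r+1)/2`. -/
theorem plucker [IsAlgClosed k] [CharZero k] (hK : IsFunctionField k K)
    (hg0 : genus k K = 0) (h : IsGrd V D r d) (S : Finset (Place k K)) :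
    ∑ P ∈ S, Wt V D P d + r * (r + 1) ≤ (r + 1) * d + S.card * (r * (r + 1) / 2) := by
  classical
  have htri := tri_mul_two r
  rcases S.eq_empty_or_nonempty with hS | ⟨P', hP'⟩
  · subst hS
    obtain ⟨⟨x, hx, -⟩, -⟩ := id hK
    obtain ⟨P, -⟩ := exists_zero_of_transcendental hK hx
    have := h.r_le_d hK P
    simp only [Finset.sum_empty, Finset.card_empty, zero_mul, add_zero, zero_add]
    nlinarith
  · have h1 := plucker_aux hK hg0 h P' (S.erase P') (Finset.notMem_erase P' S)
    have h2 := Finset.add_sum_erase S (fun P => Wt V D P d) hP'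
    have h3 := Finset.card_erase_add_one hP'
    rw [← h2, ← h3]
    have : (S.erase P').card * (r * (r + 1) / 2) + r * (r + 1) / 2 =
        ((S.erase P').card + 1) * (r * (r + 1) / 2) := by ring
    omega

end Groth.Agent.FF
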