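import Groth.Agent.FunFld.Plucker

/-!
# The Plücker inequality for a list of distinct places
-/

set_option autoImplicit false

open FunFld

namespace Groth.Agent.FF

universe u v
variable {k : Type u} {K : Type v} [Field k] [Field K] [Algebra k K]
variable {V : Submodule k K} {D : Divisor k K} {r d : ℕ}

theorem plucker_list [IsAlgClosed k] [CharZero k] (hK : IsFunctionField k K)
    (hg0 : genus k K = 0) (h : IsGrd V D r d) (l : List (Place k K)) (hl : l.Nodup) :
    (l.map (fun P => Wt V D P d)).sum + r * (r + 1) ≤
      (r + 1) * d + l.length * (r * (r + 1) / 2) := by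
  classical
  have := plucker hK hg0 h l.toFinset
  rwa [List.sum_toFinset _ hl, List.toFinset_card_of_nodup hl] at this

end Groth.Agent.FF
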