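import Groth.Agent.FunFld.Chain

/-!
# Polynomial independence implies linear independence over `k(x)`
-/

set_option autoImplicit false

open FunFld IntermediateField Polynomial

namespace Groth.Agent.FF

universe u v
variable {k : Type u} {K : Type v} [Field k] [Field K] [Algebra k K]

open scoped algebraAdjoinAdjoin in
/-- If a finite family `y` satisfies no nontrivial polynomial relation `∑ φᵢ(x) yᵢ = 0`,
then it is linearly independent over `k(x)`. -/
theorem linearIndependent_adjoin_of_poly {ι : Type*} [Fintype ι] (x : K) (y : ι → K)
    (h : ∀ φ : ι → k[X], ∑ i, aeval x (φ i) * y i = 0 → ∀ i, φ i = 0) :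
    LinearIndependent (adjoin k ({x} : Set K)) y := by
  rw [← LinearIndependent.iff_fractionRing (Algebra.adjoin k ({x} : Set K))
    (adjoin k ({x} : Set K)), Fintype.linearIndependent_iff]
  intro g hg i
  have hmem : ∀ i, ∃ p : k[X], aeval x p = (g i : K) := by
    intro i
    have h1 : (g i : K) ∈ Algebra.adjoin k ({x} : Set K) := (g i).2
    have h2 : (g i : K) ∈ (aeval x : k[X] →ₐ[k] K).range := by
      rw [← Algebra.adjoin_singleton_eq_range_aeval]; exact h1
    exact h2
  choose φ hφ using hmem
  have hrel : ∑ i, aeval x (φ i) * y i = 0 := by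
    rw [← hg]
    apply Finset.sum_congr rfl
    intro i _
    rw [hφ i]
    rfl
  have := h φ hrel i
  apply Subtype.ext
  rw [← hφ i, this]
  simp

/-- Cardinality bound from polynomial independence. -/
theorem card_le_finrank_of_poly (hK : IsFunctionField k K) {ι : Type*} [Fintype ι] {x : K}
    (hx : Transcendental k x) (y : ι → K)
    (h : ∀ φ : ι → k[X], ∑ i, aeval x (φ i) * y i = 0 → ∀ i, φ i = 0) :
    Fintype.card ι ≤ Module.finrank (adjoin k ({x} : Set K)) K := by
  have := finite_adjoin_of_transcendental hK hx
  exact (linearIndependent_adjoin_of_poly x y h).fintype_card_le_finrank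

end Groth.Agent.FF
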