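import Groth.Agent.FunFld.HypGenus

/-!
# Quadratic extensions of `k(x)`: the genus from an integral basis `{1, w}`
-/

set_option autoImplicit false
set_option linter.unusedSectionVars false

open FunFld IntermediateField WithZero Polynomial

namespace Groth.Agent.FF.Quad

open Groth.Agent.FF.Ext Groth.Agent.FF.AS2 Groth.Agent.FF.Hyp

universe u v

variable {k : Type u} {K : Type v} [Field k] [Field K] [Algebra k K]
  [Algebra (RatFunc k) K] [IsScalarTower k (RatFunc k) K]

local notation "ι" => algebraMap (Polynomial k) (RatFunc k)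
local notation "j" => algebraMap (RatFunc k) K

variable (k K) in
/-- a quadratic extension of `k(x)` that is a function field over `k` -/
structure Data : Prop where
  hK : IsFunctionField k K
  hdeg : Module.finrank (RatFunc k) K = 2

namespace Data

variable (S : Data k K)
include S

lemma fd : FiniteDimensional (RatFunc k) K :=
  FiniteDimensional.of_finrank_pos (by rw [S.hdeg]; norm_num)

omit S in
lemma jpoly (q : k[X]) : j (ι q) = aeval (j RatFunc.X) q := by
  rw [← RatFunc.algebraMap_X, aeval_algebraMap_apply, aeval_algebraMap_apply, aeval_X_left_apply]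

omit S in
lemma trans_x : Transcendental k (j RatFunc.X) := by
  have h := RatFunc.transcendental_X (K := k)
  exact (transcendental_algebraMap_iff (algebraMap (RatFunc k) K).injective).mpr h

/-- the pole divisor of `x` has degree `2` -/
lemma deg_poleDiv : (poleDiv k (j RatFunc.X)).deg = 2 := by
  have hfd := S.fd
  rw [deg_poleDiv_eq S.hK trans_x, finrank_adjoin_map (k := k) (K := RatFunc k) (K' := K)
    RatFunc.X, S.hdeg, RatFunc.adjoin_X, IntermediateField.finrank_top]
  norm_num

/-- the value of the pole divisor at a finite place -/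
lemma poleDiv_of_le_one (P : Place k K) (hP : P.1 (j RatFunc.X) ≤ 1) :
    poleDiv k (j RatFunc.X) P = 0 := by
  have hx0 : j (RatFunc.X : RatFunc k) ≠ 0 := j_ne_zero RatFunc.X_ne_zero
  rw [poleDiv_apply S.hK]
  rw [val_le_one_iff P hx0] at hP
  exact max_eq_right (by omega)

/-- the value of the pole divisor at an infinite place -/
lemma poleDiv_of_one_lt (P : Place k K) (hP : 1 < P.1 (j RatFunc.X)) :
    P.1 (j RatFunc.X) = exp (poleDiv k (j RatFunc.X) P) ∧ 0 < poleDiv k (j RatFunc.X) P ∧
      poleDiv k (j RatFunc.X) P = -P.ord (j RatFunc.X) := by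
  have hx0 : j (RatFunc.X : RatFunc k) ≠ 0 := j_ne_zero RatFunc.X_ne_zero
  have hneg : P.ord (j RatFunc.X) < 0 := by
    by_contra h
    rw [not_lt, ← val_le_one_iff P hx0] at h
    exact absurd hP (not_lt.mpr h)
  rw [poleDiv_apply S.hK, max_eq_left (by omega)]
  exact ⟨val_eq_exp_neg_ord P hx0, by omega, rfl⟩

/-- polynomials in `x` of degree `≤ m` lie in `L(m (x)_∞)` -/
lemma val_poly_le (P : Place k K) {q : k[X]} {m : ℕ} (hq : q.natDegree ≤ m) :
    P.1 (aeval (j RatFunc.X) q) ≤ exp ((m : ℤ) * poleDiv k (j RatFunc.X) P) := by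
  by_cases hP : P.1 (j RatFunc.X) ≤ 1
  · rw [S.poleDiv_of_le_one P hP, mul_zero, exp_zero]
    exact gval_aeval_le_one P.1 P.2.1 hP q
  · rw [not_le] at hP
    by_cases hq0 : q = 0
    · rw [hq0, map_zero, map_zero]
      exact zero_le
    obtain ⟨h1, h2, -⟩ := S.poleDiv_of_one_lt P hP
    rw [val_aeval_of_one_lt P hP hq0, h1, ← exp_nsmul, exp_le_exp, nsmul_eq_mul]
    have : (q.natDegree : ℤ) ≤ m := by exact_mod_cast hq
    nlinarith

/-- `L(n (x)_∞)` is stable under the automorphisms of `K/k(x)` -/
lemma map_mem_L (σ : K ≃ₐ[RatFunc k] K) {n : ℕ} {z : K} (hz : z ∈ L (nD k K n)) :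
    σ z ∈ L (nD k K n) := by
  intro P
  have h := hz (Place.comapEquiv P σ)
  rw [Place.comapEquiv_apply] at h
  refine h.trans_eq ?_
  rw [Hyp.Setup.nD_apply, Hyp.Setup.nD_apply, poleDiv_apply S.hK, poleDiv_apply S.hK]
  have : (Place.comapEquiv P σ).ord (j RatFunc.X) = P.ord (j RatFunc.X) := by
    unfold Place.ord
    rw [Place.comapEquiv_apply, σ.commutes]
  rw [this]

/-- every element of `K` is `a + b w` -/
lemma exists_decomp {w : K} (hw : w ∉ Set.range j) (z : K) :
    ∃ a b : RatFunc k, z = j a + j b * w := by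
  have hfd := S.fd
  have hli : LinearIndependent (RatFunc k) ![(1 : K), w] := by
    rw [LinearIndependent.pair_iff]
    intro s t hst
    by_cases ht : t = 0
    · subst ht
      rw [zero_smul, add_zero, Algebra.smul_def, mul_one] at hst
      exact ⟨(map_eq_zero _).mp hst, rfl⟩
    · exfalso
      apply hw
      refine ⟨-s / t, ?_⟩
      rw [Algebra.smul_def, Algebra.smul_def, mul_one] at hst
      rw [map_div₀, map_neg, div_eq_iff ((_root_.map_ne_zero _).mpr ht)]
      linear_combination -hst
  have hcard : Fintype.card (Fin 2) = Module.finrank (RatFunc k) K := by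
    rw [S.hdeg, Fintype.card_fin]
  let b := basisOfLinearIndependentOfCardEqFinrank hli hcard
  have hz := b.sum_repr z
  rw [Fin.sum_univ_two] at hz
  simp only [b, coe_basisOfLinearIndependentOfCardEqFinrank, Matrix.cons_val_zero,
    Matrix.cons_val_one] at hz
  refine ⟨b.repr z 0, b.repr z 1, ?_⟩
  rw [Algebra.smul_def, Algebra.smul_def, mul_one] at hz
  exact hz.symm

/-- there is an infinite place of `k(x)` -/
lemma exists_inf_place : ∃ p : Place k (RatFunc k), 1 < p.1 (RatFunc.X : RatFunc k) := by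
  have hKr := isFunctionField_ratFunc k
  have hXtr : Transcendental k (RatFunc.X : RatFunc k) := RatFunc.transcendental_X (K := k)
  obtain ⟨p, hp'⟩ := exists_pole_of_transcendental hKr hXtr
  refine ⟨p, ?_⟩
  by_contra hle
  rw [not_lt, val_le_one_iff p RatFunc.X_ne_zero] at hle
  omega

/-- elements of `k(x)` in `L(m (x)_∞)` are polynomials of degree `≤ m` -/
lemma exists_poly_of_mem_L {m : ℕ} {w : RatFunc k} (hw : j w ∈ L (nD k K m)) :
    ∃ q : k[X], w = ι q ∧ q.natDegree ≤ m := by
  have hfd := S.fd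
  have hKr := isFunctionField_ratFunc k
  have hint : ∀ p : Place k (RatFunc k), p.1 RatFunc.X ≤ 1 → p.1 w ≤ 1 := by
    intro p hp
    obtain ⟨P, e, he⟩ := exists_isOver (K' := K) hKr p
    have hP : P.1 (j RatFunc.X) ≤ 1 := (le_one_iff he _).mpr hp
    have h := hw P
    rw [Hyp.Setup.nD_apply, S.poleDiv_of_le_one P hP, mul_zero, exp_zero] at h
    exact (le_one_iff he w).mp h
  obtain ⟨q, rfl⟩ := exists_poly_of_integral w hint
  refine ⟨q, rfl, ?_⟩
  by_cases hq0 : q = 0
  · rw [hq0, natDegree_zero]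
    exact Nat.zero_le _
  obtain ⟨p, hp⟩ := S.exists_inf_place
  obtain ⟨P, e, he⟩ := exists_isOver (K' := K) hKr p
  have hP : 1 < P.1 (j RatFunc.X) := by
    by_contra hle
    rw [not_lt] at hle
    exact absurd ((le_one_iff he _).mp hle) (not_le.mpr hp)
  obtain ⟨h1, h2, -⟩ := S.poleDiv_of_one_lt P hP
  have h := hw P
  rw [Hyp.Setup.nD_apply, jpoly, val_aeval_of_one_lt P hP hq0, h1, ← exp_nsmul, exp_le_exp,
    nsmul_eq_mul] at h
  have : (q.natDegree : ℤ) ≤ m := by
    by_contra hlt
    rw [not_le] at hlt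
    nlinarith
  exact_mod_cast this

/-- the genus from an integral basis `{1, w}` with `w` of "degree" `c` -/
theorem genus_eq_of_basis {w : K} (hw : w ∉ Set.range j) {c : ℕ}
    (hL : ∀ (n : ℕ) (z : K), z ∈ L (nD k K n) ↔ ∃ a b : k[X], a.natDegree ≤ n ∧
      (b = 0 ∨ b.natDegree + c ≤ n) ∧ z = aeval (j RatFunc.X) a + aeval (j RatFunc.X) b * w) :
    (genus k K : ℤ) = (c : ℤ) - 1 := by
  have hell : ∀ m : ℕ, ell (nD k K (m + c)) = (m + c + 1) + (m + 1) := by
    intro m
    let Φ : (degreeLT k (m + c + 1)) × (degreeLT k (m + 1)) →ₗ[k] K :=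
      ((Polynomial.aeval (j RatFunc.X)).toLinearMap.comp (degreeLT k (m + c + 1)).subtype).coprod
        ((LinearMap.mulRight k w).comp
          ((Polynomial.aeval (j RatFunc.X)).toLinearMap.comp (degreeLT k (m + 1)).subtype))
    have hΦ : ∀ ab, Φ ab = aeval (j RatFunc.X) (ab.1 : k[X]) +
        aeval (j RatFunc.X) (ab.2 : k[X]) * w := fun ab => rfl
    have hinjx : Function.Injective (aeval (R := k) (j RatFunc.X)) :=
      transcendental_iff_injective.mp trans_x
    have hinj : Function.Injective Φ := by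
      rw [← LinearMap.ker_eq_bot, LinearMap.ker_eq_bot']
      rintro ⟨a, b⟩ hab
      rw [hΦ] at hab
      have hb0 : (b : k[X]) = 0 := by
        by_contra hne
        apply hw
        have hne' : aeval (j RatFunc.X) (b : k[X]) ≠ 0 := by
          intro h0
          exact hne (hinjx (by rw [h0, map_zero]))
        refine ⟨-(ι (a : k[X])) / ι (b : k[X]), ?_⟩
        rw [map_div₀, map_neg, jpoly, jpoly, div_eq_iff hne']
        linear_combination -hab
      have ha0 : (a : k[X]) = 0 := by
        simp only [hb0, map_zero, zero_mul, add_zero] at hab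
        exact hinjx (by rw [hab, map_zero])
      exact Prod.ext (Subtype.ext ha0) (Subtype.ext hb0)
    have hrange : LinearMap.range Φ = L (nD k K (m + c)) := by
      apply le_antisymm
      · rintro _ ⟨⟨a, b⟩, rfl⟩
        rw [hΦ, hL]
        refine ⟨a, b, mem_degreeLT_succ_iff.mp a.2, ?_, rfl⟩
        right
        have hbd : (b : k[X]).natDegree ≤ m := mem_degreeLT_succ_iff.mp b.2
        omega
      · intro z hz
        obtain ⟨a, b, ha, hb, rfl⟩ := (hL _ _).mp hz
        have hbm : b ∈ degreeLT k (m + 1) := by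
          rw [mem_degreeLT_succ_iff]
          rcases hb with rfl | hb
          · simp
          · omega
        exact ⟨(⟨a, mem_degreeLT_succ_iff.mpr ha⟩, ⟨b, hbm⟩), rfl⟩
    have e1 := (LinearEquiv.ofInjective Φ hinj).finrank_eq
    rw [hrange] at e1
    unfold ell
    rw [← e1, Module.finrank_prod, (degreeLTEquiv k (m + c + 1)).finrank_eq,
      (degreeLTEquiv k (m + 1)).finrank_eq, Module.finrank_fin_fun, Module.finrank_fin_fun]
  obtain ⟨g, hg⟩ : ∃ g : ℕ, g = genus k K := ⟨_, rfl⟩
  have h1 := hell (g + 1)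
  have hdeg : (nD k K (g + 1 + c)).deg = 2 * ((g + 1 + c : ℕ) : ℤ) := by
    rw [deg_zsmul, S.deg_poleDiv]
    ring
  have hrr := ell_eq_of_deg_ge S.hK (nD k K (g + 1 + c)) (by
    rw [hdeg, ← hg]
    push_cast
    omega)
  rw [h1, hdeg, ← hg] at hrr
  push_cast at hrr
  omega

end Data

end Groth.Agent.FF.Quad
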