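import Groth.Agent.FunFld.GaloisEF

/-!
# Places in quadratic extensions
-/

set_option autoImplicit false
set_option linter.unusedSectionVars false

open FunFld WithZero IntermediateField

namespace Groth.Agent.FF.Ext

open Groth.Agent.FF

variable {k K K' : Type*} [Field k] [Field K] [Field K'] [Algebra k K] [Algebra K K']
  [Algebra k K'] [IsScalarTower k K K']

/-- in a quadratic extension the ramification index is at most `2` -/
lemma ramIdx_le_two [FiniteDimensional K K'] (hdeg : Module.finrank K K' = 2) {P : Place k K}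
    {Q : Place k K'} {e : ℕ} (he : IsOverWith Q P e) : e ≤ 2 := by
  classical
  have h := sum_ramIdx_le_finrank P {Q} (fun Q' hQ' => by
    rw [Finset.mem_singleton] at hQ'
    subst hQ'
    exact ⟨e, he⟩)
  rw [Finset.sum_singleton, ramIdx_eq he, hdeg] at h
  exact h

/-- a place of ramification index `2` in a quadratic extension is the only place above -/
lemma unique_of_ramIdx_two [FiniteDimensional K K'] (hdeg : Module.finrank K K' = 2)
    {P : Place k K} {Q Q' : Place k K'} (he : IsOverWith Q P 2) (h' : IsOver Q' P) : Q' = Q := by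
  classical
  by_contra hne
  have h := sum_ramIdx_le_finrank P {Q, Q'} (fun Q'' hQ'' => by
    rw [Finset.mem_insert, Finset.mem_singleton] at hQ''
    rcases hQ'' with rfl | rfl
    · exact ⟨2, he⟩
    · exact h')
  rw [Finset.sum_pair (Ne.symm hne), ramIdx_eq he, hdeg] at h
  obtain ⟨e', he'⟩ := h'
  rw [ramIdx_eq he'] at h
  have := e_pos he'
  omega

/-- if every place above `P` has even ramification index, there is exactly one, with `e = 2`,
`f = 1` -/
theorem quadratic_ramified [FiniteDimensional K K'] (hK : IsFunctionField k K)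
    (hdeg : Module.finrank K K' = 2) (P : Place k K)
    (hpar : ∀ (Q : Place k K') (e : ℕ), IsOverWith Q P e → Even e) :
    (∃! Q : Place k K', IsOver Q P) ∧
      ∀ Q : Place k K', IsOver Q P → IsOverWith Q P 2 ∧ Q.deg = P.deg := by
  classical
  have h2 : ∀ Q : Place k K', IsOver Q P → IsOverWith Q P 2 := by
    rintro Q ⟨e, he⟩
    have h1 := ramIdx_le_two hdeg he
    have h3 := e_pos he
    obtain ⟨m, hm⟩ := hpar Q e he
    have : e = 2 := by omega
    rw [← this]
    exact he
  have hfin : {Q : Place k K' | IsOver Q P}.Finite := finite_isOver P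
  have hmem : ∀ Q, Q ∈ hfin.toFinset ↔ IsOver Q P := fun Q => by
    rw [Set.Finite.mem_toFinset]; rfl
  have hsum := sum_ramIdx_mul_deg_eq hK P hfin.toFinset hmem
  rw [hdeg] at hsum
  have hne : hfin.toFinset.Nonempty := by
    by_contra hemp
    rw [Finset.not_nonempty_iff_eq_empty] at hemp
    rw [hemp, Finset.sum_empty] at hsum
    have := deg_pos hK P
    omega
  obtain ⟨Q₀, hQ₀⟩ := hne
  have hQ₀' := (hmem Q₀).mp hQ₀
  have huniq : ∀ Q, IsOver Q P → Q = Q₀ := fun Q hQ => unique_of_ramIdx_two hdeg (h2 Q₀ hQ₀') hQ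
  have hsing : hfin.toFinset = {Q₀} := by
    ext Q
    rw [Finset.mem_singleton, hmem]
    exact ⟨huniq Q, fun h => h ▸ hQ₀'⟩
  rw [hsing, Finset.sum_singleton, ramIdx_eq (h2 Q₀ hQ₀')] at hsum
  refine ⟨⟨Q₀, hQ₀', fun Q hQ => huniq Q hQ⟩, fun Q hQ => ⟨h2 Q hQ, ?_⟩⟩
  rw [huniq Q hQ]
  omega

section Conj

open Polynomial

/-- the conjugation of a quadratic extension -/
lemma exists_conj_quadratic {K K' : Type*} [Field K] [Field K'] [Algebra K K']
    [FiniteDimensional K K'] (hdeg : Module.finrank K K' = 2)
    {y : K'} {a b : K} (hy : y ∉ Set.range (algebraMap K K'))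
    (heq : y ^ 2 + algebraMap K K' a * y + algebraMap K K' b = 0) :
    ∃ σ : K' ≃ₐ[K] K', σ y = -algebraMap K K' a - y := by
  classical
  have hint : IsIntegral K y := IsIntegral.of_finite K y
  set q : K[X] := X ^ 2 + C a * X + C b with hq
  have hqdeg : q.natDegree = 2 := by
    rw [hq]
    compute_degree!
  have hqm : q.Monic := by
    rw [hq]
    monicity!
  have hqy : aeval y q = 0 := by
    rw [hq]
    simp only [map_add, map_mul, map_pow, aeval_X, aeval_C]
    exact heq
  have hdvd : minpoly K y ∣ q := minpoly.dvd K y hqy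
  have h2 : 2 ≤ (minpoly K y).natDegree :=
    (minpoly.two_le_natDegree_iff hint).mpr (by simpa using hy)
  have hmin : minpoly K y = q :=
    (Polynomial.eq_of_monic_of_dvd_of_natDegree_le (minpoly.monic hint) hqm hdvd
      (by rw [hqdeg]; exact h2)).symm
  have htop : K⟮y⟯ = ⊤ := by
    apply IntermediateField.eq_of_le_of_finrank_eq le_top
    rw [IntermediateField.adjoin.finrank hint, hmin, hqdeg, IntermediateField.finrank_top', hdeg]
  let pb := IntermediateField.adjoin.powerBasis hint
  have hy' : aeval (-algebraMap K K' a - y) (minpoly K pb.gen) = 0 := by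
    rw [IntermediateField.adjoin.powerBasis_gen, IntermediateField.minpoly_gen, hmin, hq]
    simp only [map_add, map_mul, map_pow, aeval_X, aeval_C]
    linear_combination heq
  let φ : K⟮y⟯ →ₐ[K] K' := pb.lift _ hy'
  let e : K' ≃ₐ[K] K⟮y⟯ :=
    (IntermediateField.topEquiv.symm).trans (IntermediateField.equivOfEq htop.symm)
  let σ₀ : K' →ₐ[K] K' := φ.comp e.toAlgHom
  have hbij := Algebra.IsAlgebraic.algHom_bijective σ₀
  refine ⟨AlgEquiv.ofBijective σ₀ hbij, ?_⟩
  show φ (e y) = _
  have hey : e y = pb.gen := by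
    apply Subtype.ext
    rfl
  rw [hey]
  exact pb.lift_gen _ hy'

end Conj

/-- a criterion for a place of a quadratic extension to be unramified: the derivative of the
(integral) quadratic equation of a generator is a unit -/
theorem quadratic_unramified [FiniteDimensional K K'] (hdeg : Module.finrank K K' = 2)
    {P : Place k K} {Q : Place k K'} {e : ℕ} (he : IsOverWith Q P e)
    {y : K'} {a b : K} (hy : y ∉ Set.range (algebraMap K K'))
    (heq : y ^ 2 + algebraMap K K' a * y + algebraMap K K' b = 0)
    (hy1 : Q.1 y ≤ 1) (hunit : Q.1 (2 * y + algebraMap K K' a) = 1) : e = 1 := by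
  by_contra hne
  have he2 : e = 2 := by
    have := ramIdx_le_two hdeg he
    have := e_pos he
    omega
  subst he2
  obtain ⟨σ, hσ⟩ := exists_conj_quadratic hdeg hy heq
  -- `σ` fixes `Q`
  have hQσ : Place.comapEquiv Q σ = Q :=
    unique_of_ramIdx_two hdeg he ⟨2, isOverWith_comapEquiv he σ⟩
  have hval : ∀ z, Q.1 (σ z) = Q.1 z := fun z => by
    rw [← Place.comapEquiv_apply, hQσ]
  -- the residue degree is one
  obtain ⟨hfinres, hle⟩ := finite_and_mul_finrank_le he
  letI := (resMap he).toAlgebra
  have hfr : Module.finrank (IsLocalRing.ResidueField P.O) (IsLocalRing.ResidueField Q.O) = 1 := by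
    have hpos : 0 < Module.finrank (IsLocalRing.ResidueField P.O)
        (IsLocalRing.ResidueField Q.O) := Module.finrank_pos
    rw [hdeg] at hle
    omega
  have hsurj : ∀ ξ : IsLocalRing.ResidueField Q.O,
      ∃ η : IsLocalRing.ResidueField P.O, resMap he η = ξ := by
    intro ξ
    obtain ⟨c, hc⟩ := (finrank_eq_one_iff_of_nonzero' (1 : IsLocalRing.ResidueField Q.O)
      one_ne_zero).mp hfr ξ
    refine ⟨c, ?_⟩
    rw [← hc, Algebra.smul_def, mul_one]
    rfl
  obtain ⟨η, hη⟩ := hsurj (res Q ⟨y, hy1⟩)
  obtain ⟨c, rfl⟩ := IsLocalRing.residue_surjective η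
  rw [show IsLocalRing.residue P.O c = res P c from rfl, resMap_res] at hη
  have hm : Q.1 (y - algebraMap K K' c) < 1 := by
    have h0 : res Q (⟨y, hy1⟩ - OMap he c) = 0 := by
      rw [map_sub, hη, sub_self]
    rw [res_eq_zero_iff] at h0
    exact h0
  have h2 : 2 * y + algebraMap K K' a =
      (y - algebraMap K K' c) - σ (y - algebraMap K K' c) := by
    rw [map_sub, σ.commutes, hσ]
    ring
  rw [h2] at hunit
  have hlt : Q.1 ((y - algebraMap K K' c) - σ (y - algebraMap K K' c)) < 1 :=
    lt_of_le_of_lt (Q.1.map_sub _ _) (max_lt hm (by rw [hval]; exact hm))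
  rw [hunit] at hlt
  exact lt_irrefl _ hlt

end Groth.Agent.FF.Ext
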