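import Groth.Agent.FunFld.SepGeom
import Groth.Agent.FunFld.SumEF
import Groth.Agent.FunFld.ConstField
import Groth.Agent.FunFld.LocResFF
import Groth.Agent.FunFld.RR
import Groth.Agent.H57.ResCanon

/-!
# The Riemann–Hurwitz genus formula through Laurent expansions
-/

set_option autoImplicit false
set_option linter.unusedSectionVars false

open FunFld IntermediateField Polynomial WithZero

namespace Groth.Agent.FF.RH

open Groth.Agent.FF Groth.Agent.FF.Ext

universe u v w

section coeff
variable {k : Type u} {K : Type v} [Field k] [Field K] [Algebra k K]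

/-- the coefficient field of an expansion at a place is finite over `k` -/
theorem finiteDimensional_coeffField (hK : IsFunctionField k K) (P : Place k K)
    {F : Type w} [Field F] [Algebra k F] (φ : K →ₐ[k] LaurentSeries F)
    (hφ : LocRes.IsExpansionAt P.1 φ) : FiniteDimensional k F := by
  have hfin : FiniteDimensional k (IsLocalRing.ResidueField P.O) := finite_residueField hK P
  set n := Module.finrank k (IsLocalRing.ResidueField P.O) with hn
  rw [FiniteDimensional, ← Module.rank_lt_aleph0_iff]
  have hle : Module.rank k F ≤ n := by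
    apply rank_le
    intro t ht
    have hlift : ∀ a : F, ∃ f : K, P.1 f ≤ 1 ∧ (φ f).coeff 0 = a := hφ.2.1
    choose f hf1 hf2 using hlift
    -- residues of the lifts are independent
    have hli : LinearIndependent k (fun a : t => res P ⟨f (a : F), hf1 _⟩) := by
      rw [Fintype.linearIndependent_iff]
      intro c hc
      have h0 : res P (∑ a : t, algebraMap k P.O (c a) * ⟨f (a : F), hf1 _⟩) = 0 := by
        rw [map_sum, ← hc]
        apply Finset.sum_congr rfl
        intro a _
        rw [map_mul]
        exact (@Algebra.smul_def k (IsLocalRing.ResidueField P.O) _ _ (Place.algRes P) (c a)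
          (res P ⟨f (a : F), hf1 _⟩))
      rw [res_eq_zero_iff] at h0
      have h1 : Valued.v (φ (∑ a : t, algebraMap k K (c a) * f (a : F))) ≤
          (exp (-1 : ℤ) : WithZero (Multiplicative ℤ)) := by
        rw [hφ.1]
        apply le_exp_neg_one_of_lt_one
        convert h0 using 2
        push_cast
        rfl
      rw [LaurentSeries.valuation_le_iff_coeff_lt_eq_zero] at h1
      have h2 := h1 0 (by norm_num)
      rw [map_sum, HahnSeries.coeff_sum] at h2
      have h3 : ∑ a : t, c a • (a : F) = 0 := by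
        rw [← h2]
        apply Finset.sum_congr rfl
        intro a _
        rw [map_mul, LocRes.map_algebraMap, HahnSeries.C_mul_eq_smul, HahnSeries.coeff_smul, hf2,
          Algebra.smul_def, smul_eq_mul]
      exact (Fintype.linearIndependent_iff.mp ht) c h3
    have := hli.fintype_card_le_finrank
    rw [Fintype.card_coe] at this
    exact this
  exact lt_of_le_of_lt hle Cardinal.natCast_lt_aleph0

/-- `dx ≠ 0` when read through an expansion gives `dx ≠ 0` -/
theorem D_ne_zero_of_vDiff_ne_zero {F : Type w} [Field F] [Algebra k F]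
    (φ : K →ₐ[k] LaurentSeries F) {x : K} (hx : LocRes.vDiff φ 1 x ≠ 0) :
    KaehlerDifferential.D k K x ≠ 0 := by
  intro h0
  apply hx
  have h1 : KaehlerDifferential.D k K x = (0 : K) • KaehlerDifferential.D k K (0 : K) := by
    rw [h0, zero_smul]
  have h2 := D_exp_of_D_eq_smul φ h1
  unfold LocRes.vDiff
  rw [h2, map_zero, zero_mul, mul_zero, map_zero]

lemma nonempty_place (hK : IsFunctionField k K) : Nonempty (Place k K) := by
  obtain ⟨⟨x, hx, -⟩, -⟩ := id hK
  obtain ⟨P, -⟩ := exists_pole_of_transcendental hK hx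
  exact ⟨P⟩

end coeff

section down
variable {k k' : Type u} {K' : Type v} [Field k] [Field k'] [Field K'] [Algebra k k']
  [Algebra k' K'] [Algebra k K'] [IsScalarTower k k' K']

/-- a place over `k'` as a place over `k` -/
def downPlace (Q : Place k' K') : Place k K' :=
  ⟨Q.1, ⟨fun c => by
    rw [IsScalarTower.algebraMap_apply k k' K']
    exact Q.2.1 _, Q.2.2⟩⟩

lemma downPlace_val (Q : Place k' K') : (downPlace (k := k) Q).1 = Q.1 := rfl

lemma downPlace_injective :
    Function.Injective (downPlace (k := k) : Place k' K' → Place k K') := by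
  intro Q₁ Q₂ h
  have h1 : (downPlace (k := k) Q₁).1 = (downPlace (k := k) Q₂).1 := by rw [h]
  exact Subtype.ext h1

/-- a place over `k` as a place over an algebraic extension `k'` of `k` inside `K'` -/
def upPlace [Algebra.IsAlgebraic k k'] (Q : Place k K') : Place k' K' :=
  ⟨Q.1, ⟨fun c => by
    have hc : IsAlgebraic k c := Algebra.IsAlgebraic.isAlgebraic c
    have hc' : IsAlgebraic k (algebraMap k' K' c) := hc.algebraMap
    exact val_le_one_of_isAlgebraic Q hc', Q.2.2⟩⟩

lemma downPlace_upPlace [Algebra.IsAlgebraic k k'] (Q : Place k K') :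
    downPlace (upPlace (k' := k') Q) = Q := rfl

/-- degrees over `k` and over `k'` -/
lemma deg_downPlace (Q : Place k' K') :
    (downPlace (k := k) Q).deg = Module.finrank k k' * Q.deg := by
  letI : Algebra k' (IsLocalRing.ResidueField (downPlace (k := k) Q).O) :=
    (Place.algRes Q : Algebra k' (IsLocalRing.ResidueField Q.O))
  have htower : IsScalarTower k k' (IsLocalRing.ResidueField (downPlace (k := k) Q).O) := by
    apply IsScalarTower.of_algebraMap_eq
    intro c
    show IsLocalRing.residue _ (algebraMap k (downPlace (k := k) Q).O c) =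
      IsLocalRing.residue _ (algebraMap k' Q.O (algebraMap k k' c))
    congr 1
    ext
    exact IsScalarTower.algebraMap_apply k k' K' c
  have h := (@Module.finrank_mul_finrank k k' (IsLocalRing.ResidueField (downPlace (k := k) Q).O)
    _ _ _ _ _ _ htower _ _ _ _).symm
  exact h

end down

section main

variable {k k' : Type u} {K K' : Type v} [Field k] [Field k'] [Field K] [Field K']
  [Algebra k k'] [Algebra k K] [Algebra K K'] [Algebra k' K'] [Algebra k K']
  [IsScalarTower k k' K'] [IsScalarTower k K K'] [FiniteDimensional k k'] [FiniteDimensional K K']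
  [Algebra.IsSeparable K K']

theorem riemann_hurwitz
    (hK : FunFld.IsFunctionField k K) (hg : FunFld.IsGeometric k K)
    (hK' : FunFld.IsFunctionField k' K')
    (F : FunFld.Place k K → Type w) [∀ P, Field (F P)] [∀ P, Algebra k (F P)]
    (φ : ∀ P, K →ₐ[k] LaurentSeries (F P)) (hφ : ∀ P, LocRes.IsExpansionAt P.1 (φ P))
    (F' : FunFld.Place k' K' → Type w) [∀ Q, Field (F' Q)] [∀ Q, Algebra k' (F' Q)]
    (ψ : ∀ Q, K' →ₐ[k'] LaurentSeries (F' Q)) (hψ : ∀ Q, LocRes.IsExpansionAt Q.1 (ψ Q))
    (below : FunFld.Place k' K' → FunFld.Place k K) (e : FunFld.Place k' K' → ℕ)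
    (he : ∀ Q (z : K), Q.1 (algebraMap K K' z) = (below Q).1 z ^ e Q)
    (x : K) (hx : ∀ P, LocRes.vDiff (φ P) 1 x ≠ 0)
    (hx' : ∀ Q, LocRes.vDiff (ψ Q) 1 (algebraMap K K' x) ≠ 0) :
    (Function.support fun Q => LocRes.diffExp (φ (below Q)) (ψ Q) (e Q) x).Finite ∧
    (Module.finrank k k' : ℤ) * (2 * (FunFld.genus k' K' : ℤ) - 2) =
      (Module.finrank K K' : ℤ) * (2 * (FunFld.genus k K : ℤ) - 2) +
      (Module.finrank k k' : ℤ) *
        ∑ᶠ Q, LocRes.diffExp (φ (below Q)) (ψ Q) (e Q) x * (Q.deg : ℤ) := by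
  classical
  haveI hF : ∀ P, FiniteDimensional k (F P) :=
    fun P => finiteDimensional_coeffField hK P (φ P) (hφ P)
  haveI hF' : ∀ Q, FiniteDimensional k' (F' Q) :=
    fun Q => finiteDimensional_coeffField hK' Q (ψ Q) (hψ Q)
  have halg : Algebra.IsAlgebraic k k' := Algebra.IsAlgebraic.of_finite k k'
  have hsv : HasSepVar k K := exists_separating hK hg
  have hsv' : HasSepVar k' K' := hasSepVar_of_isSeparable hsv
  have hg' : IsGeometric k' K' := isGeometric_of_hasSepVar hK' hsv'
  obtain ⟨P₀⟩ := nonempty_place hK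
  obtain ⟨Q₀⟩ := nonempty_place hK'
  have hDx : KaehlerDifferential.D k K x ≠ 0 := D_ne_zero_of_vDiff_ne_zero (φ P₀) (hx P₀)
  have hDx' : KaehlerDifferential.D k' K' (algebraMap K K' x) ≠ 0 :=
    D_ne_zero_of_vDiff_ne_zero (ψ Q₀) (hx' Q₀)
  obtain ⟨C, hC, hCcan, -, -⟩ := Groth.Agent.H57.ResW.exists_divisor_dv hK hg F φ hφ x hDx
  obtain ⟨C', hC', hC'can, -, -⟩ :=
    Groth.Agent.H57.ResW.exists_divisor_dv hK' hg' F' ψ hψ (algebraMap K K' x) hDx'
  have hdegC := deg_canonical hK hCcan
  have hdegC' := deg_canonical hK' hC'can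
  have hdiff : ∀ Q, LocRes.diffExp (φ (below Q)) (ψ Q) (e Q) x = C' Q - e Q * C (below Q) := by
    intro Q
    unfold LocRes.diffExp
    rw [hC', hC]
  have hover : ∀ Q, IsOverWith (downPlace (k := k) Q) (below Q) (e Q) := fun Q z => he Q z
  have hfib : ∀ P, {Q : Place k' K' | below Q = P}.Finite := by
    intro P
    have h1 : {Q' : Place k K' | IsOver Q' P}.Finite := finite_isOver (K' := K') P
    have h2 := h1.preimage (downPlace_injective (k := k) (k' := k') (K' := K')).injOn
    refine h2.subset ?_
    intro Q hQ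
    exact ⟨e Q, by rw [← (show below Q = P from hQ)]; exact hover Q⟩
  set T : Finset (Place k' K') := C'.support ∪ C.support.biUnion (fun P => (hfib P).toFinset)
    with hTdef
  have hT1 : ∀ Q, Q ∉ T → C' Q = 0 := by
    intro Q hQ
    by_contra h
    exact hQ (Finset.mem_union_left _ (Finsupp.mem_support_iff.mpr h))
  have hT2 : ∀ Q, Q ∉ T → C (below Q) = 0 := by
    intro Q hQ
    by_contra h
    apply hQ
    apply Finset.mem_union_right
    rw [Finset.mem_biUnion]
    exact ⟨below Q, Finsupp.mem_support_iff.mpr h, by rw [Set.Finite.mem_toFinset]; rfl⟩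
  have hsupp : (Function.support fun Q => LocRes.diffExp (φ (below Q)) (ψ Q) (e Q) x) ⊆ ↑T := by
    intro Q hQ
    by_contra hQT
    apply hQ
    show LocRes.diffExp (φ (below Q)) (ψ Q) (e Q) x = 0
    rw [hdiff, hT1 Q hQT, hT2 Q hQT]
    ring
  refine ⟨T.finite_toSet.subset hsupp, ?_⟩
  -- the finite sums
  have hsupp2 : (Function.support fun Q =>
      LocRes.diffExp (φ (below Q)) (ψ Q) (e Q) x * (Q.deg : ℤ)) ⊆ ↑T := by
    intro Q hQ
    apply hsupp
    intro h0
    apply hQ
    show LocRes.diffExp (φ (below Q)) (ψ Q) (e Q) x * (Q.deg : ℤ) = 0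
    have h0' : LocRes.diffExp (φ (below Q)) (ψ Q) (e Q) x = 0 := h0
    rw [h0', zero_mul]
  rw [finsum_eq_sum_of_support_subset _ hsupp2]
  have hC'deg : C'.deg = ∑ Q ∈ T, C' Q * (Q.deg : ℤ) := by
    unfold Divisor.deg
    apply Finsupp.sum_of_support_subset _ Finset.subset_union_left
    intro Q _
    rw [zero_mul]
  have hCdeg : C.deg = ∑ P ∈ C.support, C P * (P.deg : ℤ) := rfl
  -- the key conorm computation
  have hfiber : ∀ P ∈ C.support, ∑ Q ∈ T with below Q = P,
      ((e Q : ℤ) * ((downPlace (k := k) Q).deg : ℤ)) = (Module.finrank K K' : ℤ) * (P.deg : ℤ) := by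
    intro P hP
    have hfilter : (T.filter fun Q => below Q = P) = (hfib P).toFinset := by
      ext Q
      rw [Finset.mem_filter, Set.Finite.mem_toFinset]
      constructor
      · rintro ⟨-, h⟩; exact h
      · intro h
        refine ⟨?_, h⟩
        apply Finset.mem_union_right
        rw [Finset.mem_biUnion]
        exact ⟨P, hP, by rw [Set.Finite.mem_toFinset]; exact h⟩
    rw [hfilter]
    set Qs : Finset (Place k K') := (hfib P).toFinset.map
      ⟨downPlace (k := k), downPlace_injective⟩ with hQsdef
    have hQs : ∀ Q', Q' ∈ Qs ↔ IsOver Q' P := by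
      intro Q'
      rw [hQsdef, Finset.mem_map]
      constructor
      · rintro ⟨Q, hQ, rfl⟩
        rw [Set.Finite.mem_toFinset] at hQ
        have hQ' : below Q = P := hQ
        exact ⟨e Q, by rw [← hQ']; exact hover Q⟩
      · intro hQ'
        refine ⟨upPlace Q', ?_, downPlace_upPlace Q'⟩
        rw [Set.Finite.mem_toFinset]
        show below (upPlace Q') = P
        have h1 : IsOver Q' (below (upPlace Q')) := ⟨e (upPlace Q'), hover (upPlace Q')⟩
        exact unique_below h1 hQ'
    have hsum := sum_ramIdx_mul_deg_eq hK P Qs hQs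
    rw [hQsdef, Finset.sum_map] at hsum
    have hsum' : ∑ Q ∈ (hfib P).toFinset, e Q * (downPlace (k := k) Q).deg =
        Module.finrank K K' * P.deg := by
      rw [← hsum]
      apply Finset.sum_congr rfl
      intro Q hQ
      rw [Set.Finite.mem_toFinset] at hQ
      have hQ' : below Q = P := hQ
      have : ramIdx (downPlace (k := k) Q) P = e Q := by
        apply ramIdx_eq
        rw [← hQ']; exact hover Q
      show _ = ramIdx (downPlace (k := k) Q) P * (downPlace (k := k) Q).deg
      rw [this]
    exact_mod_cast hsum'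
  have hkey : (Module.finrank k k' : ℤ) * ∑ Q ∈ T, (e Q : ℤ) * C (below Q) * (Q.deg : ℤ) =
      (Module.finrank K K' : ℤ) * C.deg := by
    have h1 : ∀ Q ∈ T, (Module.finrank k k' : ℤ) * ((e Q : ℤ) * C (below Q) * (Q.deg : ℤ)) =
        ∑ P ∈ C.support, if below Q = P then
          C P * ((e Q : ℤ) * ((downPlace (k := k) Q).deg : ℤ)) else 0 := by
      intro Q _
      rw [Finset.sum_ite_eq C.support (below Q)
        (fun P => C P * ((e Q : ℤ) * ((downPlace (k := k) Q).deg : ℤ)))]
      rw [deg_downPlace]
      split_ifs with h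
      · push_cast; ring
      · rw [Finsupp.notMem_support_iff.mp h]; ring
    rw [Finset.mul_sum, Finset.sum_congr rfl h1, Finset.sum_comm, hCdeg, Finset.mul_sum]
    apply Finset.sum_congr rfl
    intro P hP
    rw [← Finset.sum_filter, ← Finset.mul_sum, hfiber P hP]
    ring
  have hsplit : ∑ Q ∈ T, LocRes.diffExp (φ (below Q)) (ψ Q) (e Q) x * (Q.deg : ℤ) =
      C'.deg - ∑ Q ∈ T, (e Q : ℤ) * C (below Q) * (Q.deg : ℤ) := by
    rw [hC'deg, ← Finset.sum_sub_distrib]
    apply Finset.sum_congr rfl
    intro Q _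
    rw [hdiff]
    ring
  rw [hsplit, ← hdegC, ← hdegC']
  have h3 : (Module.finrank k k' : ℤ) *
      (C'.deg - ∑ Q ∈ T, (e Q : ℤ) * C (below Q) * (Q.deg : ℤ)) =
      (Module.finrank k k' : ℤ) * C'.deg - (Module.finrank K K' : ℤ) * C.deg := by
    rw [mul_sub, hkey]
  rw [h3]
  ring

end main

end Groth.Agent.FF.RH
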