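import Groth.Agent.FunFld.Basic

/-!
# Higher ramification groups: elementary valuation-theoretic facts
-/

set_option autoImplicit false
set_option linter.unusedSectionVars false

open FunFld WithZero

namespace Groth.Agent.FF

variable {k K K' : Type*} [Field k] [Field K] [Field K'] [Algebra k K] [Algebra K K']
  [Algebra k K'] [IsScalarTower k K K']

/-- `σ` moves every element of the valuation ring by something of order at least `i` -/
def InRam (Q : Place k K') (σ : K' ≃ₐ[K] K') (i : ℤ) : Prop :=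
  ∀ x : K', Q.1 x ≤ 1 → Q.1 (σ x - x) ≤ exp (-i)

namespace InRam

variable {Q : Place k K'} {σ τ : K' ≃ₐ[K] K'} {i : ℤ}

lemma map_le_one (h : InRam Q σ i) (hi : 0 ≤ i) {x : K'} (hx : Q.1 x ≤ 1) : Q.1 (σ x) ≤ 1 := by
  have h1 : σ x = (σ x - x) + x := by ring
  rw [h1]
  apply Q.1.map_add_le _ hx
  apply (h x hx).trans
  rw [← exp_zero, exp_le_exp]
  omega

lemma one : InRam Q (1 : K' ≃ₐ[K] K') i := by
  intro x _
  simp

lemma mul (hσ : InRam Q σ i) (hτ : InRam Q τ i) (hi : 0 ≤ i) : InRam Q (σ * τ) i := by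
  intro x hx
  have h1 : (σ * τ) x - x = (σ (τ x) - τ x) + (τ x - x) := by
    rw [AlgEquiv.mul_apply]; ring
  rw [h1]
  exact Q.1.map_add_le (hσ _ (hτ.map_le_one hi hx)) (hτ x hx)

lemma pow (hσ : InRam Q σ i) (hi : 0 ≤ i) (n : ℕ) : InRam Q (σ ^ n) i := by
  induction n with
  | zero => rw [pow_zero]; exact one
  | succ n ih => rw [pow_succ]; exact ih.mul hσ hi

lemma inv [FiniteDimensional K K'] (hσ : InRam Q σ i) (hi : 0 ≤ i) : InRam Q σ⁻¹ i := by
  have hfin : IsOfFinOrder σ := isOfFinOrder_of_finite σ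
  have hpos := hfin.orderOf_pos
  have h1 : σ⁻¹ = σ ^ (orderOf σ - 1) := by
    apply inv_eq_of_mul_eq_one_right
    rw [← pow_succ', Nat.sub_add_cancel hpos, pow_orderOf_eq_one]
  rw [h1]
  exact hσ.pow hi _

/-- elements of higher order are moved by more -/
lemma shift (hσ : InRam Q σ i) (hi : 1 ≤ i) (j : ℕ) :
    ∀ x : K', Q.1 x ≤ exp (-(j : ℤ)) → Q.1 (σ x - x) ≤ exp (-(i - 1 + j)) := by
  obtain ⟨t, ht⟩ := exists_uniformizer Q
  have ht0 : t ≠ 0 := by
    intro h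
    rw [h, map_zero] at ht
    exact exp_ne_zero ht.symm
  have ht1 : Q.1 t ≤ 1 := by
    rw [ht, ← exp_zero, exp_le_exp]; norm_num
  have hσt : Q.1 (σ t) ≤ exp (-1 : ℤ) := by
    have h1 : σ t = (σ t - t) + t := by ring
    rw [h1]
    apply Q.1.map_add_le _ ht.le
    apply (hσ t ht1).trans
    rw [exp_le_exp]
    omega
  induction j with
  | zero =>
    intro x hx
    rw [Nat.cast_zero, neg_zero, exp_zero] at hx
    apply (hσ x hx).trans
    rw [exp_le_exp]
    push_cast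
    omega
  | succ j ih =>
    intro x hx
    have hx' : Q.1 (x / t) ≤ exp (-(j : ℤ)) := by
      rw [map_div₀, ht, div_le_iff₀ (by exact exp_pos), ← exp_add]
      apply hx.trans
      rw [exp_le_exp]
      push_cast
      omega
    have h1 : σ x - x = σ t * (σ (x / t) - x / t) + (σ t - t) * (x / t) := by
      have hx1 : x = t * (x / t) := by field_simp
      conv_lhs => rw [hx1, map_mul]
      ring
    rw [h1]
    apply Q.1.map_add_le
    · rw [map_mul]
      calc Q.1 (σ t) * Q.1 (σ (x / t) - x / t) ≤ exp (-1 : ℤ) * exp (-(i - 1 + j)) :=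
            mul_le_mul' hσt (ih _ hx')
        _ = exp (-(i - 1 + (j + 1 : ℕ))) := by
            rw [← exp_add]; congr 1; push_cast; ring
    · rw [map_mul]
      calc Q.1 (σ t - t) * Q.1 (x / t) ≤ exp (-i) * exp (-(j : ℤ)) :=
            mul_le_mul' (hσ t ht1) hx'
        _ = exp (-(i - 1 + (j + 1 : ℕ))) := by
            rw [← exp_add]; congr 1; push_cast; ring

/-- `σ τ` and `τ σ` agree to higher order -/
lemma comm_aux {i : ℕ} (hσ : InRam Q σ i) (hτ : InRam Q τ i) (hi : 2 ≤ i) {z : K'}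
    (hz : Q.1 z ≤ 1) : Q.1 (σ (τ z) - τ (σ z)) ≤ exp (-((i + 1 : ℕ) : ℤ)) := by
  have hi1 : (1 : ℤ) ≤ i := by omega
  have h1 : σ (τ z) - τ (σ z) = (σ (τ z - z) - (τ z - z)) - (τ (σ z - z) - (σ z - z)) := by
    rw [map_sub, map_sub]; ring
  have hle : exp (-((i : ℤ) - 1 + i)) ≤ (exp (-((i + 1 : ℕ) : ℤ)) : WithZero (Multiplicative ℤ)) := by
    rw [exp_le_exp]; push_cast; omega
  rw [h1]
  apply Q.1.map_sub_le
  · exact (hσ.shift hi1 i _ (hτ z hz)).trans hle
  · exact (hτ.shift hi1 i _ (hσ z hz)).trans hle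

/-- commutators of elements of `G_i` lie in `G_{i+1}` for `i ≥ 2` -/
theorem comm [FiniteDimensional K K'] {i : ℕ} (hσ : InRam Q σ i) (hτ : InRam Q τ i)
    (hi : 2 ≤ i) : InRam Q (σ * τ * σ⁻¹ * τ⁻¹) ((i + 1 : ℕ) : ℤ) := by
  intro x hx
  have hi0 : (0 : ℤ) ≤ i := by omega
  have hz1 : Q.1 (σ⁻¹ (τ⁻¹ x)) ≤ 1 :=
    (hσ.inv hi0).map_le_one hi0 ((hτ.inv hi0).map_le_one hi0 hx)
  have h := comm_aux hσ hτ hi hz1
  have e1 : (σ * τ * σ⁻¹ * τ⁻¹) x = σ (τ (σ⁻¹ (τ⁻¹ x))) := by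
    simp only [AlgEquiv.mul_apply]
  have e2 : τ (σ (σ⁻¹ (τ⁻¹ x))) = x := by
    have h3 : σ (σ⁻¹ (τ⁻¹ x)) = τ⁻¹ x := by
      rw [← AlgEquiv.mul_apply, mul_inv_cancel, AlgEquiv.one_apply]
    rw [h3, ← AlgEquiv.mul_apply, mul_inv_cancel, AlgEquiv.one_apply]
  rw [e1]
  rw [e2] at h
  exact h

/-- `σ^n x - x ≡ n (σ x - x)` to higher order -/
theorem pow_sub_nsmul {i : ℕ} (hσ : InRam Q σ i) (hi : 2 ≤ i) (n : ℕ) :
    ∀ x : K', Q.1 x ≤ 1 →
      Q.1 ((σ ^ n) x - x - n • (σ x - x)) ≤ exp (-((i + 1 : ℕ) : ℤ)) := by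
  have hi1 : (1 : ℤ) ≤ i := by omega
  have hi0 : (0 : ℤ) ≤ i := by omega
  have hle : exp (-((i : ℤ) - 1 + i)) ≤ (exp (-((i + 1 : ℕ) : ℤ)) : WithZero (Multiplicative ℤ)) := by
    rw [exp_le_exp]; push_cast; omega
  induction n with
  | zero =>
    intro x _
    simp
  | succ n ih =>
    intro x hx
    have h1 : (σ ^ (n + 1)) x - x - (n + 1) • (σ x - x) =
        (σ ((σ ^ n) x - x) - ((σ ^ n) x - x)) + ((σ ^ n) x - x - n • (σ x - x)) := by
      rw [pow_succ', AlgEquiv.mul_apply, map_sub, succ_nsmul]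
      abel
    rw [h1]
    apply Q.1.map_add_le
    · exact (hσ.shift hi1 i _ ((hσ.pow hi0 n) x hx)).trans hle
    · exact ih x hx

/-- in characteristic `p`, `p`-th powers of elements of `G_i` lie in `G_{i+1}` for `i ≥ 2` -/
theorem pow_char {i : ℕ} (hσ : InRam Q σ i) (hi : 2 ≤ i) (p : ℕ) [CharP K' p] :
    InRam Q (σ ^ p) ((i + 1 : ℕ) : ℤ) := by
  intro x hx
  have h := hσ.pow_sub_nsmul hi p x hx
  rw [nsmul_eq_mul, CharP.cast_eq_zero, zero_mul, sub_zero] at h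
  exact h

/-- in characteristic zero, `G_i = G_{i+1}` for `i ≥ 2` -/
theorem succ_of_charZero [FiniteDimensional K K'] [CharZero K'] {i : ℕ} (hσ : InRam Q σ i)
    (hi : 2 ≤ i) : InRam Q σ ((i + 1 : ℕ) : ℤ) := by
  intro x hx
  have hfin : IsOfFinOrder σ := isOfFinOrder_of_finite σ
  have hpos := hfin.orderOf_pos
  have h := hσ.pow_sub_nsmul hi (orderOf σ) x hx
  rw [pow_orderOf_eq_one, AlgEquiv.one_apply, sub_self, zero_sub, Valuation.map_neg,
    nsmul_eq_mul, map_mul] at h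
  have hn : Q.1 ((orderOf σ : ℕ) : K') = 1 := by
    have hne : ((orderOf σ : ℕ) : K') ≠ 0 := Nat.cast_ne_zero.mpr hpos.ne'
    have hk : ((orderOf σ : ℕ) : k) ≠ 0 := by
      intro h0
      apply hne
      rw [← map_natCast (algebraMap k K'), h0, map_zero]
    rw [← map_natCast (algebraMap k K')]
    exact val_algebraMap Q hk
  rw [hn, one_mul] at h
  exact h

end InRam

end Groth.Agent.FF
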