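import Groth.Agent.FunFld.ExtPlaces
import Groth.Agent.FunFld.FundIneq2

/-!
# The relative fundamental inequality `∑ e(Q|P) f(Q|P) ≤ [K' : K]`
-/

set_option autoImplicit false
set_option linter.unusedSectionVars false

open FunFld WithZero

namespace Groth.Agent.FF.Ext

open Groth.Agent.FF

variable {k K K' : Type*} [Field k] [Field K] [Field K'] [Algebra k K] [Algebra K K']
  [Algebra k K']

lemma le_exp_neg_one_of_lt_one {γ : WithZero (Multiplicative ℤ)} (h : γ < 1) :
    γ ≤ exp (-1 : ℤ) := by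
  have h1 : γ < exp (0 : ℤ) := by rwa [exp_zero]
  have h2 : γ ≤ exp ((0 : ℤ) - 1) := by
    have h3 : exp (0 : ℤ) = exp ((0 : ℤ) - 1) * (exp 1 : WithZero (Multiplicative ℤ)) := by
      rw [← exp_add]; congr 1
    rw [h3, lt_mul_exp_iff_le exp_ne_zero] at h1
    exact h1
  simpa using h2

/-- elements of the maximal ideal below have order at least `e` above -/
lemma val_le_exp_neg_e {P : Place k K} {Q : Place k K'} {e : ℕ} (he : IsOverWith Q P e)
    {c : K} (hc : P.1 c < 1) : Q.1 (algebraMap K K' c) ≤ exp (-(e : ℤ)) := by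
  rw [he c]
  calc P.1 c ^ e ≤ (exp (-1 : ℤ)) ^ e := pow_le_pow_left' (le_exp_neg_one_of_lt_one hc) e
    _ = exp (-(e : ℤ)) := by
        rw [← exp_nsmul]
        congr 1
        simp

/-- relative residue independence: a finite family of `Q`-integral elements whose residues are
linearly independent over the residue field of `P` -/
def ResIndepOver (P : Place k K) (Q : Place k K') {m : ℕ} (s : Fin m → K') : Prop :=
  (∀ j, Q.1 (s j) ≤ 1) ∧ ∀ c : Fin m → K, (∀ j, P.1 (c j) ≤ 1) →
    Q.1 (∑ j, algebraMap K K' (c j) * s j) < 1 → ∀ j, P.1 (c j) < 1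

lemma val_sum_mul_le_one {P : Place k K} {Q : Place k K'} {e : ℕ} (he : IsOverWith Q P e)
    {m : ℕ} {s : Fin m → K'} (hs : ∀ j, Q.1 (s j) ≤ 1) {c : Fin m → K}
    (hc : ∀ j, P.1 (c j) ≤ 1) : Q.1 (∑ j, algebraMap K K' (c j) * s j) ≤ 1 := by
  apply Q.1.map_sum_le
  intro j _
  rw [map_mul]
  exact mul_le_one' ((le_one_iff he _).mpr (hc j)) (hs j)

lemma ResIndepOver.perturb {P : Place k K} {Q : Place k K'} {e : ℕ} (he : IsOverWith Q P e)
    {m : ℕ} {s z : Fin m → K'} (hs : ResIndepOver P Q s) (hz : ∀ j, Q.1 (z j - s j) < 1) :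
    ResIndepOver P Q z := by
  refine ⟨fun j => ?_, fun c hc1 hc => ?_⟩
  · have : z j = (z j - s j) + s j := by ring
    rw [this]
    exact Q.1.map_add_le (hz j).le (hs.1 j)
  · apply hs.2 c hc1
    have h1 : ∑ j, algebraMap K K' (c j) * s j =
        ∑ j, algebraMap K K' (c j) * z j - ∑ j, algebraMap K K' (c j) * (z j - s j) := by
      rw [← Finset.sum_sub_distrib]
      apply Finset.sum_congr rfl
      intro j _
      ring
    rw [h1]
    apply lt_of_le_of_lt (Q.1.map_sub _ _)
    apply max_lt hc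
    apply Q.1.map_sum_lt one_ne_zero
    intro j _
    rw [map_mul]
    calc Q.1 (algebraMap K K' (c j)) * Q.1 (z j - s j) ≤ 1 * Q.1 (z j - s j) :=
          mul_le_mul_left ((le_one_iff he _).mpr (hc1 j)) _
      _ < 1 := by rw [one_mul]; exact hz j

/-- local independence of `tᵃ zⱼ` modulo the maximal ideal below -/
lemma local_indep_over {P : Place k K} {Q : Place k K'} {e : ℕ} (he : IsOverWith Q P e)
    {t : K'} (ht : Q.1 t = exp (-1 : ℤ)) {m : ℕ} {z : Fin m → K'} (hz : ResIndepOver P Q z) :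
    ∀ (n : ℕ), n ≤ e → ∀ (c : Fin n → Fin m → K), (∀ a j, P.1 (c a j) ≤ 1) →
      Q.1 (∑ a : Fin n, t ^ (a : ℕ) * ∑ j, algebraMap K K' (c a j) * z j) ≤ exp (-(n : ℤ)) →
      ∀ a j, P.1 (c a j) < 1 := by
  have ht1 : Q.1 t < 1 := by rw [ht, ← exp_zero, exp_lt_exp]; norm_num
  intro n
  induction n with
  | zero => intro _ c _ _ a; exact a.elim0
  | succ n ih =>
    intro hn c hc1 hc
    rw [Fin.sum_univ_succ] at hc
    simp only [Fin.val_zero, pow_zero, one_mul, Fin.val_succ, pow_succ'] at hc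
    have hS : ∑ a : Fin n, t * t ^ (a : ℕ) * ∑ j, algebraMap K K' (c a.succ j) * z j =
        t * ∑ a : Fin n, t ^ (a : ℕ) * ∑ j, algebraMap K K' (c a.succ j) * z j := by
      rw [Finset.mul_sum]
      apply Finset.sum_congr rfl
      intro a _; ring
    rw [hS] at hc
    set S' := ∑ a : Fin n, t ^ (a : ℕ) * ∑ j, algebraMap K K' (c a.succ j) * z j with hS'
    have hS'le : Q.1 S' ≤ 1 := by
      apply Q.1.map_sum_le
      intro a _
      rw [map_mul, map_pow]
      exact mul_le_one' (pow_le_one' ht1.le _)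
        (val_sum_mul_le_one he hz.1 (fun j => hc1 a.succ j))
    have htS : Q.1 (t * S') < 1 := by
      rw [map_mul]
      calc Q.1 t * Q.1 S' ≤ Q.1 t * 1 := mul_le_mul_right hS'le _
        _ = Q.1 t := mul_one _
        _ < 1 := ht1
    have hlt1 : exp (-((n + 1 : ℕ) : ℤ)) < (1 : WithZero (Multiplicative ℤ)) := by
      rw [← exp_zero, exp_lt_exp]; push_cast; omega
    have hW0 : Q.1 (∑ j, algebraMap K K' (c 0 j) * z j) < 1 := by
      have : ∑ j, algebraMap K K' (c 0 j) * z j =
          (∑ j, algebraMap K K' (c 0 j) * z j + t * S') - t * S' := by ring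
      rw [this]
      apply lt_of_le_of_lt (Q.1.map_sub _ _)
      exact max_lt (lt_of_le_of_lt hc hlt1) htS
    have hc0 := hz.2 (c 0) (hc1 0) hW0
    have hW0' : Q.1 (∑ j, algebraMap K K' (c 0 j) * z j) ≤ exp (-((n + 1 : ℕ) : ℤ)) := by
      apply Q.1.map_sum_le
      intro j _
      rw [map_mul]
      calc Q.1 (algebraMap K K' (c 0 j)) * Q.1 (z j) ≤ exp (-(e : ℤ)) * 1 :=
            mul_le_mul' (val_le_exp_neg_e he (hc0 j)) (hz.1 j)
        _ = exp (-(e : ℤ)) := mul_one _
        _ ≤ exp (-((n + 1 : ℕ) : ℤ)) := by rw [exp_le_exp]; omega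
    have htS' : Q.1 (t * S') ≤ exp (-((n + 1 : ℕ) : ℤ)) := by
      have : t * S' = (∑ j, algebraMap K K' (c 0 j) * z j + t * S') -
          ∑ j, algebraMap K K' (c 0 j) * z j := by ring
      rw [this]
      exact Q.1.map_sub_le hc hW0'
    rw [map_mul, ht] at htS'
    have hS'e : Q.1 S' ≤ exp (-(n : ℤ)) := by
      have h2 : exp (-1 : ℤ) * Q.1 S' ≤ exp (-1 : ℤ) * exp (-(n : ℤ)) := by
        rw [← exp_add]
        convert htS' using 2
        push_cast; ring
      exact le_of_mul_le_mul_left h2 (exp_pos)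
    have hrest := ih (by omega) (fun a => c a.succ) (fun a j => hc1 a.succ j) hS'e
    intro a j
    refine Fin.cases ?_ ?_ a
    · exact hc0 j
    · intro a'; exact hrest a' j

/-- The relative fundamental inequality. -/
theorem sum_mul_le_finrank_over [FiniteDimensional K K'] {ι : Type*} [Fintype ι]
    (Qs : ι → Place k K') (hQ : Function.Injective Qs) (P : Place k K) (e : ι → ℕ)
    (he : ∀ i, IsOverWith (Qs i) P (e i)) (m : ι → ℕ) (s : (i : ι) → Fin (m i) → K')
    (hs : ∀ i, ResIndepOver P (Qs i) (s i)) :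
    ∑ i, e i * m i ≤ Module.finrank K K' := by
  classical
  obtain ⟨t, ht⟩ := exists_local_uniformizers Qs hQ
  set E : ℕ := ∑ l, e l with hE
  have heE : ∀ l, e l ≤ E := fun l =>
    Finset.single_le_sum (f := e) (fun _ _ => Nat.zero_le _) (Finset.mem_univ l)
  have hex : ∀ i (j : Fin (m i)), ∃ z : K',
      ∀ l, (Qs l).1 (z - if l = i then s i j else 0) < exp (-(E : ℤ)) :=
    fun i j => weak_approx Qs hQ (fun l => if l = i then s i j else 0) (-(E : ℤ))
  choose z hz using hex
  have hzi : ∀ i j, (Qs i).1 (z i j - s i j) < 1 := by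
    intro i j
    have h := hz i j i
    rw [if_pos rfl] at h
    refine lt_of_lt_of_le h ?_
    rw [← exp_zero, exp_le_exp]; omega
  have hzl : ∀ i j l, l ≠ i → (Qs l).1 (z i j) ≤ exp (-(e l : ℤ)) := by
    intro i j l hl
    have h := hz i j l
    rw [if_neg hl, sub_zero] at h
    refine h.le.trans ?_
    rw [exp_le_exp]
    have := heE l
    omega
  have hzR : ∀ i, ResIndepOver P (Qs i) (z i) := fun i => (hs i).perturb (he i) (hzi i)
  have ht1 : ∀ i l, (Qs l).1 (t i) ≤ 1 := by
    intro i l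
    by_cases hl : l = i
    · subst hl; rw [(ht l).1, ← exp_zero, exp_le_exp]; norm_num
    · rw [(ht i).2 l hl]
  -- the family
  let J := Σ i : ι, Fin (e i) × Fin (m i)
  let y : J → K' := fun p => t p.1 ^ (p.2.1 : ℕ) * z p.1 p.2.2
  have hcard : Fintype.card J = ∑ i, e i * m i := by
    simp [J, Fintype.card_sigma]
  have hindep : ∀ c : J → K, (∀ p, P.1 (c p) ≤ 1) →
      (∀ i, (Qs i).1 (∑ p, algebraMap K K' (c p) * y p) ≤ exp (-(e i : ℤ))) →
      ∀ p, P.1 (c p) < 1 := by
    rintro c hc1 hcw ⟨i₀, a₀, j₀⟩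
    have hv := hcw i₀
    rw [Fintype.sum_sigma] at hv
    rw [← Finset.add_sum_erase _ _ (Finset.mem_univ i₀)] at hv
    have hother : (Qs i₀).1 (∑ i ∈ Finset.univ.erase i₀,
        ∑ q : Fin (e i) × Fin (m i), algebraMap K K' (c ⟨i, q⟩) * y ⟨i, q⟩) ≤
        exp (-(e i₀ : ℤ)) := by
      apply (Qs i₀).1.map_sum_le
      intro i hi
      have hi' : i₀ ≠ i := (Finset.ne_of_mem_erase hi).symm
      apply (Qs i₀).1.map_sum_le
      intro q _
      simp only [y, map_mul, map_pow]
      calc (Qs i₀).1 (algebraMap K K' (c ⟨i, q⟩)) *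
            ((Qs i₀).1 (t i) ^ (q.1 : ℕ) * (Qs i₀).1 (z i q.2))
          ≤ 1 * (1 * exp (-(e i₀ : ℤ))) := by
            apply mul_le_mul' ((le_one_iff (he i₀) _).mpr (hc1 _))
            exact mul_le_mul' (pow_le_one' (ht1 _ _) _) (hzl i q.2 i₀ hi')
        _ = _ := by rw [one_mul, one_mul]
    have hmain : (Qs i₀).1 (∑ q : Fin (e i₀) × Fin (m i₀),
        algebraMap K K' (c ⟨i₀, q⟩) * y ⟨i₀, q⟩) ≤ exp (-(e i₀ : ℤ)) := by
      have : ∑ q : Fin (e i₀) × Fin (m i₀), algebraMap K K' (c ⟨i₀, q⟩) * y ⟨i₀, q⟩ =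
          (∑ q : Fin (e i₀) × Fin (m i₀), algebraMap K K' (c ⟨i₀, q⟩) * y ⟨i₀, q⟩ +
            ∑ i ∈ Finset.univ.erase i₀, ∑ q : Fin (e i) × Fin (m i),
              algebraMap K K' (c ⟨i, q⟩) * y ⟨i, q⟩) -
          ∑ i ∈ Finset.univ.erase i₀, ∑ q : Fin (e i) × Fin (m i),
            algebraMap K K' (c ⟨i, q⟩) * y ⟨i, q⟩ := by
        ring
      rw [this]
      exact (Qs i₀).1.map_sub_le hv hother
    have hform : ∑ q : Fin (e i₀) × Fin (m i₀), algebraMap K K' (c ⟨i₀, q⟩) * y ⟨i₀, q⟩ =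
        ∑ a : Fin (e i₀), t i₀ ^ (a : ℕ) * ∑ j, algebraMap K K' (c ⟨i₀, (a, j)⟩) * z i₀ j := by
      rw [Fintype.sum_prod_type]
      apply Finset.sum_congr rfl
      intro a _
      rw [Finset.mul_sum]
      apply Finset.sum_congr rfl
      intro j _
      simp only [y]
      ring
    rw [hform] at hmain
    exact local_indep_over (he i₀) (ht i₀).1 (hzR i₀) (e i₀) le_rfl
      (fun a j => c ⟨i₀, (a, j)⟩) (fun a j => hc1 _) hmain a₀ j₀
  -- linear independence over `K`
  have hli : LinearIndependent K y := by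
    rw [Fintype.linearIndependent_iff]
    intro g hg
    by_contra hcon
    push Not at hcon
    obtain ⟨p₁, hp₁⟩ := hcon
    obtain ⟨p₀, -, hmax⟩ := Finset.exists_max_image Finset.univ (fun p => P.1 (g p))
      ⟨p₁, Finset.mem_univ _⟩
    have hg0 : g p₀ ≠ 0 := by
      intro h0
      have h1 := hmax p₁ (Finset.mem_univ _)
      rw [h0, map_zero] at h1
      exact hp₁ ((Valuation.zero_iff P.1).mp (le_antisymm h1 zero_le))
    have hv0 : P.1 (g p₀) ≠ 0 := (Valuation.ne_zero_iff P.1).mpr hg0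
    let c : J → K := fun p => g p / g p₀
    have hc1 : ∀ p, P.1 (c p) ≤ 1 := by
      intro p
      simp only [c]
      rw [map_div₀, div_le_one₀ (zero_lt_iff.mpr hv0)]
      exact hmax p (Finset.mem_univ _)
    have hsum : ∑ p, algebraMap K K' (c p) * y p = 0 := by
      have h1 : ∑ p, algebraMap K K' (c p) * y p =
          (algebraMap K K' (g p₀))⁻¹ * ∑ p, g p • y p := by
        rw [Finset.mul_sum]
        apply Finset.sum_congr rfl
        intro p _
        simp only [c]
        rw [map_div₀, Algebra.smul_def]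
        ring
      rw [h1, hg, mul_zero]
    have h2 := hindep c hc1 (fun i => by rw [hsum, map_zero]; exact zero_le) p₀
    simp only [c] at h2
    rw [div_self hg0, map_one] at h2
    exact lt_irrefl _ h2
  have := hli.fintype_card_le_finrank
  rwa [hcard] at this

lemma resIndepOver_one {P : Place k K} {Q : Place k K'} {e : ℕ} (he : IsOverWith Q P e) :
    ResIndepOver P Q (fun _ : Fin 1 => (1 : K')) := by
  refine ⟨fun _ => by rw [map_one], fun c _ hc j => ?_⟩
  rw [Fin.sum_univ_one, mul_one] at hc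
  have : j = 0 := Subsingleton.elim _ _
  rw [this]
  exact (lt_one_iff he _).mp hc

/-- the sum of the ramification indices of finitely many places above `P` is at most the
degree -/
theorem sum_ramIdx_le_finrank [FiniteDimensional K K'] (P : Place k K)
    (S : Finset (Place k K')) (hS : ∀ Q ∈ S, IsOver Q P) :
    ∑ Q ∈ S, ramIdx Q P ≤ Module.finrank K K' := by
  classical
  have h := sum_mul_le_finrank_over (ι := S) (fun Q => (Q : Place k K')) Subtype.val_injective P
    (fun Q => ramIdx (Q : Place k K') P) (fun Q => isOverWith_ramIdx (hS Q Q.2))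
    (fun _ => 1) (fun _ _ => (1 : K')) (fun Q => resIndepOver_one (isOverWith_ramIdx (hS Q Q.2)))
  simp only [mul_one] at h
  rw [← Finset.sum_coe_sort S (fun Q => ramIdx Q P)]
  exact h

/-- finitely many places lie over a given place -/
theorem finite_isOver [FiniteDimensional K K'] (P : Place k K) :
    {Q : Place k K' | IsOver Q P}.Finite := by
  classical
  by_contra hinf
  rw [← Set.Infinite] at hinf
  obtain ⟨S, hS, hcard⟩ := hinf.exists_subset_card_eq (Module.finrank K K' + 1)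
  have h := sum_ramIdx_le_finrank P S (fun Q hQ => hS hQ)
  have h1 : S.card ≤ ∑ Q ∈ S, ramIdx Q P := by
    rw [Finset.card_eq_sum_ones]
    apply Finset.sum_le_sum
    intro Q hQ
    exact e_pos (isOverWith_ramIdx (hS hQ))
  omega

end Groth.Agent.FF.Ext
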