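import Groth.Agent.FunFld.RelFundIneq
import Groth.Agent.FunFld.Residue

/-!
# Residue field extensions and `e f ≤ n`
-/

set_option autoImplicit false
set_option linter.unusedSectionVars false

open FunFld WithZero

namespace Groth.Agent.FF.Ext

open Groth.Agent.FF

variable {k K K' : Type*} [Field k] [Field K] [Field K'] [Algebra k K] [Algebra K K']
  [Algebra k K']

variable {P : Place k K} {Q : Place k K'} {e : ℕ}

/-- the inclusion of valuation rings -/
def OMap (he : IsOverWith Q P e) : P.O →+* Q.O where
  toFun x := ⟨algebraMap K K' x, (le_one_iff he _).mpr x.2⟩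
  map_one' := by ext; simp
  map_mul' x y := by ext; simp
  map_zero' := by ext; simp
  map_add' x y := by ext; simp

lemma OMap_coe (he : IsOverWith Q P e) (x : P.O) : ((OMap he x : Q.O) : K') = algebraMap K K' x :=
  rfl

lemma isLocalHom_OMap (he : IsOverWith Q P e) : IsLocalHom (OMap he) := by
  refine ⟨fun x hx => ?_⟩
  have hP : P.1.Integers P.O := Valuation.valuationSubring.integers P.1
  have hQ : Q.1.Integers Q.O := Valuation.valuationSubring.integers Q.1
  rw [hQ.isUnit_iff_valuation_eq_one] at hx
  rw [hP.isUnit_iff_valuation_eq_one]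
  exact (eq_one_iff he _).mp hx

/-- the map of residue fields -/
noncomputable def resMap (he : IsOverWith Q P e) :
    IsLocalRing.ResidueField P.O →+* IsLocalRing.ResidueField Q.O :=
  @IsLocalRing.ResidueField.map _ _ _ _ _ _ (OMap he) (isLocalHom_OMap he)

lemma resMap_res (he : IsOverWith Q P e) (x : P.O) : resMap he (res P x) = res Q (OMap he x) := by
  have := isLocalHom_OMap he
  exact IsLocalRing.ResidueField.map_residue (OMap he) x

/-- lifts of a family of residues independent over the residue field below -/
lemma resIndepOver_of_linearIndependent (he : IsOverWith Q P e) {m : ℕ} (s : Fin m → Q.O)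
    (h : letI := (resMap he).toAlgebra
      LinearIndependent (IsLocalRing.ResidueField P.O) (fun j => res Q (s j))) :
    ResIndepOver P Q (fun j => (s j : K')) := by
  letI := (resMap he).toAlgebra
  refine ⟨fun j => (s j).2, fun c hc1 hc => ?_⟩
  rw [Fintype.linearIndependent_iff] at h
  let c' : Fin m → P.O := fun j => ⟨c j, hc1 j⟩
  have h1 : ∑ j, res P (c' j) • res Q (s j) = res Q (∑ j, OMap he (c' j) * s j) := by
    rw [map_sum]
    apply Finset.sum_congr rfl
    intro j _
    rw [map_mul, Algebra.smul_def, ← resMap_res]
    rfl
  have h2 : res Q (∑ j, OMap he (c' j) * s j) = 0 := by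
    rw [res_eq_zero_iff]
    have h3 : ((∑ j, OMap he (c' j) * s j : Q.O) : K') =
        ∑ j, algebraMap K K' (c j) * (s j : K') := by
      rw [AddSubmonoidClass.coe_finsetSum]
      rfl
    rw [h3]
    exact hc
  intro j
  have h4 := h (fun j => res P (c' j)) (h1.trans h2) j
  rw [res_eq_zero_iff] at h4
  exact h4

/-- `e f ≤ n` -/
theorem finite_and_mul_finrank_le [FiniteDimensional K K'] (he : IsOverWith Q P e) :
    letI := (resMap he).toAlgebra
    Module.Finite (IsLocalRing.ResidueField P.O) (IsLocalRing.ResidueField Q.O) ∧
      e * Module.finrank (IsLocalRing.ResidueField P.O) (IsLocalRing.ResidueField Q.O) ≤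
        Module.finrank K K' := by
  letI := (resMap he).toAlgebra
  have hepos := e_pos he
  have hbound : ∀ (m : ℕ) (b : Fin m → IsLocalRing.ResidueField Q.O),
      LinearIndependent (IsLocalRing.ResidueField P.O) b → e * m ≤ Module.finrank K K' := by
    intro m b hb
    have hlift : ∀ j, ∃ s : Q.O, res Q s = b j := fun j => IsLocalRing.residue_surjective (b j)
    choose s hs using hlift
    have hli : LinearIndependent (IsLocalRing.ResidueField P.O) (fun j => res Q (s j)) := by
      convert hb using 2
      exact hs _
    have hR := resIndepOver_of_linearIndependent he s hli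
    have := sum_mul_le_finrank_over (ι := Unit) (fun _ => Q) (fun _ _ _ => rfl) P (fun _ => e)
      (fun _ => he) (fun _ => m) (fun _ => fun j => (s j : K')) (fun _ => hR)
    simpa using this
  have hfin : Module.Finite (IsLocalRing.ResidueField P.O) (IsLocalRing.ResidueField Q.O) := by
    rw [← Module.rank_lt_aleph0_iff]
    have hle : Module.rank (IsLocalRing.ResidueField P.O) (IsLocalRing.ResidueField Q.O) ≤
        (Module.finrank K K' : ℕ) := by
      apply rank_le
      intro t ht
      have ee := t.equivFin
      have hli : LinearIndependent (IsLocalRing.ResidueField P.O)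
          (fun j : Fin t.card => ((ee.symm j : t) : IsLocalRing.ResidueField Q.O)) :=
        ht.comp _ ee.symm.injective
      have h1 := hbound _ _ hli
      have h2 : t.card ≤ e * t.card := Nat.le_mul_of_pos_left _ hepos
      omega
    exact lt_of_le_of_lt hle Cardinal.natCast_lt_aleph0
  refine ⟨hfin, ?_⟩
  let B := Module.finBasis (IsLocalRing.ResidueField P.O) (IsLocalRing.ResidueField Q.O)
  exact hbound _ B B.linearIndependent

open scoped Classical in
/-- the residue degree `f(Q|P)` (zero if `Q` does not lie over `P`) -/
noncomputable def resDeg (Q : Place k K') (P : Place k K) : ℕ :=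
  if h : IsOver Q P then
    (letI := (resMap (isOverWith_ramIdx h)).toAlgebra
     Module.finrank (IsLocalRing.ResidueField P.O) (IsLocalRing.ResidueField Q.O))
  else 0

lemma resDeg_eq (he : IsOverWith Q P e) :
    resDeg Q P = (letI := (resMap he).toAlgebra
      Module.finrank (IsLocalRing.ResidueField P.O) (IsLocalRing.ResidueField Q.O)) := by
  classical
  have h : IsOver Q P := ⟨e, he⟩
  have he' := ramIdx_eq he
  subst he'
  unfold resDeg
  rw [dif_pos h]

lemma exists_resIndepOver_resDeg [FiniteDimensional K K'] (h : IsOver Q P) :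
    ∃ s : Fin (resDeg Q P) → K', ResIndepOver P Q s := by
  have he := isOverWith_ramIdx h
  rw [resDeg_eq he]
  letI := (resMap he).toAlgebra
  have hfin := (finite_and_mul_finrank_le he).1
  let B := Module.finBasis (IsLocalRing.ResidueField P.O) (IsLocalRing.ResidueField Q.O)
  have hlift : ∀ j, ∃ s : Q.O, res Q s = B j := fun j => IsLocalRing.residue_surjective (B j)
  choose s hs using hlift
  have hli : LinearIndependent (IsLocalRing.ResidueField P.O) (fun j => res Q (s j)) := by
    convert B.linearIndependent using 2
    exact hs _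
  exact ⟨fun j => (s j : K'), resIndepOver_of_linearIndependent he s hli⟩

/-- `∑ e(Q|P) f(Q|P) ≤ [K' : K]` -/
theorem sum_ramIdx_mul_resDeg_le [FiniteDimensional K K'] (P : Place k K)
    (S : Finset (Place k K')) (hS : ∀ Q ∈ S, IsOver Q P) :
    ∑ Q ∈ S, ramIdx Q P * resDeg Q P ≤ Module.finrank K K' := by
  classical
  have hex : ∀ Q : S, ∃ s : Fin (resDeg (Q : Place k K') P) → K',
      ResIndepOver P (Q : Place k K') s := fun Q => exists_resIndepOver_resDeg (hS Q Q.2)
  choose s hs using hex
  have h := sum_mul_le_finrank_over (ι := S) (fun Q => (Q : Place k K')) Subtype.val_injective P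
    (fun Q => ramIdx (Q : Place k K') P) (fun Q => isOverWith_ramIdx (hS Q Q.2))
    (fun Q => resDeg (Q : Place k K') P) s hs
  rw [← Finset.sum_coe_sort S (fun Q => ramIdx Q P * resDeg Q P)]
  exact h

/-- the tower law for degrees of places -/
theorem deg_eq_resDeg_mul_deg [IsScalarTower k K K'] [FiniteDimensional K K']
    (hK : IsFunctionField k K) (h : IsOver Q P) : Q.deg = resDeg Q P * P.deg := by
  have he := isOverWith_ramIdx h
  rw [resDeg_eq he]
  letI := (resMap he).toAlgebra
  have hfin := (finite_and_mul_finrank_le he).1
  have hfinP := finite_residueField hK P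
  have htower : IsScalarTower k (IsLocalRing.ResidueField P.O) (IsLocalRing.ResidueField Q.O) := by
    apply IsScalarTower.of_algebraMap_eq
    intro c
    change algebraMap k (IsLocalRing.ResidueField Q.O) c =
      resMap he (algebraMap k (IsLocalRing.ResidueField P.O) c)
    rw [algebraMap_res, algebraMap_res, resMap_res]
    congr 1
    ext
    rw [OMap_coe, coe_algebraMap_O, coe_algebraMap_O, ← IsScalarTower.algebraMap_apply]
  unfold Place.deg
  rw [mul_comm]
  exact (@Module.finrank_mul_finrank k (IsLocalRing.ResidueField P.O)
    (IsLocalRing.ResidueField Q.O) _ _ _ _ _ _ htower _ _ _ _).symm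

end Groth.Agent.FF.Ext
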