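import Groth.Agent.FunFld.DegDiv

/-!
# Riemann's theorem: the genus
-/

set_option autoImplicit false

open FunFld IntermediateField Polynomial WithZero

namespace Groth.Agent.FF

universe u v
variable {k : Type u} {K : Type v} [Field k] [Field K] [Algebra k K]

/-- `δ(D) = deg D + 1 - ℓ(D)` -/
noncomputable def delta (D : Divisor k K) : ℤ := D.deg + 1 - (ell D : ℤ)

lemma delta_mono (hK : IsFunctionField k K) {D₁ D₂ : Divisor k K} (h : D₁ ≤ D₂) :
    delta D₁ ≤ delta D₂ := by
  have := ell_le_add hK h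
  unfold delta
  linarith

/-- multiplication by `z` maps `L(D + (z))` isomorphically onto `L(D)` -/
lemma ell_add_div (hK : IsFunctionField k K) (D : Divisor k K) {z : K} (hz : z ≠ 0) :
    ell (D + FunFld.div k z) = ell D := by
  unfold ell
  have hinj : Function.Injective (LinearMap.mul k K z) := by
    intro a b hab
    simpa [hz] using hab
  have hmap : Submodule.map (LinearMap.mul k K z) (L (D + FunFld.div k z)) = L D := by
    ext y
    constructor
    · rintro ⟨w, hw', rfl⟩
      have hw : w ∈ L (D + FunFld.div k z) := hw'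
      by_cases hw0 : w = 0
      · simp [hw0]
      rw [LinearMap.mul_apply', mem_L_iff_div hK D (mul_ne_zero hz hw0)]
      rw [mem_L_iff_div hK _ hw0] at hw
      intro P
      have := hw P
      simp only [Finsupp.add_apply, div_apply hK, Finsupp.zero_apply] at this ⊢
      rw [ord_mul P hz hw0]; linarith
    · intro hy
      refine ⟨z⁻¹ * y, ?_, by simp [hz]⟩
      change z⁻¹ * y ∈ L (D + FunFld.div k z)
      by_cases hy0 : y = 0
      · simp [hy0]
      rw [mem_L_iff_div hK _ (mul_ne_zero (inv_ne_zero hz) hy0)]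
      rw [mem_L_iff_div hK D hy0] at hy
      intro P
      have := hy P
      simp only [Finsupp.add_apply, div_apply hK, Finsupp.zero_apply] at this ⊢
      rw [ord_mul P (inv_ne_zero hz) hy0, ord_inv]; linarith
  rw [← hmap]
  exact (Submodule.equivMapOfInjective _ hinj _).finrank_eq

lemma delta_add_div (hK : IsFunctionField k K) (D : Divisor k K) {z : K} (hz : z ≠ 0) :
    delta (D + FunFld.div k z) = delta D := by
  unfold delta
  rw [ell_add_div hK D hz, deg_add, deg_div_eq_zero hK]; ring

lemma ell_zero (hK : IsFunctionField k K) : ell (0 : Divisor k K) = 1 := by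
  have := length_L_zero hK
  rw [length_L_eq_ell hK] at this
  exact_mod_cast this

lemma delta_zero (hK : IsFunctionField k K) : delta (0 : Divisor k K) = 0 := by
  unfold delta
  rw [ell_zero hK, deg_zero]; simp

/-- if `ℓ(D) > 0` there is a nonzero element in `L(D)` -/
lemma exists_ne_zero_mem_L {D : Divisor k K} (h : 0 < ell D) : ∃ z : K, z ≠ 0 ∧ z ∈ L D := by
  unfold ell at h
  have := Module.nontrivial_of_finrank_pos h
  obtain ⟨⟨z, hz⟩, hz0⟩ := exists_ne (0 : L D)
  exact ⟨z, fun h0 => hz0 (Subtype.ext h0), hz⟩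

/-- a bound for `δ(l B)`, `B` the pole divisor of `x` -/
lemma exists_bound_delta_smul (hK : IsFunctionField k K) {x : K} (hx : Transcendental k x) :
    ∃ γ : ℤ, ∀ l : ℕ, delta (l • poleDiv k x) ≤ γ := by
  classical
  have := finite_adjoin_of_transcendental hK hx
  set n := Module.finrank (adjoin k ({x} : Set K)) K with hn
  let b := Module.finBasis (adjoin k ({x} : Set K)) K
  set B := poleDiv k x with hB
  let C : Divisor k K := ∑ i, poleDiv k (b i)
  have hC0 : 0 ≤ C := Finset.sum_nonneg (fun i _ => poleDiv_nonneg _)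
  have hBC : ∀ i, poleDiv k (b i) ≤ C := fun i =>
    Finset.single_le_sum (f := fun i => poleDiv k (b i)) (fun i _ => poleDiv_nonneg _)
      (Finset.mem_univ i)
  have hB0 : 0 ≤ B := poleDiv_nonneg _
  have hBdeg : B.deg = n := deg_poleDiv_eq hK hx
  refine ⟨1 + C.deg - n, fun l => ?_⟩
  have hLI : LinearIndependent k
      (fun p : Fin (l + 1) × Fin n => (AdjoinSimple.gen k x) ^ (p.1 : ℕ) • b p.2) :=
    linearIndependent_smul (linearIndependent_pow_gen hx l) b.linearIndependent
  have hmem : ∀ p : Fin (l + 1) × Fin n,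
      (AdjoinSimple.gen k x) ^ (p.1 : ℕ) • b p.2 ∈ L (l • B + C) := by
    intro p
    have h1 : (AdjoinSimple.gen k x) ^ (p.1 : ℕ) • b p.2 = x ^ (p.1 : ℕ) * b p.2 := by
      rw [IntermediateField.smul_def]
      simp
    rw [h1]
    apply mul_mem_L
    · have h2 : x ^ (p.1 : ℕ) ∈ L ((p.1 : ℕ) • B) := pow_mem_L (mem_L_poleDiv hK x) _
      refine L_mono ?_ h2
      have hle : (p.1 : ℕ) ≤ l := Nat.lt_succ_iff.mp p.1.2
      exact nsmul_le_nsmul_left hB0 hle
    · exact L_mono (hBC p.2) (mem_L_poleDiv hK _)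
  let f : Fin (l + 1) × Fin n → L (l • B + C) := fun p => ⟨_, hmem p⟩
  have hLI' : LinearIndependent k f := by
    apply LinearIndependent.of_comp (L (l • B + C)).subtype
    exact hLI
  have := finite_L hK (l • B + C)
  have hcard := hLI'.fintype_card_le_finrank
  rw [Fintype.card_prod, Fintype.card_fin, Fintype.card_fin] at hcard
  have hle : l • B ≤ l • B + C := le_add_of_nonneg_right hC0
  have hell := ell_le_add hK hle
  rw [deg_add] at hell
  have hdegl : (l • B).deg = l * B.deg := by
    rw [← degHom_apply, map_nsmul, degHom_apply]; simp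
  have hcard' : ((l + 1) * n : ℤ) ≤ (ell (l • B + C) : ℤ) := by
    have : ((l + 1) * n : ℕ) ≤ ell (l • B + C) := hcard
    exact_mod_cast this
  unfold delta
  rw [hdegl, hBdeg]
  linarith

/-- `δ` is bounded above. -/
theorem exists_bound_delta (hK : IsFunctionField k K) : ∃ γ : ℤ, ∀ D : Divisor k K, delta D ≤ γ := by
  have hK' : IsFunctionField k K := hK
  obtain ⟨⟨x, hx, -⟩, -⟩ := hK
  obtain ⟨γ, hγ⟩ := exists_bound_delta_smul hK' hx
  have := finite_adjoin_of_transcendental hK' hx
  set n := Module.finrank (adjoin k ({x} : Set K)) K with hn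
  set B := poleDiv k x with hB
  have hBdeg : B.deg = n := deg_poleDiv_eq hK' hx
  have hnpos : 0 < n := Module.finrank_pos
  refine ⟨γ, fun A => ?_⟩
  set A₁ := A ⊔ 0 with hA₁
  have hAA₁ : A ≤ A₁ := le_sup_left
  -- choose l with ℓ(lB - A₁) > 0
  set l : ℕ := (γ + A₁.deg).toNat + 1 with hl
  have hlge : γ + A₁.deg < l := by
    have := Int.self_le_toNat (γ + A₁.deg)
    rw [hl]; push_cast; linarith
  have h1 : (ell (l • B) : ℤ) ≤ ell (l • B - A₁) + A₁.deg := by
    have hle : l • B - A₁ ≤ l • B := by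
      rw [sub_le_self_iff]; exact le_sup_right
    have := ell_le_add hK' hle
    rw [deg_sub] at this
    linarith
  have hdegl : (l • B).deg = l * B.deg := by
    rw [← degHom_apply, map_nsmul, degHom_apply]; simp
  have h2 := hγ l
  unfold delta at h2
  rw [hdegl, hBdeg] at h2
  have hpos : 0 < ell (l • B - A₁) := by
    have hln : (l : ℤ) ≤ l * n := by
      have : (1 : ℤ) ≤ n := by exact_mod_cast hnpos
      nlinarith
    have : (0 : ℤ) < ell (l • B - A₁) := by linarith
    exact_mod_cast this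
  obtain ⟨z, hz0, hz⟩ := exists_ne_zero_mem_L hpos
  rw [mem_L_iff_div hK' _ hz0] at hz
  -- D := A₁ - div z ≤ l B
  have hD : A₁ + FunFld.div k z⁻¹ ≤ l • B := by
    rw [div_inv hK']
    have : l • B - (A₁ + -FunFld.div k z) = l • B - A₁ + FunFld.div k z := by abel
    rw [← sub_nonneg, this]
    exact hz
  calc delta A ≤ delta A₁ := delta_mono hK' hAA₁
    _ = delta (A₁ + FunFld.div k z⁻¹) := (delta_add_div hK' A₁ (inv_ne_zero hz0)).symm
    _ ≤ delta (l • B) := delta_mono hK' hD
    _ ≤ γ := hγ l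

lemma bddAbove_genus_set (hK : IsFunctionField k K) :
    BddAbove (Set.range fun D : Divisor k K => (D.deg + 1 - (ell D : ℤ)).toNat) := by
  obtain ⟨γ, hγ⟩ := exists_bound_delta hK
  refine ⟨γ.toNat, ?_⟩
  rintro _ ⟨D, rfl⟩
  exact Int.toNat_le_toNat (hγ D)

/-- `δ(D) ≤ g` for all `D`. -/
theorem delta_le_genus (hK : IsFunctionField k K) (D : Divisor k K) :
    delta D ≤ (genus k K : ℤ) := by
  have h1 : (delta D).toNat ≤ genus k K :=
    le_csSup (bddAbove_genus_set hK) ⟨D, rfl⟩
  have h2 : delta D ≤ ((delta D).toNat : ℤ) := Int.self_le_toNat _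
  exact h2.trans (by exact_mod_cast h1)

/-- the genus is attained -/
theorem exists_delta_eq_genus (hK : IsFunctionField k K) :
    ∃ D : Divisor k K, delta D = (genus k K : ℤ) := by
  have hne : (Set.range fun D : Divisor k K => (D.deg + 1 - (ell D : ℤ)).toNat).Nonempty :=
    ⟨_, ⟨0, rfl⟩⟩
  obtain ⟨D, hD⟩ := Nat.sSup_mem hne (bddAbove_genus_set hK)
  have hD' : (delta D).toNat = genus k K := hD
  by_cases hg : genus k K = 0
  · refine ⟨0, ?_⟩
    rw [delta_zero hK, hg]; simp
  · refine ⟨D, ?_⟩
    have hpos : 0 < (delta D).toNat := by rw [hD']; exact Nat.pos_of_ne_zero hg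
    have : 0 < delta D := Int.lt_toNat.mp (by exact_mod_cast hpos)
    rw [← hD', Int.toNat_of_nonneg this.le]

/-- Riemann's theorem: `δ(D) = g` for `deg D` large. -/
theorem exists_deg_bound_delta_eq_genus (hK : IsFunctionField k K) :
    ∃ N : ℤ, ∀ D : Divisor k K, N ≤ D.deg → delta D = (genus k K : ℤ) := by
  obtain ⟨A₀, hA₀⟩ := exists_delta_eq_genus hK
  refine ⟨A₀.deg + genus k K, fun A hA => ?_⟩
  apply le_antisymm (delta_le_genus hK A)
  have h1 := delta_le_genus hK (A - A₀)
  unfold delta at h1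
  rw [deg_sub] at h1
  have hpos : 0 < ell (A - A₀) := by
    have : (0 : ℤ) < ell (A - A₀) := by linarith
    exact_mod_cast this
  obtain ⟨z, hz0, hz⟩ := exists_ne_zero_mem_L hpos
  rw [mem_L_iff_div hK _ hz0] at hz
  have hle : A₀ ≤ A + FunFld.div k z := by
    rw [← sub_nonneg]
    have : A + FunFld.div k z - A₀ = A - A₀ + FunFld.div k z := by abel
    rw [this]; exact hz
  rw [← hA₀, ← delta_add_div hK A hz0]
  exact delta_mono hK hle

end Groth.Agent.FF
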