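import Groth.Agent.FunFld.SectRing2
import Groth.Agent.FunFld.Weierstrass
import Mathlib.Algebra.Module.SpanRank

/-!
# Embedding dimension of the section ring of a place
-/

set_option autoImplicit false

open FunFld IntermediateField Polynomial WithZero W4c6gradedringsgw

namespace Groth.Agent.FF

universe u v
variable {k : Type u} {K : Type v} [Field k] [Field K] [Algebra k K]

/-- the irrelevant ideal of the section ring of `P` -/
noncomputable def irrel (P : Place k K) : Ideal (sectRing (Finsupp.single P 1 : Divisor k K)) :=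
  RingHom.ker (Polynomial.constantCoeff.comp
    (sectRing (Finsupp.single P 1 : Divisor k K)).val.toRingHom)

lemma mem_irrel (P : Place k K) (p : sectRing (Finsupp.single P 1 : Divisor k K)) :
    p ∈ irrel P ↔ (p : K[X]).coeff 0 = 0 := by
  unfold irrel
  rw [RingHom.mem_ker]
  rfl

lemma monomial_mem_sectRing (P : Place k K) {n : ℕ} {f : K}
    (hf : f ∈ L (Finsupp.single P (n : ℤ) : Divisor k K)) :
    monomial n f ∈ sectRing (Finsupp.single P 1 : Divisor k K) := by
  intro m
  rw [coeff_monomial]
  split_ifs with h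
  · subst h; rwa [zsmul_single_one]
  · exact zero_mem _

/-- the monomial `f Tⁿ` as an element of the section ring -/
noncomputable def monoR (P : Place k K) (n : ℕ) (f : K)
    (hf : f ∈ L (Finsupp.single P (n : ℤ) : Divisor k K)) :
    sectRing (Finsupp.single P 1 : Divisor k K) := ⟨monomial n f, monomial_mem_sectRing P hf⟩

lemma coe_monoR (P : Place k K) (n : ℕ) (f : K)
    (hf : f ∈ L (Finsupp.single P (n : ℤ) : Divisor k K)) :
    ((monoR P n f hf : sectRing (Finsupp.single P 1 : Divisor k K)) : K[X]) = monomial n f := rfl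

lemma monoR_mem_irrel (P : Place k K) {n : ℕ} (hn : n ≠ 0) (f : K)
    (hf : f ∈ L (Finsupp.single P (n : ℤ) : Divisor k K)) : monoR P n f hf ∈ irrel P := by
  rw [mem_irrel, coe_monoR, coeff_monomial, if_neg hn]

section

variable [IsAlgClosed k] (hK : IsFunctionField k K) (P : Place k K)

include hK in
lemma one_notMem_poleOrders (hg : 1 ≤ genus k K) : 1 ∉ poleOrders P := by
  intro h1
  obtain ⟨f, hf, hf'⟩ := exists_mem_of_mem_poleOrders P h1
  apply hf'
  obtain ⟨c, rfl⟩ := mem_range_of_mem_L_single_one hK hg P (by simpa using hf)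
  have : algebraMap k K c ∈ L (0 : Divisor k K) := by
    rw [L_zero_eq hK, Submodule.mem_one]; exact ⟨c, rfl⟩
  simpa using this

include hK in
lemma mem_poleOrders_of_le {n : ℕ} (hn : 2 * genus k K ≤ n) : n ∈ poleOrders P := by
  have h1 := ell_eq_of_deg_ge hK ((n : ℤ) • (Finsupp.single P 1 : Divisor k K))
    (by rw [deg_zsmul_single_one hK P]; omega)
  have h2 := ell_eq_of_deg_ge hK (((n : ℤ) - 1) • (Finsupp.single P 1 : Divisor k K))
    (by rw [deg_zsmul_single_one hK P]; omega)
  rw [deg_zsmul_single_one hK P] at h1 h2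
  change ell ((n : ℤ) • (Finsupp.single P 1 : Divisor k K)) =
    ell (((n : ℤ) - 1) • (Finsupp.single P 1 : Divisor k K)) + 1
  omega

include hK in
lemma minGens_subset (hg : 1 ≤ genus k K) :
    minGens (poleOrders P) ⊆ ↑(Finset.range (4 * genus k K)) := by
  intro h hh
  rw [Finset.coe_range, Set.mem_Iio]
  by_contra hge
  rw [not_lt] at hge
  obtain ⟨-, -, hmin⟩ := hh
  exact hmin (2 * genus k K) (mem_poleOrders_of_le hK P le_rfl) (h - 2 * genus k K)
    (mem_poleOrders_of_le hK P (by omega)) (by omega) (by omega) (by omega)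

include hK in
lemma finite_minGens (hg : 1 ≤ genus k K) : (minGens (poleOrders P)).Finite :=
  (Finset.finite_toSet _).subset (minGens_subset hK P hg)

end

end Groth.Agent.FF

namespace Groth.Agent.FF

universe u v
variable {k : Type u} {K : Type v} [Field k] [Field K] [Algebra k K]

section gens

variable (P : Place k K)

open scoped Classical in
/-- a chosen function with exact pole order `h` at `P` (and no other pole) -/
noncomputable def poleFun (h : ℕ) : K :=
  if hh : h ∈ poleOrders P then Classical.choose (exists_mem_of_mem_poleOrders P hh) else 0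

lemma poleFun_mem (h : ℕ) : poleFun P h ∈ L (Finsupp.single P (h : ℤ) : Divisor k K) := by
  unfold poleFun
  split_ifs with hh
  · exact (Classical.choose_spec (exists_mem_of_mem_poleOrders P hh)).1
  · exact zero_mem _

lemma poleFun_notMem {h : ℕ} (hh : h ∈ poleOrders P) :
    poleFun P h ∉ L (Finsupp.single P ((h : ℤ) - 1) : Divisor k K) := by
  unfold poleFun
  rw [dif_pos hh]
  exact (Classical.choose_spec (exists_mem_of_mem_poleOrders P hh)).2

lemma one_mem_L_single_one : (1 : K) ∈ L (Finsupp.single P ((1 : ℕ) : ℤ) : Divisor k K) := by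
  classical
  intro Q
  rw [map_one, ← exp_zero, exp_le_exp, Finsupp.single_apply]
  split_ifs <;> simp

/-- the degree-one generator `T` -/
noncomputable def genT : sectRing (Finsupp.single P 1 : Divisor k K) :=
  monoR P 1 1 (one_mem_L_single_one P)

/-- the generating set of the irrelevant ideal -/
noncomputable def gensSet : Set (sectRing (Finsupp.single P 1 : Divisor k K)) :=
  insert (genT P) ((fun h => monoR P h (poleFun P h) (poleFun_mem P h)) '' minGens (poleOrders P))

lemma monoR_mul (a b : ℕ) (fa fb : K)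
    (hfa : fa ∈ L (Finsupp.single P (a : ℤ) : Divisor k K))
    (hfb : fb ∈ L (Finsupp.single P (b : ℤ) : Divisor k K))
    (hfab : fa * fb ∈ L (Finsupp.single P ((a + b : ℕ) : ℤ) : Divisor k K)) :
    monoR P (a + b) (fa * fb) hfab = monoR P a fa hfa * monoR P b fb hfb := by
  apply Subtype.ext
  change monomial (a + b) (fa * fb) = monomial a fa * monomial b fb
  rw [monomial_mul_monomial]

variable [IsAlgClosed k] (hK : IsFunctionField k K)

include hK in
lemma monoR_mem_span : ∀ n : ℕ, n ≠ 0 →
    ∀ (f : K) (hf : f ∈ L (Finsupp.single P (n : ℤ) : Divisor k K)),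
      monoR P n f hf ∈ Ideal.span (gensSet P) := by
  intro n
  induction n using Nat.strong_induction_on with
  | _ n ih =>
  intro hn f hf
  have step1 : ∀ (f' : K), f' ∈ L (Finsupp.single P ((n : ℤ) - 1) : Divisor k K) →
      ∀ hf', monoR P n f' hf' ∈ Ideal.span (gensSet P) := by
    intro f' hf'1 hf'
    obtain ⟨m, rfl⟩ := Nat.exists_eq_succ_of_ne_zero hn
    have hm : f' ∈ L (Finsupp.single P (m : ℤ) : Divisor k K) := by
      have e : ((m.succ : ℕ) : ℤ) - 1 = (m : ℤ) := by push_cast; ring
      rwa [e] at hf'1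
    have h1 : monoR P (m + 1) (f' * 1) (by rwa [mul_one]) =
        monoR P m f' hm * monoR P 1 1 (one_mem_L_single_one P) :=
      monoR_mul P m 1 f' 1 hm (one_mem_L_single_one P) _
    have h2 : monoR P m.succ f' hf' = monoR P (m + 1) (f' * 1) (by rwa [mul_one]) := by
      apply Subtype.ext
      change monomial m.succ f' = monomial (m + 1) (f' * 1)
      rw [mul_one]
    rw [h2, h1]
    exact Ideal.mul_mem_left _ _ (Ideal.subset_span (Set.mem_insert _ _))
  by_cases hf1 : f ∈ L (Finsupp.single P ((n : ℤ) - 1) : Divisor k K)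
  · exact step1 f hf1 hf
  · have hnH := mem_poleOrders_of_mem_of_not_mem hK P hf hf1
    suffices hsuff : ∃ (e : K) (he : e ∈ L (Finsupp.single P (n : ℤ) : Divisor k K)),
        e ∉ L (Finsupp.single P ((n : ℤ) - 1) : Divisor k K) ∧
          monoR P n e he ∈ Ideal.span (gensSet P) by
      obtain ⟨e, he, he', hemem⟩ := hsuff
      have hle : (Finsupp.single P ((n : ℤ) - 1) : Divisor k K) ≤ Finsupp.single P (n : ℤ) :=
        single_le_single' (by omega)
      have hell : ell (Finsupp.single P (n : ℤ) : Divisor k K) =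
          ell (Finsupp.single P ((n : ℤ) - 1) : Divisor k K) + 1 := by
        have h := hnH
        change ell ((n : ℤ) • (Finsupp.single P 1 : Divisor k K)) =
          ell (((n : ℤ) - 1) • (Finsupp.single P 1 : Divisor k K)) + 1 at h
        rwa [zsmul_single_one, zsmul_single_one] at h
      obtain ⟨c, hc⟩ := exists_sub_smul_mem_L hK hle hell he he' hf
      have hmem2 : f - c • e ∈ L (Finsupp.single P (n : ℤ) : Divisor k K) :=
        sub_mem hf (Submodule.smul_mem _ c he)
      have h3 : monoR P n f hf = algebraMap k _ c * monoR P n e he +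
          monoR P n (f - c • e) hmem2 := by
        apply Subtype.ext
        change monomial n f = C (algebraMap k K c) * monomial n e + monomial n (f - c • e)
        rw [C_mul_monomial, ← map_add, ← Algebra.smul_def]
        congr 1
        ring
      rw [h3]
      exact add_mem (Ideal.mul_mem_left _ _ hemem) (step1 _ hc _)
    by_cases hmin : n ∈ minGens (poleOrders P)
    · exact ⟨poleFun P n, poleFun_mem P n, poleFun_notMem P hnH,
        Ideal.subset_span (Set.mem_insert_of_mem _ ⟨n, hmin, rfl⟩)⟩
    · have hex : ∃ a ∈ poleOrders P, ∃ b ∈ poleOrders P, a ≠ 0 ∧ b ≠ 0 ∧ a + b = n := by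
        by_contra hcon
        apply hmin
        refine ⟨hnH, hn, ?_⟩
        intro a ha b hb ha0 hb0 hab
        exact hcon ⟨a, ha, b, hb, ha0, hb0, hab⟩
      obtain ⟨a, ha, b, hb, ha0, hb0, rfl⟩ := hex
      obtain ⟨fa, hfa, hfa'⟩ := exists_mem_of_mem_poleOrders P ha
      obtain ⟨fb, hfb, hfb'⟩ := exists_mem_of_mem_poleOrders P hb
      have hA := onlyPoleAt_of_mem_of_not_mem hfa hfa'
      have hB := onlyPoleAt_of_mem_of_not_mem hfb hfb'
      have hAB := hA.mul hB (hA.ne_zero (by omega)) (hB.ne_zero (by omega))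
      have hmemAB : fa * fb ∈ L (Finsupp.single P ((a + b : ℕ) : ℤ) : Divisor k K) := hAB.mem_L
      refine ⟨fa * fb, hmemAB, ?_, ?_⟩
      · exact hAB.not_mem_L (by omega) (by omega)
      · rw [monoR_mul P a b fa fb hfa hfb hmemAB]
        exact Ideal.mul_mem_right _ _ (ih a (by omega) ha0 fa hfa)

end gens

end Groth.Agent.FF

namespace Groth.Agent.FF

universe u v
variable {k : Type u} {K : Type v} [Field k] [Field K] [Algebra k K]

section upper

variable [IsAlgClosed k] (hK : IsFunctionField k K) (P : Place k K)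

include hK in
lemma irrel_eq_span : irrel P = Ideal.span (gensSet P) := by
  apply le_antisymm
  · intro p hp
    rw [mem_irrel] at hp
    have hmem : ∀ n : ℕ, (p : K[X]).coeff n ∈ L (Finsupp.single P (n : ℤ) : Divisor k K) := by
      intro n
      have := p.2 n
      rwa [zsmul_single_one] at this
    have hsum : p = ∑ n ∈ (p : K[X]).support, monoR P n ((p : K[X]).coeff n) (hmem n) := by
      apply Subtype.ext
      rw [AddSubmonoidClass.coe_finsetSum]
      simp only [coe_monoR]
      exact (p : K[X]).as_sum_support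
    rw [hsum]
    apply Ideal.sum_mem
    intro n hn
    apply monoR_mem_span P hK
    rintro rfl
    rw [mem_support_iff] at hn
    exact hn hp
  · rw [Ideal.span_le]
    intro p hp
    rcases hp with rfl | ⟨h, hh, rfl⟩
    · exact monoR_mem_irrel P one_ne_zero _ _
    · exact monoR_mem_irrel P hh.2.1 _ _

include hK in
lemma spanFinrank_irrel_le (hg : 1 ≤ genus k K) :
    (irrel P).spanFinrank ≤ (minGens (poleOrders P)).ncard + 1 := by
  rw [irrel_eq_span hK P]
  have hfinM := finite_minGens hK P hg
  have hfin : (gensSet P).Finite := (hfinM.image _).insert _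
  refine (Submodule.spanFinrank_span_le_ncard_of_finite hfin).trans ?_
  refine (Set.ncard_insert_le _ _).trans ?_
  exact Nat.succ_le_succ (Set.ncard_image_le hfinM)

end upper

end Groth.Agent.FF

namespace Groth.Agent.FF

universe u v
variable {k : Type u} {K : Type v} [Field k] [Field K] [Algebra k K]

section lower

variable [IsAlgClosed k] (hK : IsFunctionField k K) (P : Place k K) {π : K}

/-- the augmentation `R → k`, `p ↦ p₀` -/
noncomputable def eps (hπ : P.1 π = exp (-1 : ℤ)) :
    sectRing (Finsupp.single P 1 : Divisor k K) →+* k :=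
  Polynomial.constantCoeff.comp (leadForm hK P hπ).toRingHom

lemma eps_apply (hπ : P.1 π = exp (-1 : ℤ))
    (r : sectRing (Finsupp.single P 1 : Divisor k K)) :
    eps hK P hπ r = (leadForm hK P hπ r).coeff 0 := rfl

lemma eps_algebraMap (hπ : P.1 π = exp (-1 : ℤ)) (c : k) :
    eps hK P hπ (algebraMap k _ c) = c := by
  rw [eps_apply, AlgHom.commutes]
  simp

lemma eps_surjective (hπ : P.1 π = exp (-1 : ℤ)) : Function.Surjective (eps hK P hπ) :=
  fun c => ⟨algebraMap k _ c, eps_algebraMap hK P hπ c⟩

lemma algebraMap_eps (hπ : P.1 π = exp (-1 : ℤ))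
    (r : sectRing (Finsupp.single P 1 : Divisor k K)) :
    algebraMap k K (eps hK P hπ r) = (r : K[X]).coeff 0 := by
  have h1 := r.2 0
  simp only [Nat.cast_zero, zero_smul] at h1
  rw [L_zero_eq hK, Submodule.mem_one] at h1
  obtain ⟨d, hd⟩ := h1
  rw [eps_apply, coeff_leadForm]
  have h2 : (rho P hπ r).coeff 0 = algebraMap k P.O d := by
    apply Subtype.ext
    rw [coe_coeff_rho, pow_zero, mul_one, ← hd]
    rfl
  rw [h2, resK_algebraMap, hd]

lemma coeff_zero_leadForm_of_mem_irrel (hπ : P.1 π = exp (-1 : ℤ))
    {p : sectRing (Finsupp.single P 1 : Divisor k K)} (hp : p ∈ irrel P) :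
    (leadForm hK P hπ p).coeff 0 = 0 := by
  rw [coeff_leadForm_eq_zero_iff, (mem_irrel P p).1 hp, map_zero]
  exact exp_pos

/-- multiplicativity of the leading coefficients at a minimal generator -/
lemma coeff_leadForm_mul_of_mem_minGens (hπ : P.1 π = exp (-1 : ℤ))
    (r : sectRing (Finsupp.single P 1 : Divisor k K))
    {p : sectRing (Finsupp.single P 1 : Divisor k K)} (hp : p ∈ irrel P) {h : ℕ}
    (hh : h ∈ minGens (poleOrders P)) :
    (leadForm hK P hπ (r * p)).coeff h = eps hK P hπ r * (leadForm hK P hπ p).coeff h := by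
  rw [map_mul, coeff_mul, eps_apply]
  apply Finset.sum_eq_single (0, h)
  · rintro ⟨a, b⟩ hab hne
    rw [Finset.HasAntidiagonal.mem_antidiagonal] at hab
    by_contra hprod
    have ha : (leadForm hK P hπ r).coeff a ≠ 0 := left_ne_zero_of_mul hprod
    have hb : (leadForm hK P hπ p).coeff b ≠ 0 := right_ne_zero_of_mul hprod
    have haH := mem_poleOrders_of_coeff_ne_zero hK P hπ r a ha
    have hbH := mem_poleOrders_of_coeff_ne_zero hK P hπ p b hb
    have hb0 : b ≠ 0 := by
      rintro rfl
      exact hb (coeff_zero_leadForm_of_mem_irrel hK P hπ hp)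
    have ha0 : a ≠ 0 := by
      rintro rfl
      apply hne
      simp only [zero_add] at hab
      rw [hab]
    exact hh.2.2 a haH b hbH ha0 hb0 hab
  · intro hnot
    exfalso
    apply hnot
    rw [Finset.HasAntidiagonal.mem_antidiagonal]
    simp

end lower

end Groth.Agent.FF

namespace Groth.Agent.FF

universe u v
variable {k : Type u} {K : Type v} [Field k] [Field K] [Algebra k K]

section lower2

variable [IsAlgClosed k] (hK : IsFunctionField k K) (P : Place k K) {π : K}

omit [IsAlgClosed k] in
lemma coeff_one_mem (p : sectRing (Finsupp.single P 1 : Divisor k K)) :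
    (p : K[X]).coeff 1 ∈ L (Finsupp.single P 1 : Divisor k K) := by
  have := p.2 1
  rw [zsmul_single_one] at this
  simpa using this

/-- the coefficient of `T` of a member of the section ring, as a constant -/
noncomputable def cOne (hg : 1 ≤ genus k K) (p : sectRing (Finsupp.single P 1 : Divisor k K)) : k :=
  Classical.choose (mem_range_of_mem_L_single_one hK hg P (coeff_one_mem P p))

lemma algebraMap_cOne (hg : 1 ≤ genus k K) (p : sectRing (Finsupp.single P 1 : Divisor k K)) :
    algebraMap k K (cOne hK P hg p) = (p : K[X]).coeff 1 :=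
  Classical.choose_spec (mem_range_of_mem_L_single_one hK hg P (coeff_one_mem P p))

lemma cOne_add (hg : 1 ≤ genus k K) (p q : sectRing (Finsupp.single P 1 : Divisor k K)) :
    cOne hK P hg (p + q) = cOne hK P hg p + cOne hK P hg q := by
  apply (algebraMap k K).injective
  rw [map_add, algebraMap_cOne, algebraMap_cOne, algebraMap_cOne]
  exact coeff_add _ _ _

lemma cOne_mul (hg : 1 ≤ genus k K) (hπ : P.1 π = exp (-1 : ℤ))
    (r : sectRing (Finsupp.single P 1 : Divisor k K))
    {p : sectRing (Finsupp.single P 1 : Divisor k K)} (hp : p ∈ irrel P) :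
    cOne hK P hg (r * p) = eps hK P hπ r * cOne hK P hg p := by
  apply (algebraMap k K).injective
  rw [map_mul, algebraMap_cOne, algebraMap_cOne, algebraMap_eps]
  change ((r : K[X]) * (p : K[X])).coeff 1 = _
  rw [mul_coeff_one, (mem_irrel P p).1 hp, mul_zero, add_zero]

/-- the cotangent map of the irrelevant ideal, semilinear over the augmentation -/
noncomputable def lam (hg : 1 ≤ genus k K) (hπ : P.1 π = exp (-1 : ℤ)) :
    ↥(irrel P) →ₛₗ[eps hK P hπ] (Option ↥(minGens (poleOrders P)) → k) where
  toFun p o := Option.casesOn o (cOne hK P hg p.1) (fun h => (leadForm hK P hπ p.1).coeff h.1)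
  map_add' p q := by
    funext o
    cases o with
    | none => exact cOne_add hK P hg p.1 q.1
    | some h =>
      change (leadForm hK P hπ (p.1 + q.1)).coeff h.1 = _
      rw [map_add, coeff_add]
      rfl
  map_smul' r p := by
    funext o
    cases o with
    | none => exact cOne_mul hK P hg hπ r p.2
    | some h => exact coeff_leadForm_mul_of_mem_minGens hK P hπ r p.2 h.2

lemma lam_none (hg : 1 ≤ genus k K) (hπ : P.1 π = exp (-1 : ℤ)) (p : ↥(irrel P)) :
    lam hK P hg hπ p none = cOne hK P hg p.1 := rfl

lemma lam_some (hg : 1 ≤ genus k K) (hπ : P.1 π = exp (-1 : ℤ)) (p : ↥(irrel P))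
    (h : ↥(minGens (poleOrders P))) :
    lam hK P hg hπ p (some h) = (leadForm hK P hπ p.1).coeff h.1 := rfl

end lower2

end Groth.Agent.FF

namespace Groth.Agent.FF

universe u v
variable {k : Type u} {K : Type v} [Field k] [Field K] [Algebra k K]

section final

variable [IsAlgClosed k] (hK : IsFunctionField k K) (P : Place k K) {π : K}

lemma leadForm_genT (hπ : P.1 π = exp (-1 : ℤ)) : leadForm hK P hπ (genT P) = 0 := by
  rw [leadForm_eq_zero_iff]
  intro n
  rw [genT, coe_monoR, coeff_monomial]
  split_ifs with h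
  · subst h
    rw [map_one, ← exp_zero, exp_lt_exp]; norm_num
  · rw [map_zero]; exact exp_pos

lemma lam_genT (hg : 1 ≤ genus k K) (hπ : P.1 π = exp (-1 : ℤ)) :
    lam hK P hg hπ ⟨genT P, monoR_mem_irrel P one_ne_zero _ _⟩ = Pi.single none 1 := by
  funext o
  cases o with
  | none =>
    rw [lam_none, Pi.single_eq_same]
    apply (algebraMap k K).injective
    rw [algebraMap_cOne, map_one]
    change (monomial 1 (1 : K)).coeff 1 = 1
    simp
  | some h =>
    rw [lam_some, Pi.single_eq_of_ne (by simp)]
    change (leadForm hK P hπ (genT P)).coeff h.1 = 0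
    rw [leadForm_genT]; simp

lemma leadForm_monoR (hπ : P.1 π = exp (-1 : ℤ)) (n : ℕ) (f : K)
    (hf : f ∈ L (Finsupp.single P (n : ℤ) : Divisor k K)) :
    leadForm hK P hπ (monoR P n f hf) =
      monomial n ((leadForm hK P hπ (monoR P n f hf)).coeff n) := by
  ext m
  rw [coeff_monomial]
  split_ifs with h
  · subst h; rfl
  · rw [coeff_leadForm_eq_zero_iff, coe_monoR, coeff_monomial, if_neg h, map_zero]
    exact exp_pos

lemma coeff_leadForm_monoR_ne_zero (hπ : P.1 π = exp (-1 : ℤ)) {n : ℕ} {f : K}
    (hf : f ∈ L (Finsupp.single P (n : ℤ) : Divisor k K))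
    (hf' : f ∉ L (Finsupp.single P ((n : ℤ) - 1) : Divisor k K)) :
    (leadForm hK P hπ (monoR P n f hf)).coeff n ≠ 0 := by
  rw [Ne, coeff_leadForm_eq_zero_iff, coe_monoR, coeff_monomial, if_pos rfl]
  intro hlt
  apply hf'
  apply mem_L_single_of_mem_succ
  · simpa using hf
  · simpa using hlt

lemma lam_monoR (hg : 1 ≤ genus k K) (hπ : P.1 π = exp (-1 : ℤ))
    (h : ↥(minGens (poleOrders P))) :
    lam hK P hg hπ ⟨monoR P h.1 (poleFun P h.1) (poleFun_mem P h.1),
        monoR_mem_irrel P h.2.2.1 _ _⟩ =
      (leadForm hK P hπ (monoR P h.1 (poleFun P h.1) (poleFun_mem P h.1))).coeff h.1 •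
        Pi.single (some h) 1 := by
  funext o
  cases o with
  | none =>
    rw [lam_none, Pi.smul_apply, Pi.single_eq_of_ne (by simp), smul_zero]
    apply (algebraMap k K).injective
    rw [algebraMap_cOne, map_zero, coe_monoR, coeff_monomial, if_neg]
    intro h1
    exact one_notMem_poleOrders hK P hg (h1 ▸ h.2.1)
  | some h' =>
    rw [lam_some, Pi.smul_apply, smul_eq_mul]
    change (leadForm hK P hπ (monoR P h.1 (poleFun P h.1) (poleFun_mem P h.1))).coeff h'.1 = _
    rw [leadForm_monoR, coeff_monomial, coeff_monomial, if_pos rfl]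
    by_cases hh : h = h'
    · subst hh
      rw [if_pos rfl, Pi.single_eq_same, mul_one]
    · rw [if_neg (fun e => hh (Subtype.ext e)), Pi.single_eq_of_ne (by
        intro e; exact hh (Option.some.inj e).symm), mul_zero]

include hK in
/-- the embedding dimension of `R_P` is one more than that of the Weierstrass semigroup -/
theorem spanFinrank_irrel (hg : 1 ≤ genus k K) :
    (irrel P).spanFinrank = (minGens (poleOrders P)).ncard + 1 := by
  classical
  obtain ⟨π, hπ⟩ := exists_uniformizer P
  apply le_antisymm (spanFinrank_irrel_le hK P hg)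
  have hfinM := finite_minGens hK P hg
  haveI : Fintype ↥(minGens (poleOrders P)) := hfinM.fintype
  haveI : RingHomSurjective (eps hK P hπ) := ⟨eps_surjective hK P hπ⟩
  have hfin : (gensSet P).Finite := (hfinM.image _).insert _
  have hFG : (irrel P).FG := by
    rw [irrel_eq_span hK P]
    exact Submodule.fg_span hfin
  have htopFG : (⊤ : Submodule (sectRing (Finsupp.single P 1 : Divisor k K)) ↥(irrel P)).FG :=
    (Submodule.fg_top _).mpr hFG
  have h1 := Submodule.spanFinrank_map_le_of_fg (lam hK P hg hπ) htopFG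
  rw [Submodule.spanFinrank_top] at h1
  have hrange : (⊤ : Submodule (sectRing (Finsupp.single P 1 : Divisor k K)) ↥(irrel P)).map
      (lam hK P hg hπ) = ⊤ := by
    rw [eq_top_iff, ← (Pi.basisFun k (Option ↥(minGens (poleOrders P)))).span_eq, Submodule.span_le]
    rintro _ ⟨o, rfl⟩
    rw [Pi.basisFun_apply]
    cases o with
    | none => exact ⟨_, trivial, lam_genT hK P hg hπ⟩
    | some h =>
      have hne := coeff_leadForm_monoR_ne_zero hK P hπ (poleFun_mem P h.1)
        (poleFun_notMem P h.2.1)
      have hmem : lam hK P hg hπ ⟨monoR P h.1 (poleFun P h.1) (poleFun_mem P h.1),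
          monoR_mem_irrel P h.2.2.1 _ _⟩ ∈
          (⊤ : Submodule (sectRing (Finsupp.single P 1 : Divisor k K)) ↥(irrel P)).map
            (lam hK P hg hπ) := ⟨_, trivial, rfl⟩
      rw [lam_monoR] at hmem
      have := Submodule.smul_mem _
        ((leadForm hK P hπ (monoR P h.1 (poleFun P h.1) (poleFun_mem P h.1))).coeff h.1)⁻¹ hmem
      rwa [smul_smul, inv_mul_cancel₀ hne, one_smul] at this
  rw [hrange, ← Module.finrank_eq_spanFinrank_of_free, Module.finrank_fintype_fun_eq_card,
    Fintype.card_option] at h1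
  have hcard : Fintype.card ↥(minGens (poleOrders P)) = (minGens (poleOrders P)).ncard := by
    rw [Set.ncard_eq_toFinset_card', Set.toFinset_card]
  rw [hcard] at h1
  exact h1

end final

end Groth.Agent.FF
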