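import Mathlib
import Groth.Agent.FunFld.GorTools
import Groth.Agent.FunFld.KunzComb
import Groth.Agent.Lib.Helper24.GorenArtin

/-!
# The semigroup algebra `k[H] ⊆ k[X]` of a numerical semigroup and Kunz's theorem

`semiAlg k H` is the subalgebra of `k[X]` of polynomials supported in `H`.  Its localizations at
maximal ideals different from the augmentation ideal are discrete valuation rings, and its
localization at the augmentation ideal is Gorenstein iff `H` is symmetric.
-/

set_option autoImplicit false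
set_option linter.style.haveILetI false
universe u

namespace Groth.Agent.FF.SemiAlg

open Polynomial IsLocalRing LocCoh

variable (k : Type u) [Field k] (H : AddSubmonoid ℕ)

/-- the semigroup algebra of `H`, inside `k[X]` -/
def semiAlg : Subalgebra k k[X] where
  carrier := {q | ∀ n, q.coeff n ≠ 0 → n ∈ H}
  mul_mem' := by
    intro p q hp hq n hn
    rw [coeff_mul] at hn
    obtain ⟨x, hx, hne⟩ := Finset.exists_ne_zero_of_sum_ne_zero hn
    have h1 : p.coeff x.1 ≠ 0 := left_ne_zero_of_mul hne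
    have h2 : q.coeff x.2 ≠ 0 := right_ne_zero_of_mul hne
    have hx' : x.1 + x.2 = n := Finset.HasAntidiagonal.mem_antidiagonal.mp hx
    rw [← hx']
    exact H.add_mem (hp _ h1) (hq _ h2)
  add_mem' := by
    intro p q hp hq n hn
    rw [coeff_add] at hn
    by_cases h1 : p.coeff n = 0
    · rw [h1, zero_add] at hn
      exact hq n hn
    · exact hp n h1
  algebraMap_mem' := by
    intro c n hn
    rw [Polynomial.algebraMap_apply, Algebra.algebraMap_self, RingHom.id_apply, coeff_C] at hn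
    split_ifs at hn with h
    · subst h
      exact H.zero_mem
    · exact absurd rfl hn

variable {k H}

lemma mem_semiAlg {q : k[X]} : q ∈ semiAlg k H ↔ ∀ n, q.coeff n ≠ 0 → n ∈ H := Iff.rfl

lemma X_pow_mem {n : ℕ} (hn : n ∈ H) : (X ^ n : k[X]) ∈ semiAlg k H := by
  intro m hm
  rw [coeff_X_pow] at hm
  split_ifs at hm with h
  · subst h
    exact hn
  · exact absurd rfl hm

/-- the monomial `X^n`, `n ∈ H` -/
noncomputable def xp (n : ℕ) (hn : n ∈ H) : semiAlg k H := ⟨X ^ n, X_pow_mem hn⟩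

@[simp] lemma coe_xp (n : ℕ) (hn : n ∈ H) : ((xp n hn : semiAlg k H) : k[X]) = X ^ n := rfl

lemma xp_add (n m : ℕ) (hn : n ∈ H) (hm : m ∈ H) :
    (xp (n + m) (H.add_mem hn hm) : semiAlg k H) = xp n hn * xp m hm := by
  apply Subtype.ext
  simp [pow_add]

lemma xp_pow (n m : ℕ) (hn : n ∈ H) (hnm : n * m ∈ H) :
    (xp n hn : semiAlg k H) ^ m = xp (n * m) hnm := by
  apply Subtype.ext
  simp [pow_mul]

lemma X_pow_mul_mem {N : ℕ} (hN : ∀ n, N ≤ n → n ∈ H) (r : k[X]) :
    X ^ N * r ∈ semiAlg k H := by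
  intro n hn
  rw [coeff_X_pow_mul'] at hn
  split_ifs at hn with h
  · exact hN n h
  · exact absurd rfl hn

lemma monomial_coeff_mem (q : semiAlg k H) (n : ℕ) :
    monomial n ((q : k[X]).coeff n) ∈ semiAlg k H := by
  intro m hm
  rw [coeff_monomial] at hm
  split_ifs at hm with h
  · subst h
    exact q.2 _ hm
  · exact absurd rfl hm

lemma eq_sum (q : semiAlg k H) :
    q = ∑ n ∈ (q : k[X]).support, ⟨monomial n ((q : k[X]).coeff n), monomial_coeff_mem q n⟩ := by
  apply Subtype.ext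
  rw [AddSubmonoidClass.coe_finsetSum]
  exact (q : k[X]).as_sum_support

/-- evaluation at a point -/
noncomputable def evalHom (a : k) : semiAlg k H →ₐ[k] k := (aeval a).comp (semiAlg k H).val

lemma evalHom_apply (a : k) (q : semiAlg k H) : evalHom a q = (q : k[X]).eval a := by
  simp [evalHom, coe_aeval_eq_eval]

lemma evalHom_surjective (a : k) : Function.Surjective (evalHom a : semiAlg k H →ₐ[k] k) := by
  intro c
  exact ⟨algebraMap k _ c, by simp⟩

/-- the maximal ideal of the point `a` -/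
noncomputable def ptIdeal (a : k) : Ideal (semiAlg k H) :=
  RingHom.ker (evalHom a : semiAlg k H →ₐ[k] k)

instance (a : k) : (ptIdeal a : Ideal (semiAlg k H)).IsMaximal :=
  RingHom.ker_isMaximal_of_surjective _ (evalHom_surjective a)

lemma mem_ptIdeal (a : k) (q : semiAlg k H) : q ∈ ptIdeal a ↔ (q : k[X]).eval a = 0 := by
  rw [← evalHom_apply]
  exact RingHom.mem_ker

/-- a point of `k[H]` is determined by its values on monomials -/
lemma algHom_ext_xp {ψ φ : semiAlg k H →ₐ[k] k}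
    (h : ∀ n (hn : n ∈ H), ψ (xp n hn) = φ (xp n hn)) : ψ = φ := by
  ext q
  rw [eq_sum q, map_sum, map_sum]
  apply Finset.sum_congr rfl
  intro n hn
  have hnH : n ∈ H := q.2 n (mem_support_iff.mp hn)
  have e : (⟨monomial n ((q : k[X]).coeff n), monomial_coeff_mem q n⟩ : semiAlg k H) =
      ((q : k[X]).coeff n) • xp n hnH := by
    apply Subtype.ext
    change monomial n ((q : k[X]).coeff n) = ((q : k[X]).coeff n) • (X ^ n : k[X])
    rw [smul_eq_C_mul, C_mul_X_pow_eq_monomial]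
  rw [e, map_smul, map_smul, h n hnH]

section points

variable {N : ℕ} (hN : ∀ n, N ≤ n → n ∈ H)

include hN in
/-- a point not killing all monomials is an evaluation at a nonzero element -/
lemma exists_eval (ψ : semiAlg k H →ₐ[k] k) (h : ℕ) (hh : h ∈ H) (h0 : h ≠ 0)
    (hψ : ψ (xp h hh) ≠ 0) : ∃ a : k, a ≠ 0 ∧ ψ = evalHom a := by
  have hNH : N ∈ H := hN N le_rfl
  have hN1H : N + 1 ∈ H := hN (N + 1) (by omega)
  set v := ψ (xp N hNH) with hv
  set v' := ψ (xp (N + 1) hN1H) with hv'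
  have hpos : 0 < h := Nat.pos_of_ne_zero h0
  have hvne : v ≠ 0 := by
    have hm : h * N ∈ H := hN _ (Nat.le_mul_of_pos_left N hpos)
    have hm' : N * h ∈ H := by rw [mul_comm]; exact hm
    have h1 : (xp h hh : semiAlg k H) ^ N = (xp N hNH) ^ h := by
      rw [xp_pow h N hh hm, xp_pow N h hNH hm']
      apply Subtype.ext
      simp [mul_comm]
    have h2 := congrArg ψ h1
    rw [map_pow, map_pow] at h2
    intro hv0
    rw [← hv, hv0, zero_pow h0] at h2
    exact pow_ne_zero N hψ h2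
  have hv'ne : v' ≠ 0 := by
    have hm : h * (N + 1) ∈ H := hN _ (by nlinarith)
    have hm' : (N + 1) * h ∈ H := by rw [mul_comm]; exact hm
    have h1 : (xp h hh : semiAlg k H) ^ (N + 1) = (xp (N + 1) hN1H) ^ h := by
      rw [xp_pow h (N + 1) hh hm, xp_pow (N + 1) h hN1H hm']
      apply Subtype.ext
      simp [mul_comm]
    have h2 := congrArg ψ h1
    rw [map_pow, map_pow] at h2
    intro hv0
    rw [← hv', hv0, zero_pow h0] at h2
    exact pow_ne_zero (N + 1) hψ h2
  have key : ∀ n (hn : n ∈ H), ψ (xp n hn) = (v' / v) ^ n := by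
    intro n hn
    have h1 : (xp n hn : semiAlg k H) * (xp N hNH) ^ n = (xp (N + 1) hN1H) ^ n := by
      apply Subtype.ext
      change (X ^ n : k[X]) * (X ^ N) ^ n = (X ^ (N + 1)) ^ n
      rw [← pow_mul, ← pow_mul, ← pow_add]
      congr 1
      ring
    have h2 := congrArg ψ h1
    rw [map_mul, map_pow, map_pow, ← hv, ← hv'] at h2
    rw [div_pow, eq_div_iff (pow_ne_zero n hvne), h2]
  refine ⟨v' / v, div_ne_zero hv'ne hvne, algHom_ext_xp (fun n hn => ?_)⟩
  rw [key n hn, evalHom_apply]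
  simp

include hN in
/-- localizations of `k[H]` at points away from the origin are Gorenstein -/
theorem gor_of_eval_ne_zero [IsNoetherianRing (semiAlg k H)] (a : k) (ha : a ≠ 0) :
    IsGorensteinLocalRing (Localization.AtPrime (ptIdeal a : Ideal (semiAlg k H))) := by
  have hNH : N ∈ H := hN N le_rfl
  have hN1H : N + 1 ∈ H := hN (N + 1) (by omega)
  have h2NH : N + N ∈ H := hN (N + N) (by omega)
  set y : semiAlg k H := xp (N + 1) hN1H - a • xp N hNH with hy
  have hycoe : (y : k[X]) = X ^ N * (X - C a) := by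
    change (X ^ (N + 1) : k[X]) - a • (X ^ N : k[X]) = _
    rw [smul_eq_C_mul]
    ring
  apply GorTools.gor_of_principal (ptIdeal a : Ideal (semiAlg k H)) y (xp (N + N) h2NH)
  · rw [mem_ptIdeal, hycoe]
    simp
  · intro h0
    have h1 : (y : k[X]) = 0 := by rw [h0]; rfl
    rw [hycoe] at h1
    have h2 : (X ^ N : k[X]) ≠ 0 := pow_ne_zero _ X_ne_zero
    have h3 : (X - C a : k[X]) ≠ 0 := X_sub_C_ne_zero a
    exact mul_ne_zero h2 h3 h1
  · rw [mem_ptIdeal, coe_xp, eval_pow, eval_X]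
    exact pow_ne_zero _ ha
  · intro f hf
    have hf0 : (f : k[X]).eval a = 0 := (mem_ptIdeal a f).mp hf
    obtain ⟨q, hq⟩ := dvd_iff_isRoot.mpr hf0
    refine ⟨⟨X ^ N * q, X_pow_mul_mem hN q⟩, ?_⟩
    apply Subtype.ext
    change (X ^ (N + N) : k[X]) * (f : k[X]) = (y : k[X]) * (X ^ N * q)
    rw [hycoe, hq, pow_add]
    ring

end points

section socle

variable (A : Type u) [CommRing A] [IsLocalRing A]

lemma hom_apply_eq (f : ResidueField A →ₗ[A] A) (a : A) :
    f (residue A a) = a * f 1 := by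
  have : residue A a = a • (1 : ResidueField A) := by
    rw [Algebra.smul_def, mul_one]
    rfl
  rw [this, map_smul, smul_eq_mul]

lemma hom_soc (f : ResidueField A →ₗ[A] A) (m : A) (hm : m ∈ maximalIdeal A) : m * f 1 = 0 := by
  rw [← hom_apply_eq, (residue_eq_zero_iff m).mpr hm, map_zero]

variable {A} in
lemma hom_ext_one {f g : ResidueField A →ₗ[A] A} (h : f 1 = g 1) : f = g := by
  ext x
  obtain ⟨a, rfl⟩ := residue_surjective x
  rw [hom_apply_eq, hom_apply_eq, h]

lemma exists_hom (s : A) (hs : ∀ m ∈ maximalIdeal A, m * s = 0) :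
    ∃ f : ResidueField A →ₗ[A] A, f 1 = s := by
  let f : (A ⧸ maximalIdeal A) →ₗ[A] A :=
    Submodule.liftQ (maximalIdeal A) (LinearMap.toSpanSingleton A A s) (by
      intro m hm
      rw [LinearMap.mem_ker, LinearMap.toSpanSingleton_apply, smul_eq_mul]
      exact hs m hm)
  refine ⟨f, ?_⟩
  change f (Submodule.Quotient.mk 1) = s
  rw [Submodule.liftQ_apply, LinearMap.toSpanSingleton_apply, one_smul]

/-- the socle `Hom(κ, A)` is simple iff the annihilator of the maximal ideal is nonzero and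
generated by any of its nonzero elements -/
theorem isSimpleModule_hom_iff :
    IsSimpleModule A (ResidueField A →ₗ[A] A) ↔
      (∃ s : A, s ≠ 0 ∧ ∀ m ∈ maximalIdeal A, m * s = 0) ∧
      ∀ s s' : A, (∀ m ∈ maximalIdeal A, m * s = 0) → (∀ m ∈ maximalIdeal A, m * s' = 0) →
        s ≠ 0 → ∃ a : A, s' = a * s := by
  rw [isSimpleModule_iff_toSpanSingleton_surjective]
  constructor
  · rintro ⟨hnt, hsurj⟩
    refine ⟨?_, ?_⟩
    · obtain ⟨f, hf⟩ := exists_ne (0 : ResidueField A →ₗ[A] A)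
      refine ⟨f 1, ?_, hom_soc A f⟩
      intro h0
      exact hf (hom_ext_one (by rw [h0, LinearMap.zero_apply]))
    · intro s s' hs hs' hs0
      obtain ⟨f, hf⟩ := exists_hom A s hs
      obtain ⟨f', hf'⟩ := exists_hom A s' hs'
      have hf0 : f ≠ 0 := by
        intro h0
        rw [h0, LinearMap.zero_apply] at hf
        exact hs0 hf.symm
      obtain ⟨a, ha⟩ := hsurj f hf0 f'
      refine ⟨a, ?_⟩
      rw [← hf', ← ha, LinearMap.toSpanSingleton_apply, LinearMap.smul_apply, hf, smul_eq_mul]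
  · rintro ⟨⟨s, hs0, hs⟩, hall⟩
    refine ⟨?_, ?_⟩
    · obtain ⟨f, hf⟩ := exists_hom A s hs
      refine ⟨⟨f, 0, ?_⟩⟩
      intro h0
      rw [h0, LinearMap.zero_apply] at hf
      exact hs0 hf.symm
    · intro x hx z
      have hx1 : x 1 ≠ 0 := by
        intro h0
        exact hx (hom_ext_one (by rw [h0, LinearMap.zero_apply]))
      obtain ⟨a, ha⟩ := hall (x 1) (z 1) (hom_soc A x) (hom_soc A z) hx1
      refine ⟨a, ?_⟩
      rw [LinearMap.toSpanSingleton_apply]
      apply hom_ext_one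
      rw [LinearMap.smul_apply, smul_eq_mul, ha]

end socle

section kunz

variable (k) {N : ℕ} (hN : ∀ n, N ≤ n → n ∈ H) {e : ℕ} (he : e ∈ H) (he0 : e ≠ 0)

/-- the ideal `(X^e)` of `k[H]` -/
noncomputable abbrev Ie : Ideal (semiAlg k H) := Ideal.span {(xp e he : semiAlg k H)}

lemma mem_Ie_iff (q : semiAlg k H) :
    q ∈ Ie k he ↔ ∀ n, (q : k[X]).coeff n ≠ 0 → e ≤ n ∧ n - e ∈ H := by
  unfold Ie
  rw [Ideal.mem_span_singleton']
  constructor
  · rintro ⟨g, rfl⟩ n hn
    change ((g : k[X]) * X ^ e).coeff n ≠ 0 at hn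
    rw [coeff_mul_X_pow'] at hn
    split_ifs at hn with h
    · exact ⟨h, g.2 _ hn⟩
    · exact absurd rfl hn
  · intro h
    have hdvd : (X ^ e : k[X]) ∣ (q : k[X]) := by
      rw [X_pow_dvd_iff]
      intro d hd
      by_contra hne
      have := (h d hne).1
      omega
    obtain ⟨g, hg⟩ := hdvd
    have hgm : g ∈ semiAlg k H := by
      intro m hm
      have h1 : (q : k[X]).coeff (m + e) ≠ 0 := by
        rw [hg, coeff_X_pow_mul]
        exact hm
      have h2 := (h _ h1).2
      simpa using h2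
    refine ⟨⟨g, hgm⟩, ?_⟩
    apply Subtype.ext
    change g * X ^ e = (q : k[X])
    rw [hg, mul_comm]

lemma mem_ptIdeal_zero (q : semiAlg k H) :
    q ∈ (ptIdeal 0 : Ideal (semiAlg k H)) ↔ (q : k[X]).coeff 0 = 0 := by
  rw [mem_ptIdeal, coeff_zero_eq_eval_zero]

include he0 in
lemma xp_mem_ptIdeal_zero : (xp e he : semiAlg k H) ∈ (ptIdeal 0 : Ideal (semiAlg k H)) := by
  rw [mem_ptIdeal_zero k, coe_xp, coeff_X_pow]
  simp [he0.symm]

include he0 in
lemma Ie_le : Ie k he ≤ (ptIdeal 0 : Ideal (semiAlg k H)) := by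
  unfold Ie
  rw [Ideal.span_singleton_le_iff_mem]
  exact xp_mem_ptIdeal_zero k he he0

include hN in
lemma pow_mem_Ie (q : semiAlg k H) (hq : q ∈ (ptIdeal 0 : Ideal (semiAlg k H))) :
    q ^ (e + N) ∈ Ie k he := by
  rw [mem_ptIdeal_zero k, ← X_dvd_iff] at hq
  obtain ⟨r, hr⟩ := pow_dvd_pow_of_dvd hq (e + N)
  unfold Ie
  rw [Ideal.mem_span_singleton']
  refine ⟨⟨X ^ N * r, X_pow_mul_mem hN r⟩, ?_⟩
  apply Subtype.ext
  change (X ^ N * r) * X ^ e = (q : k[X]) ^ (e + N)
  rw [hr, pow_add]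
  ring

lemma sub_algebraMap_mem (q : semiAlg k H) :
    q - algebraMap k (semiAlg k H) ((q : k[X]).coeff 0) ∈ (ptIdeal 0 : Ideal (semiAlg k H)) := by
  rw [mem_ptIdeal_zero k]
  change ((q : k[X]) - C ((q : k[X]).coeff 0)).coeff 0 = 0
  rw [coeff_sub, coeff_C_zero, sub_self]

/-- the Artinian quotient `k[H]/(X^e)` -/
abbrev Bq := semiAlg k H ⧸ Ie k he

/-- the quotient map -/
noncomputable abbrev mkB : semiAlg k H →+* Bq k he := Ideal.Quotient.mk (Ie k he)

include hN in
lemma isNilpotent_mkB (q : semiAlg k H) (hq : q ∈ (ptIdeal 0 : Ideal (semiAlg k H))) :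
    IsNilpotent (mkB k he q) := by
  refine ⟨e + N, ?_⟩
  rw [← map_pow]
  exact Ideal.Quotient.eq_zero_iff_mem.mpr (pow_mem_Ie k hN he q hq)

include hN in
lemma isUnit_mkB (q : semiAlg k H) (hq : q ∉ (ptIdeal 0 : Ideal (semiAlg k H))) :
    IsUnit (mkB k he q) := by
  set c := (q : k[X]).coeff 0 with hc
  have hc0 : c ≠ 0 := fun h0 => hq ((mem_ptIdeal_zero k q).mpr h0)
  have h1 : q = (q - algebraMap k (semiAlg k H) c) + algebraMap k (semiAlg k H) c := by ring
  rw [h1, map_add]
  exact IsNilpotent.isUnit_add_right_of_commute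
    (isNilpotent_mkB k hN he _ (sub_algebraMap_mem k q))
    (((isUnit_iff_ne_zero.mpr hc0).map (algebraMap k (semiAlg k H))).map (mkB k he))
    (Commute.all (S := Bq k he) _ _)

include he0 in
lemma nontrivial_Bq : Nontrivial (Bq k he) := by
  rw [Ideal.Quotient.nontrivial_iff]
  intro htop
  have h1 : (1 : semiAlg k H) ∈ (ptIdeal 0 : Ideal (semiAlg k H)) :=
    Ie_le k he he0 (htop ▸ Submodule.mem_top)
  exact (Ideal.ne_top_iff_one _).mp (Ideal.IsMaximal.ne_top inferInstance) h1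

include hN he0 in
lemma isUnit_mkB_iff (q : semiAlg k H) :
    IsUnit (mkB k he q) ↔ q ∉ (ptIdeal 0 : Ideal (semiAlg k H)) := by
  haveI := nontrivial_Bq k he he0
  constructor
  · intro hu hq
    exact (isNilpotent_mkB k hN he q hq).not_isUnit hu
  · exact isUnit_mkB k hN he q

include hN he0 in
lemma isLocalRing_Bq : IsLocalRing (Bq k he) := by
  haveI := nontrivial_Bq k he he0
  apply IsLocalRing.of_nonunits_add
  intro a b ha hb
  obtain ⟨p, rfl⟩ := Ideal.Quotient.mk_surjective a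
  obtain ⟨q, rfl⟩ := Ideal.Quotient.mk_surjective b
  rw [mem_nonunits_iff, isUnit_mkB_iff k hN he he0, not_not] at ha hb
  rw [← map_add, mem_nonunits_iff, isUnit_mkB_iff k hN he he0, not_not]
  exact Ideal.add_mem _ ha hb

include hN he0 in
lemma mkB_mem_maximalIdeal_iff (q : semiAlg k H) :
    haveI := isLocalRing_Bq k hN he he0
    mkB k he q ∈ maximalIdeal (Bq k he) ↔ q ∈ (ptIdeal 0 : Ideal (semiAlg k H)) := by
  haveI := isLocalRing_Bq k hN he he0
  rw [mem_maximalIdeal, mem_nonunits_iff, isUnit_mkB_iff k hN he he0, not_not]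

include hN he0 in
lemma ringKrullDim_Bq : ringKrullDim (Bq k he) = 0 := by
  haveI := nontrivial_Bq k he he0
  haveI := isLocalRing_Bq k hN he he0
  rw [← ringKrullDimZero_iff_ringKrullDim_eq_zero]
  apply Ring.KrullDimLE.mk₀
  intro p hp
  have hle : maximalIdeal (Bq k he) ≤ p := by
    intro b hb
    obtain ⟨q, rfl⟩ := Ideal.Quotient.mk_surjective b
    rw [mkB_mem_maximalIdeal_iff k hN he he0] at hb
    obtain ⟨n, hn⟩ := isNilpotent_mkB k hN he q hb
    exact hp.mem_of_pow_mem n (hn ▸ p.zero_mem)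
  have := (maximalIdeal.isMaximal (Bq k he)).eq_of_le hp.ne_top hle
  rw [← this]
  exact maximalIdeal.isMaximal _

open Kunz in
include hN he0 in
/-- socle membership via monomials -/
lemma soc_iff (q : semiAlg k H) :
    haveI := isLocalRing_Bq k hN he he0
    (∀ m ∈ maximalIdeal (Bq k he), m * mkB k he q = 0) ↔
      ∀ h (hh : h ∈ H), h ≠ 0 → xp h hh * q ∈ Ie k he := by
  haveI := isLocalRing_Bq k hN he he0
  constructor
  · intro hs h hh h0
    have h1 : mkB k he (xp h hh) ∈ maximalIdeal (Bq k he) := by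
      rw [mkB_mem_maximalIdeal_iff k hN he he0]
      exact xp_mem_ptIdeal_zero k hh h0
    have h2 := hs _ h1
    rw [← map_mul] at h2
    exact Ideal.Quotient.eq_zero_iff_mem.mp h2
  · intro hs m hm
    obtain ⟨q0, rfl⟩ := Ideal.Quotient.mk_surjective m
    rw [mkB_mem_maximalIdeal_iff k hN he he0, mem_ptIdeal_zero k] at hm
    rw [← map_mul]
    apply Ideal.Quotient.eq_zero_iff_mem.mpr
    rw [mem_Ie_iff k he]
    intro n hn
    change ((q0 : k[X]) * (q : k[X])).coeff n ≠ 0 at hn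
    rw [coeff_mul] at hn
    obtain ⟨x, hx, hne⟩ := Finset.exists_ne_zero_of_sum_ne_zero hn
    have hx' : x.1 + x.2 = n := Finset.HasAntidiagonal.mem_antidiagonal.mp hx
    have h1 : (q0 : k[X]).coeff x.1 ≠ 0 := left_ne_zero_of_mul hne
    have h2 : (q : k[X]).coeff x.2 ≠ 0 := right_ne_zero_of_mul hne
    have hx10 : x.1 ≠ 0 := by
      intro h0
      rw [h0] at h1
      exact h1 hm
    have h3 := hs x.1 (q0.2 _ h1) hx10
    rw [mem_Ie_iff k he] at h3
    have h4 : ((xp x.1 (q0.2 _ h1) * q : semiAlg k H) : k[X]).coeff n ≠ 0 := by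
      change ((X ^ x.1 : k[X]) * (q : k[X])).coeff n ≠ 0
      rw [← hx', add_comm, coeff_X_pow_mul]
      exact h2
    exact h3 n h4

open Kunz in
include hN he0 in
lemma soc_of_mem_PF {w : ℤ} (hw : w ∈ PF (H : Set ℕ)) {m : ℕ} (hm : m ∈ H)
    (hmw : (m : ℤ) = w + e) :
    haveI := isLocalRing_Bq k hN he he0
    mkB k he (xp m hm) ≠ 0 ∧ ∀ b ∈ maximalIdeal (Bq k he), b * mkB k he (xp m hm) = 0 := by
  haveI := isLocalRing_Bq k hN he he0
  refine ⟨?_, ?_⟩
  · intro h0
    have h1 := Ideal.Quotient.eq_zero_iff_mem.mp h0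
    rw [mem_Ie_iff k he] at h1
    have h2 := h1 m (by rw [coe_xp, coeff_X_pow_self]; exact one_ne_zero)
    apply hw.1
    refine ⟨m - e, h2.2, ?_⟩
    have := h2.1
    push_cast [Nat.cast_sub this]
    omega
  · rw [soc_iff k hN he he0]
    intro h hh h0
    rw [mem_Ie_iff k he]
    intro n hn
    change ((X ^ h : k[X]) * X ^ m).coeff n ≠ 0 at hn
    rw [← pow_add, coeff_X_pow] at hn
    have hn' : n = h + m := by
      by_contra hne
      rw [if_neg hne] at hn
      exact hn rfl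
    obtain ⟨h', hh', hh'e⟩ := hw.2 h hh h0
    have hle : e ≤ n := by omega
    refine ⟨hle, ?_⟩
    have : n - e = h' := by omega
    rw [this]
    exact hh'

open Kunz in
lemma eq_of_mkB_eq {w w' : ℤ} (hw' : w' ∈ PF (H : Set ℕ)) {m m' : ℕ} (hm : m ∈ H)
    (hm' : m' ∈ H) (hmw : (m : ℤ) = w + e) (hmw' : (m' : ℤ) = w' + e) (c : k)
    (h : mkB k he (xp m' hm') = mkB k he (algebraMap k (semiAlg k H) c * xp m hm)) : w = w' := by
  have h1 : xp m' hm' - algebraMap k (semiAlg k H) c * xp m hm ∈ Ie k he :=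
    Ideal.Quotient.eq.mp h
  rw [mem_Ie_iff k he] at h1
  by_contra hne
  have hmm : m ≠ m' := by
    intro hmm
    apply hne
    omega
  have h2 : ((xp m' hm' - algebraMap k (semiAlg k H) c * xp m hm : semiAlg k H) : k[X]).coeff m' ≠ 0 := by
    change ((X ^ m' : k[X]) - C c * X ^ m).coeff m' ≠ 0
    rw [coeff_sub, coeff_X_pow_self, coeff_C_mul, coeff_X_pow, if_neg (Ne.symm hmm), mul_zero, sub_zero]
    exact one_ne_zero
  have h3 := h1 m' h2
  apply hw'.1
  refine ⟨m' - e, h3.2, ?_⟩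
  have := h3.1
  push_cast [Nat.cast_sub this]
  omega

open Kunz in
include hN he0 in
lemma soc_eq_smul {F : ℤ} (hF : ∀ w ∈ PF (H : Set ℕ), w = F) {mF : ℕ} (hmF : mF ∈ H)
    (hmFe : (mF : ℤ) = F + e) (q : semiAlg k H)
    (hq : haveI := isLocalRing_Bq k hN he he0
      ∀ b ∈ maximalIdeal (Bq k he), b * mkB k he q = 0) :
    mkB k he q = mkB k he (algebraMap k (semiAlg k H) ((q : k[X]).coeff mF) * xp mF hmF) := by
  haveI := isLocalRing_Bq k hN he he0
  rw [soc_iff k hN he he0] at hq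
  apply Ideal.Quotient.eq.mpr
  rw [mem_Ie_iff k he]
  intro n hn
  change ((q : k[X]) - C ((q : k[X]).coeff mF) * X ^ mF).coeff n ≠ 0 at hn
  rw [coeff_sub, coeff_C_mul, coeff_X_pow] at hn
  have hnm : n ≠ mF := by
    intro h0
    rw [if_pos h0, mul_one, h0, sub_self] at hn
    exact hn rfl
  rw [if_neg hnm, mul_zero, sub_zero] at hn
  by_contra hcon
  have hwn : ((n : ℤ) - e) ∈ PF (H : Set ℕ) := by
    refine ⟨?_, ?_⟩
    · rintro ⟨h', hh', hh'e⟩
      apply hcon
      have hle : e ≤ n := by omega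
      refine ⟨hle, ?_⟩
      have : n - e = h' := by omega
      rw [this]
      exact hh'
    · intro h hh h0
      have h1 := hq h hh h0
      rw [mem_Ie_iff k he] at h1
      have h2 : ((xp h hh * q : semiAlg k H) : k[X]).coeff (n + h) ≠ 0 := by
        change ((X ^ h : k[X]) * (q : k[X])).coeff (n + h) ≠ 0
        rw [coeff_X_pow_mul]
        exact hn
      have h3 := h1 _ h2
      refine ⟨n + h - e, h3.2, ?_⟩
      have := h3.1
      push_cast [Nat.cast_sub this]
      ring
  have := hF _ hwn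
  apply hnm
  omega

open Kunz in
include hN he0 in
lemma mul_soc (r q : semiAlg k H)
    (hq : haveI := isLocalRing_Bq k hN he he0
      ∀ b ∈ maximalIdeal (Bq k he), b * mkB k he q = 0) :
    mkB k he r * mkB k he q =
      mkB k he (algebraMap k (semiAlg k H) ((r : k[X]).coeff 0) * q) := by
  haveI := isLocalRing_Bq k hN he he0
  have h1 : mkB k he (r - algebraMap k (semiAlg k H) ((r : k[X]).coeff 0)) ∈
      maximalIdeal (Bq k he) := by
    rw [mkB_mem_maximalIdeal_iff k hN he he0]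
    exact sub_algebraMap_mem k r
  have h2 := hq _ h1
  rw [map_sub, sub_mul, sub_eq_zero] at h2
  rw [h2, map_mul]

open Kunz in
include hN he0 in
/-- the socle of `k[H]/(X^e)` is simple iff `H` has a single pseudo-Frobenius number -/
theorem soc_simple_iff (h1 : 1 ∉ H) :
    haveI := isLocalRing_Bq k hN he he0
    ((∃ s : Bq k he, s ≠ 0 ∧ ∀ m ∈ maximalIdeal (Bq k he), m * s = 0) ∧
      ∀ s s' : Bq k he, (∀ m ∈ maximalIdeal (Bq k he), m * s = 0) →
        (∀ m ∈ maximalIdeal (Bq k he), m * s' = 0) → s ≠ 0 → ∃ a : Bq k he, s' = a * s) ↔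
      ∀ w ∈ PF (H : Set ℕ), ∀ w' ∈ PF (H : Set ℕ), w = w' := by
  haveI := isLocalRing_Bq k hN he he0
  have hexm : ∀ w ∈ PF (H : Set ℕ), ∃ m : ℕ, m ∈ H ∧ (m : ℤ) = w + e := by
    intro w hw
    obtain ⟨m, hm, hme⟩ := hw.2 e he he0
    exact ⟨m, hm, hme⟩
  constructor
  · rintro ⟨-, hall⟩ w hw w' hw'
    obtain ⟨m, hm, hme⟩ := hexm w hw
    obtain ⟨m', hm', hme'⟩ := hexm w' hw'
    obtain ⟨hs0, hs⟩ := soc_of_mem_PF k hN he he0 hw hm hme
    obtain ⟨-, hs'⟩ := soc_of_mem_PF k hN he he0 hw' hm' hme'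
    obtain ⟨a, ha⟩ := hall _ _ hs hs' hs0
    obtain ⟨r, rfl⟩ := Ideal.Quotient.mk_surjective a
    rw [mul_soc k hN he he0 r _ hs] at ha
    exact eq_of_mkB_eq k he hw' hm hm' hme hme' _ ha
  · intro hsub
    obtain ⟨F, hF, hF'⟩ := exists_frobenius H N hN h1
    have hFPF := frobenius_mem_PF H hF hF'
    have hFall : ∀ w ∈ PF (H : Set ℕ), w = (F : ℤ) := fun w hw => hsub w hw F hFPF
    obtain ⟨mF, hmF, hmFe⟩ := hexm F hFPF
    obtain ⟨hs0, hs⟩ := soc_of_mem_PF k hN he he0 hFPF hmF hmFe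
    refine ⟨⟨_, hs0, hs⟩, ?_⟩
    intro s s' hsoc hsoc' hsne
    obtain ⟨q, rfl⟩ := Ideal.Quotient.mk_surjective s
    obtain ⟨q', rfl⟩ := Ideal.Quotient.mk_surjective s'
    have e1 := soc_eq_smul k hN he he0 hFall hmF hmFe q hsoc
    have e2 := soc_eq_smul k hN he he0 hFall hmF hmFe q' hsoc'
    set c := (q : k[X]).coeff mF with hc
    set c' := (q' : k[X]).coeff mF with hc'
    have hc0 : c ≠ 0 := by
      intro h0
      apply hsne
      change mkB k he q = 0
      rw [e1, h0, map_zero, zero_mul, map_zero]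
    refine ⟨mkB k he (algebraMap k (semiAlg k H) (c' / c)), ?_⟩
    change mkB k he q' = _ * mkB k he q
    rw [e2, e1, ← map_mul, ← mul_assoc, ← map_mul, div_mul_cancel₀ c' hc0]

end kunz

section main

variable {N : ℕ} (hN : ∀ n, N ≤ n → n ∈ H)

include hN in
/-- **Kunz.** The local ring of `k[H]` at the origin is Gorenstein iff `H` is symmetric. -/
theorem gor_origin_iff [IsNoetherianRing (semiAlg k H)] (h1 : 1 ∉ H) :
    IsGorensteinLocalRing (Localization.AtPrime (ptIdeal 0 : Ideal (semiAlg k H))) ↔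
      W4c6gradedringsgw.IsSymmetric (H : Set ℕ) := by
  have he : N + 1 ∈ H := hN _ (by omega)
  have he0 : N + 1 ≠ 0 := by omega
  haveI hloc := isLocalRing_Bq k hN he he0
  have hxne : (xp (N + 1) he : semiAlg k H) ≠ 0 := by
    intro h0
    have : ((xp (N + 1) he : semiAlg k H) : k[X]) = 0 := by rw [h0]; rfl
    rw [coe_xp] at this
    exact pow_ne_zero _ X_ne_zero this
  haveI : IsNoetherianRing (Bq k he) := inferInstance
  rw [GorTools.gor_iff_quotient_of_units (semiAlg k H) (ptIdeal 0) (xp (N + 1) he)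
    (xp_mem_ptIdeal_zero k he he0) (mem_nonZeroDivisors_of_ne_zero hxne)
    (fun a ha => isUnit_mkB k hN he a ha),
    Groth.Agent.Lib.Helper24.isGorensteinLocalRing_iff_length_hom_of_dim_zero (Bq k he)
      (ringKrullDim_Bq k hN he he0),
    Module.length_eq_one_iff, isSimpleModule_hom_iff, soc_simple_iff k hN he he0 h1,
    Kunz.isSymmetric_iff H N hN h1]

include hN in
/-- If `H` is symmetric, `k[H]` is Gorenstein at every maximal ideal. -/
theorem gor_maximal [IsAlgClosed k] [IsNoetherianRing (semiAlg k H)]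
    [Algebra.FiniteType k (semiAlg k H)] (h1 : 1 ∉ H)
    (hsym : W4c6gradedringsgw.IsSymmetric (H : Set ℕ))
    (m : Ideal (semiAlg k H)) [hm : m.IsMaximal] :
    IsGorensteinLocalRing (Localization.AtPrime m) := by
  obtain ⟨ψ, hψ⟩ := GorTools.exists_algHom_ker_eq k (semiAlg k H) m
  have key : ∀ a : k, ψ = evalHom a → IsGorensteinLocalRing (Localization.AtPrime m) := by
    intro a ha
    have hma : m = ptIdeal a := by
      rw [← hψ, ha]
      rfl
    subst hma
    by_cases ha0 : a = 0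
    · subst ha0
      exact (gor_origin_iff hN h1).mpr hsym
    · exact gor_of_eval_ne_zero hN a ha0
  by_cases hex : ∃ h, ∃ hh : h ∈ H, h ≠ 0 ∧ ψ (xp h hh) ≠ 0
  · obtain ⟨h, hh, h0, hne⟩ := hex
    obtain ⟨a, -, ha⟩ := exists_eval hN ψ h hh h0 hne
    exact key a ha
  · push Not at hex
    apply key 0
    apply algHom_ext_xp
    intro n hn
    rw [evalHom_apply, coe_xp, eval_pow, eval_X]
    by_cases hn0 : n = 0
    · subst hn0
      have : (xp 0 hn : semiAlg k H) = 1 := by
        apply Subtype.ext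
        simp
      rw [this, map_one, pow_zero]
    · rw [hex n hn hn0, zero_pow hn0]

end main


end Groth.Agent.FF.SemiAlg
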