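import Mathlib
import Groth.Agent.FunFld.SemiAlg
import Groth.Agent.FunFld.SectRing3
import Groth.Agent.FunFld.StrongApprox
import Groth.Agent.FunFld.PlaceExt
import Groth.Agent.FunFld.SepPlaces

/-!
# The section ring `R_{X,P}` is Gorenstein iff the Weierstrass semigroup is symmetric
-/

set_option autoImplicit false
set_option linter.style.haveILetI false

open FunFld IntermediateField Polynomial WithZero W4c6gradedringsgw

namespace Groth.Agent.FF.SectGor

open Groth.Agent.FF

universe u
variable {k : Type u} {K : Type u} [Field k] [Field K] [Algebra k K]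

section fg

variable [IsAlgClosed k] (hK : IsFunctionField k K) (P : Place k K)

include hK in
/-- every monomial lies in the subalgebra generated by the generators of the irrelevant ideal -/
lemma monoR_mem_adjoin : ∀ n : ℕ,
    ∀ (f : K) (hf : f ∈ L (Finsupp.single P (n : ℤ) : Divisor k K)),
      monoR P n f hf ∈ Algebra.adjoin k (gensSet P) := by
  intro n
  induction n using Nat.strong_induction_on with
  | _ n ih =>
  intro f hf
  by_cases hn : n = 0
  · subst hn
    have hf' := hf
    simp only [Nat.cast_zero, Finsupp.single_zero] at hf'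
    rw [L_zero_eq hK, Submodule.mem_one] at hf'
    obtain ⟨c, rfl⟩ := hf'
    have : monoR P 0 (algebraMap k K c) hf = algebraMap k _ c := by
      apply Subtype.ext
      change monomial 0 (algebraMap k K c) = C (algebraMap k K c)
      rfl
    rw [this]
    exact Subalgebra.algebraMap_mem _ c
  have step1 : ∀ (f' : K), f' ∈ L (Finsupp.single P ((n : ℤ) - 1) : Divisor k K) →
      ∀ hf', monoR P n f' hf' ∈ Algebra.adjoin k (gensSet P) := by
    intro f' hf'1 hf'
    obtain ⟨m, rfl⟩ := Nat.exists_eq_succ_of_ne_zero hn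
    have hm : f' ∈ L (Finsupp.single P (m : ℤ) : Divisor k K) := by
      have e : ((m.succ : ℕ) : ℤ) - 1 = (m : ℤ) := by push_cast; ring
      rwa [e] at hf'1
    have h1 : monoR P (m + 1) (f' * 1) (by rwa [mul_one]) =
        monoR P m f' hm * monoR P 1 1 (one_mem_L_single_one P) :=
      monoR_mul P m 1 f' 1 hm (one_mem_L_single_one P) _
    have h2 : monoR P m.succ f' hf' = monoR P (m + 1) (f' * 1) (by rwa [mul_one]) := by
      apply Subtype.ext
      change monomial m.succ f' = monomial (m + 1) (f' * 1)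
      rw [mul_one]
    rw [h2, h1]
    exact mul_mem (ih m (by omega) f' hm) (Algebra.subset_adjoin (Set.mem_insert _ _))
  by_cases hf1 : f ∈ L (Finsupp.single P ((n : ℤ) - 1) : Divisor k K)
  · exact step1 f hf1 hf
  · have hnH := mem_poleOrders_of_mem_of_not_mem hK P hf hf1
    suffices hsuff : ∃ (e : K) (he : e ∈ L (Finsupp.single P (n : ℤ) : Divisor k K)),
        e ∉ L (Finsupp.single P ((n : ℤ) - 1) : Divisor k K) ∧
          monoR P n e he ∈ Algebra.adjoin k (gensSet P) by
      obtain ⟨e, he, he', hemem⟩ := hsuff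
      have hle : (Finsupp.single P ((n : ℤ) - 1) : Divisor k K) ≤ Finsupp.single P (n : ℤ) :=
        single_le_single' (by omega)
      have hell : ell (Finsupp.single P (n : ℤ) : Divisor k K) =
          ell (Finsupp.single P ((n : ℤ) - 1) : Divisor k K) + 1 := by
        have h := hnH
        change ell ((n : ℤ) • (Finsupp.single P 1 : Divisor k K)) =
          ell (((n : ℤ) - 1) • (Finsupp.single P 1 : Divisor k K)) + 1 at h
        rwa [zsmul_single_one, zsmul_single_one] at h
      obtain ⟨c, hc⟩ := exists_sub_smul_mem_L hK hle hell he he' hf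
      have hmem2 : f - c • e ∈ L (Finsupp.single P (n : ℤ) : Divisor k K) :=
        sub_mem hf (Submodule.smul_mem _ c he)
      have h3 : monoR P n f hf = algebraMap k _ c * monoR P n e he +
          monoR P n (f - c • e) hmem2 := by
        apply Subtype.ext
        change monomial n f = C (algebraMap k K c) * monomial n e + monomial n (f - c • e)
        rw [C_mul_monomial, ← map_add, ← Algebra.smul_def]
        congr 1
        ring
      rw [h3]
      exact add_mem (mul_mem (Subalgebra.algebraMap_mem _ c) hemem) (step1 _ hc _)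
    by_cases hmin : n ∈ minGens (poleOrders P)
    · exact ⟨poleFun P n, poleFun_mem P n, poleFun_notMem P hnH,
        Algebra.subset_adjoin (Set.mem_insert_of_mem _ ⟨n, hmin, rfl⟩)⟩
    · have hex : ∃ a ∈ poleOrders P, ∃ b ∈ poleOrders P, a ≠ 0 ∧ b ≠ 0 ∧ a + b = n := by
        by_contra hcon
        apply hmin
        refine ⟨hnH, hn, ?_⟩
        intro a ha b hb ha0 hb0 hab
        exact hcon ⟨a, ha, b, hb, ha0, hb0, hab⟩
      obtain ⟨a, ha, b, hb, ha0, hb0, rfl⟩ := hex
      obtain ⟨fa, hfa, hfa'⟩ := exists_mem_of_mem_poleOrders P ha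
      obtain ⟨fb, hfb, hfb'⟩ := exists_mem_of_mem_poleOrders P hb
      have hA := onlyPoleAt_of_mem_of_not_mem hfa hfa'
      have hB := onlyPoleAt_of_mem_of_not_mem hfb hfb'
      have hAB := hA.mul hB (hA.ne_zero (by omega)) (hB.ne_zero (by omega))
      have hmemAB : fa * fb ∈ L (Finsupp.single P ((a + b : ℕ) : ℤ) : Divisor k K) := hAB.mem_L
      refine ⟨fa * fb, hmemAB, ?_, ?_⟩
      · exact hAB.not_mem_L (by omega) (by omega)
      · rw [monoR_mul P a b fa fb hfa hfb hmemAB]
        exact mul_mem (ih a (by omega) fa hfa) (ih b (by omega) fb hfb)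

include hK in
lemma adjoin_gensSet : Algebra.adjoin k (gensSet P) = ⊤ := by
  rw [eq_top_iff]
  intro p _
  have hmem : ∀ n : ℕ, (p : K[X]).coeff n ∈ L (Finsupp.single P (n : ℤ) : Divisor k K) := by
    intro n
    have := p.2 n
    rwa [zsmul_single_one] at this
  have hsum : p = ∑ n ∈ (p : K[X]).support, monoR P n ((p : K[X]).coeff n) (hmem n) := by
    apply Subtype.ext
    rw [AddSubmonoidClass.coe_finsetSum]
    simp only [coe_monoR]
    exact (p : K[X]).as_sum_support
  rw [hsum]
  exact Subalgebra.sum_mem _ (fun n _ => monoR_mem_adjoin hK P n _ _)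

include hK in
lemma finiteType (hg : 1 ≤ genus k K) :
    Algebra.FiniteType k (sectRing (Finsupp.single P 1 : Divisor k K)) := by
  have hfin : (gensSet P).Finite := by
    unfold gensSet
    exact ((finite_minGens hK P hg).image _).insert _
  refine ⟨⟨hfin.toFinset, ?_⟩⟩
  rw [Set.Finite.coe_toFinset]
  exact adjoin_gensSet hK P

end fg

section lead

variable [IsAlgClosed k] (hK : IsFunctionField k K) (P : Place k K) {π : K}

include hK in
lemma coe_closure_poleOrders (hπ : P.1 π = exp (-1 : ℤ)) :
    ((AddSubmonoid.closure (poleOrders P) : AddSubmonoid ℕ) : Set ℕ) = poleOrders P := by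
  apply le_antisymm
  · intro n hn
    obtain ⟨p, hp⟩ := X_pow_mem_range_of_mem_closure hK P hπ hn
    apply mem_poleOrders_of_coeff_ne_zero hK P hπ p n
    have hp' : leadForm hK P hπ p = X ^ n := hp
    rw [hp', coeff_X_pow_self]
    exact one_ne_zero
  · exact AddSubmonoid.subset_closure

/-- the leading form map, with values in the semigroup algebra -/
noncomputable def leadS (hπ : P.1 π = exp (-1 : ℤ)) :
    sectRing (Finsupp.single P 1 : Divisor k K) →ₐ[k]
      SemiAlg.semiAlg k (AddSubmonoid.closure (poleOrders P)) :=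
  AlgHom.codRestrict (leadForm hK P hπ) _ (fun p n hn =>
    AddSubmonoid.subset_closure (mem_poleOrders_of_coeff_ne_zero hK P hπ p n hn))

lemma coe_leadS (hπ : P.1 π = exp (-1 : ℤ)) (p : sectRing (Finsupp.single P 1 : Divisor k K)) :
    ((leadS hK P hπ p : SemiAlg.semiAlg k (AddSubmonoid.closure (poleOrders P))) : k[X]) =
      leadForm hK P hπ p := rfl

lemma leadS_surjective (hπ : P.1 π = exp (-1 : ℤ)) : Function.Surjective (leadS hK P hπ) := by
  intro q
  have h1 : (q : k[X]) ∈ (semigroupEmb k (AddSubmonoid.closure (poleOrders P))).range :=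
    mem_range_semigroupEmb _ _ q.2
  rw [← range_leadForm hK P hπ] at h1
  obtain ⟨p, hp⟩ := h1
  exact ⟨p, Subtype.ext hp⟩

omit [IsAlgClosed k] in
lemma coe_genT : ((genT P : sectRing (Finsupp.single P 1 : Divisor k K)) : K[X]) = X := by
  change monomial 1 (1 : K) = X
  exact monomial_one_one_eq_X

lemma ker_leadS (hπ : P.1 π = exp (-1 : ℤ)) :
    RingHom.ker (leadS hK P hπ : sectRing (Finsupp.single P 1 : Divisor k K) →+*
      SemiAlg.semiAlg k (AddSubmonoid.closure (poleOrders P))) = Ideal.span {genT P} := by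
  rw [← ker_leadForm hK P hπ (genT P) (c := 1) one_ne_zero
    (by rw [coe_genT, map_one, C_1, one_mul])]
  ext p
  rw [RingHom.mem_ker, RingHom.mem_ker]
  constructor
  · intro h
    have := congrArg Subtype.val h
    exact this
  · intro h
    exact Subtype.ext h

omit [IsAlgClosed k] in
lemma genT_ne_zero : (genT P : sectRing (Finsupp.single P 1 : Divisor k K)) ≠ 0 := by
  intro h0
  have : ((genT P : sectRing (Finsupp.single P 1 : Divisor k K)) : K[X]) = 0 := by rw [h0]; rfl
  rw [coe_genT] at this
  exact X_ne_zero this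

end lead

section hol

variable (P : Place k K)

/-- the ring of functions regular outside `P` -/
def holRing : Subalgebra k K where
  carrier := {f | ∀ Q : Place k K, Q ≠ P → Q.1 f ≤ 1}
  mul_mem' := by
    intro a b ha hb Q hQ
    rw [map_mul]
    exact mul_le_one' (ha Q hQ) (hb Q hQ)
  add_mem' := by
    intro a b ha hb Q hQ
    exact Valuation.map_add_le _ (ha Q hQ) (hb Q hQ)
  algebraMap_mem' := by
    intro c Q _
    exact Q.2.1 c

lemma mem_holRing {f : K} : f ∈ holRing P ↔ ∀ Q : Place k K, Q ≠ P → Q.1 f ≤ 1 := Iff.rfl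

lemma mem_holRing_of_mem_L {n : ℕ} {f : K}
    (hf : f ∈ L (Finsupp.single P (n : ℤ) : Divisor k K)) : f ∈ holRing P := by
  classical
  intro Q hQ
  have := hf Q
  rwa [Finsupp.single_apply, if_neg (Ne.symm hQ), exp_zero] at this

lemma exists_mem_L_of_mem_holRing {f : K} (hf : f ∈ holRing P) :
    ∃ n : ℕ, f ∈ L (Finsupp.single P (n : ℤ) : Divisor k K) := by
  classical
  by_cases hf0 : f = 0
  · exact ⟨0, hf0 ▸ Submodule.zero_mem _⟩
  refine ⟨(-P.ord f).toNat, ?_⟩
  intro Q
  rw [Finsupp.single_apply]
  split_ifs with h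
  · subst h
    rw [val_le_exp_iff _ hf0]
    have := Int.self_le_toNat (-P.ord f)
    omega
  · rw [exp_zero]
    exact hf Q (Ne.symm h)

/-- evaluation of `T` at a nonzero constant -/
noncomputable def evK (c : k) : sectRing (Finsupp.single P 1 : Divisor k K) →ₐ[k] holRing P :=
  AlgHom.codRestrict
    (((aeval (algebraMap k K c) : K[X] →ₐ[K] K).restrictScalars k).comp
      (sectRing (Finsupp.single P 1 : Divisor k K)).val) (holRing P) (by
    intro p
    change aeval (algebraMap k K c) (p : K[X]) ∈ holRing P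
    rw [coe_aeval_eq_eval, eval_eq_sum_range]
    apply Subalgebra.sum_mem
    intro n _
    apply Subalgebra.mul_mem
    · have := p.2 n
      rw [zsmul_single_one] at this
      exact mem_holRing_of_mem_L P this
    · exact Subalgebra.pow_mem _ (Subalgebra.algebraMap_mem _ c) n)

lemma coe_evK (c : k) (p : sectRing (Finsupp.single P 1 : Divisor k K)) :
    ((evK P c p : holRing P) : K) = (p : K[X]).eval (algebraMap k K c) := by
  change aeval (algebraMap k K c) (p : K[X]) = _
  rw [coe_aeval_eq_eval]

lemma evK_surjective {c : k} (hc : c ≠ 0) : Function.Surjective (evK P c) := by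
  intro f
  obtain ⟨n, hn⟩ := exists_mem_L_of_mem_holRing P f.2
  have hmem : (c⁻¹ ^ n) • (f : K) ∈ L (Finsupp.single P (n : ℤ) : Divisor k K) :=
    Submodule.smul_mem _ _ hn
  refine ⟨monoR P n _ hmem, ?_⟩
  apply Subtype.ext
  rw [coe_evK, coe_monoR, eval_monomial, Algebra.smul_def, map_pow, map_inv₀]
  have hc' : algebraMap k K c ≠ 0 := by
    rw [Ne, map_eq_zero_iff _ (algebraMap k K).injective]
    exact hc
  rw [inv_pow, mul_right_comm, inv_mul_cancel₀ (pow_ne_zero n hc'), one_mul]

lemma ker_evK {c : k} (hc : c ≠ 0) :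
    RingHom.ker (evK P c : sectRing (Finsupp.single P 1 : Divisor k K) →+* holRing P) =
      Ideal.span {genT P - algebraMap k _ c} := by
  have hc' : algebraMap k K c ≠ 0 := by
    rw [Ne, map_eq_zero_iff _ (algebraMap k K).injective]
    exact hc
  have hcoe : ((genT P - algebraMap k _ c : sectRing (Finsupp.single P 1 : Divisor k K)) : K[X]) =
      X - C (algebraMap k K c) := by
    change ((genT P : sectRing (Finsupp.single P 1 : Divisor k K)) : K[X]) - C (algebraMap k K c) = _
    rw [coe_genT]
  apply le_antisymm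
  · intro p hp
    rw [RingHom.mem_ker] at hp
    have hp0 : (p : K[X]).eval (algebraMap k K c) = 0 := by
      rw [← coe_evK]
      have : evK P c p = 0 := hp
      rw [this]
      rfl
    obtain ⟨q, hq⟩ := dvd_iff_isRoot.mpr hp0
    -- `q` lies in the section ring
    have hqmem : ∀ m : ℕ, q.coeff m ∈ L (Finsupp.single P (m : ℤ) : Divisor k K) := by
      intro m
      induction m with
      | zero =>
        have h0 : (p : K[X]).coeff 0 = -(algebraMap k K c) * q.coeff 0 := by
          rw [hq, mul_coeff_zero, coeff_sub, coeff_X_zero, coeff_C_zero, zero_sub]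
        have h1 : q.coeff 0 = (-c⁻¹) • (p : K[X]).coeff 0 := by
          rw [h0, Algebra.smul_def, map_neg, map_inv₀]
          field_simp
        rw [h1]
        apply Submodule.smul_mem
        have := p.2 0
        rwa [zsmul_single_one] at this
      | succ m ih =>
        have h0 : (p : K[X]).coeff (m + 1) = q.coeff m - q.coeff (m + 1) * algebraMap k K c := by
          rw [hq, coeff_X_sub_C_mul, mul_comm]
        have h1 : q.coeff (m + 1) = c⁻¹ • (q.coeff m - (p : K[X]).coeff (m + 1)) := by
          rw [h0, Algebra.smul_def, map_inv₀]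
          field_simp
          ring
        rw [h1]
        apply Submodule.smul_mem
        apply sub_mem
        · exact L_mono (single_le_single' (by push_cast; omega)) ih
        · have := p.2 (m + 1)
          rwa [zsmul_single_one] at this
    have hqR : q ∈ sectRing (Finsupp.single P 1 : Divisor k K) := by
      intro m
      rw [zsmul_single_one]
      exact hqmem m
    rw [Ideal.mem_span_singleton']
    refine ⟨⟨q, hqR⟩, ?_⟩
    apply Subtype.ext
    change q * ((genT P - algebraMap k _ c : sectRing (Finsupp.single P 1 : Divisor k K)) : K[X]) = _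
    rw [hcoe, hq, mul_comm]
  · rw [Ideal.span_singleton_le_iff_mem, RingHom.mem_ker]
    apply Subtype.ext
    change ((evK P c _ : holRing P) : K) = 0
    rw [coe_evK, hcoe]
    simp

end hol

section holGor

variable (hK : IsFunctionField k K) (P : Place k K)

include hK in
lemma exists_uniformizer_holRing {Q : Place k K} (hQ : Q ≠ P) :
    ∃ y : holRing P, Q.1 (y : K) = exp (-1 : ℤ) := by
  obtain ⟨y, hy1, hy2⟩ := strong_approx hK P (fun _ : Fin 1 => Q)
    (Function.injective_of_subsingleton _) (by rintro ⟨i, hi⟩; exact hQ hi)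
    (fun _ => 0) (fun _ => 1)
  have hy : Q.1 y = exp (-1 : ℤ) := by
    have := hy1 0
    simpa using this
  refine ⟨⟨y, ?_⟩, hy⟩
  intro Q' hQ'
  by_cases h : Q' = Q
  · subst h
    rw [hy, ← exp_zero, exp_le_exp]
    omega
  · exact hy2 Q' hQ' (by rintro ⟨i, hi⟩; exact h hi.symm)

include hK in
/-- the ring of functions regular outside `P` is Gorenstein at every maximal ideal -/
theorem gor_holRing [IsNoetherianRing (holRing P)]
    (𝔫 : Ideal (holRing P)) [h𝔫 : 𝔫.IsMaximal] :
    LocCoh.IsGorensteinLocalRing (Localization.AtPrime 𝔫) := by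
  classical
  by_cases hne : ∃ a ∈ 𝔫, a ≠ 0
  swap
  · -- impossible: `holRing P` is not a field
    exfalso
    push Not at hne
    haveI := Groth.Agent.FF.Ext.infinite_places' hK
    obtain ⟨Q₀, hQ₀⟩ := exists_ne P
    obtain ⟨y₀, hy₀⟩ := exists_uniformizer_holRing hK P hQ₀
    have hy₀n : y₀ ∉ 𝔫 := by
      intro hmem
      have := hne y₀ hmem
      rw [this] at hy₀
      simp at hy₀
      exact exp_ne_zero hy₀.symm
    obtain ⟨z, i, hi, hzi⟩ := h𝔫.exists_inv hy₀n
    rw [hne i hi, add_zero] at hzi
    have h1 : (z : K) * (y₀ : K) = 1 := congrArg Subtype.val hzi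
    have h2 := congrArg Q₀.1 h1
    rw [map_mul, map_one, hy₀] at h2
    have h3 : Q₀.1 (z : K) ≤ 1 := z.2 Q₀ hQ₀
    have h4 : Q₀.1 (z : K) * exp (-1 : ℤ) ≤ 1 * exp (-1 : ℤ) := mul_le_mul_left h3 _
    rw [h2, one_mul, ← exp_zero, exp_le_exp] at h4
    omega
  -- the place of `𝔫`
  obtain ⟨Q, hQA, hQ𝔫⟩ := exists_place_of_ideal hK (holRing P) 𝔫 h𝔫.ne_top hne
  have hQP : Q ≠ P := by
    rintro rfl
    obtain ⟨a, ha, ha0⟩ := hne
    have haL : (a : K) ∈ L (0 : Divisor k K) := by
      intro Q'
      rw [Finsupp.zero_apply, exp_zero]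
      by_cases h : Q' = Q
      · subst h; exact hQA a a.2
      · exact a.2 Q' h
    rw [L_zero_eq hK, Submodule.mem_one] at haL
    obtain ⟨c, hc⟩ := haL
    have hc0 : c ≠ 0 := by
      rintro rfl
      apply ha0
      apply Subtype.ext
      rw [← hc, map_zero]
      rfl
    have hlt := hQ𝔫 a ha
    rw [← hc, val_algebraMap Q hc0] at hlt
    exact lt_irrefl _ hlt
  -- `𝔫` is exactly the set of functions vanishing at `Q`
  have h𝔫Q : ∀ a : holRing P, Q.1 (a : K) < 1 → a ∈ 𝔫 := by
    intro a ha
    by_contra hna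
    obtain ⟨z, i, hi, hzi⟩ := h𝔫.exists_inv hna
    have h1 : (z : K) * (a : K) + (i : K) = 1 := congrArg Subtype.val hzi
    have h2 : Q.1 ((z : K) * (a : K)) < 1 := by
      rw [map_mul]
      calc Q.1 (z : K) * Q.1 (a : K) ≤ 1 * Q.1 (a : K) := mul_le_mul' (hQA z z.2) le_rfl
        _ = Q.1 (a : K) := one_mul _
        _ < 1 := ha
    have h3 := Valuation.map_add_lt Q.1 h2 (hQ𝔫 i hi)
    rw [h1, map_one] at h3
    exact lt_irrefl _ h3
  obtain ⟨y, hy⟩ := exists_uniformizer_holRing hK P hQP
  have hy0 : (y : K) ≠ 0 := by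
    intro h0
    rw [h0, map_zero] at hy
    exact exp_ne_zero hy.symm
  have hy𝔫 : y ∈ 𝔫 := by
    apply h𝔫Q
    rw [hy, ← exp_zero, exp_lt_exp]
    omega
  -- the other zeros of `y`
  have hfin : {Q' : Place k K | Q'.ord (y : K) ≠ 0 ∧ Q' ≠ P}.Finite :=
    (finite_support_ord hK (y : K)).subset (fun Q' h => h.1)
  set T := {Q' : Place k K | Q'.ord (y : K) ≠ 0 ∧ Q' ≠ P} with hT
  haveI : Finite T := hfin.to_subtype
  have hQT : Q ∈ T := by
    refine ⟨?_, hQP⟩
    have : Q.ord (y : K) = 1 := by
      have := val_eq_exp_neg_ord Q hy0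
      rw [hy, exp_inj] at this
      omega
    omega
  let eT := Finite.equivFin T
  let Pf : Fin (Nat.card T) → Place k K := fun i => (eT.symm i : Place k K)
  have hPf : Function.Injective Pf := fun i j h => eT.symm.injective (Subtype.ext h)
  have hPfT : ∀ i, Pf i ∈ T := fun i => (eT.symm i).2
  have hrange : ∀ Q', Q' ∈ T → Q' ∈ Set.range Pf := by
    intro Q' hQ'
    refine ⟨eT ⟨Q', hQ'⟩, ?_⟩
    change ((eT.symm (eT ⟨Q', hQ'⟩) : T) : Place k K) = Q'
    rw [Equiv.symm_apply_apply]
  obtain ⟨s, hs1, hs2⟩ := strong_approx hK P Pf hPf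
    (by rintro ⟨i, hi⟩; exact (hPfT i).2 hi) (fun _ => 0)
    (fun i => if Pf i = Q then 0 else (Pf i).ord (y : K))
  simp only [sub_zero] at hs1
  have hyQ' : ∀ Q' : Place k K, Q' ≠ P → 0 ≤ Q'.ord (y : K) := by
    intro Q' hQ'
    rw [← val_le_one_iff Q' hy0]
    exact y.2 Q' hQ'
  have hsmem : s ∈ holRing P := by
    intro Q' hQ'
    by_cases hQ'T : Q' ∈ T
    · obtain ⟨i, rfl⟩ := hrange Q' hQ'T
      rw [hs1 i, ← exp_zero, exp_le_exp]
      split_ifs
      · omega
      · have := hyQ' (Pf i) hQ'
        omega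
    · exact hs2 Q' hQ' (by rintro ⟨i, rfl⟩; exact hQ'T (hPfT i))
  have hsQ : Q.1 s = 1 := by
    obtain ⟨i, hi⟩ := hrange Q hQT
    have := hs1 i
    rw [if_pos hi, hi] at this
    simpa using this
  have hs𝔫 : (⟨s, hsmem⟩ : holRing P) ∉ 𝔫 := by
    intro hmem
    have := hQ𝔫 _ hmem
    rw [hsQ] at this
    exact lt_irrefl _ this
  have hyB : y ≠ 0 := fun h0 => hy0 (by rw [h0]; rfl)
  apply GorTools.gor_of_principal 𝔫 y ⟨s, hsmem⟩ hy𝔫 hyB hs𝔫
  intro f hf
  have hfQ := hQ𝔫 f hf
  have hgmem : s * (f : K) * (y : K)⁻¹ ∈ holRing P := by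
    intro Q' hQ'
    rw [map_mul, map_mul, map_inv₀]
    have hfQ' : Q'.1 (f : K) ≤ 1 := f.2 Q' hQ'
    by_cases hQ'T : Q' ∈ T
    · obtain ⟨i, rfl⟩ := hrange Q' hQ'T
      rw [hs1 i]
      by_cases hiQ : Pf i = Q
      · rw [if_pos hiQ, hiQ, hy]
        have h1 : Q.1 (f : K) ≤ exp (-1 : ℤ) := by
          by_cases hf0 : (f : K) = 0
          · rw [hf0, map_zero]; simp
          · rw [val_le_exp_iff Q hf0]
            have := (val_lt_one_iff Q hf0).mp hfQ
            omega
        calc exp (-(0 : ℤ)) * Q.1 (f : K) * (exp (-1 : ℤ))⁻¹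
            ≤ exp (-(0 : ℤ)) * exp (-1 : ℤ) * (exp (-1 : ℤ))⁻¹ := by gcongr
          _ = 1 := by
            rw [mul_assoc, mul_inv_cancel₀ exp_ne_zero]
            simp
      · rw [if_neg hiQ, val_eq_exp_neg_ord (Pf i) hy0, mul_right_comm,
          mul_inv_cancel₀ exp_ne_zero, one_mul]
        exact hfQ'
    · have hord : Q'.ord (y : K) = 0 := by
        by_contra h0
        exact hQ'T ⟨h0, hQ'⟩
      rw [val_eq_exp_neg_ord Q' hy0, hord]
      have h1 : Q'.1 s ≤ 1 := hsmem Q' hQ'
      simp only [neg_zero, exp_zero, inv_one, mul_one]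
      calc Q'.1 s * Q'.1 (f : K) ≤ 1 * 1 := mul_le_mul' h1 hfQ'
        _ = 1 := one_mul _
  refine ⟨⟨_, hgmem⟩, ?_⟩
  apply Subtype.ext
  change s * (f : K) = (y : K) * (s * (f : K) * (y : K)⁻¹)
  field_simp

end holGor

section main

variable [IsAlgClosed k] (hK : IsFunctionField k K) (P : Place k K)

include hK in
/-- **Kunz / Goto–Watanabe.** `R_{X,P}` is Gorenstein iff the Weierstrass semigroup at `P` is
symmetric. -/
theorem isGorensteinRing_sectRing_iff (hg : 1 ≤ genus k K) :
    LocCoh.IsGorensteinRing (sectRing (Finsupp.single P 1 : Divisor k K)) ↔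
      IsSymmetric (poleOrders P) := by
  obtain ⟨π, hπ⟩ := exists_uniformizer P
  have hcoe := coe_closure_poleOrders hK P hπ
  have hN : ∀ n, 2 * genus k K ≤ n → n ∈ AddSubmonoid.closure (poleOrders P) :=
    fun n hn => AddSubmonoid.subset_closure (mem_poleOrders_of_le hK P hn)
  have h1 : 1 ∉ AddSubmonoid.closure (poleOrders P) := by
    intro h
    have h' : 1 ∈ ((AddSubmonoid.closure (poleOrders P) : AddSubmonoid ℕ) : Set ℕ) := h
    rw [hcoe] at h'
    exact one_notMem_poleOrders hK P hg h'
  haveI hft := finiteType hK P hg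
  haveI hnoeth : IsNoetherianRing (sectRing (Finsupp.single P 1 : Divisor k K)) :=
    Algebra.FiniteType.isNoetherianRing k _
  let πS : sectRing (Finsupp.single P 1 : Divisor k K) →+*
      SemiAlg.semiAlg k (AddSubmonoid.closure (poleOrders P)) := (leadS hK P hπ).toRingHom
  have hsurj : Function.Surjective πS := leadS_surjective hK P hπ
  have hkerS : RingHom.ker πS = Ideal.span {genT P} := ker_leadS hK P hπ
  haveI : IsNoetherianRing (SemiAlg.semiAlg k (AddSubmonoid.closure (poleOrders P))) :=
    isNoetherianRing_of_surjective _ _ πS hsurj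
  haveI : Algebra.FiniteType k (SemiAlg.semiAlg k (AddSubmonoid.closure (poleOrders P))) :=
    hft.of_surjective (leadS hK P hπ) (leadS_surjective hK P hπ)
  have htreg : genT P ∈ nonZeroDivisors (sectRing (Finsupp.single P 1 : Divisor k K)) :=
    mem_nonZeroDivisors_of_ne_zero (genT_ne_zero P)
  rw [← hcoe]
  constructor
  · intro hG
    have h2 := hG.isGorensteinLocalRing_localization
      ((SemiAlg.ptIdeal 0 : Ideal (SemiAlg.semiAlg k (AddSubmonoid.closure (poleOrders P)))).comap πS)
    have h3 := (GorTools.gor_iff_of_surjective πS hsurj (genT P) hkerS htreg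
      (SemiAlg.ptIdeal 0)).mp h2
    exact (SemiAlg.gor_origin_iff hN h1).mp h3
  · intro hsym
    apply GorTools.isGorensteinRing_of_maximal
    intro m hm
    by_cases ht : genT P ∈ m
    · exact GorTools.gor_of_surjective_of_maximal πS hsurj (genT P) hkerS htreg m ht
        (fun n hn => SemiAlg.gor_maximal hN h1 hsym n)
    · obtain ⟨φ, hφ⟩ := GorTools.exists_algHom_ker_eq k
        (sectRing (Finsupp.single P 1 : Divisor k K)) m
      set c := φ (genT P) with hc
      have hc0 : c ≠ 0 := by
        intro h0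
        apply ht
        rw [← hφ]
        exact h0
      have hmem : genT P - algebraMap k _ c ∈ m := by
        rw [← hφ, RingHom.mem_ker]
        change φ (genT P - algebraMap k _ c) = 0
        rw [map_sub, AlgHom.commutes, ← hc]
        simp
      have hne : genT P - algebraMap k (sectRing (Finsupp.single P 1 : Divisor k K)) c ≠ 0 := by
        intro h0
        have h3 : genT P = algebraMap k (sectRing (Finsupp.single P 1 : Divisor k K)) c :=
          sub_eq_zero.mp h0
        have h4 := congrArg (fun p : sectRing (Finsupp.single P 1 : Divisor k K) =>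
          ((p : K[X])).coeff 1) h3
        simp only [coe_genT, coeff_X_one] at h4
        have h5 : ((algebraMap k (sectRing (Finsupp.single P 1 : Divisor k K)) c :
            sectRing (Finsupp.single P 1 : Divisor k K)) : K[X]) = C (algebraMap k K c) := rfl
        rw [h5, coeff_C] at h4
        simp at h4
      let πc : sectRing (Finsupp.single P 1 : Divisor k K) →+* holRing P := (evK P c).toRingHom
      have hsurjc : Function.Surjective πc := evK_surjective P hc0
      have hkerc : RingHom.ker πc = Ideal.span {genT P - algebraMap k _ c} := ker_evK P hc0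
      haveI : IsNoetherianRing (holRing P) := isNoetherianRing_of_surjective _ _ πc hsurjc
      exact GorTools.gor_of_surjective_of_maximal πc hsurjc _ hkerc
        (mem_nonZeroDivisors_of_ne_zero hne) m hmem (fun n hn => gor_holRing hK P n)

end main

end Groth.Agent.FF.SectGor
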