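import Groth.Agent.FunFld.Genus0Cusp
import Groth.Agent.FunFld.Rational
import Groth.Prelude.Def_W4c6gradedringsgwSect
import Mathlib.Algebra.Polynomial.Lifts

/-!
# The section ring `⊕ L(nP) Tⁿ` of a place and its leading-form map
-/

set_option autoImplicit false

open FunFld IntermediateField Polynomial WithZero W4c6gradedringsgw

namespace Groth.Agent.FF

universe u v
variable {k : Type u} {K : Type v} [Field k] [Field K] [Algebra k K]

/-- the residue map of a place with values in the (algebraically closed) constant field -/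
noncomputable def resK [IsAlgClosed k] (hK : IsFunctionField k K) (P : Place k K) : P.O →+* k :=
  ((RingEquiv.ofBijective (algebraMap k (IsLocalRing.ResidueField P.O))
    ⟨(algebraMap k (IsLocalRing.ResidueField P.O)).injective,
      algebraMap_residue_surjective hK P⟩).symm : IsLocalRing.ResidueField P.O →+* k).comp (res P)

lemma resK_algebraMap [IsAlgClosed k] (hK : IsFunctionField k K) (P : Place k K) (c : k) :
    resK hK P (algebraMap k P.O c) = c := by
  unfold resK
  rw [RingHom.comp_apply, ← algebraMap_res]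
  exact RingEquiv.symm_apply_apply (RingEquiv.ofBijective (algebraMap k (IsLocalRing.ResidueField P.O))
    ⟨(algebraMap k (IsLocalRing.ResidueField P.O)).injective,
      algebraMap_residue_surjective hK P⟩) c

lemma resK_eq_zero_iff [IsAlgClosed k] (hK : IsFunctionField k K) (P : Place k K) (a : P.O) :
    resK hK P a = 0 ↔ P.1 (a : K) < 1 := by
  unfold resK
  rw [RingHom.comp_apply, ← res_eq_zero_iff]
  exact map_eq_zero_iff _ (RingEquiv.injective _)

lemma zsmul_single_one (P : Place k K) (n : ℤ) :
    n • (Finsupp.single P 1 : Divisor k K) = Finsupp.single P n := by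
  rw [Finsupp.smul_single, smul_eq_mul, mul_one]

/-- membership in `L(nP)` in terms of membership in `L((n+1)P)` and the valuation at `P` -/
lemma mem_L_single_of_mem_succ {P : Place k K} {n : ℤ} {x : K}
    (hx : x ∈ L (Finsupp.single P (n + 1) : Divisor k K)) (hP : P.1 x < exp (n + 1)) :
    x ∈ L (Finsupp.single P n : Divisor k K) := by
  classical
  intro Q
  by_cases hQ : Q = P
  · subst hQ
    rw [Finsupp.single_eq_same]
    rw [lt_exp_iff_le_exp_sub_one] at hP
    simpa using hP
  · have := hx Q
    rw [Finsupp.single_apply, if_neg (Ne.symm hQ)] at this ⊢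
    exact this

lemma val_le_of_mem_L_single {P : Place k K} {n : ℤ} {x : K}
    (hx : x ∈ L (Finsupp.single P n : Divisor k K)) : P.1 x ≤ exp n := by
  have := hx P
  rwa [Finsupp.single_eq_same] at this

end Groth.Agent.FF

namespace Groth.Agent.FF

universe u v
variable {k : Type u} {K : Type v} [Field k] [Field K] [Algebra k K]

section rho

variable (P : Place k K) {π : K}

/-- the rescaled polynomial `p(πT)` of a member of the section ring has coefficients in `O_P` -/
lemma scaled_mem_lifts (hπ : P.1 π = exp (-1 : ℤ))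
    (p : sectRing (Finsupp.single P 1 : Divisor k K)) :
    (p : K[X]).comp (C π * X) ∈ lifts (P.O.subtype) := by
  rw [lifts_iff_coeff_lifts]
  intro n
  rw [comp_C_mul_X_coeff]
  have hp := p.2 n
  rw [zsmul_single_one] at hp
  have h1 := val_le_of_mem_L_single hp
  have h2 : P.1 ((p : K[X]).coeff n * π ^ n) ≤ 1 := by
    rw [map_mul, map_pow, hπ]
    calc P.1 ((p : K[X]).coeff n) * exp (-1 : ℤ) ^ n ≤ exp (n : ℤ) * exp (-1 : ℤ) ^ n :=
          mul_le_mul' h1 le_rfl
      _ = 1 := by
          rw [← exp_nsmul, ← exp_add]; simp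
  exact ⟨⟨_, h2⟩, rfl⟩

/-- the polynomial over `O_P` lifting `p(πT)` -/
noncomputable def rhoFun (hπ : P.1 π = exp (-1 : ℤ))
    (p : sectRing (Finsupp.single P 1 : Divisor k K)) : (P.O)[X] :=
  Classical.choose ((mem_lifts _).1 (scaled_mem_lifts P hπ p))

lemma map_rhoFun (hπ : P.1 π = exp (-1 : ℤ))
    (p : sectRing (Finsupp.single P 1 : Divisor k K)) :
    (rhoFun P hπ p).map P.O.subtype = (p : K[X]).comp (C π * X) :=
  Classical.choose_spec ((mem_lifts _).1 (scaled_mem_lifts P hπ p))

lemma subtype_injective : Function.Injective (P.O.subtype) := Subtype.val_injective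

/-- `p ↦ p(πT)` as a ring homomorphism from the section ring to `O_P[T]` -/
noncomputable def rho (hπ : P.1 π = exp (-1 : ℤ)) :
    sectRing (Finsupp.single P 1 : Divisor k K) →+* (P.O)[X] where
  toFun := rhoFun P hπ
  map_one' := by
    apply map_injective P.O.subtype (subtype_injective P)
    rw [map_rhoFun]
    simp
  map_mul' p q := by
    apply map_injective P.O.subtype (subtype_injective P)
    rw [Polynomial.map_mul, map_rhoFun, map_rhoFun, map_rhoFun]
    simp [mul_comp]
  map_zero' := by
    apply map_injective P.O.subtype (subtype_injective P)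
    rw [map_rhoFun]
    simp
  map_add' p q := by
    apply map_injective P.O.subtype (subtype_injective P)
    rw [Polynomial.map_add, map_rhoFun, map_rhoFun, map_rhoFun]
    simp [add_comp]

lemma map_rho (hπ : P.1 π = exp (-1 : ℤ))
    (p : sectRing (Finsupp.single P 1 : Divisor k K)) :
    (rho P hπ p).map P.O.subtype = (p : K[X]).comp (C π * X) := map_rhoFun P hπ p

lemma coe_coeff_rho (hπ : P.1 π = exp (-1 : ℤ))
    (p : sectRing (Finsupp.single P 1 : Divisor k K)) (n : ℕ) :
    (((rho P hπ p).coeff n : P.O) : K) = (p : K[X]).coeff n * π ^ n := by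
  have h := congrArg (fun q => q.coeff n) (map_rho P hπ p)
  simp only [coeff_map, comp_C_mul_X_coeff] at h
  exact h

end rho

section leadForm

variable [IsAlgClosed k] (hK : IsFunctionField k K) (P : Place k K) {π : K}

/-- the leading-form map `∑ fₙ Tⁿ ↦ ∑ (fₙ πⁿ)(P) Tⁿ` -/
noncomputable def leadForm (hπ : P.1 π = exp (-1 : ℤ)) :
    sectRing (Finsupp.single P 1 : Divisor k K) →ₐ[k] k[X] where
  toRingHom := (mapRingHom (resK hK P)).comp (rho P hπ)
  commutes' c := by
    change (rho P hπ (algebraMap k _ c)).map (resK hK P) = C c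
    have h : rho P hπ (algebraMap k _ c) = C (algebraMap k P.O c) := by
      apply map_injective P.O.subtype (subtype_injective P)
      rw [map_rho, map_C]
      change (C (algebraMap k K c)).comp (C π * X) = C (algebraMap k K c)
      rw [C_comp]
    rw [h, map_C, resK_algebraMap]

lemma coeff_leadForm (hπ : P.1 π = exp (-1 : ℤ))
    (p : sectRing (Finsupp.single P 1 : Divisor k K)) (n : ℕ) :
    (leadForm hK P hπ p).coeff n = resK hK P ((rho P hπ p).coeff n) := coeff_map _ _

lemma coeff_leadForm_eq_zero_iff (hπ : P.1 π = exp (-1 : ℤ))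
    (p : sectRing (Finsupp.single P 1 : Divisor k K)) (n : ℕ) :
    (leadForm hK P hπ p).coeff n = 0 ↔ P.1 ((p : K[X]).coeff n) < exp (n : ℤ) := by
  rw [coeff_leadForm, resK_eq_zero_iff, coe_coeff_rho, map_mul, map_pow, hπ]
  have h1 : (exp (-1 : ℤ) : ℤᵐ⁰) ^ n = (exp (n : ℤ))⁻¹ := by
    rw [← exp_nsmul, ← exp_neg]; simp
  rw [h1, mul_inv_lt_iff₀ (exp_pos), one_mul]

end leadForm

end Groth.Agent.FF

namespace Groth.Agent.FF

universe u v
variable {k : Type u} {K : Type v} [Field k] [Field K] [Algebra k K]

/-- in positive genus `L(P) = k` for a place of degree one -/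
lemma mem_range_of_mem_L_single_one [IsAlgClosed k] (hK : IsFunctionField k K)
    (hg : 1 ≤ genus k K) (P : Place k K) {a : K}
    (ha : a ∈ L (Finsupp.single P 1 : Divisor k K)) : a ∈ Set.range (algebraMap k K) := by
  classical
  by_contra hnot
  have ha0 : a ≠ 0 := by
    rintro rfl
    exact hnot ⟨0, map_zero _⟩
  have hP1 : -1 ≤ P.ord a := by
    have := val_le_of_mem_L_single ha
    rwa [val_le_exp_iff P ha0] at this
  have hQ : ∀ Q : Place k K, Q ≠ P → 0 ≤ Q.ord a := by
    intro Q hQ
    have := ha Q
    rw [Finsupp.single_apply, if_neg (Ne.symm hQ), val_le_exp_iff Q ha0] at this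
    simpa using this
  have hP2 : P.ord a = -1 := by
    by_contra hne
    have hlt : -1 < P.ord a := lt_of_le_of_ne hP1 (Ne.symm hne)
    have hmem : a ∈ L (Finsupp.single P 0 : Divisor k K) := by
      apply mem_L_single_of_mem_succ (n := 0)
      · simpa using ha
      · rw [val_lt_exp_iff P ha0]; simpa using hlt
    rw [Finsupp.single_zero, L_zero_eq hK, Submodule.mem_one] at hmem
    exact hnot hmem
  have hsp : SimplePoleAt a P := ⟨deg_eq_one_of_isAlgClosed hK P, hP2, hQ⟩
  have := genus_eq_zero_of_simplePoleAt hK hsp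
  omega

section kernel

variable [IsAlgClosed k] (hK : IsFunctionField k K) (P : Place k K) {π : K}

lemma leadForm_eq_zero_iff (hπ : P.1 π = exp (-1 : ℤ))
    (p : sectRing (Finsupp.single P 1 : Divisor k K)) :
    leadForm hK P hπ p = 0 ↔ ∀ n : ℕ, P.1 ((p : K[X]).coeff n) < exp (n : ℤ) := by
  rw [Polynomial.ext_iff]
  simp only [coeff_zero]
  exact forall_congr' (fun n => coeff_leadForm_eq_zero_iff hK P hπ p n)

/-- the kernel of the leading-form map is generated by `t = c T` -/
lemma ker_leadForm (hπ : P.1 π = exp (-1 : ℤ))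
    (t : sectRing (Finsupp.single P 1 : Divisor k K)) {c : k} (hc : c ≠ 0)
    (ht : (t : K[X]) = C (algebraMap k K c) * X) :
    RingHom.ker (leadForm hK P hπ) = Ideal.span {t} := by
  classical
  apply le_antisymm
  · intro p hp
    rw [RingHom.mem_ker, leadForm_eq_zero_iff] at hp
    -- the constant coefficient vanishes
    have h0 : (p : K[X]).coeff 0 = 0 := by
      have h1 := p.2 0
      simp only [Nat.cast_zero, zero_smul] at h1
      rw [L_zero_eq hK, Submodule.mem_one] at h1
      obtain ⟨d, hd⟩ := h1
      have h2 := hp 0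
      rw [← hd] at h2 ⊢
      by_contra hne
      have hd0 : d ≠ 0 := by
        rintro rfl
        exact hne (map_zero _)
      rw [val_algebraMap P hd0] at h2
      simp at h2
    -- the quotient
    have hq : C (algebraMap k K c⁻¹) * (p : K[X]).divX ∈
        sectRing (Finsupp.single P 1 : Divisor k K) := by
      intro n
      rw [coeff_C_mul, coeff_divX, ← Algebra.smul_def]
      apply Submodule.smul_mem
      rw [zsmul_single_one]
      apply mem_L_single_of_mem_succ
      · have := p.2 (n + 1)
        rw [zsmul_single_one] at this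
        simpa using this
      · have := hp (n + 1)
        simpa using this
    rw [Ideal.mem_span_singleton]
    refine ⟨⟨_, hq⟩, ?_⟩
    apply Subtype.ext
    change (p : K[X]) = (t : K[X]) * (C (algebraMap k K c⁻¹) * (p : K[X]).divX)
    rw [ht]
    have h3 := divX_mul_X_add (p : K[X])
    rw [h0, map_zero, add_zero] at h3
    have h4 : (C (algebraMap k K c) * C (algebraMap k K c⁻¹) : K[X]) = 1 := by
      rw [← C_mul, ← map_mul, mul_inv_cancel₀ hc, map_one, C_1]
    calc (p : K[X]) = (p : K[X]).divX * X := h3.symm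
      _ = (C (algebraMap k K c) * C (algebraMap k K c⁻¹)) * ((p : K[X]).divX * X) := by
          rw [h4, one_mul]
      _ = _ := by ring
  · rw [Ideal.span_le]
    intro p hp
    rw [Set.mem_singleton_iff] at hp
    subst hp
    change p ∈ RingHom.ker (leadForm hK P hπ)
    rw [RingHom.mem_ker, leadForm_eq_zero_iff]
    intro n
    rw [ht, coeff_C_mul, coeff_X]
    split_ifs with h
    · subst h
      rw [mul_one]
      calc P.1 (algebraMap k K c) ≤ 1 := val_algebraMap_le P c
        _ < exp ((1 : ℕ) : ℤ) := by rw [← exp_zero, exp_lt_exp]; norm_num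
    · rw [mul_zero, map_zero]
      exact exp_pos

end kernel

end Groth.Agent.FF

namespace Groth.Agent.FF

universe u v
variable {k : Type u} {K : Type v} [Field k] [Field K] [Algebra k K]

section range

variable [IsAlgClosed k] (hK : IsFunctionField k K) (P : Place k K) {π : K}

include hK in
lemma deg_zsmul_single_one (n : ℤ) :
    Divisor.deg (n • (Finsupp.single P 1 : Divisor k K)) = n := by
  rw [zsmul_single_one, deg_single, deg_eq_one_of_isAlgClosed hK P]; simp

include hK in
/-- a pole order is witnessed by a function -/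
lemma mem_poleOrders_of_mem_of_not_mem {n : ℕ} {f : K}
    (hf : f ∈ L (Finsupp.single P (n : ℤ) : Divisor k K))
    (hf' : f ∉ L (Finsupp.single P ((n : ℤ) - 1) : Divisor k K)) : n ∈ poleOrders P := by
  have hle : ((n : ℤ) - 1) • (Finsupp.single P 1 : Divisor k K) ≤
      (n : ℤ) • (Finsupp.single P 1 : Divisor k K) := by
    rw [zsmul_single_one, zsmul_single_one]
    exact single_le_single' (by omega)
  have h1 := ell_le_add hK hle
  rw [deg_zsmul_single_one hK P, deg_zsmul_single_one hK P] at h1
  have hlt : ell (((n : ℤ) - 1) • (Finsupp.single P 1 : Divisor k K)) <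
      ell ((n : ℤ) • (Finsupp.single P 1 : Divisor k K)) := by
    have := finite_L hK ((n : ℤ) • (Finsupp.single P 1 : Divisor k K))
    apply Submodule.finrank_lt_finrank_of_lt
    refine lt_of_le_of_ne (L_mono hle) (fun heq => ?_)
    rw [zsmul_single_one, zsmul_single_one] at heq
    exact hf' (heq ▸ hf)
  change ell ((n : ℤ) • (Finsupp.single P 1 : Divisor k K)) =
    ell (((n : ℤ) - 1) • (Finsupp.single P 1 : Divisor k K)) + 1
  omega

omit [IsAlgClosed k] in
lemma exists_mem_of_mem_poleOrders {n : ℕ} (hn : n ∈ poleOrders P) :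
    ∃ f ∈ L (Finsupp.single P (n : ℤ) : Divisor k K),
      f ∉ L (Finsupp.single P ((n : ℤ) - 1) : Divisor k K) := by
  by_contra hcon
  have hall : L (Finsupp.single P (n : ℤ) : Divisor k K) ≤
      L (Finsupp.single P ((n : ℤ) - 1) : Divisor k K) := by
    intro f hf
    by_contra hf'
    exact hcon ⟨f, hf, hf'⟩
  have heq : L (Finsupp.single P (n : ℤ) : Divisor k K) =
      L (Finsupp.single P ((n : ℤ) - 1) : Divisor k K) :=
    le_antisymm hall (L_mono (single_le_single' (by omega)))
  have hn' : ell ((n : ℤ) • (Finsupp.single P 1 : Divisor k K)) =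
    ell (((n : ℤ) - 1) • (Finsupp.single P 1 : Divisor k K)) + 1 := hn
  rw [zsmul_single_one, zsmul_single_one] at hn'
  unfold ell at hn'
  rw [heq] at hn'
  omega

lemma mem_poleOrders_of_coeff_ne_zero (hπ : P.1 π = exp (-1 : ℤ))
    (p : sectRing (Finsupp.single P 1 : Divisor k K)) (n : ℕ)
    (h : (leadForm hK P hπ p).coeff n ≠ 0) : n ∈ poleOrders P := by
  rw [Ne, coeff_leadForm_eq_zero_iff, not_lt] at h
  have hf := p.2 n
  rw [zsmul_single_one] at hf
  refine mem_poleOrders_of_mem_of_not_mem hK P hf (fun hmem => ?_)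
  have h2 := h.trans (val_le_of_mem_L_single hmem)
  rw [exp_le_exp] at h2
  omega

lemma X_pow_mem_range_of_mem_poleOrders (hπ : P.1 π = exp (-1 : ℤ)) {n : ℕ}
    (hn : n ∈ poleOrders P) : (X : k[X]) ^ n ∈ (leadForm hK P hπ).range := by
  obtain ⟨f, hf, hf'⟩ := exists_mem_of_mem_poleOrders P hn
  have hmon : monomial n f ∈ sectRing (Finsupp.single P 1 : Divisor k K) := by
    intro m
    rw [coeff_monomial]
    split_ifs with h
    · subst h; rwa [zsmul_single_one]
    · exact zero_mem _
  set p : sectRing (Finsupp.single P 1 : Divisor k K) := ⟨monomial n f, hmon⟩ with hp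
  have hc : (leadForm hK P hπ p).coeff n ≠ 0 := by
    rw [Ne, coeff_leadForm_eq_zero_iff]
    change ¬ P.1 ((monomial n f).coeff n) < _
    rw [coeff_monomial, if_pos rfl]
    intro hlt
    apply hf'
    apply mem_L_single_of_mem_succ
    · simpa using hf
    · simpa using hlt
  have hother : ∀ m, m ≠ n → (leadForm hK P hπ p).coeff m = 0 := by
    intro m hm
    rw [coeff_leadForm_eq_zero_iff]
    change P.1 ((monomial n f).coeff m) < _
    rw [coeff_monomial, if_neg (Ne.symm hm), map_zero]
    exact exp_pos
  have heq : leadForm hK P hπ p = monomial n ((leadForm hK P hπ p).coeff n) := by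
    ext m
    rw [coeff_monomial]
    split_ifs with h
    · subst h; rfl
    · exact hother m (Ne.symm h)
  refine ⟨((leadForm hK P hπ p).coeff n)⁻¹ • p, ?_⟩
  change (leadForm hK P hπ) (((leadForm hK P hπ p).coeff n)⁻¹ • p) = X ^ n
  rw [map_smul, heq, smul_monomial, coeff_monomial, if_pos rfl, smul_eq_mul, inv_mul_cancel₀,
    X_pow_eq_monomial]
  rw [heq, coeff_monomial, if_pos rfl] at hc
  exact hc

lemma X_pow_mem_range_of_mem_closure (hπ : P.1 π = exp (-1 : ℤ)) {n : ℕ}
    (hn : n ∈ AddSubmonoid.closure (poleOrders P)) :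
    (X : k[X]) ^ n ∈ (leadForm hK P hπ).range := by
  induction hn using AddSubmonoid.closure_induction with
  | mem x hx => exact X_pow_mem_range_of_mem_poleOrders hK P hπ hx
  | zero => rw [pow_zero]; exact one_mem _
  | add x y _ _ hx hy => rw [pow_add]; exact mul_mem hx hy

end range

end Groth.Agent.FF
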