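import Groth.Agent.FunFld.SectRing

/-!
# `R_P / t R_P ≅ k[H_P]` for the section ring of a place
-/

set_option autoImplicit false

open FunFld IntermediateField Polynomial WithZero W4c6gradedringsgw

namespace Groth.Agent.FF

universe u v
variable {k : Type u} {K : Type v} [Field k] [Field K] [Algebra k K]

/-- the embedding of the semigroup algebra of a submonoid of `ℕ` into `k[X]` -/
noncomputable def semigroupEmb (k : Type u) [Field k] (H' : AddSubmonoid ℕ) :
    AddMonoidAlgebra k H' →ₐ[k] k[X] :=
  (toFinsuppIsoAlg k).symm.toAlgHom.comp (AddMonoidAlgebra.mapDomainAlgHom k k H'.subtype)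

lemma semigroupEmb_apply (H' : AddSubmonoid ℕ) (g : AddMonoidAlgebra k H') :
    semigroupEmb k H' g = (toFinsuppIsoAlg k).symm (AddMonoidAlgebra.mapDomain H'.subtype g) := by
  unfold semigroupEmb
  rw [AlgHom.comp_apply, AddMonoidAlgebra.mapDomainAlgHom_apply]
  rfl

lemma semigroupEmb_injective (H' : AddSubmonoid ℕ) :
    Function.Injective (semigroupEmb k H') := by
  intro g₁ g₂ h
  rw [semigroupEmb_apply, semigroupEmb_apply] at h
  have h2 := (toFinsuppIsoAlg k).symm.injective h
  exact AddMonoidAlgebra.mapDomain_injective (f := H'.subtype) Subtype.val_injective h2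

lemma semigroupEmb_single (H' : AddSubmonoid ℕ) (h : H') (c : k) :
    semigroupEmb k H' (AddMonoidAlgebra.single h c) = monomial (h : ℕ) c := by
  rw [semigroupEmb_apply, AddMonoidAlgebra.mapDomain_single]
  simp [toFinsuppIsoAlg]

/-- a polynomial supported in `H'` lies in the range of the embedding -/
lemma mem_range_semigroupEmb (H' : AddSubmonoid ℕ) (q : k[X])
    (hq : ∀ n, q.coeff n ≠ 0 → n ∈ H') : q ∈ (semigroupEmb k H').range := by
  refine ⟨AddMonoidAlgebra.ofCoeff (Finsupp.comapDomain Subtype.val q.toFinsupp.coeff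
    Subtype.val_injective.injOn), ?_⟩
  change semigroupEmb k H' _ = q
  rw [semigroupEmb_apply]
  have h1 : AddMonoidAlgebra.mapDomain (H'.subtype) (AddMonoidAlgebra.ofCoeff
      (Finsupp.comapDomain Subtype.val q.toFinsupp.coeff Subtype.val_injective.injOn)) =
      q.toFinsupp := by
    apply AddMonoidAlgebra.coeff_injective
    rw [AddMonoidAlgebra.coeff_mapDomain]
    apply Finsupp.mapDomain_comapDomain _ Subtype.val_injective
    intro n hn
    rw [Finset.mem_coe, Finsupp.mem_support_iff, toFinsupp_apply] at hn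
    exact ⟨⟨n, hq n hn⟩, rfl⟩
  rw [h1]
  rfl

section main

variable [IsAlgClosed k] (hK : IsFunctionField k K) (P : Place k K) {π : K}

lemma range_leadForm (hπ : P.1 π = exp (-1 : ℤ)) :
    (leadForm hK P hπ).range =
      (semigroupEmb k (AddSubmonoid.closure (poleOrders P))).range := by
  apply le_antisymm
  · rintro _ ⟨p, rfl⟩
    apply mem_range_semigroupEmb
    intro n hn
    exact AddSubmonoid.subset_closure (mem_poleOrders_of_coeff_ne_zero hK P hπ p n hn)
  · rintro _ ⟨g, rfl⟩
    change semigroupEmb k _ g ∈ _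
    induction g using AddMonoidAlgebra.induction_on with
    | of m =>
      rw [AddMonoidAlgebra.of_apply, semigroupEmb_single, ← X_pow_eq_monomial]
      exact X_pow_mem_range_of_mem_closure hK P hπ m.2
    | add x y hx hy => rw [map_add]; exact add_mem hx hy
    | smul r x hx => rw [map_smul]; exact Subalgebra.smul_mem _ hx r

include hK in
/-- `R_P / t R_P ≅ k[H_P]`, and `t` is prime -/
theorem sectRing_quotient (hg : 1 ≤ genus k K)
    (t : sectRing (Finsupp.single P 1 : Divisor k K)) (a : K) (ha : a ≠ 0)
    (ht : (t : K[X]) = C a * X) :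
    Prime t ∧ Nonempty ((sectRing (Finsupp.single P 1 : Divisor k K) ⧸ Ideal.span {t}) ≃ₐ[k]
      AddMonoidAlgebra k ↥(AddSubmonoid.closure (poleOrders P))) := by
  obtain ⟨π, hπ⟩ := exists_uniformizer P
  -- `a` is a constant
  have haL : a ∈ L (Finsupp.single P 1 : Divisor k K) := by
    have h1 := t.2 1
    rw [ht, coeff_C_mul, coeff_X_one, mul_one] at h1
    simpa using h1
  obtain ⟨c, rfl⟩ := mem_range_of_mem_L_single_one hK hg P haL
  have hc : c ≠ 0 := by
    rintro rfl
    exact ha (map_zero _)
  have hker := ker_leadForm hK P hπ t hc ht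
  have ht0 : t ≠ 0 := by
    intro h0
    have h1 : (t : K[X]).coeff 1 = 0 := by rw [h0]; rfl
    rw [ht, coeff_C_mul, coeff_X_one, mul_one] at h1
    exact ha h1
  refine ⟨?_, ?_⟩
  · rw [← Ideal.span_singleton_prime ht0, ← hker]
    exact RingHom.ker_isPrime _
  · refine ⟨?_⟩
    refine (Ideal.quotientEquivAlgOfEq k hker.symm).trans ?_
    refine (Ideal.quotientKerEquivRange (leadForm hK P hπ)).trans ?_
    refine (Subalgebra.equivOfEq _ _ (range_leadForm hK P hπ)).trans ?_
    exact (AlgEquiv.ofInjective _ (semigroupEmb_injective _)).symm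

end main

end Groth.Agent.FF
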