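import Groth.Agent.FunFld.CharPFF3
import Groth.Agent.FunFld.Perfect
import Mathlib.FieldTheory.PrimitiveElement
import Mathlib.GroupTheory.CosetCover

/-!
# Separating variables and generators inside a generating subspace
-/

set_option autoImplicit false

open FunFld IntermediateField KaehlerDifferential

namespace Groth.Agent.FF

universe u v
variable {k : Type u} {K : Type v} [Field k] [Field K] [Algebra k K]

/-- a `k`-subspace generating a geometric function field contains a separating variable -/
theorem exists_mem_isSeparable (hK : IsFunctionField k K) (hg : IsGeometric k K)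
    (W : Submodule k K) (hW : adjoin k (W : Set K) = ⊤) :
    ∃ x ∈ W, Algebra.IsSeparable (adjoin k ({x} : Set K)) K := by
  classical
  rcases CharP.exists' k with h0 | ⟨p, hp, hpk⟩
  · have hex : ∃ x ∈ W, x ∉ Set.range (algebraMap k K) := by
      by_contra hcon
      have hcon' : ∀ w ∈ W, w ∈ Set.range (algebraMap k K) := by
        intro w hw
        by_contra hw'
        exact hcon ⟨w, hw, hw'⟩
      have hle : adjoin k (W : Set K) ≤ ⊥ := by
        rw [adjoin_le_iff]
        intro w hw
        obtain ⟨c, rfl⟩ := hcon' w hw
        exact IntermediateField.algebraMap_mem ⊥ c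
      rw [hW] at hle
      obtain ⟨⟨x₀, hx₀, -⟩, -⟩ := id hK
      have hx0 : x₀ ∈ (⊥ : IntermediateField k K) := hle mem_top
      rw [mem_bot] at hx0
      exact not_mem_range_of_transcendental hx₀ hx0
    obtain ⟨x, hxW, hx⟩ := hex
    refine ⟨x, hxW, ?_⟩
    have hxt := transcendental_of_not_mem_range hK hx
    have hfin := finite_adjoin_of_transcendental hK hxt
    have : CharZero (adjoin k ({x} : Set K)) :=
      charZero_of_injective_algebraMap (algebraMap k (adjoin k ({x} : Set K))).injective
    have : Algebra.IsAlgebraic (adjoin k ({x} : Set K)) K := Algebra.IsAlgebraic.of_finite _ _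
    infer_instance
  · have hpf : Fact p.Prime := hp
    have hpK : CharP K p := charP_of_injective_algebraMap (algebraMap k K).injective p
    have hex : ∃ x ∈ W, x ∉ adjoin k (Set.range fun y : K => y ^ p) := by
      by_contra hcon
      have hcon' : ∀ w ∈ W, w ∈ adjoin k (Set.range fun y : K => y ^ p) := by
        intro w hw
        by_contra hw'
        exact hcon ⟨w, hw, hw'⟩
      have hle : adjoin k (W : Set K) ≤ adjoin k (Set.range fun y : K => y ^ p) :=
        adjoin_le_iff.mpr hcon'
      rw [hW] at hle
      have hF := finrank_kKp p hK hg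
      rw [top_le_iff.mp hle, IntermediateField.finrank_top] at hF
      exact hp.out.one_lt.ne hF
    obtain ⟨x, hxW, hx⟩ := hex
    exact ⟨x, hxW, isSeparable_of_not_mem_kKp p hK hg hx⟩

/-- for a separating variable `x`, a generating `k`-subspace contains `y` with `K = k(x, y)` -/
theorem exists_mem_adjoin_pair_eq_top [Infinite k] (hK : IsFunctionField k K) (W : Submodule k K)
    (hW : adjoin k (W : Set K) = ⊤) (x : K)
    [hsep : Algebra.IsSeparable (adjoin k ({x} : Set K)) K] :
    ∃ y ∈ W, adjoin k ({x, y} : Set K) = ⊤ := by
  classical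
  have hxt := transcendental_of_isSeparable hK (x := x)
  have hfin := finite_adjoin_of_transcendental hK hxt
  have hprim := Field.exists_primitive_element (adjoin k ({x} : Set K)) K
  have hfinite : Finite (IntermediateField (adjoin k ({x} : Set K)) K) :=
    Field.finite_intermediateField_of_exists_primitive_element _ K hprim
  have : Fintype (IntermediateField (adjoin k ({x} : Set K)) K) := Fintype.ofFinite _
  let sub : IntermediateField (adjoin k ({x} : Set K)) K → Submodule k W := fun M =>
    Submodule.comap W.subtype (Subalgebra.toSubmodule (M.restrictScalars k).toSubalgebra)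
  have hsub : ∀ M (w : W), w ∈ sub M ↔ (w : K) ∈ M := fun M w => Iff.rfl
  let s : Finset (Submodule k W) :=
    (Finset.univ.filter
      (fun M : IntermediateField (adjoin k ({x} : Set K)) K => M ≠ ⊤)).image sub
  have hs : ⊤ ∉ s := by
    intro htop
    rw [Finset.mem_image] at htop
    obtain ⟨M, hM, hMtop⟩ := htop
    rw [Finset.mem_filter] at hM
    apply hM.2
    have hWM : (W : Set K) ⊆ (M.restrictScalars k) := by
      intro w hw
      have : (⟨w, hw⟩ : W) ∈ sub M := by rw [hMtop]; trivial
      exact this
    have hle : adjoin k (W : Set K) ≤ M.restrictScalars k := adjoin_le_iff.mpr hWM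
    rw [hW] at hle
    rw [eq_top_iff]
    intro z _
    exact hle mem_top
  have hne := Subspace.biUnion_ne_univ_of_top_notMem hs
  rw [Ne, Set.eq_univ_iff_forall, not_forall] at hne
  obtain ⟨y, hy⟩ := hne
  refine ⟨y, y.2, ?_⟩
  have hytop : adjoin (adjoin k ({x} : Set K)) ({(y : K)} : Set K) = ⊤ := by
    by_contra hne
    apply hy
    rw [Set.mem_iUnion₂]
    refine ⟨sub (adjoin (adjoin k ({x} : Set K)) ({(y : K)} : Set K)),
      Finset.mem_image.mpr ⟨_, Finset.mem_filter.mpr ⟨Finset.mem_univ _, hne⟩, rfl⟩, ?_⟩
    exact mem_adjoin_simple_self (adjoin k ({x} : Set K)) (y : K)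
  have h2 := adjoin_adjoin_left k ({x} : Set K) ({(y : K)} : Set K)
  rw [hytop] at h2
  rw [show ({x, (y : K)} : Set K) = {x} ∪ {(y : K)} from Set.insert_eq x {(y : K)}, ← h2]
  rfl

end Groth.Agent.FF
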