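import Groth.Agent.FunFld.ConstSepExt
import Mathlib.RingTheory.Unramified.Field
import Mathlib.LinearAlgebra.TensorProduct.RightExactness

/-!
# Places with separable residue field are nonsingular
-/

set_option autoImplicit false
set_option linter.unusedSectionVars false

open FunFld WithZero Polynomial TensorProduct

namespace Groth.Agent.FF.Ext

universe u v
variable {k k' : Type u} {K K' : Type v} [Field k] [Field k'] [Field K] [Field K']
  [Algebra k k'] [Algebra k K] [Algebra K K'] [Algebra k' K'] [Algebra k K']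
  [IsScalarTower k k' K'] [IsScalarTower k K K']

/-- the residue map as a `k`-algebra homomorphism -/
noncomputable def resAlg (P : Place k K) : P.O →ₐ[k] IsLocalRing.ResidueField P.O :=
  { IsLocalRing.residue P.O with commutes' := fun _ => rfl }

lemma resAlg_apply (P : Place k K) (a : P.O) : resAlg P a = res P a := rfl

lemma resAlg_surjective (P : Place k K) : Function.Surjective (resAlg P) :=
  IsLocalRing.residue_surjective

/-- reducedness of `k' ⊗ F` for `F/k` finite separable, in the form used below -/
lemma mem_map_ker_of_pow_mem {k k' F R : Type*} [Field k] [Field k'] [Field F] [CommRing R]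
    [Algebra k k'] [Algebra k F] [Algebra k R] [FiniteDimensional k F] [Algebra.IsSeparable k F]
    (g : R →ₐ[k] F) (hg : Function.Surjective g) (x : k' ⊗[k] R) (m : ℕ)
    (hx : x ^ m ∈ (RingHom.ker g).map (Algebra.TensorProduct.includeRight : R →ₐ[k] k' ⊗[k] R)) :
    x ∈ (RingHom.ker g).map (Algebra.TensorProduct.includeRight : R →ₐ[k] k' ⊗[k] R) := by
  have h0 : Algebra.FormallyUnramified k F := Algebra.FormallyUnramified.of_isSeparable k F
  have hred : IsReduced (k' ⊗[k] F) :=
    Algebra.FormallyUnramified.isReduced_of_field k' (k' ⊗[k] F)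
  rw [← Algebra.TensorProduct.lTensor_ker (A := k') g hg, RingHom.mem_ker] at hx ⊢
  rw [map_pow] at hx
  exact IsReduced.eq_zero _ ⟨m, hx⟩

theorem sepRes_integralClosure [FiniteDimensional k k']
    (h : Function.Bijective (Algebra.TensorProduct.productMap
      (IsScalarTower.toAlgHom k k' K') (IsScalarTower.toAlgHom k K K')))
    (hK : IsFunctionField k K) (P : Place k K)
    [Algebra.IsSeparable k (IsLocalRing.ResidueField P.O)]
    [Algebra P.O K'] [IsScalarTower P.O K K'] :
    integralClosure P.O K' = Algebra.adjoin P.O (Set.range (algebraMap k' K')) := by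
  classical
  have htower : IsScalarTower k P.O K' := IsScalarTower.of_algebraMap_eq (fun c => by
    rw [IsScalarTower.algebraMap_apply k K K', IsScalarTower.algebraMap_apply P.O K K']
    rfl)
  have htowerK : IsScalarTower k P.O K := IsScalarTower.of_algebraMap_eq (fun c => rfl)
  obtain ⟨t, ht⟩ := exists_uniformizer P
  have ht1 : P.1 t ≤ 1 := by
    rw [ht, ← exp_zero, exp_le_exp]; norm_num
  have ht0 : t ≠ 0 := by
    intro h0
    rw [h0, map_zero] at ht
    exact exp_ne_zero ht.symm
  set t' : P.O := ⟨t, ht1⟩ with ht'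
  have hmapt : algebraMap P.O K' t' = algebraMap K K' t := by
    rw [IsScalarTower.algebraMap_apply P.O K K']; rfl
  have hmapt0 : algebraMap K K' t ≠ 0 := by
    rw [Ne, map_eq_zero]; exact ht0
  -- the map `k' ⊗ O_P → K'`
  set ι : k' ⊗[k] P.O →ₐ[k] K' := Algebra.TensorProduct.productMap
    (IsScalarTower.toAlgHom k k' K') (IsScalarTower.toAlgHom k P.O K') with hι
  have hιfac : ι = (Algebra.TensorProduct.productMap
      (IsScalarTower.toAlgHom k k' K') (IsScalarTower.toAlgHom k K K')).comp
      (Algebra.TensorProduct.map (AlgHom.id k k') (IsScalarTower.toAlgHom k P.O K)) := by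
    apply Algebra.TensorProduct.ext'
    intro a b
    simp only [hι, Algebra.TensorProduct.productMap_apply_tmul, AlgHom.comp_apply,
      Algebra.TensorProduct.map_tmul, AlgHom.id_apply, IsScalarTower.coe_toAlgHom']
    rw [IsScalarTower.algebraMap_apply P.O K K']
  have hιinj : Function.Injective ι := by
    rw [hιfac]
    refine h.1.comp ?_
    have : Function.Injective (IsScalarTower.toAlgHom k P.O K) := Subtype.val_injective
    exact Module.Flat.lTensor_preserves_injective_linearMap
      (M := k') (IsScalarTower.toAlgHom k P.O K).toLinearMap this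
  -- the kernel of the residue map
  have hker : RingHom.ker (resAlg P) = Ideal.span {t'} := by
    ext a
    rw [RingHom.mem_ker, resAlg_apply, res_eq_zero_iff, Ideal.mem_span_singleton]
    constructor
    · intro ha
      have h1 : P.1 ((a : K) / t) ≤ 1 := by
        rw [map_div₀, ht, div_le_iff₀ (by exact exp_pos), one_mul]
        exact le_exp_neg_one_of_lt_one ha
      refine ⟨⟨(a : K) / t, h1⟩, ?_⟩
      apply Subtype.ext
      show (a : K) = t * ((a : K) / t)
      field_simp
    · rintro ⟨b, rfl⟩
      show P.1 (t * (b : K)) < 1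
      rw [map_mul, ht]
      calc exp (-1 : ℤ) * P.1 (b : K) ≤ exp (-1 : ℤ) * 1 := mul_le_mul' le_rfl b.2
        _ < 1 := by rw [mul_one, ← exp_zero, exp_lt_exp]; norm_num
  have hkerρ : ∀ (x : k' ⊗[k] P.O) (m : ℕ) (b : k' ⊗[k] P.O), x ^ m = (1 ⊗ₜ[k] t') * b →
      ∃ y, x = (1 ⊗ₜ[k] t') * y := by
    intro x m b hxb
    have hmem : x ^ m ∈ (RingHom.ker (resAlg P)).map
        (Algebra.TensorProduct.includeRight : P.O →ₐ[k] k' ⊗[k] P.O) := by
      rw [hxb]
      apply Ideal.mul_mem_right
      apply Ideal.mem_map_of_mem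
      rw [hker]
      exact Ideal.mem_span_singleton_self t'
    have h1 := @mem_map_ker_of_pow_mem k k' (IsLocalRing.ResidueField P.O) P.O _ _ _ _ _
      (Place.algRes P) _ (finite_residueField hK P) inferInstance (resAlg P)
      (resAlg_surjective P) x m hmem
    rw [hker, Ideal.map_span, Set.image_singleton, Ideal.mem_span_singleton'] at h1
    obtain ⟨y, hy⟩ := h1
    refine ⟨y, ?_⟩
    rw [← hy, mul_comm]
    rfl
  have hιt : ι (1 ⊗ₜ[k] t') = algebraMap K K' t := by
    rw [hι, Algebra.TensorProduct.productMap_apply_tmul, map_one, one_mul]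
    exact hmapt
  have hιO : ∀ c : P.O, algebraMap P.O K' c ∈ ι.range := fun c =>
    (AlgHom.mem_range ι).mpr ⟨1 ⊗ₜ[k] c, by
      rw [hι, Algebra.TensorProduct.productMap_apply_tmul, map_one, one_mul]; rfl⟩
  -- every element becomes a member of the range after multiplication by a power of `t`
  set φ := Algebra.TensorProduct.productMap
    (IsScalarTower.toAlgHom k k' K') (IsScalarTower.toAlgHom k K K') with hφ
  have hpow : ∀ z : K', ∃ n : ℕ, algebraMap K K' t ^ n * z ∈ ι.range := by
    intro z
    obtain ⟨w, rfl⟩ := h.2 z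
    induction w using TensorProduct.induction_on with
    | zero => exact ⟨0, by simp⟩
    | tmul c x =>
      obtain ⟨n, hn⟩ : ∃ n : ℕ, P.1 (t ^ n * x) ≤ 1 := by
        by_cases hx0 : x = 0
        · exact ⟨0, by simp [hx0]⟩
        · obtain ⟨m, hm⟩ : ∃ m : ℤ, P.1 x = exp m := by
            have : P.1 x ≠ 0 := by rwa [Ne, map_eq_zero]
            exact ⟨WithZero.log (P.1 x), (WithZero.exp_log this).symm⟩
          refine ⟨m.toNat, ?_⟩
          rw [map_mul, map_pow, ht, hm, ← exp_nsmul, ← exp_add, ← exp_zero, exp_le_exp]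
          have := Int.self_le_toNat m
          simp only [nsmul_eq_mul, mul_neg, mul_one]
          omega
      refine ⟨n, (AlgHom.mem_range ι).mpr ⟨c ⊗ₜ[k] ⟨t ^ n * x, hn⟩, ?_⟩⟩
      rw [hι, Algebra.TensorProduct.productMap_apply_tmul,
        Algebra.TensorProduct.productMap_apply_tmul]
      simp only [IsScalarTower.coe_toAlgHom']
      rw [IsScalarTower.algebraMap_apply P.O K K']
      show algebraMap k' K' c * algebraMap K K' (t ^ n * x) = _
      rw [map_mul, map_pow]
      ring
    | add w₁ w₂ h₁ h₂ =>
      obtain ⟨n₁, hn₁⟩ := h₁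
      obtain ⟨n₂, hn₂⟩ := h₂
      refine ⟨n₁ + n₂, ?_⟩
      rw [map_add, mul_add]
      apply ι.range.add_mem
      · have : algebraMap K K' t ^ (n₁ + n₂) * φ w₁ =
            algebraMap K K' t ^ n₂ * (algebraMap K K' t ^ n₁ * φ w₁) := by
          rw [pow_add]; ring
        rw [this]
        refine ι.range.mul_mem (ι.range.pow_mem ?_ _) hn₁
        rw [← hιt]; exact ι.mem_range_self _
      · have : algebraMap K K' t ^ (n₁ + n₂) * φ w₂ =
            algebraMap K K' t ^ n₁ * (algebraMap K K' t ^ n₂ * φ w₂) := by
          rw [pow_add]; ring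
        rw [this]
        refine ι.range.mul_mem (ι.range.pow_mem ?_ _) hn₂
        rw [← hιt]; exact ι.mem_range_self _
  -- integral elements lie in the range
  have hint_range : ∀ z : K', IsIntegral P.O z → z ∈ ι.range := by
    intro z hz
    have hex := hpow z
    have hmin : ∀ {m : ℕ}, m < Nat.find hex → ¬ algebraMap K K' t ^ m * z ∈ ι.range :=
      fun {m} hm => Nat.find_min hex hm
    have hspec := Nat.find_spec hex
    set n := Nat.find hex with hn
    rcases Nat.eq_zero_or_pos n with h0 | hpos
    · rw [h0, pow_zero, one_mul] at hspec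
      exact hspec
    exfalso
    obtain ⟨â, hâ⟩ := (AlgHom.mem_range ι).mp hspec
    obtain ⟨p, hpmonic, hpz⟩ := hz
    -- `a ^ m ∈ t * range`
    set m := p.natDegree with hm
    have hsum : (algebraMap K K' t ^ n * z) ^ m =
        algebraMap K K' t * ∑ j ∈ Finset.range m,
          (-(algebraMap P.O K' (p.coeff j)) * algebraMap K K' t ^ (n * (m - j) - 1) *
            (algebraMap K K' t ^ n * z) ^ j) := by
      have h1 : z ^ m = -∑ j ∈ Finset.range m, algebraMap P.O K' (p.coeff j) * z ^ j := by
        rw [eval₂_eq_sum_range, Finset.sum_range_succ, ← hm, hpmonic.coeff_natDegree, map_one,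
          one_mul] at hpz
        rw [eq_neg_iff_add_eq_zero, add_comm]
        exact hpz
      rw [mul_pow, h1, Finset.mul_sum, mul_neg, Finset.mul_sum, ← Finset.sum_neg_distrib]
      apply Finset.sum_congr rfl
      intro j hj
      have hjm : j < m := Finset.mem_range.mp hj
      have hexp : n * m = 1 + (n * (m - j) - 1) + n * j := by
        have h2 : 1 ≤ n * (m - j) := Nat.mul_pos hpos (by omega)
        have h3 : n * (m - j) + n * j = n * m := by
          rw [← Nat.mul_add]; congr 1; omega
        omega
      rw [← pow_mul, hexp, pow_add, pow_add, pow_one, mul_pow, ← pow_mul]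
      ring
    have hmem : ∑ j ∈ Finset.range m,
          (-(algebraMap P.O K' (p.coeff j)) * algebraMap K K' t ^ (n * (m - j) - 1) *
            (algebraMap K K' t ^ n * z) ^ j) ∈ ι.range := by
      apply ι.range.sum_mem
      intro j _
      refine ι.range.mul_mem (ι.range.mul_mem (ι.range.neg_mem (hιO _)) (ι.range.pow_mem ?_ _))
        (ι.range.pow_mem ((AlgHom.mem_range ι).mpr ⟨â, hâ⟩) _)
      rw [← hιt]; exact ι.mem_range_self _
    obtain ⟨b, hb⟩ := (AlgHom.mem_range ι).mp hmem
    have heq : â ^ m = (1 ⊗ₜ[k] t') * b := by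
      apply hιinj
      rw [map_pow, map_mul, hâ, hιt, hb]
      exact hsum
    obtain ⟨y, hy⟩ := hkerρ â m b heq
    have h2 : algebraMap K K' t ^ (n - 1) * z = ι y := by
      have h3 : algebraMap K K' t * (algebraMap K K' t ^ (n - 1) * z) =
          algebraMap K K' t * ι y := by
        rw [← mul_assoc, ← pow_succ', Nat.sub_add_cancel hpos, ← hâ, hy, map_mul, hιt]
      exact mul_left_cancel₀ hmapt0 h3
    exact hmin (Nat.sub_lt hpos one_pos) ((AlgHom.mem_range ι).mpr ⟨y, h2.symm⟩)
  have hrange_le : ∀ w : k' ⊗[k] P.O,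
      ι w ∈ Algebra.adjoin P.O (Set.range (algebraMap k' K')) := by
    intro w
    induction w using TensorProduct.induction_on with
    | zero => rw [map_zero]; exact Subalgebra.zero_mem _
    | tmul c a =>
      rw [hι, Algebra.TensorProduct.productMap_apply_tmul]
      apply Subalgebra.mul_mem
      · exact Algebra.subset_adjoin ⟨c, rfl⟩
      · exact Subalgebra.algebraMap_mem _ a
    | add w₁ w₂ h₁ h₂ =>
      rw [map_add]
      exact Subalgebra.add_mem _ h₁ h₂
  apply le_antisymm
  · intro z hz
    obtain ⟨w, rfl⟩ := (AlgHom.mem_range ι).mp (hint_range z hz)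
    exact hrange_le w
  · apply Algebra.adjoin_le
    rintro _ ⟨a, rfl⟩
    have h1 : IsIntegral k (algebraMap k' K' a) :=
      (IsIntegral.of_finite k a).map (IsScalarTower.toAlgHom k k' K')
    exact h1.tower_top

end Groth.Agent.FF.Ext
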