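import Groth.Agent.FunFld.SepNonsing

/-!
# Places of a simple transcendental extension `k(x)`

For a place `p` of `E = k(x)` at which `x` is integral: the minimal polynomial `π` of the residue
of `x` gives a local parameter `π(x)`, and the residue field is generated by the residue of `x`.
-/

set_option autoImplicit false
set_option linter.unusedSectionVars false
set_option linter.style.haveILetI false

open FunFld WithZero Polynomial IntermediateField

namespace Groth.Agent.FF.Simple

open Groth.Agent.FF Groth.Agent.FF.Ext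

universe u v
variable {k : Type u} {E : Type v} [Field k] [Field E] [Algebra k E]

lemma coe_aeval (p : Place k E) (xO : p.O) (q : k[X]) :
    ((aeval xO q : p.O) : E) = aeval (xO : E) q := by
  haveI : IsScalarTower k p.O E := IsScalarTower.of_algebraMap_eq (fun c => rfl)
  exact (Polynomial.aeval_algebraMap_apply E xO q).symm

lemma res_aeval (p : Place k E) (xO : p.O) (q : k[X]) :
    res p (aeval xO q) = aeval (res p xO) q := by
  have := Polynomial.aeval_algHom_apply (resAlg p) xO q
  rw [resAlg_apply, resAlg_apply] at this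
  exact this.symm

/-- polynomials prime to `π` are units at `p` -/
lemma val_aeval_eq_one (p : Place k E) (xO : p.O) {q : k[X]}
    (hq : ¬ minpoly k (res p xO) ∣ q) : p.1 (aeval (xO : E) q) = 1 := by
  have h1 : res p (aeval xO q) ≠ 0 := by
    rw [res_aeval]
    intro h0
    exact hq (minpoly.dvd k _ h0)
  rw [Ne, res_eq_zero_iff, coe_aeval] at h1
  have h2 : p.1 (aeval (xO : E) q) ≤ 1 := by
    rw [← coe_aeval]; exact (aeval xO q).2
  exact le_antisymm h2 (not_lt.mp h1)

/-- `π(x)` vanishes at `p` -/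
lemma val_aeval_minpoly_lt_one (p : Place k E) (xO : p.O) :
    p.1 (aeval (xO : E) (minpoly k (res p xO))) < 1 := by
  rw [← coe_aeval, ← res_eq_zero_iff, res_aeval, minpoly.aeval]

/-- the order of a polynomial in `x` is a multiple of the order of `π(x)` -/
lemma ord_aeval (p : Place k E) (xO : p.O) (hx : Transcendental k (xO : E))
    (hint : IsIntegral k (res p xO)) {q : k[X]} (hq : q ≠ 0) :
    ∃ m : ℕ, p.ord (aeval (xO : E) q) = m * p.ord (aeval (xO : E) (minpoly k (res p xO))) := by
  set π := minpoly k (res p xO) with hπ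
  have hirr : Irreducible π := minpoly.irreducible hint
  have hne : ∀ {r : k[X]}, r ≠ 0 → aeval (xO : E) r ≠ 0 := by
    intro r hr h0
    exact hx ⟨r, hr, h0⟩
  obtain ⟨m, q', hq', rfl⟩ := WfDvdMonoid.max_power_factor hq hirr
  have hq'0 : q' ≠ 0 := by
    rintro rfl
    exact hq' (dvd_zero _)
  refine ⟨m, ?_⟩
  rw [map_mul, map_pow, ord_mul p (pow_ne_zero _ (hne hirr.ne_zero)) (hne hq'0), ord_pow,
    (val_eq_one_iff p (hne hq'0)).mp (val_aeval_eq_one p xO hq'), add_zero]

/-- `π(x)` is a local parameter at `p` -/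
theorem ord_aeval_minpoly (p : Place k E) (xO : p.O) (hx : Transcendental k (xO : E))
    (hint : IsIntegral k (res p xO)) (htop : k⟮(xO : E)⟯ = ⊤) :
    p.ord (aeval (xO : E) (minpoly k (res p xO))) = 1 := by
  set π := minpoly k (res p xO) with hπ
  have hne : ∀ {r : k[X]}, r ≠ 0 → aeval (xO : E) r ≠ 0 := by
    intro r hr h0
    exact hx ⟨r, hr, h0⟩
  have hπ0 : π ≠ 0 := minpoly.ne_zero hint
  obtain ⟨t, ht0, ht⟩ := exists_ord_eq p 1
  have htmem : t ∈ k⟮(xO : E)⟯ := by rw [htop]; trivial
  obtain ⟨r, s, hrs⟩ := (IntermediateField.mem_adjoin_simple_iff k t).mp htmem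
  have hs0 : aeval (xO : E) s ≠ 0 := by
    intro h0
    rw [h0, div_zero] at hrs
    exact ht0 hrs
  have hr0 : aeval (xO : E) r ≠ 0 := by
    intro h0
    rw [h0, zero_div] at hrs
    exact ht0 hrs
  have hs : s ≠ 0 := by rintro rfl; simp at hs0
  have hr : r ≠ 0 := by rintro rfl; simp at hr0
  obtain ⟨ma, hma⟩ := ord_aeval p xO hx hint hr
  obtain ⟨mb, hmb⟩ := ord_aeval p xO hx hint hs
  rw [hrs, ord_div p hr0 hs0, hma, hmb] at ht
  have hpos : 0 < p.ord (aeval (xO : E) π) :=
    (val_lt_one_iff p (hne hπ0)).mp (val_aeval_minpoly_lt_one p xO)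
  exact Int.eq_one_of_dvd_one hpos.le ⟨(ma : ℤ) - mb, by linarith⟩

/-- the residue field of `p` is generated by the residue of `x` -/
theorem res_mem_adjoin (p : Place k E) (xO : p.O) (hx : Transcendental k (xO : E))
    (hint : IsIntegral k (res p xO)) (htop : k⟮(xO : E)⟯ = ⊤) (u : p.O) :
    res p u ∈ k⟮res p xO⟯ := by
  set π := minpoly k (res p xO) with hπ
  have hirr : Irreducible π := minpoly.irreducible hint
  have hne : ∀ {r : k[X]}, r ≠ 0 → aeval (xO : E) r ≠ 0 := by
    intro r hr h0
    exact hx ⟨r, hr, h0⟩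
  have hπ0 : π ≠ 0 := minpoly.ne_zero hint
  have hord1 := ord_aeval_minpoly p xO hx hint htop
  have haeval_mem : ∀ q : k[X], aeval (res p xO) q ∈ k⟮res p xO⟯ := by
    intro q
    have h1 : aeval (res p xO) q ∈ Algebra.adjoin k ({res p xO} : Set _) := by
      rw [Algebra.adjoin_singleton_eq_range_aeval]
      exact ⟨q, rfl⟩
    exact IntermediateField.algebra_adjoin_le_adjoin k _ h1
  by_cases hu0 : u = 0
  · rw [hu0, map_zero]
    exact zero_mem _
  have hu0' : (u : E) ≠ 0 := fun h => hu0 (Subtype.ext h)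
  have humem : (u : E) ∈ k⟮(xO : E)⟯ := by rw [htop]; trivial
  obtain ⟨r, s, hrs⟩ := (IntermediateField.mem_adjoin_simple_iff k (u : E)).mp humem
  have hs0 : aeval (xO : E) s ≠ 0 := by
    intro h0
    rw [h0, div_zero] at hrs
    exact hu0' hrs
  have hr0 : aeval (xO : E) r ≠ 0 := by
    intro h0
    rw [h0, zero_div] at hrs
    exact hu0' hrs
  have hs : s ≠ 0 := by rintro rfl; simp at hs0
  have hr : r ≠ 0 := by rintro rfl; simp at hr0
  obtain ⟨m, r', hr', rfl⟩ := WfDvdMonoid.max_power_factor hr hirr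
  obtain ⟨n, s', hs', rfl⟩ := WfDvdMonoid.max_power_factor hs hirr
  have hr'0 : r' ≠ 0 := by rintro rfl; exact hr' (dvd_zero _)
  have hs'0 : s' ≠ 0 := by rintro rfl; exact hs' (dvd_zero _)
  -- compare the orders
  have hordu : p.ord (u : E) = (m : ℤ) - n := by
    rw [hrs, ord_div p hr0 hs0, map_mul, map_mul, map_pow, map_pow,
      ord_mul p (pow_ne_zero _ (hne hπ0)) (hne hr'0),
      ord_mul p (pow_ne_zero _ (hne hπ0)) (hne hs'0), ord_pow, ord_pow, hord1,
      (val_eq_one_iff p (hne hr'0)).mp (val_aeval_eq_one p xO hr'),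
      (val_eq_one_iff p (hne hs'0)).mp (val_aeval_eq_one p xO hs')]
    ring
  have hnm : n ≤ m := by
    have h1 : 0 ≤ p.ord (u : E) := (val_le_one_iff p hu0').mp u.2
    rw [hordu] at h1
    omega
  -- the cleared equation
  have heq : (u : E) * aeval (xO : E) s' = aeval (xO : E) (π ^ (m - n) * r') := by
    have h1 : (u : E) * aeval (xO : E) (π ^ n * s') = aeval (xO : E) (π ^ m * r') := by
      rw [hrs, div_mul_cancel₀ _ hs0]
    have h2 : π ^ m = π ^ n * π ^ (m - n) := by
      rw [← pow_add, Nat.add_sub_cancel' hnm]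
    rw [h2, map_mul, map_mul, map_mul] at h1
    have h3 : aeval (xO : E) (π ^ n) ≠ 0 := hne (pow_ne_zero _ hπ0)
    apply mul_left_cancel₀ h3
    rw [map_mul]
    calc aeval (xO : E) (π ^ n) * ((u : E) * aeval (xO : E) s')
        = (u : E) * (aeval (xO : E) (π ^ n) * aeval (xO : E) s') := by ring
      _ = aeval (xO : E) (π ^ n) * aeval (xO : E) (π ^ (m - n)) * aeval (xO : E) r' := h1
      _ = _ := by ring
  have heqO : u * aeval xO s' = aeval xO (π ^ (m - n) * r') := by
    apply Subtype.ext
    show (u : E) * ((aeval xO s' : p.O) : E) = ((aeval xO (π ^ (m - n) * r') : p.O) : E)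
    rw [coe_aeval, coe_aeval]
    exact heq
  have hres := congrArg (res p) heqO
  rw [map_mul, res_aeval, res_aeval] at hres
  have hs'res : aeval (res p xO) s' ≠ 0 := by
    intro h0
    exact hs' (minpoly.dvd k _ h0)
  have : res p u = aeval (res p xO) (π ^ (m - n) * r') / aeval (res p xO) s' := by
    rw [eq_div_iff hs'res]
    exact hres
  rw [this]
  exact div_mem (haeval_mem _) (haeval_mem _)

end Groth.Agent.FF.Simple
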