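import Groth.Agent.FunFld.NonsingGen
import Groth.Agent.FunFld.SimplePlaces
import Groth.Agent.FunFld.SepPlaces
import Groth.Agent.FunFld.Unramified
import Mathlib.Algebra.Polynomial.Lifts

/-!
# A geometric function field has only finitely many singular places
-/

set_option autoImplicit false
set_option linter.unusedSectionVars false
set_option linter.style.haveILetI false

open FunFld WithZero Polynomial IntermediateField TensorProduct

namespace Groth.Agent.FF.SingFinite

open Groth.Agent.FF Groth.Agent.FF.Ext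

universe u v
variable {k : Type u} {K : Type v} [Field k] [Field K] [Algebra k K]

/-- the "good" places with respect to `x`: `x` is integral, `π(x)` is a local parameter and the
residue field is separable over `k(x̄)` -/
def Good (x : K) (P : Place k K) : Prop :=
  ∃ hxP : P.1 x ≤ 1,
    P.1 ((aeval (⟨x, hxP⟩ : P.O) (minpoly k (res P ⟨x, hxP⟩)) : P.O) : K) = exp (-1 : ℤ) ∧
    Algebra.IsSeparable (IntermediateField.adjoin k {res P (⟨x, hxP⟩ : P.O)})
      (IsLocalRing.ResidueField P.O)

/-- a place unramified over `k(x)` with separable residue extension is good -/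
theorem good_of_unramified (hK : IsFunctionField k K) {x : K} (hx : Transcendental k x)
    (P : Place k K) (p : Place k k⟮x⟯) (he : IsOverWith P p 1) (hxP : P.1 x ≤ 1)
    (hsep : letI := (resMap he).toAlgebra
      Algebra.IsSeparable (IsLocalRing.ResidueField p.O) (IsLocalRing.ResidueField P.O)) :
    Good x P := by
  classical
  letI algres := (resMap he).toAlgebra
  haveI tower : IsScalarTower k (IsLocalRing.ResidueField p.O) (IsLocalRing.ResidueField P.O) :=
    isScalarTower_res he
  have hE : IsFunctionField k k⟮x⟯ :=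
    isFunctionField_intermediateField hK k⟮x⟯ ⟨x, mem_adjoin_simple_self k x, hx⟩
  set xE : k⟮x⟯ := ⟨x, mem_adjoin_simple_self k x⟩ with hxE
  have hxEtr : Transcendental k xE := by
    rw [← transcendental_algebraMap_iff (algebraMap k⟮x⟯ K).injective]
    exact hx
  have htop : k⟮xE⟯ = ⊤ := by
    apply IntermediateField.lift_injective
    rw [lift_adjoin_simple, lift_top]
  have hxp : p.1 xE ≤ 1 := (le_one_iff he xE).mp hxP
  set xO : p.O := ⟨xE, hxp⟩ with hxO
  set XO : P.O := ⟨x, hxP⟩ with hXO
  have hOMap : OMap he xO = XO := Subtype.ext rfl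
  have hfinp : FiniteDimensional k (IsLocalRing.ResidueField p.O) := finite_residueField hE p
  have hint : IsIntegral k (res p xO) := @IsIntegral.of_finite k _ _ _ _ hfinp (res p xO)
  have hres : res P XO = algebraMap (IsLocalRing.ResidueField p.O)
      (IsLocalRing.ResidueField P.O) (res p xO) := by
    show res P XO = resMap he (res p xO)
    rw [resMap_res, hOMap]
  have hminpoly : minpoly k (res P XO) = minpoly k (res p xO) := by
    rw [hres]
    exact minpoly.algebraMap_eq (algebraMap (IsLocalRing.ResidueField p.O)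
      (IsLocalRing.ResidueField P.O)).injective _
  refine ⟨hxP, ?_, ?_⟩
  · -- the local parameter
    rw [Simple.coe_aeval, hminpoly]
    have h1 : aeval ((XO : P.O) : K) (minpoly k (res p xO)) =
        algebraMap k⟮x⟯ K (aeval ((xO : p.O) : k⟮x⟯) (minpoly k (res p xO))) := by
      rw [← Polynomial.aeval_algebraMap_apply]
      rfl
    rw [h1, he, pow_one]
    have hord := Simple.ord_aeval_minpoly p xO hxEtr hint htop
    have hne : aeval ((xO : p.O) : k⟮x⟯) (minpoly k (res p xO)) ≠ 0 := by
      intro h0
      exact hxEtr ⟨_, minpoly.ne_zero hint, h0⟩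
    rw [val_eq_exp_neg_ord p hne, hord]
  · -- separability
    set f : IsLocalRing.ResidueField p.O →ₐ[k] IsLocalRing.ResidueField P.O :=
      IsScalarTower.toAlgHom k _ _ with hf
    have hmemF : ∀ c : IsLocalRing.ResidueField p.O,
        f c ∈ IntermediateField.adjoin k {res P XO} := by
      intro c
      obtain ⟨u, rfl⟩ := IsLocalRing.residue_surjective c
      have h1 : res p u ∈ k⟮res p xO⟯ := Simple.res_mem_adjoin p xO hxEtr hint htop u
      have h2 : f (res p u) ∈ (k⟮res p xO⟯).map f := ⟨res p u, h1, rfl⟩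
      rw [IntermediateField.adjoin_map, Set.image_singleton] at h2
      have h3 : f (res p xO) = res P XO := hres.symm
      rw [h3] at h2
      exact h2
    set ψ : IsLocalRing.ResidueField p.O →+* IntermediateField.adjoin k {res P XO} :=
      (f : IsLocalRing.ResidueField p.O →+* IsLocalRing.ResidueField P.O).codRestrict _ hmemF
      with hψ
    have hψcomp : (algebraMap (IntermediateField.adjoin k {res P XO})
        (IsLocalRing.ResidueField P.O)).comp ψ =
        algebraMap (IsLocalRing.ResidueField p.O) (IsLocalRing.ResidueField P.O) := by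
      ext c
      rfl
    refine ⟨fun e => ?_⟩
    have hsepe : IsSeparable (IsLocalRing.ResidueField p.O) e :=
      Algebra.IsSeparable.isSeparable _ e
    set g := minpoly (IsLocalRing.ResidueField p.O) e with hg
    have hgsep : (g.map ψ).Separable := Polynomial.Separable.map hsepe
    have hroot : aeval e (g.map ψ) = 0 := by
      rw [aeval_def, eval₂_map, hψcomp, ← aeval_def, minpoly.aeval]
    exact hgsep.of_dvd (minpoly.dvd _ _ hroot)


/-- all but finitely many places are good with respect to a separating variable -/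
theorem finite_not_good (hK : IsFunctionField k K) (hg : IsGeometric k K) :
    ∃ x : K, {P : Place k K | ¬ Good x P}.Finite := by
  classical
  obtain ⟨x, hx, hsep⟩ := exists_separating hK hg
  refine ⟨x, ?_⟩
  have hE : IsFunctionField k k⟮x⟯ :=
    isFunctionField_intermediateField hK k⟮x⟯ ⟨x, mem_adjoin_simple_self k x, hx⟩
  haveI : FiniteDimensional k⟮x⟯ K := finite_adjoin_of_transcendental hK hx
  let B : PowerBasis k⟮x⟯ K := Field.powerBasisOfFiniteOfSeparable k⟮x⟯ K
  set m := minpoly k⟮x⟯ B.gen with hm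
  set d := Algebra.discr k⟮x⟯ B.basis with hd
  have hd0 : d ≠ 0 := Algebra.discr_not_zero_of_basis k⟮x⟯ B.basis
  set BadE : Set (Place k k⟮x⟯) :=
    ((⋃ i ∈ Finset.range (m.natDegree + 1), {p : Place k k⟮x⟯ | ¬ p.1 (m.coeff i) ≤ 1}) ∪
      {p : Place k k⟮x⟯ | ¬ p.1 d ≤ 1}) ∪ {p : Place k k⟮x⟯ | ¬ p.1 d⁻¹ ≤ 1} with hBadE
  have hBadfin : BadE.Finite := by
    refine Set.Finite.union (Set.Finite.union ?_ (finite_not_val_le_one hE d))
      (finite_not_val_le_one hE d⁻¹)
    exact Set.Finite.biUnion (Finset.finite_toSet _) fun i _ => finite_not_val_le_one hE _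
  have hgood : ∀ p : Place k k⟮x⟯, p ∉ BadE → (∀ i, p.1 (m.coeff i) ≤ 1) ∧ p.1 d = 1 := by
    intro p hp
    rw [hBadE] at hp
    simp only [Set.mem_union, Set.mem_iUnion, Set.mem_setOf_eq, not_or, not_exists,
      not_not] at hp
    obtain ⟨⟨h1, h2⟩, h3⟩ := hp
    refine ⟨fun i => ?_, ?_⟩
    · by_cases hi : i < m.natDegree + 1
      · exact h1 i (Finset.mem_range.mpr hi)
      · rw [coeff_eq_zero_of_natDegree_lt (by omega), map_zero]
        exact zero_le
    · apply le_antisymm h2
      rw [map_inv₀] at h3
      by_contra hlt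
      push Not at hlt
      have hpos : 0 < p.1 d := by
        rw [zero_lt_iff]; exact (Valuation.ne_zero_iff p.1).mpr hd0
      exact absurd h3 (not_le.mpr (one_lt_inv_iff₀.mpr ⟨hpos, hlt⟩))
  -- the bad places of `K`
  have hB1 : {P : Place k K | ¬ P.1 x ≤ 1}.Finite := finite_not_val_le_one hK x
  have hB2 : {P : Place k K | ∀ (p : Place k k⟮x⟯) (e : ℕ), IsOverWith P p e → e ≠ 1}.Finite :=
    finite_ramified (K := k⟮x⟯) (K' := K) hE
  have hB3 : (⋃ p ∈ BadE, {P : Place k K | IsOver P p}).Finite :=
    hBadfin.biUnion (fun p _ => finite_isOver p)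
  refine ((hB1.union hB2).union hB3).subset ?_
  intro P hP
  by_contra hnot
  simp only [Set.mem_union, Set.mem_setOf_eq, Set.mem_iUnion, exists_prop, not_or, not_exists,
    not_and, not_not, not_forall] at hnot
  obtain ⟨⟨hxP, p, e, he, he1⟩, h3⟩ := hnot
  subst he1
  have hpBad : p ∉ BadE := fun hp => h3 p hp ⟨1, he⟩
  obtain ⟨hcoeff, hdunit⟩ := hgood p hpBad
  apply hP
  letI aO : Algebra p.O K := ((algebraMap k⟮x⟯ K).comp p.O.subtype).toAlgebra
  haveI t1 : IsScalarTower p.O k⟮x⟯ K := IsScalarTower.of_algebraMap_eq (fun _ => rfl)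
  have hintK : IsIntegral k⟮x⟯ B.gen := IsIntegral.of_finite k⟮x⟯ B.gen
  obtain ⟨g₀, hg₀⟩ := exists_lift_poly p (minpoly k⟮x⟯ B.gen) hcoeff
  have hmonic : g₀.Monic := by
    apply Polynomial.monic_of_injective (f := algebraMap p.O k⟮x⟯)
      (FaithfulSMul.algebraMap_injective p.O k⟮x⟯)
    rw [hg₀]
    exact minpoly.monic hintK
  have hint : IsIntegral p.O B.gen := by
    refine ⟨g₀, hmonic, ?_⟩
    have h1 : eval₂ (algebraMap p.O K) B.gen g₀ =
        aeval B.gen (g₀.map (algebraMap p.O k⟮x⟯)) := by
      rw [aeval_def, eval₂_map, IsScalarTower.algebraMap_eq p.O k⟮x⟯ K]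
    rw [h1, hg₀, minpoly.aeval]
  have h2 := isSeparable_residue_of_discr_unit hE p B hint hdunit he
  exact good_of_unramified hK hx P p he hxP h2


section convert

universe v' w'
variable {L : Type v'} {L' : Type w'} [CommRing L] [CommRing L']

/-- integrality over a subring and over its image -/
lemma isIntegral_map_iff (φ : L →+* L') (O : Subring L) [Algebra O L']
    (halg : algebraMap O L' = φ.comp O.subtype) (z : L') :
    IsIntegral (O.map φ) z ↔ IsIntegral O z := by
  set ψ : O →+* O.map φ := (φ.comp O.subtype).codRestrict (O.map φ)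
    (fun a => ⟨a, a.2, rfl⟩) with hψ
  have hψsurj : Function.Surjective ψ := by
    rintro ⟨_, a, ha, rfl⟩
    exact ⟨⟨a, ha⟩, rfl⟩
  have hcomp : (algebraMap (O.map φ) L').comp ψ = algebraMap O L' := by
    rw [halg]
    rfl
  constructor
  · rintro ⟨p, hp, hpz⟩
    have hlift : p ∈ lifts ψ := by
      rw [lifts_iff_coeff_lifts]
      intro n
      exact hψsurj _
    obtain ⟨q, hq, -, hqm⟩ := lifts_and_natDegree_eq_and_monic hlift hp
    refine ⟨q, hqm, ?_⟩
    rw [← hcomp, ← eval₂_map, hq]
    exact hpz
  · rintro ⟨q, hq, hqz⟩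
    refine ⟨q.map ψ, hq.map ψ, ?_⟩
    rw [eval₂_map, hcomp]
    exact hqz

lemma adjoin_map_toSubring (φ : L →+* L') (O : Subring L) [Algebra O L']
    (halg : algebraMap O L' = φ.comp O.subtype) (s : Set L') :
    (Algebra.adjoin (O.map φ) s).toSubring = (Algebra.adjoin O s).toSubring := by
  rw [Algebra.adjoin_eq_ring_closure, Algebra.adjoin_eq_ring_closure]
  congr 2
  ext z
  constructor
  · rintro ⟨⟨_, a, ha, rfl⟩, rfl⟩
    exact ⟨⟨a, ha⟩, by rw [halg]; rfl⟩
  · rintro ⟨a, rfl⟩
    exact ⟨⟨φ a, a, a.2, rfl⟩, by rw [halg]; rfl⟩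

theorem integralClosure_map_eq (φ : L →+* L') (O : Subring L) [Algebra O L']
    (halg : algebraMap O L' = φ.comp O.subtype) (s : Set L')
    (h : integralClosure O L' = Algebra.adjoin O s) :
    integralClosure (O.map φ) L' = Algebra.adjoin (O.map φ) s := by
  ext z
  rw [mem_integralClosure_iff, isIntegral_map_iff φ O halg z, ← mem_integralClosure_iff, h]
  have := adjoin_map_toSubring φ O halg s
  constructor
  · intro hz
    have h1 : z ∈ (Algebra.adjoin O s).toSubring := hz
    rw [← this] at h1
    exact h1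
  · intro hz
    have h1 : z ∈ (Algebra.adjoin (O.map φ) s).toSubring := hz
    rw [this] at h1
    exact h1

end convert

section final

attribute [local instance] Algebra.TensorProduct.rightAlgebra

/-- a good place is nonsingular with respect to every finite constant extension -/
theorem nonsingular_of_good (hK : IsFunctionField k K) (hg : IsGeometric k K) {x : K}
    (P : Place k K) (hP : Good x P) (k' : Type u) [Field k'] [Algebra k k']
    [FiniteDimensional k k'] :
    integralClosure (P.O.toSubring.map
        (Algebra.TensorProduct.includeRight : K →ₐ[k] k' ⊗[k] K).toRingHom) (k' ⊗[k] K) =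
      Algebra.adjoin (P.O.toSubring.map
        (Algebra.TensorProduct.includeRight : K →ₐ[k] k' ⊗[k] K).toRingHom)
        (Set.range (Algebra.TensorProduct.includeLeftRingHom : k' →+* k' ⊗[k] K)) := by
  obtain ⟨hxP, hunif, hsep⟩ := hP
  have hF : IsField (k' ⊗[k] K) := hg k' inferInstance
  letI : Field (k' ⊗[k] K) := hF.toField
  have h : Function.Bijective (Algebra.TensorProduct.productMap
      (IsScalarTower.toAlgHom k k' (k' ⊗[k] K)) (IsScalarTower.toAlgHom k K (k' ⊗[k] K))) := by
    have hid : ∀ t : k' ⊗[k] K, Algebra.TensorProduct.productMap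
        (IsScalarTower.toAlgHom k k' (k' ⊗[k] K)) (IsScalarTower.toAlgHom k K (k' ⊗[k] K)) t = t := by
      intro t
      induction t using TensorProduct.induction_on with
      | zero => rw [map_zero]
      | tmul a c =>
        rw [Algebra.TensorProduct.productMap_apply_tmul]
        show (a ⊗ₜ[k] (1 : K)) * ((1 : k') ⊗ₜ[k] c) = a ⊗ₜ[k] c
        rw [Algebra.TensorProduct.tmul_mul_tmul, mul_one, one_mul]
      | add s t hs ht => rw [map_add, hs, ht]
    exact ⟨fun a b hab => by rw [← hid a, ← hid b]; exact hab, fun t => ⟨t, hid t⟩⟩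
  letI aO : Algebra P.O (k' ⊗[k] K) :=
    ((algebraMap K (k' ⊗[k] K)).comp P.O.subtype).toAlgebra
  haveI t1 : IsScalarTower P.O K (k' ⊗[k] K) := IsScalarTower.of_algebraMap_eq (fun _ => rfl)
  have h1 := NonsingGen.integralClosure_of_good (k' := k') (K' := k' ⊗[k] K) h hK P ⟨x, hxP⟩ hunif
    (hsep := hsep)
  have h2 := integralClosure_map_eq (algebraMap K (k' ⊗[k] K)) P.O.toSubring rfl
    (Set.range (algebraMap k' (k' ⊗[k] K))) h1
  exact h2

/-- **Finitely many singular places.** -/
theorem finite_singular (hK : IsFunctionField k K) (hg : IsGeometric k K) :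
    {P : Place k K | ∃ (k' : Type u) (_ : Field k') (_ : Algebra k k'), FiniteDimensional k k' ∧
      integralClosure (P.O.toSubring.map
        (Algebra.TensorProduct.includeRight : K →ₐ[k] k' ⊗[k] K).toRingHom) (k' ⊗[k] K) ≠
        Algebra.adjoin (P.O.toSubring.map
          (Algebra.TensorProduct.includeRight : K →ₐ[k] k' ⊗[k] K).toRingHom)
          (Set.range (Algebra.TensorProduct.includeLeftRingHom : k' →+* k' ⊗[k] K))}.Finite := by
  obtain ⟨x, hfin⟩ := finite_not_good hK hg
  refine hfin.subset ?_
  rintro P ⟨k', _, _, hfd, hne⟩ hgood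
  exact hne (nonsingular_of_good hK hg P hgood k')

end final

end Groth.Agent.FF.SingFinite
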