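import Groth.Agent.FunFld.NonsingGen
import Mathlib.FieldTheory.PurelyInseparable.Basic
import Mathlib.FieldTheory.PrimitiveElement
import Mathlib.FieldTheory.SeparableClosure

/-!
# Pure algebra for the ramification index above a nonsingular place in a splitting field
-/

set_option autoImplicit false
set_option linter.unusedSectionVars false
set_option linter.style.haveILetI false

open Polynomial IntermediateField TensorProduct

namespace Groth.Agent.FF.SplitAlg

universe u v w

/-- in a finite purely inseparable extension the `[E : F]`-th powers lie in `F` -/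
lemma pow_finrank_mem_range {F E : Type*} [Field F] [Field E] [Algebra F E]
    [FiniteDimensional F E] [IsPurelyInseparable F E] (y : E) :
    y ^ Module.finrank F E ∈ (algebraMap F E).range := by
  obtain ⟨q, hq⟩ := ExpChar.exists F
  obtain ⟨m, a, hmin⟩ := IsPurelyInseparable.minpoly_eq_X_pow_sub_C F q y
  have hint : IsIntegral F y := IsIntegral.of_finite F y
  have hdvd := minpoly.degree_dvd (L := E) hint
  have hdeg : (minpoly F y).natDegree = q ^ m := by
    rw [hmin, natDegree_X_pow_sub_C]
  rw [hdeg] at hdvd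
  obtain ⟨d, hd⟩ := hdvd
  have hroot : y ^ q ^ m = algebraMap F E a := by
    have := minpoly.aeval F y
    rw [hmin, map_sub, map_pow, aeval_X, aeval_C, sub_eq_zero] at this
    exact this
  rw [hd, pow_mul, hroot, ← map_pow]
  exact ⟨a ^ d, rfl⟩

/-- the cardinality of the set of `k`-embeddings `F → k'` is at most the separable degree -/
lemma card_algHom_le_finSepDegree (k F k' : Type*) [Field k] [Field F] [Field k'] [Algebra k F]
    [Algebra k k'] [FiniteDimensional k F] :
    Nat.card (F →ₐ[k] k') ≤ Field.finSepDegree k F := by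
  rw [Field.finSepDegree_eq_of_isAlgClosed k F (AlgebraicClosure k')]
  apply Nat.card_le_card_of_injective
    (fun φ : F →ₐ[k] k' => (IsScalarTower.toAlgHom k k' (AlgebraicClosure k')).comp φ)
  intro φ ψ h
  ext y
  have := AlgHom.congr_fun h y
  exact (algebraMap k' (AlgebraicClosure k')).injective this


lemma finite_algHom (k F k' : Type*) [Field k] [Field F] [Field k'] [Algebra k F]
    [Algebra k k'] [FiniteDimensional k F] : Finite (F →ₐ[k] k') :=
  (minpoly.AlgHom.fintype k F k').finite

/-- An injective map from a finite type into `F →ₐ[k] k'` bounds its cardinality by the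
separable degree. -/
lemma card_le_finSepDegree_of_injective (k F k' : Type*) [Field k] [Field F] [Field k']
    [Algebra k F] [Algebra k k'] [FiniteDimensional k F] {ι : Type*} [Fintype ι]
    (f : ι → (F →ₐ[k] k')) (hf : Function.Injective f) :
    Fintype.card ι ≤ Field.finSepDegree k F := by
  haveI := finite_algHom k F k'
  have h1 := Nat.card_le_card_of_injective f hf
  rw [Nat.card_eq_fintype_card] at h1
  exact h1.trans (card_algHom_le_finSepDegree k F k')

lemma finrank_separableClosure_pos (k F : Type*) [Field k] [Field F] [Algebra k F]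
    [FiniteDimensional k F] : 0 < Module.finrank (separableClosure k F) F :=
  Module.finrank_pos

section main

variable {k k' : Type u} {F : Type v} {R : Type w} [Field k] [Field k'] [Field F] [CommRing R]
  [Algebra k k'] [Algebra k F] [Algebra k R]

/-- the character `k' ⊗ R → k'` attached to a `k`-algebra homomorphism `R → k'` -/
noncomputable abbrev chi (τ : R →ₐ[k] k') : k' ⊗[k] R →ₐ[k'] k' :=
  Algebra.TensorProduct.productLeftAlgHom (AlgHom.id k' k') τ

lemma chi_tmul (τ : R →ₐ[k] k') (c : k') (a : R) : chi τ (c ⊗ₜ[k] a) = c * τ a := by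
  simp [chi]

/-- powers of elements of `k' ⊗ F` by the inseparable degree are polynomials in `1 ⊗ β`, for `β` a
primitive element of the separable closure -/
lemma exists_aeval_eq_pow [FiniteDimensional k F] (β : F)
    (hβ : ∀ z : separableClosure k F, ∃ h : k[X], (z : F) = aeval β h) (x : k' ⊗[k] F) :
    ∃ H : k'[X], x ^ Module.finrank (separableClosure k F) F = aeval ((1 : k') ⊗ₜ[k] β) H := by
  obtain ⟨q, hq⟩ := ExpChar.exists k
  haveI : ExpChar (separableClosure k F) q :=
    expChar_of_injective_algebraMap (algebraMap k (separableClosure k F)).injective q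
  haveI : ExpChar (k' ⊗[k] F) q :=
    expChar_of_injective_algebraMap (FaithfulSMul.algebraMap_injective k (k' ⊗[k] F)) q
  obtain ⟨r, hr⟩ := IsPurelyInseparable.finrank_eq_pow (F := separableClosure k F) F q
  induction x using TensorProduct.induction_on with
  | zero =>
    refine ⟨0, ?_⟩
    rw [map_zero, zero_pow Module.finrank_pos.ne']
  | tmul c y =>
    obtain ⟨z, hz⟩ := pow_finrank_mem_range (F := separableClosure k F) y
    obtain ⟨h, hh⟩ := hβ z
    refine ⟨C (c ^ Module.finrank (separableClosure k F) F) * h.map (algebraMap k k'), ?_⟩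
    rw [map_mul, aeval_C, NonsingGen.aeval_one_tmul_map', Algebra.TensorProduct.tmul_pow,
      Algebra.TensorProduct.algebraMap_apply, Algebra.TensorProduct.tmul_mul_tmul, mul_one, one_mul,
      ← hh, ← hz]
    rfl
  | add x y hx hy =>
    obtain ⟨Hx, hHx⟩ := hx
    obtain ⟨Hy, hHy⟩ := hy
    refine ⟨Hx + Hy, ?_⟩
    rw [hr, add_pow_expChar_pow, ← hr, hHx, hHy, map_add]


/-- **Key algebraic lemma.**  Let `g : R → F` be a surjection onto a finite field extension of `k`
with kernel `(t)` and `σ : F → k'` an embedding.  If `w ∈ k' ⊗ R` is killed by the character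
attached to `σ ∘ g`, then `w ^ [F : F_sep]` times some element `u` not killed by the character is
divisible by `1 ⊗ t`. -/
theorem exists_mul_pow_eq [FiniteDimensional k F] (g : R →ₐ[k] F) (hg : Function.Surjective g)
    (t : R) (hker : RingHom.ker g = Ideal.span {t}) (σ : F →ₐ[k] k') (w : k' ⊗[k] R)
    (hw : chi (σ.comp g) w = 0) :
    ∃ u v : k' ⊗[k] R, chi (σ.comp g) u ≠ 0 ∧
      w ^ Module.finrank (separableClosure k F) F * u = ((1 : k') ⊗ₜ[k] t) * v := by
  classical
  set n := Module.finrank (separableClosure k F) F with hn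
  have hnpos : 0 < n := Module.finrank_pos
  -- a primitive element of the separable closure
  obtain ⟨β₀, hβ₀⟩ := Field.exists_primitive_element k (separableClosure k F)
  set β : F := (β₀ : F) with hβdef
  have hβ₀int : IsIntegral k β₀ := IsIntegral.of_finite k β₀
  have hβ : ∀ z : separableClosure k F, ∃ h : k[X], (z : F) = aeval β h := by
    intro z
    have hz : z ∈ Algebra.adjoin k ({β₀} : Set (separableClosure k F)) := by
      rw [← IntermediateField.adjoin_simple_toSubalgebra_of_isAlgebraic hβ₀int.isAlgebraic, hβ₀]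
      trivial
    rw [Algebra.adjoin_singleton_eq_range_aeval] at hz
    obtain ⟨h, hh⟩ := hz
    refine ⟨h, ?_⟩
    rw [← hh]
    exact (Polynomial.aeval_algebraMap_apply F β₀ h).symm
  have hβsep : IsSeparable k β := (mem_separableClosure_iff).mp β₀.2
  set gβ := minpoly k β with hgβ
  have hgsep : (gβ.map (algebraMap k k')).Separable := Polynomial.Separable.map hβsep
  set c : k' := σ β with hc
  have hroot : (gβ.map (algebraMap k k')).IsRoot c := by
    rw [IsRoot.def, eval_map, ← aeval_def, hc, aeval_algHom_apply, minpoly.aeval, map_zero]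
  obtain ⟨g₁, hg₁⟩ := dvd_iff_isRoot.mpr hroot
  have hg₁c : g₁.eval c ≠ 0 := by
    have h1 := hgsep.eval₂_derivative_ne_zero (RingHom.id k') (x := c)
      (by rw [eval₂_id]; exact hroot)
    rw [eval₂_id, hg₁, derivative_mul, derivative_sub, derivative_X, derivative_C, sub_zero,
      one_mul, eval_add, eval_mul, eval_sub, eval_X, eval_C, sub_self, zero_mul, add_zero] at h1
    exact h1
  -- lift `β`
  obtain ⟨b, hb⟩ := hg β
  set b' : k' ⊗[k] R := (1 : k') ⊗ₜ[k] b with hb'
  set β' : k' ⊗[k] F := (1 : k') ⊗ₜ[k] β with hβ'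
  set φ : k' ⊗[k] R →ₐ[k'] k' ⊗[k] F :=
    Algebra.TensorProduct.map (AlgHom.id k' k') g with hφ
  set φ₀ : k' ⊗[k] R →ₐ[k] k' ⊗[k] F :=
    Algebra.TensorProduct.map (AlgHom.id k k') g with hφ₀
  have hφφ₀ : ∀ z, φ z = φ₀ z := fun z => rfl
  have hφb : φ b' = β' := by
    rw [hφ, hb', Algebra.TensorProduct.map_tmul, hb]
    rfl
  have hχφ : ∀ z : k' ⊗[k] R, chi σ (φ z) = chi (σ.comp g) z := by
    intro z
    induction z using TensorProduct.induction_on with
    | zero => rw [map_zero, map_zero, map_zero]
    | tmul c a =>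
      rw [hφ, Algebra.TensorProduct.map_tmul, chi_tmul, chi_tmul]
      rfl
    | add x y hx hy => rw [map_add, map_add, map_add, hx, hy]
  have hχβ : chi σ β' = c := by
    rw [hβ', chi_tmul, one_mul]
  -- the element `u`
  refine ⟨aeval b' g₁, ?_⟩
  have hχu : chi (σ.comp g) (aeval b' g₁) = g₁.eval c := by
    rw [← hχφ, ← aeval_algHom_apply, hφb, ← aeval_algHom_apply, hχβ]
    exact (coe_aeval_eq_eval c) ▸ rfl
  obtain ⟨H, hH⟩ := exists_aeval_eq_pow (k' := k') β hβ (φ w)
  have hHc : H.eval c = 0 := by
    have h1 : chi σ (φ w ^ n) = H.eval c := by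
      rw [hH, ← aeval_algHom_apply, hχβ]
      exact (coe_aeval_eq_eval c) ▸ rfl
    rw [map_pow, hχφ, hw, zero_pow hnpos.ne'] at h1
    exact h1.symm
  obtain ⟨H₁, hH₁⟩ := dvd_iff_isRoot.mpr hHc
  have hzero : φ (w ^ n * aeval b' g₁) = 0 := by
    rw [map_mul, map_pow, hH, ← aeval_algHom_apply, hφb, ← map_mul, hH₁]
    have : (X - C c) * H₁ * g₁ = H₁ * gβ.map (algebraMap k k') := by
      rw [hg₁]; ring
    rw [this, map_mul, NonsingGen.aeval_one_tmul_map', minpoly.aeval, tmul_zero, mul_zero]
  have hmem : w ^ n * aeval b' g₁ ∈ RingHom.ker φ₀ := by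
    rw [RingHom.mem_ker, ← hφφ₀]
    exact hzero
  rw [Algebra.TensorProduct.lTensor_ker (A := k') g hg, hker, Ideal.map_span,
    Set.image_singleton, Ideal.mem_span_singleton] at hmem
  obtain ⟨v, hv⟩ := hmem
  refine ⟨v, ?_, hv⟩
  rw [hχu]
  exact hg₁c

end main

end Groth.Agent.FF.SplitAlg
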