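import Groth.Agent.FunFld.SingFinite
import Groth.Agent.FunFld.RHurwitz
import Groth.Agent.FunFld.IntClosure
import Groth.Agent.FunFld.Approx
import Groth.Agent.FunFld.SplitAlgebra
import Mathlib.FieldTheory.PurelyInseparable.Basic

/-!
# Places above a nonsingular place in a splitting field
-/

set_option autoImplicit false
set_option linter.unusedSectionVars false
set_option linter.style.haveILetI false

open FunFld WithZero Polynomial IntermediateField TensorProduct

namespace Groth.Agent.FF.Split

open Groth.Agent.FF Groth.Agent.FF.Ext Groth.Agent.FF.RH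

universe u v

section convert

universe v' w'
variable {L : Type v'} {L' : Type w'} [CommRing L] [CommRing L']

/-- the converse of `SingFinite.integralClosure_map_eq` -/
theorem integralClosure_of_map_eq (φ : L →+* L') (O : Subring L) [Algebra O L']
    (halg : algebraMap O L' = φ.comp O.subtype) (s : Set L')
    (h : integralClosure (O.map φ) L' = Algebra.adjoin (O.map φ) s) :
    integralClosure O L' = Algebra.adjoin O s := by
  ext z
  rw [mem_integralClosure_iff, ← SingFinite.isIntegral_map_iff φ O halg z,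
    ← mem_integralClosure_iff, h]
  have := SingFinite.adjoin_map_toSubring φ O halg s
  constructor
  · intro hz
    have h1 : z ∈ (Algebra.adjoin (O.map φ) s).toSubring := hz
    rw [this] at h1
    exact h1
  · intro hz
    have h1 : z ∈ (Algebra.adjoin O s).toSubring := hz
    rw [← this] at h1
    exact h1

end convert

variable {k k' : Type u} {K K' : Type v} [Field k] [Field k'] [Field K] [Field K']
  [Algebra k k'] [Algebra k K] [Algebra K K'] [Algebra k' K'] [Algebra k K']
  [IsScalarTower k k' K'] [IsScalarTower k K K']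

/-- the inclusion `O_P → K` as a `k`-algebra homomorphism -/
def oInc (P : Place k K) : P.O →ₐ[k] K :=
  { P.O.subtype with commutes' := fun _ => rfl }

/-- the canonical map `k' ⊗ O_P → K'` -/
noncomputable def iota (P : Place k K) : k' ⊗[k] P.O →ₐ[k] K' :=
  Algebra.TensorProduct.productMap (IsScalarTower.toAlgHom k k' K')
    ((IsScalarTower.toAlgHom k K K').comp (oInc P))

lemma iota_tmul (P : Place k K) (c : k') (a : P.O) :
    iota (K' := K') P (c ⊗ₜ[k] a) = algebraMap k' K' c * algebraMap K K' (a : K) := by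
  unfold iota
  rw [Algebra.TensorProduct.productMap_apply_tmul]
  rfl

/-- integral elements come from `k' ⊗ O_P` at a nonsingular place -/
lemma mem_range_iota_of_isIntegral (P : Place k K) [Algebra P.O K'] [IsScalarTower P.O K K']
    (hns : integralClosure P.O K' = Algebra.adjoin P.O (Set.range (algebraMap k' K')))
    {z : K'} (hz : IsIntegral P.O z) : z ∈ (iota (k' := k') (K' := K') P).range := by
  have hz' : z ∈ Algebra.adjoin P.O (Set.range (algebraMap k' K')) := by
    rw [← hns]; exact hz
  clear hz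
  induction hz' using Algebra.adjoin_induction with
  | mem x hx =>
    obtain ⟨c, rfl⟩ := hx
    refine ⟨c ⊗ₜ[k] 1, ?_⟩
    show iota P (c ⊗ₜ[k] 1) = _
    rw [iota_tmul]; simp
  | algebraMap a =>
    refine ⟨1 ⊗ₜ[k] a, ?_⟩
    show iota P (1 ⊗ₜ[k] a) = _
    rw [iota_tmul, map_one, one_mul, IsScalarTower.algebraMap_apply P.O K K']
    rfl
  | add x y _ _ hx hy => exact Subalgebra.add_mem _ hx hy
  | mul x y _ _ hx hy => exact Subalgebra.mul_mem _ hx hy


/-- `Q` (a place of `K'/k'`) lies over `P` with ramification index `e` -/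
def Over (Q : Place k' K') (P : Place k K) (e : ℕ) : Prop :=
  ∀ z : K, Q.1 (algebraMap K K' z) = P.1 z ^ e

lemma Over.isOverWith {Q : Place k' K'} {P : Place k K} {e : ℕ} (h : Over Q P e) :
    IsOverWith (downPlace (k := k) Q) P e := h

lemma val_iota_le_one {Q : Place k' K'} {P : Place k K} {e : ℕ} (hQ : Over Q P e)
    (w : k' ⊗[k] P.O) : Q.1 (iota (K' := K') P w) ≤ 1 := by
  induction w using TensorProduct.induction_on with
  | zero => rw [map_zero, map_zero]; exact zero_le
  | tmul c a =>
    rw [iota_tmul, map_mul]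
    refine mul_le_one' (Q.2.1 c) ?_
    rw [hQ]
    exact pow_le_one' a.2 e
  | add x y hx hy =>
    rw [map_add]
    exact le_trans (Q.1.map_add _ _) (max_le hx hy)

/-- `iota` with values in `O_Q` -/
noncomputable def iotaQ {Q : Place k' K'} {P : Place k K} {e : ℕ} (hQ : Over Q P e) :
    k' ⊗[k] P.O →+* Q.O :=
  ((iota (K' := K') P).toRingHom).codRestrict Q.O (fun w => val_iota_le_one hQ w)

lemma coe_iotaQ {Q : Place k' K'} {P : Place k K} {e : ℕ} (hQ : Over Q P e)
    (w : k' ⊗[k] P.O) : ((iotaQ hQ w : Q.O) : K') = iota (K' := K') P w := rfl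

/-- the residue field of a place of degree one is the constant field -/
lemma bijective_algebraMap_of_deg_eq_one {Q : Place k' K'} (hdeg : Q.deg = 1) :
    Function.Bijective (algebraMap k' (IsLocalRing.ResidueField Q.O)) := by
  refine ⟨(algebraMap k' (IsLocalRing.ResidueField Q.O)).injective, ?_⟩
  intro y
  have h1 : Module.finrank k' (IsLocalRing.ResidueField Q.O) = 1 := hdeg
  obtain ⟨c, hc⟩ := (finrank_eq_one_iff_of_nonzero' (1 : IsLocalRing.ResidueField Q.O)
    one_ne_zero).mp h1 y
  exact ⟨c, by rw [Algebra.algebraMap_eq_smul_one]; exact hc⟩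

/-- the character `k' ⊗ O_P → k'` attached to a place of degree one above `P` -/
noncomputable def Lam {Q : Place k' K'} {P : Place k K} {e : ℕ} (hQ : Over Q P e)
    (hdeg : Q.deg = 1) : k' ⊗[k] P.O →+* k' :=
  ((RingEquiv.ofBijective (algebraMap k' (IsLocalRing.ResidueField Q.O))
    (bijective_algebraMap_of_deg_eq_one hdeg)).symm : IsLocalRing.ResidueField Q.O →+* k').comp
    ((IsLocalRing.residue Q.O).comp (iotaQ hQ))

lemma algebraMap_Lam {Q : Place k' K'} {P : Place k K} {e : ℕ} (hQ : Over Q P e)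
    (hdeg : Q.deg = 1) (w : k' ⊗[k] P.O) :
    algebraMap k' (IsLocalRing.ResidueField Q.O) (Lam hQ hdeg w) =
      IsLocalRing.residue Q.O (iotaQ hQ w) := by
  unfold Lam
  exact (RingEquiv.ofBijective (algebraMap k' (IsLocalRing.ResidueField Q.O))
    (bijective_algebraMap_of_deg_eq_one hdeg)).apply_symm_apply _

lemma Lam_eq_zero_iff {Q : Place k' K'} {P : Place k K} {e : ℕ} (hQ : Over Q P e)
    (hdeg : Q.deg = 1) (w : k' ⊗[k] P.O) :
    Lam hQ hdeg w = 0 ↔ Q.1 (iota (K' := K') P w) < 1 := by
  rw [← coe_iotaQ hQ, ← res_eq_zero_iff]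
  have h := algebraMap_Lam hQ hdeg w
  constructor
  · intro h0
    rw [h0, map_zero] at h
    exact h.symm
  · intro h0
    have : algebraMap k' (IsLocalRing.ResidueField Q.O) (Lam hQ hdeg w) = 0 := by
      rw [h]; exact h0
    exact (map_eq_zero _).mp this

lemma Lam_tmul_one {Q : Place k' K'} {P : Place k K} {e : ℕ} (hQ : Over Q P e)
    (hdeg : Q.deg = 1) (c : k') : Lam hQ hdeg (c ⊗ₜ[k] 1) = c := by
  apply (algebraMap k' (IsLocalRing.ResidueField Q.O)).injective
  rw [algebraMap_Lam]
  show IsLocalRing.residue Q.O (iotaQ hQ (c ⊗ₜ[k] 1)) =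
    IsLocalRing.residue Q.O (algebraMap k' Q.O c)
  congr 1
  apply Subtype.ext
  rw [coe_iotaQ, iota_tmul]
  simp
  rfl


/-- the restriction of `Lam` to `O_P` -/
noncomputable def lam {Q : Place k' K'} {P : Place k K} {e : ℕ} (hQ : Over Q P e)
    (hdeg : Q.deg = 1) : P.O →+* k' :=
  (Lam hQ hdeg).comp (Algebra.TensorProduct.includeRight : P.O →ₐ[k] k' ⊗[k] P.O).toRingHom

lemma lam_apply {Q : Place k' K'} {P : Place k K} {e : ℕ} (hQ : Over Q P e)
    (hdeg : Q.deg = 1) (a : P.O) : lam hQ hdeg a = Lam hQ hdeg (1 ⊗ₜ[k] a) := rfl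

lemma lam_eq_zero_iff {Q : Place k' K'} {P : Place k K} {e : ℕ} (hQ : Over Q P e)
    (hdeg : Q.deg = 1) (a : P.O) : lam hQ hdeg a = 0 ↔ P.1 (a : K) < 1 := by
  rw [lam_apply, Lam_eq_zero_iff, iota_tmul, map_one, one_mul, hQ]
  exact pow_lt_one_iff (e_pos hQ.isOverWith).ne'

instance isLocalHom_lam {Q : Place k' K'} {P : Place k K} {e : ℕ} (hQ : Over Q P e)
    (hdeg : Q.deg = 1) : IsLocalHom (lam hQ hdeg) := by
  refine ⟨fun a ha => ?_⟩
  have hP : P.1.Integers P.O := Valuation.valuationSubring.integers P.1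
  rw [hP.isUnit_iff_valuation_eq_one]
  have h0 : lam hQ hdeg a ≠ 0 := ha.ne_zero
  rw [Ne, lam_eq_zero_iff, not_lt] at h0
  exact le_antisymm a.2 h0

/-- the embedding of the residue field of `P` into `k'` attached to `Q` -/
noncomputable def sigma {Q : Place k' K'} {P : Place k K} {e : ℕ} (hQ : Over Q P e)
    (hdeg : Q.deg = 1) : IsLocalRing.ResidueField P.O →ₐ[k] k' :=
  { IsLocalRing.ResidueField.lift (lam hQ hdeg) with
    commutes' := fun c => by
      show IsLocalRing.ResidueField.lift (lam hQ hdeg)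
        (IsLocalRing.residue P.O (algebraMap k P.O c)) = algebraMap k k' c
      rw [IsLocalRing.ResidueField.lift_residue_apply, lam_apply]
      have : (1 : k') ⊗ₜ[k] (algebraMap k P.O c) = (algebraMap k k' c) ⊗ₜ[k] (1 : P.O) := by
        rw [Algebra.algebraMap_eq_smul_one, Algebra.algebraMap_eq_smul_one,
          TensorProduct.tmul_smul, TensorProduct.smul_tmul']
      rw [this, Lam_tmul_one] }

lemma sigma_res {Q : Place k' K'} {P : Place k K} {e : ℕ} (hQ : Over Q P e)
    (hdeg : Q.deg = 1) (a : P.O) : sigma hQ hdeg (res P a) = lam hQ hdeg a := rfl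

lemma Lam_tmul {Q : Place k' K'} {P : Place k K} {e : ℕ} (hQ : Over Q P e)
    (hdeg : Q.deg = 1) (c : k') (a : P.O) :
    Lam hQ hdeg (c ⊗ₜ[k] a) = c * sigma hQ hdeg (res P a) := by
  have : c ⊗ₜ[k] a = (c ⊗ₜ[k] (1 : P.O)) * ((1 : k') ⊗ₜ[k] a) := by
    rw [Algebra.TensorProduct.tmul_mul_tmul, mul_one, one_mul]
  rw [this, map_mul, Lam_tmul_one, sigma_res, lam_apply]

/-- `Lam` is determined by `sigma` -/
lemma Lam_eq_of_sigma_eq {Q₁ Q₂ : Place k' K'} {P : Place k K} {e₁ e₂ : ℕ}
    (h₁ : Over Q₁ P e₁) (h₂ : Over Q₂ P e₂) (d₁ : Q₁.deg = 1) (d₂ : Q₂.deg = 1)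
    (hσ : sigma h₁ d₁ = sigma h₂ d₂) (w : k' ⊗[k] P.O) : Lam h₁ d₁ w = Lam h₂ d₂ w := by
  induction w using TensorProduct.induction_on with
  | zero => rw [map_zero, map_zero]
  | tmul c a => rw [Lam_tmul, Lam_tmul, hσ]
  | add x y hx hy => rw [map_add, map_add, hx, hy]


lemma Lam_eq_chi {Q : Place k' K'} {P : Place k K} {e : ℕ} (hQ : Over Q P e)
    (hdeg : Q.deg = 1) (w : k' ⊗[k] P.O) :
    Lam hQ hdeg w = SplitAlg.chi ((sigma hQ hdeg).comp (resAlg P)) w := by
  induction w using TensorProduct.induction_on with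
  | zero => rw [map_zero, map_zero]
  | tmul c a => rw [Lam_tmul, SplitAlg.chi_tmul]; rfl
  | add x y hx hy => rw [map_add, map_add, hx, hy]

/-- an element of `K'` with prescribed behaviour at the places above `P`:
a local parameter at `Q`, integral at the other places above `P` -/
lemma exists_separating_element [FiniteDimensional K K'] (P : Place k K)
    (Q : Place k K') (hQ : IsOver Q P) (z : K') (m : ℤ) :
    ∃ y : K', Q.1 (y - z) < exp m ∧ ∀ R : Place k K', IsOver R P → R ≠ Q → R.1 y < exp m := by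
  classical
  have hfin : {R : Place k K' | IsOver R P}.Finite := finite_isOver P
  haveI : Finite {R : Place k K' | IsOver R P} := hfin.to_subtype
  obtain ⟨y, hy⟩ := weak_approx (fun i : {R : Place k K' | IsOver R P} => (i : Place k K'))
    Subtype.val_injective (fun i => if (i : Place k K') = Q then z else 0) m
  refine ⟨y, ?_, ?_⟩
  · have := hy ⟨Q, hQ⟩
    simpa using this
  · intro R hR hne
    have := hy ⟨R, hR⟩
    simpa [hne] using this

/-- **the ramification index is at most the inseparable degree** -/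
theorem ramIdx_le [FiniteDimensional K K'] (hK : IsFunctionField k K) (P : Place k K)
    [Algebra P.O K'] [IsScalarTower P.O K K']
    (hns : integralClosure P.O K' = Algebra.adjoin P.O (Set.range (algebraMap k' K')))
    {Q : Place k' K'} {e : ℕ} (hQ : Over Q P e) (hdeg : Q.deg = 1) :
    e ≤ Module.finrank (separableClosure k (IsLocalRing.ResidueField P.O))
      (IsLocalRing.ResidueField P.O) := by
  classical
  have hfin : FiniteDimensional k (IsLocalRing.ResidueField P.O) := finite_residueField hK P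
  set n := Module.finrank (separableClosure k (IsLocalRing.ResidueField P.O))
      (IsLocalRing.ResidueField P.O) with hn
  -- a local parameter at `Q` integral over `O_P`
  obtain ⟨π, hπ⟩ := exists_uniformizer Q
  obtain ⟨y, hy1, hy2⟩ := exists_separating_element P (downPlace (k := k) Q) ⟨e, hQ.isOverWith⟩ π (-1)
  have hyQ : Q.1 y = exp (-1 : ℤ) := by
    have h1 : Q.1 (y - π) < Q.1 π := by rw [hπ]; exact hy1
    rw [Valuation.map_eq_of_sub_lt Q.1 h1, hπ]
  have hyint : IsIntegral P.O y := by
    have := (Groth.Agent.FF.Ext.mem_integralClosure_iff hK P y).mpr (fun R hR => by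
      by_cases hRQ : R = downPlace (k := k) Q
      · rw [hRQ]
        show Q.1 y ≤ 1
        rw [hyQ, ← exp_zero, exp_le_exp]; norm_num
      · have := hy2 R hR hRQ
        apply le_of_lt
        refine lt_of_lt_of_le this ?_
        rw [← exp_zero, exp_le_exp]; norm_num)
    exact this
  obtain ⟨w, hw⟩ := mem_range_iota_of_isIntegral (k' := k') P hns hyint
  have hw' : iota (K' := K') P w = y := hw
  have hLam : Lam hQ hdeg w = 0 := by
    rw [Lam_eq_zero_iff, hw', hyQ, ← exp_zero, exp_lt_exp]; norm_num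
  -- the algebraic lemma
  obtain ⟨t, ht⟩ := exists_uniformizer P
  have ht1 : P.1 t ≤ 1 := by rw [ht, ← exp_zero, exp_le_exp]; norm_num
  set t' : P.O := ⟨t, ht1⟩ with ht'
  have hchi : SplitAlg.chi ((sigma hQ hdeg).comp (resAlg P)) w = 0 := by
    rw [← Lam_eq_chi]; exact hLam
  obtain ⟨u, v, hu, huv⟩ := @SplitAlg.exists_mul_pow_eq k k' (IsLocalRing.ResidueField P.O) P.O
    _ _ _ _ _ (Place.algRes P) _ hfin (resAlg P) (resAlg_surjective P) t'
    (NonsingGen.ker_resAlg P t' ht) (sigma hQ hdeg) w hchi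
  rw [← Lam_eq_chi] at hu
  have huQ : Q.1 (iota (K' := K') P u) = 1 := by
    apply le_antisymm (val_iota_le_one hQ u)
    rw [Ne, Lam_eq_zero_iff, not_lt] at hu
    exact hu
  have h1 := congrArg (fun z => Q.1 (iota (K' := K') P z)) huv
  simp only [map_mul, map_pow] at h1
  rw [hw', hyQ, huQ, mul_one, iota_tmul, map_one, one_mul, hQ, ht] at h1
  have h2 : (exp (-1 : ℤ) : ℤᵐ⁰) ^ n ≤ exp (-1 : ℤ) ^ e := by
    rw [h1]
    calc exp (-1 : ℤ) ^ e * Q.1 (iota (K' := K') P v) ≤ exp (-1 : ℤ) ^ e * 1 :=
          mul_le_mul' le_rfl (val_iota_le_one hQ v)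
      _ = exp (-1 : ℤ) ^ e := mul_one _
  rw [← exp_nsmul, ← exp_nsmul, exp_le_exp] at h2
  simp only [nsmul_eq_mul, mul_neg, mul_one, neg_le_neg_iff] at h2
  exact_mod_cast h2


/-- the embedding `sigma` determines the place -/
theorem eq_of_sigma_eq [FiniteDimensional K K'] (hK : IsFunctionField k K) (P : Place k K)
    [Algebra P.O K'] [IsScalarTower P.O K K']
    (hns : integralClosure P.O K' = Algebra.adjoin P.O (Set.range (algebraMap k' K')))
    {Q₁ Q₂ : Place k' K'} {e₁ e₂ : ℕ} (h₁ : Over Q₁ P e₁) (h₂ : Over Q₂ P e₂)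
    (d₁ : Q₁.deg = 1) (d₂ : Q₂.deg = 1) (hσ : sigma h₁ d₁ = sigma h₂ d₂) : Q₁ = Q₂ := by
  by_contra hne
  have hne' : downPlace (k := k) Q₁ ≠ downPlace (k := k) Q₂ :=
    fun h => hne (downPlace_injective h)
  obtain ⟨y, hy1, hy2⟩ := exists_separating_element P (downPlace (k := k) Q₂)
    ⟨e₂, h₂.isOverWith⟩ (1 : K') 0
  rw [exp_zero] at hy1 hy2
  have hyQ₂ : Q₂.1 y = 1 := by
    have h1 : Q₂.1 (y - 1) < Q₂.1 1 := by rw [map_one]; exact hy1
    rw [Valuation.map_eq_of_sub_lt Q₂.1 h1, map_one]
  have hyQ₁ : Q₁.1 y < 1 := hy2 (downPlace (k := k) Q₁) ⟨e₁, h₁.isOverWith⟩ hne'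
  have hyint : IsIntegral P.O y :=
    (Groth.Agent.FF.Ext.mem_integralClosure_iff hK P y).mpr (fun R hR => by
      by_cases hRQ : R = downPlace (k := k) Q₂
      · rw [hRQ]
        exact le_of_eq hyQ₂
      · exact le_of_lt (hy2 R hR hRQ))
  obtain ⟨w, hw⟩ := mem_range_iota_of_isIntegral (k' := k') P hns hyint
  have hw' : iota (K' := K') P w = y := hw
  have hL₁ : Lam h₁ d₁ w = 0 := by rw [Lam_eq_zero_iff, hw']; exact hyQ₁
  have hL₂ : Lam h₂ d₂ w ≠ 0 := by
    rw [Ne, Lam_eq_zero_iff, hw', hyQ₂]
    exact lt_irrefl _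
  exact hL₂ (by rw [← Lam_eq_of_sigma_eq h₁ h₂ d₁ d₂ hσ w]; exact hL₁)

lemma finrank_eq_of_productMap_bijective
    (h : Function.Bijective (Algebra.TensorProduct.productMap
      (IsScalarTower.toAlgHom k k' K') (IsScalarTower.toAlgHom k K K'))) :
    Module.finrank K K' = Module.finrank k k' := by
  set ψ : K ⊗[k] k' →ₐ[K] K' := Algebra.TensorProduct.productLeftAlgHom (Algebra.ofId K K')
    (IsScalarTower.toAlgHom k k' K') with hψ
  have hcomp : ∀ z : K ⊗[k] k', ψ z = Algebra.TensorProduct.productMap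
      (IsScalarTower.toAlgHom k k' K') (IsScalarTower.toAlgHom k K K')
      (Algebra.TensorProduct.comm k K k' z) := by
    intro z
    induction z using TensorProduct.induction_on with
    | zero => simp
    | tmul a c =>
      simp [hψ, mul_comm]
    | add x y hx hy => rw [map_add, map_add, map_add, hx, hy]
  have hbij : Function.Bijective ψ := by
    have : (ψ : K ⊗[k] k' → K') = (Algebra.TensorProduct.productMap
      (IsScalarTower.toAlgHom k k' K') (IsScalarTower.toAlgHom k K K')) ∘
      (Algebra.TensorProduct.comm k K k') := funext hcomp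
    rw [this]
    exact h.comp (Algebra.TensorProduct.comm k K k').bijective
  have e : (K ⊗[k] k') ≃ₗ[K] K' := LinearEquiv.ofBijective ψ.toLinearMap hbij
  rw [← e.finrank_eq, Module.finrank_baseChange]


/-- **Places above a nonsingular place in a splitting field.** -/
theorem split_places [FiniteDimensional k k']
    (h : Function.Bijective (Algebra.TensorProduct.productMap
      (IsScalarTower.toAlgHom k k' K') (IsScalarTower.toAlgHom k K K')))
    (hK : IsFunctionField k K) (P : Place k K) [Algebra P.O K'] [IsScalarTower P.O K K']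
    (hns : integralClosure P.O K' = Algebra.adjoin P.O (Set.range (algebraMap k' K')))
    (hsplit : ∀ Q : Place k' K', (∃ e : ℕ, Over Q P e) → Q.deg = 1) :
    {Q : Place k' K' | ∃ e : ℕ, Over Q P e}.Finite ∧
    {Q : Place k' K' | ∃ e : ℕ, Over Q P e}.ncard =
      Field.finSepDegree k (IsLocalRing.ResidueField P.O) ∧
    ∀ (Q : Place k' K') (e : ℕ), Over Q P e →
      e = Module.finrank (separableClosure k (IsLocalRing.ResidueField P.O))
        (IsLocalRing.ResidueField P.O) := by
  classical
  haveI fK' : FiniteDimensional K K' := finiteDimensional_of_productMap_surjective h.2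
  haveI halg : Algebra.IsAlgebraic k k' := Algebra.IsAlgebraic.of_finite k k'
  have hfinF : FiniteDimensional k (IsLocalRing.ResidueField P.O) := finite_residueField hK P
  set ns := Field.finSepDegree k (IsLocalRing.ResidueField P.O) with hns_def
  set ni := Module.finrank (separableClosure k (IsLocalRing.ResidueField P.O))
      (IsLocalRing.ResidueField P.O) with hni_def
  have hni_pos : 0 < ni := @SplitAlg.finrank_separableClosure_pos k
    (IsLocalRing.ResidueField P.O) _ _ (Place.algRes P) hfinF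
  set d := Module.finrank k k' with hd
  have hd_pos : 0 < d := Module.finrank_pos
  have hdegP : P.deg = ns * ni := by
    have := Field.finSepDegree_mul_finInsepDegree k (IsLocalRing.ResidueField P.O)
    exact this.symm
  have hfin : {R : Place k K' | IsOver R P}.Finite := finite_isOver P
  set Qs : Finset (Place k K') := hfin.toFinset with hQs
  have hmem : ∀ R, R ∈ Qs ↔ IsOver R P := fun R => by
    rw [hQs, Set.Finite.mem_toFinset]; rfl
  -- data attached to each place above `P`
  have hover : ∀ R : Place k K', IsOver R P → Over (upPlace (k' := k') R) P (ramIdx R P) :=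
    fun R hR => isOverWith_ramIdx hR
  have hdeg1 : ∀ (R : Place k K') (hR : IsOver R P), (upPlace (k' := k') R).deg = 1 :=
    fun R hR => hsplit _ ⟨_, hover R hR⟩
  have hdegR : ∀ R : Place k K', IsOver R P → R.deg = d := by
    intro R hR
    have := deg_downPlace (k := k) (upPlace (k' := k') R)
    rw [downPlace_upPlace, hdeg1 R hR, mul_one] at this
    exact this
  have hle : ∀ R : Place k K', IsOver R P → ramIdx R P ≤ ni :=
    fun R hR => ramIdx_le hK P hns (hover R hR) (hdeg1 R hR)
  -- the fundamental equality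
  have hsum : ∑ R ∈ Qs, ramIdx R P = ns * ni := by
    have h1 := sum_ramIdx_mul_deg_eq hK P Qs hmem
    rw [finrank_eq_of_productMap_bijective h, hdegP] at h1
    have h2 : ∑ R ∈ Qs, ramIdx R P * R.deg = d * ∑ R ∈ Qs, ramIdx R P := by
      rw [Finset.mul_sum]
      apply Finset.sum_congr rfl
      intro R hR
      rw [hdegR R ((hmem R).mp hR), mul_comm]
    rw [h2] at h1
    exact Nat.eq_of_mul_eq_mul_left hd_pos h1
  -- the number of places is at most the separable degree
  have hcard : Qs.card ≤ ns := by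
    have hinj : Function.Injective (fun R : Qs =>
        sigma (hover R.1 ((hmem R.1).mp R.2)) (hdeg1 R.1 ((hmem R.1).mp R.2))) := by
      intro R₁ R₂ h12
      have := eq_of_sigma_eq hK P hns (hover R₁.1 ((hmem R₁.1).mp R₁.2))
        (hover R₂.1 ((hmem R₂.1).mp R₂.2)) (hdeg1 R₁.1 ((hmem R₁.1).mp R₁.2))
        (hdeg1 R₂.1 ((hmem R₂.1).mp R₂.2)) h12
      apply Subtype.ext
      have h3 := congrArg (downPlace (k := k)) this
      rwa [downPlace_upPlace, downPlace_upPlace] at h3
    have h1 := @SplitAlg.card_le_finSepDegree_of_injective k (IsLocalRing.ResidueField P.O) k'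
      _ _ _ (Place.algRes P) _ hfinF _ _ _ hinj
    rwa [Fintype.card_coe] at h1
  -- conclusion of the count
  have hsum_le : ∑ R ∈ Qs, ramIdx R P ≤ Qs.card * ni := by
    rw [← smul_eq_mul, ← Finset.sum_const]
    exact Finset.sum_le_sum (fun R hR => hle R ((hmem R).mp hR))
  have hcard_eq : Qs.card = ns := by
    apply le_antisymm hcard
    have : ns * ni ≤ Qs.card * ni := hsum ▸ hsum_le
    exact Nat.le_of_mul_le_mul_right this hni_pos
  have heq : ∀ R ∈ Qs, ramIdx R P = ni := by
    have h1 : ∑ R ∈ Qs, ramIdx R P = ∑ _R ∈ Qs, ni := by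
      rw [Finset.sum_const, smul_eq_mul, hsum, hcard_eq]
    exact (Finset.sum_eq_sum_iff_of_le (fun R hR => hle R ((hmem R).mp hR))).mp h1
  -- the set of places over `k'`
  have hS : {Q : Place k' K' | ∃ e : ℕ, Over Q P e} =
      (fun R => upPlace (k' := k') R) '' (Qs : Set (Place k K')) := by
    ext Q
    constructor
    · rintro ⟨e, he⟩
      refine ⟨downPlace (k := k) Q, ?_, rfl⟩
      rw [Finset.mem_coe, hmem]
      exact ⟨e, he.isOverWith⟩
    · rintro ⟨R, hR, rfl⟩
      rw [Finset.mem_coe, hmem] at hR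
      exact ⟨_, hover R hR⟩
  have hupinj : Function.Injective (fun R : Place k K' => upPlace (k' := k') R) := by
    intro R₁ R₂ h12
    have h3 := congrArg (downPlace (k := k)) h12
    rwa [downPlace_upPlace, downPlace_upPlace] at h3
  refine ⟨?_, ?_, ?_⟩
  · rw [hS]
    exact (Finset.finite_toSet Qs).image _
  · rw [hS, Set.ncard_image_of_injective _ hupinj, Set.ncard_coe_finset, hcard_eq]
  · intro Q e he
    have hR : IsOver (downPlace (k := k) Q) P := ⟨e, he.isOverWith⟩
    have h1 := heq (downPlace (k := k) Q) ((hmem _).mpr hR)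
    rw [ramIdx_eq he.isOverWith] at h1
    exact h1

end Groth.Agent.FF.Split
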