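import Groth.Agent.FunFld.Adele2

/-!
# Weil differentials: divisor of a differential, `dim_K W = 1`
-/

set_option autoImplicit false

open FunFld IntermediateField Polynomial WithZero

namespace Groth.Agent.FF

universe u v
variable {k : Type u} {K : Type v} [Field k] [Field K] [Algebra k K]

/-- multiplication by `x` preserves the adele space -/
lemma adele_smul_mem (hK : IsFunctionField k K) (x : K) :
    ∀ a ∈ adele k K, x • a ∈ adele k K := by
  intro a ha
  by_cases hx : x = 0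
  · subst hx; simp
  rw [mem_adele] at ha ⊢
  apply (ha.union (finite_support_ord hK x)).subset
  intro P hP
  simp only [Set.mem_ofPred_eq, Pi.smul_apply, smul_eq_mul, map_mul] at hP
  by_contra hn
  rw [Set.mem_union, not_or] at hn
  obtain ⟨h1, h2⟩ := hn
  simp only [Set.mem_ofPred_eq, not_not] at h1
  rw [Function.mem_support, not_not] at h2
  apply hP
  have hx1 : P.1 x = 1 := (val_eq_one_iff P hx).mpr h2
  rw [hx1, one_mul]; exact h1

lemma mulW_apply (x : K) (hx : ∀ a ∈ adele k K, x • a ∈ adele k K)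
    (ω : Module.Dual k (adele k K)) (a : adele k K) :
    mulW x hx ω a = ω ⟨x • (a : Place k K → K), hx a a.2⟩ := rfl

lemma mem_WD_iff (ω : Module.Dual k (adele k K)) (D : Divisor k K) :
    ω ∈ WD D ↔ ∀ a : adele k K, (a : Place k K → K) ∈ AD D ⊔ Kd k K → ω a = 0 := by
  rw [WD, Submodule.mem_dualAnnihilator]
  rfl

lemma WD_antitone {D₁ D₂ : Divisor k K} (h : D₁ ≤ D₂) : WD D₂ ≤ WD D₁ := by
  intro ω hω
  rw [mem_WD_iff] at hω ⊢
  intro a ha
  exact hω a (sup_le_sup_right (AD_mono h) _ ha)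

lemma AD_sup_eq (D₁ D₂ : Divisor k K) : AD (D₁ ⊔ D₂) = AD D₁ ⊔ AD D₂ := by
  classical
  apply le_antisymm
  · intro a ha
    have ha' : ∀ P : Place k K, P.1 (a P) ≤ exp ((D₁ ⊔ D₂) P) := ha
    rw [Submodule.mem_sup]
    refine ⟨fun P => if P.1 (a P) ≤ exp (D₁ P) then a P else 0, ?_,
      fun P => if P.1 (a P) ≤ exp (D₁ P) then 0 else a P, ?_, ?_⟩
    · intro P
      change P.1 (if P.1 (a P) ≤ exp (D₁ P) then a P else 0) ≤ _
      split_ifs with h
      · exact h
      · simp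
    · intro P
      change P.1 (if P.1 (a P) ≤ exp (D₁ P) then 0 else a P) ≤ _
      split_ifs with h
      · simp
      · have h1 := ha' P
        rw [Finsupp.sup_apply] at h1
        rcases le_total (D₁ P) (D₂ P) with h2 | h2
        · rwa [sup_eq_right.mpr h2] at h1
        · rw [sup_eq_left.mpr h2] at h1
          exact absurd h1 h
    · funext P
      simp only [Pi.add_apply]
      split_ifs <;> simp
  · exact sup_le (AD_mono le_sup_left) (AD_mono le_sup_right)

lemma mem_WD_sup {ω : Module.Dual k (adele k K)} {D₁ D₂ : Divisor k K} (h₁ : ω ∈ WD D₁)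
    (h₂ : ω ∈ WD D₂) : ω ∈ WD (D₁ ⊔ D₂) := by
  rw [mem_WD_iff] at h₁ h₂ ⊢
  intro a ha
  rw [AD_sup_eq, Submodule.mem_sup] at ha
  obtain ⟨b, hb, c, hc, hbc⟩ := ha
  rw [Submodule.mem_sup] at hb
  obtain ⟨b₁, hb₁, b₂, hb₂, rfl⟩ := hb
  have hb₁A : b₁ ∈ adele k K := AD_le_adele D₁ hb₁
  have hb₂c : b₂ + c ∈ AD D₂ ⊔ Kd k K := Submodule.add_mem_sup hb₂ hc
  have hb₂cA : b₂ + c ∈ adele k K := by
    have : b₂ + c = (a : Place k K → K) - b₁ := by rw [← hbc]; abel
    rw [this]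
    exact (adele k K).sub_mem a.2 hb₁A
  have hsplit : a = (⟨b₁, hb₁A⟩ : adele k K) + ⟨b₂ + c, hb₂cA⟩ := by
    apply Subtype.ext
    change (a : Place k K → K) = b₁ + (b₂ + c)
    rw [← hbc]; abel
  rw [hsplit, map_add, h₁ ⟨b₁, hb₁A⟩ (Submodule.mem_sup_left hb₁), h₂ ⟨b₂ + c, hb₂cA⟩ hb₂c,
    add_zero]

/-- the degree is strictly monotone -/
lemma deg_lt_of_lt (hK : IsFunctionField k K) {D₁ D₂ : Divisor k K} (h : D₁ < D₂) :
    D₁.deg < D₂.deg := by
  obtain ⟨E, hE⟩ := exists_toDiv_of_le h.le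
  have hE0 : E ≠ 0 := by
    rintro rfl
    rw [map_zero, add_zero] at hE
    exact h.ne hE.symm
  obtain ⟨P, hP⟩ : ∃ P, E P ≠ 0 := by
    by_contra hn
    push Not at hn
    exact hE0 (Finsupp.ext hn)
  rw [hE, deg_add, deg_toDiv]
  have : 0 < degN E := by
    unfold degN
    rw [Finsupp.sum]
    apply Finset.sum_pos'
    · intro Q _; positivity
    · exact ⟨P, Finsupp.mem_support_iff.mpr hP,
        Nat.mul_pos (Nat.pos_of_ne_zero hP) (deg_pos hK P)⟩
  have : (0 : ℤ) < degN E := by exact_mod_cast this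
  linarith

/-- a nonzero differential cannot vanish on `A(E)+K` for `deg E` large -/
lemma WD_eq_bot_of_deg_large (hK : IsFunctionField k K) :
    ∃ N : ℤ, ∀ E : Divisor k K, N ≤ E.deg → WD E = ⊥ := by
  obtain ⟨N, hN⟩ := exists_deg_bound_delta_eq_genus hK
  refine ⟨N, fun E hE => ?_⟩
  obtain ⟨hfin, hrank⟩ := finite_WD hK E
  rw [hN E hE, sub_self] at hrank
  have h0 : Module.finrank k (WD E) = 0 := by exact_mod_cast hrank
  exact Submodule.finrank_eq_zero.mp h0

/-- A nonzero Weil differential has a divisor. -/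
theorem exists_isDivOf (hK : IsFunctionField k K) (ω : Module.Dual k (adele k K))
    (hω : IsWeil ω) (h0 : ω ≠ 0) : ∃ C : Divisor k K, IsDivOf ω C := by
  classical
  obtain ⟨N, hN⟩ := WD_eq_bot_of_deg_large hK
  obtain ⟨E₀, hE₀⟩ := hω
  -- degrees of divisors E with ω ∈ WD E are bounded by N
  have hbound : ∀ E : Divisor k K, ω ∈ WD E → E.deg < N := by
    intro E hE
    by_contra hn
    push Not at hn
    have := hN E hn
    rw [this, Submodule.mem_bot] at hE
    exact h0 hE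
  -- choose E with maximal degree
  have hex : ∃ d : ℕ, ∃ E : Divisor k K, ω ∈ WD E ∧ E.deg = E₀.deg + d := ⟨0, E₀, hE₀, by simp⟩
  have hbdd : ∀ d : ℕ, (∃ E : Divisor k K, ω ∈ WD E ∧ E.deg = E₀.deg + d) →
      d ≤ (N - E₀.deg).toNat := by
    rintro d ⟨E, hE, hd⟩
    have := hbound E hE
    have h2 : (d : ℤ) ≤ N - E₀.deg := by linarith
    exact Int.le_toNat (by linarith [hbound E₀ hE₀]) |>.mpr h2
  obtain ⟨C, hC, hCmax⟩ : ∃ C : Divisor k K, ω ∈ WD C ∧ ∀ E, ω ∈ WD E → E.deg ≤ C.deg := by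
    let p : ℕ → Prop := fun d => ∃ E : Divisor k K, ω ∈ WD E ∧ E.deg = E₀.deg + d
    have hfin : {d | p d}.Finite :=
      (Set.finite_Iic ((N - E₀.deg).toNat)).subset (fun d hd => hbdd d hd)
    obtain ⟨d, hd, hdmax⟩ := Set.exists_max_image {d | p d} id hfin ⟨0, E₀, hE₀, by simp⟩
    obtain ⟨C, hC, hCd⟩ := hd
    refine ⟨C, hC, fun E hE => ?_⟩
    -- compare via E ⊔ E₀ ... simpler: use E ⊔ C
    have hEC := mem_WD_sup hE hC
    have hge : E₀.deg ≤ (E ⊔ C).deg := by
      have h1 := hbound _ hEC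
      by_contra hn
      push Not at hn
      -- then (E ⊔ C).deg < E₀.deg ≤ C.deg ≤ (E ⊔ C).deg
      have h2 : C.deg ≤ (E ⊔ C).deg := deg_mono le_sup_right
      have h3 : E₀.deg ≤ C.deg := by rw [hCd]; simp
      linarith
    have hd' : p ((E ⊔ C).deg - E₀.deg).toNat := by
      refine ⟨E ⊔ C, hEC, ?_⟩
      rw [Int.toNat_of_nonneg (by linarith)]; ring
    have := hdmax _ hd'
    simp only [id] at this
    have h4 : (E ⊔ C).deg - E₀.deg ≤ d := by
      have := Int.toNat_le.mp this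
      exact this
    have h5 : E.deg ≤ (E ⊔ C).deg := deg_mono le_sup_left
    rw [hCd]; linarith
  refine ⟨C, fun E => ⟨fun hE => ?_, fun hE => WD_antitone hE hC⟩⟩
  have hEC := mem_WD_sup hE hC
  by_contra hn
  have hlt : C < E ⊔ C := lt_of_le_of_ne le_sup_right (fun h => hn (h ▸ le_sup_left))
  have := deg_lt_of_lt hK hlt
  have := hCmax _ hEC
  linarith

end Groth.Agent.FF
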