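import Groth.Agent.FunFld.MulW

/-!
# `dim_K W_K = 1`
-/

set_option autoImplicit false

open FunFld IntermediateField Polynomial WithZero

namespace Groth.Agent.FF

universe u v
variable {k : Type u} {K : Type v} [Field k] [Field K] [Algebra k K]

lemma mulWLin_injective (hx : ∀ (x : K), ∀ a ∈ adele k K, x • a ∈ adele k K)
    {ω : Module.Dual k (adele k K)} (h0 : ω ≠ 0) : Function.Injective (mulWLin hx ω) := by
  rw [← LinearMap.ker_eq_bot, LinearMap.ker_eq_bot']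
  intro x hx'
  by_contra hx0
  rw [mulWLin_apply, mulW_eq_zero_iff hx hx0] at hx'
  exact h0 hx'

/-- `dim_K W_K = 1`: every Weil differential is a multiple of a fixed nonzero one. -/
theorem exists_mulW_eq (hK : IsFunctionField k K)
    (hx : ∀ (x : K), ∀ a ∈ adele k K, x • a ∈ adele k K)
    (ω₁ ω₂ : Module.Dual k (adele k K)) (h₁ : IsWeil ω₁) (h0 : ω₁ ≠ 0) (h₂ : IsWeil ω₂) :
    ∃ x : K, mulW x (hx x) ω₁ = ω₂ := by
  classical
  by_cases h20 : ω₂ = 0
  · exact ⟨0, by rw [h20]; exact mulW_zero hx ω₁⟩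
  obtain ⟨A₁, hA₁⟩ := h₁
  obtain ⟨A₂, hA₂⟩ := h₂
  obtain ⟨P₀⟩ := exists_place hK
  set g : ℤ := (genus k K : ℤ) with hg
  set m : ℕ := (3 * g - A₁.deg - A₂.deg).toNat + 1 with hm
  set B : Divisor k K := Finsupp.single P₀ (m : ℤ) with hB
  have hBdeg : (m : ℤ) ≤ B.deg := by
    rw [hB, deg_single]
    have h1 : (1 : ℤ) ≤ P₀.deg := by exact_mod_cast deg_pos hK P₀
    have h3 : (0 : ℤ) ≤ m := by simp
    nlinarith
  have hm1 : 3 * g - A₁.deg - A₂.deg < m := by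
    have := Int.self_le_toNat (3 * g - A₁.deg - A₂.deg)
    rw [hm]; push_cast; linarith
  have hm0 : (1 : ℤ) ≤ m := by
    have : 1 ≤ m := by rw [hm]; omega
    exact_mod_cast this
  -- the two images
  let S₁ : Submodule k (Module.Dual k (adele k K)) := (L (A₁ + B)).map (mulWLin hx ω₁)
  let S₂ : Submodule k (Module.Dual k (adele k K)) := (L (A₂ + B)).map (mulWLin hx ω₂)
  have hS₁ : S₁ ≤ WD (-B) := by
    rintro _ ⟨x, hxL, rfl⟩
    have := mulW_mem_WD_sub hK hxL (hx x) hA₁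
    rwa [sub_add_cancel_left] at this
  have hS₂ : S₂ ≤ WD (-B) := by
    rintro _ ⟨x, hxL, rfl⟩
    have := mulW_mem_WD_sub hK hxL (hx x) hA₂
    rwa [sub_add_cancel_left] at this
  have := finite_L hK (A₁ + B)
  have := finite_L hK (A₂ + B)
  obtain ⟨hWfin, hWrank⟩ := finite_WD hK (-B)
  have hr₁ : Module.finrank k S₁ = ell (A₁ + B) :=
    (Submodule.equivMapOfInjective _ (mulWLin_injective hx h0) _).finrank_eq.symm
  have hr₂ : Module.finrank k S₂ = ell (A₂ + B) :=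
    (Submodule.equivMapOfInjective _ (mulWLin_injective hx h20) _).finrank_eq.symm
  have hl₁ := delta_le_genus hK (A₁ + B)
  have hl₂ := delta_le_genus hK (A₂ + B)
  unfold delta at hl₁ hl₂
  rw [deg_add] at hl₁ hl₂
  have hellB : ell (-B) = 0 := ell_eq_zero_of_deg_neg hK _ (by rw [deg_neg]; linarith)
  have hdB : delta (-B) = -B.deg + 1 := by
    unfold delta; rw [hellB, deg_neg]; simp
  rw [hdB] at hWrank
  have hsup : Module.finrank k (S₁ ⊔ S₂ : Submodule k _) ≤ Module.finrank k (WD (-B)) :=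
    Submodule.finrank_mono (sup_le hS₁ hS₂)
  have hinf := Submodule.finrank_sup_add_finrank_inf_eq S₁ S₂
  have hpos : 0 < Module.finrank k (S₁ ⊓ S₂ : Submodule k _) := by
    have h1 : (Module.finrank k (S₁ ⊔ S₂ : Submodule k _) : ℤ) +
        Module.finrank k (S₁ ⊓ S₂ : Submodule k _) =
        (ell (A₁ + B) : ℤ) + ell (A₂ + B) := by
      rw [← hr₁, ← hr₂]; exact_mod_cast hinf
    have h2 : (Module.finrank k (S₁ ⊔ S₂ : Submodule k _) : ℤ) ≤
        Module.finrank k (WD (-B)) := by exact_mod_cast hsup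
    have : (0 : ℤ) < Module.finrank k (S₁ ⊓ S₂ : Submodule k _) := by linarith
    exact_mod_cast this
  have := Module.nontrivial_of_finrank_pos hpos
  obtain ⟨⟨η, hη⟩, hη0⟩ := exists_ne (0 : (S₁ ⊓ S₂ : Submodule k _))
  have hη0' : η ≠ 0 := fun h => hη0 (Subtype.ext h)
  obtain ⟨⟨x₁, -, hx₁⟩, ⟨x₂, -, hx₂⟩⟩ := hη
  rw [mulWLin_apply] at hx₁ hx₂
  have hx₂0 : x₂ ≠ 0 := by
    rintro rfl
    rw [mulW_zero hx] at hx₂
    exact hη0' hx₂.symm
  refine ⟨x₁ * x₂⁻¹, ?_⟩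
  rw [← mulW_mulW hx x₂⁻¹ x₁ ω₁, hx₁, ← hx₂, mulW_mulW hx, mul_inv_cancel₀ hx₂0, mulW_one hx]

end Groth.Agent.FF
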